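import Mathlib
import Cfsg.Agent.Tits.RootComb

/-!
Combinatorics of the finite crystallographic root systems for the local-to-global theorem on root groups
(project CIT, piece (3a)).

* `transport` : an abstract induction principle: if `w (α_i) = α_j` then `w` is a product of elements of the standard
  rank two subgroups each of which maps a fundamental root to a fundamental root;
* `exists_plane` : two roots `x ≠ ± y` are moved into a standard rank two subsystem by some `w ∈ W`;
* `exists_of_supp` : a root supported on `{i, j}` is of the form `v (α_k)`, `v ∈ W_{ij}`, `k ∈ {i, j}`.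
-/

set_option autoImplicit false

namespace Cfsg.Agent.Nodes.Comb

open CoxeterSystem Cfsg.Agent.ChevalleyStructure.CoxeterGeom Cfsg.Agent.Tits.Roots Cfsg.Agent.Tits.Core
  Cfsg.Agent.Tits.RootComb

variable {I W : Type*} [Fintype I] [DecidableEq I] [Group W] {M : CoxeterMatrix I}
  (cs : CoxeterSystem M W) {A : I → I → ℤ} (h : IsCartan M A)

/-! ### Support -/

/-- `x` is supported on `{i, j}`. -/
def Supp (i j : I) (x : I → ℤ) : Prop := ∀ k, k ≠ i → k ≠ j → x k = 0

omit [Fintype I] in
theorem supp_eq {i j : I} (hij : i ≠ j) {x : I → ℤ} (hx : Supp i j x) : x = x i • sr i + x j • sr j := by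
  funext k
  rw [Pi.add_apply, Pi.smul_apply, Pi.smul_apply, smul_eq_mul, smul_eq_mul]
  by_cases h1 : k = i
  · subst h1; rw [sr_self, sr_ne hij]; ring
  by_cases h2 : k = j
  · subst h2; rw [sr_self, sr_ne h1]; ring
  rw [sr_ne h1, sr_ne h2, hx k h1 h2]; ring

omit [Fintype I] [DecidableEq I] in
theorem Supp.swap {i j : I} {x : I → ℤ} (hx : Supp i j x) : Supp j i x := fun k h1 h2 => hx k h2 h1

omit [Fintype I] [DecidableEq I] in
theorem Supp.neg {i j : I} {x : I → ℤ} (hx : Supp i j x) : Supp i j (-x) := fun k h1 h2 => by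
  rw [Pi.neg_apply, hx k h1 h2, neg_zero]

omit [Fintype I] in
theorem supp_sr_left (i j : I) : Supp i j (sr i) := fun _ h1 _ => sr_ne h1

omit [Fintype I] in
theorem supp_sr_right (i j : I) : Supp i j (sr j) := fun _ _ h2 => sr_ne h2

theorem supp_rep {i j : I} {v : W} (hv : v ∈ WJ cs {i, j}) {x : I → ℤ} (hx : Supp i j x) :
    Supp i j (rep cs h v x) := by
  intro k h1 h2
  rw [rep_apply_of_mem cs h hv x (by
    rintro (h3 | h3)
    · exact h1 h3
    · exact h2 h3)]
  exact hx k h1 h2

/-! ### Transport -/

omit [Fintype I] [DecidableEq I] in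
theorem exists_min (w : W) (J : Set I) : ∃ v ∈ WJ cs J, ∀ u ∈ WJ cs J, cs.length (w * v) ≤ cs.length (w * u) := by
  classical
  obtain ⟨v, hv, hmin⟩ := WellFounded.has_min (measure (fun v : W => cs.length (w * v))).wf
    (WJ cs J : Set W) ⟨1, one_mem _⟩
  exact ⟨v, hv, fun u hu => not_lt.1 (hmin u hu)⟩

theorem nonneg_of_min {w : W} {J : Set I} {v : W} (hv : v ∈ WJ cs J)
    (hmin : ∀ u ∈ WJ cs J, cs.length (w * v) ≤ cs.length (w * u)) {k : I} (hk : k ∈ J) :
    0 ≤ rep cs h (w * v) (sr k) := by
  refine nonneg_of_lt cs h (w * v) k ?_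
  have h1 := hmin (v * cs.simple k) (mul_mem hv (Subgroup.subset_closure ⟨k, hk, rfl⟩))
  rw [← mul_assoc] at h1
  have h2 := cs.length_mul_simple (w * v) k
  omega

/-- If `a P + b Q = α_j` with `P ≠ Q` positive roots, `a, b ≥ 0`, then `a = 0` or `b = 0`. -/
theorem indecomposable {P Q : I → ℤ} (hP : IsRoot cs h P) (hQ : IsRoot cs h Q) (hP0 : 0 ≤ P) (hQ0 : 0 ≤ Q)
    (hne : P ≠ Q) {a b : ℤ} (ha : 0 ≤ a) (hb : 0 ≤ b) {j : I} (hab : a • P + b • Q = sr j) : a = 0 ∨ b = 0 := by
  by_contra hcon
  rw [not_or] at hcon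
  have ha' : 0 < a := lt_of_le_of_ne ha (Ne.symm hcon.1)
  have hb' : 0 < b := lt_of_le_of_ne hb (Ne.symm hcon.2)
  have hk : ∀ k, k ≠ j → P k = 0 ∧ Q k = 0 := by
    intro k hk
    have h1 := congrFun hab k
    rw [sr_ne hk, Pi.add_apply, Pi.smul_apply, Pi.smul_apply, smul_eq_mul, smul_eq_mul] at h1
    have h2 : 0 ≤ a * P k := mul_nonneg ha (hP0 k)
    have h3 : 0 ≤ b * Q k := mul_nonneg hb (hQ0 k)
    constructor
    · have h4 : a * P k = 0 := by linarith
      rcases mul_eq_zero.1 h4 with h5 | h5
      · exact absurd h5 hcon.1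
      · exact h5
    · have h4 : b * Q k = 0 := by linarith
      rcases mul_eq_zero.1 h4 with h5 | h5
      · exact absurd h5 hcon.2
      · exact h5
  have e1 := hP.eq_sr hP0 j (fun k hkj => (hk k hkj).1)
  have e2 := hQ.eq_sr hQ0 j (fun k hkj => (hk k hkj).2)
  exact hne (e1.trans e2.symm)

include h in
/-- **Transport principle.** -/
theorem transport (P : W → I → I → Prop) (hone : ∀ i, P 1 i i)
    (hmul : ∀ w v i l j, P w l j → P v i l → P (w * v) i j)
    (hloc : ∀ i k, i ≠ k → ∀ v ∈ WJ cs {i, k}, ∀ l, l = i ∨ l = k → rep cs h v (sr i) = sr l → P v i l)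
    (w : W) (i j : I) (hw : rep cs h w (sr i) = sr j) : P w i j := by
  induction hn : cs.length w using Nat.strong_induction_on generalizing w i with
  | _ n ih =>
    by_cases hw1 : w = 1
    · subst hw1
      rw [map_one, Module.End.one_apply] at hw
      have : i = j := by
        by_contra hij
        have h1 := congrFun hw i
        rw [sr_self, sr_ne hij] at h1
        exact one_ne_zero h1
      subst this
      exact hone i
    obtain ⟨k, hk⟩ := cs.exists_rightDescent_of_ne_one hw1
    have hk' : cs.length (w * cs.simple k) < cs.length w := hk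
    have hik : i ≠ k := by
      rintro rfl
      have h1 := nonpos_of_lt cs h w i hk'
      change rep cs h w (sr i) ≤ 0 at h1
      rw [hw] at h1
      have h2 := h1 j
      rw [sr_self] at h2
      exact absurd h2 (by simp)
    obtain ⟨v, hv, hmin⟩ := exists_min cs w ({i, k} : Set I)
    have hi0 := nonneg_of_min cs h hv hmin (Set.mem_insert i _)
    have hk0 := nonneg_of_min cs h hv hmin (Set.mem_insert_of_mem _ (Set.mem_singleton k))
    have hlt : cs.length (w * v) < cs.length w := by
      have h1 := hmin (cs.simple k) (Subgroup.subset_closure ⟨k, Set.mem_insert_of_mem _ rfl, rfl⟩)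
      exact lt_of_le_of_lt h1 hk'
    -- `w = (w v) v⁻¹`, `x = v⁻¹ α_i`
    set x := rep cs h v⁻¹ (sr i) with hx
    have hxr : IsRoot cs h x := (isRoot_sr cs h i).act v⁻¹
    have hxs : Supp i k x := supp_rep cs h (inv_mem hv) (supp_sr_left i k)
    have hxe := supp_eq hik hxs
    have hwx : rep cs h (w * v) x = sr j := by
      rw [hx, ← rep_mul_apply, mul_assoc, mul_inv_cancel, mul_one, hw]
    have hPr : IsRoot cs h (rep cs h (w * v) (sr i)) := (isRoot_sr cs h i).act _
    have hQr : IsRoot cs h (rep cs h (w * v) (sr k)) := (isRoot_sr cs h k).act _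
    have hsum : x i • rep cs h (w * v) (sr i) + x k • rep cs h (w * v) (sr k) = sr j := by
      rw [← map_smul, ← map_smul, ← map_add, ← hxe, hwx]
    have hx0 : 0 ≤ x := by
      rcases hxr.pos_or_neg with h1 | h1
      · exact h1
      · exfalso
        have h2 : (sr j : I → ℤ) ≤ 0 := by
          rw [← hsum]
          intro m
          rw [Pi.add_apply, Pi.smul_apply, Pi.smul_apply, smul_eq_mul, smul_eq_mul, Pi.zero_apply]
          have h3 := mul_nonpos_of_nonpos_of_nonneg (h1 i) (hi0 m)
          have h4 := mul_nonpos_of_nonpos_of_nonneg (h1 k) (hk0 m)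
          simp only at h3 h4
          linarith
        have h3 := h2 j
        rw [sr_self] at h3
        exact absurd h3 (by simp)
    have hne : rep cs h (w * v) (sr i) ≠ rep cs h (w * v) (sr k) := by
      intro he
      have h1 := rep_injective_apply cs h (w * v) he
      have h2 := congrFun h1 i
      rw [sr_self, sr_ne hik] at h2
      exact one_ne_zero h2
    have hl : ∃ l, (l = i ∨ l = k) ∧ x = sr l := by
      rcases indecomposable cs h hPr hQr hi0 hk0 hne (hx0 i) (hx0 k) hsum with h1 | h1
      · refine ⟨k, Or.inr rfl, hxr.eq_sr hx0 k fun m hm => ?_⟩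
        by_cases hmi : m = i
        · subst hmi; exact h1
        · exact hxs m hmi hm
      · refine ⟨i, Or.inl rfl, hxr.eq_sr hx0 i fun m hm => ?_⟩
        by_cases hmk : m = k
        · subst hmk; exact h1
        · exact hxs m hm hmk
    obtain ⟨l, hl, hxl⟩ := hl
    have h1 : P v⁻¹ i l := hloc i k hik v⁻¹ (inv_mem hv) l hl (by rw [← hx, hxl])
    have h2 : P (w * v) l j := ih _ (hn ▸ hlt) (w * v) l (by rw [← hxl]; exact hwx) rfl
    have h3 := hmul (w * v) v⁻¹ i l j h2 h1
    rwa [mul_assoc, mul_inv_cancel, mul_one] at h3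

/-! ### Roots of the standard rank two subsystems -/

theorem exists_of_supp_aux [Finite W] {i j : I} (n : ℕ) : ∀ x : I → ℤ, IsRoot cs h x → Supp i j x → 0 ≤ x →
    ht x ≤ n → ∃ v ∈ WJ cs {i, j}, ∃ k, (k = i ∨ k = j) ∧ x = rep cs h v (sr k) := by
  have : Fintype W := Fintype.ofFinite W
  induction n with
  | zero =>
    intro x hx _ h0 hn
    exfalso
    apply hx.ne_zero
    have h1 : ∑ k, x k = 0 := le_antisymm hn (Finset.sum_nonneg fun k _ => h0 k)
    funext k
    exact (Finset.sum_eq_zero_iff_of_nonneg (fun k _ => h0 k)).1 h1 k (Finset.mem_univ k)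
  | succ n ih =>
    intro x hx hs h0 hn
    obtain ⟨m, hm, hm'⟩ := exists_pairing_pos cs h h0 hx.ne_zero
    have hmij : m = i ∨ m = j := by
      by_contra hcon
      rw [not_or] at hcon
      rw [hs m hcon.1 hcon.2] at hm
      exact lt_irrefl _ hm
    by_cases hxm : x = sr m
    · exact ⟨1, one_mem _, m, hmij, by rw [map_one, Module.End.one_apply]; exact hxm⟩
    have hmem : cs.simple m ∈ WJ cs {i, j} := Subgroup.subset_closure ⟨m, hmij, rfl⟩
    obtain ⟨v, hv, k, hk, e⟩ := ih (rep cs h (cs.simple m) x) (hx.act _) (supp_rep cs h hmem hs)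
      (hx.simple_nonneg h0 m hxm) (by rw [ht_simple]; push_cast at hn ⊢; linarith)
    refine ⟨cs.simple m * v, mul_mem hmem hv, k, hk, ?_⟩
    rw [rep_mul_apply, ← e, ← rep_mul_apply, simple_mul_simple_self, map_one, Module.End.one_apply]

/-- A root supported on `{i, j}` is `v (α_k)` with `v ∈ W_{ij}`, `k ∈ {i, j}`. -/
theorem exists_of_supp [Finite W] {i j : I} {x : I → ℤ} (hx : IsRoot cs h x) (hs : Supp i j x) :
    ∃ v ∈ WJ cs {i, j}, ∃ k, (k = i ∨ k = j) ∧ x = rep cs h v (sr k) := by
  rcases hx.pos_or_neg with h0 | h0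
  · exact exists_of_supp_aux cs h (ht x).toNat x hx hs h0 (Int.self_le_toNat _)
  · obtain ⟨v, hv, k, hk, e⟩ := exists_of_supp_aux cs h (ht (-x)).toNat (-x) hx.neg hs.neg (neg_nonneg.2 h0)
      (Int.self_le_toNat _)
    refine ⟨v * cs.simple k, mul_mem hv (Subgroup.subset_closure ⟨k, hk, rfl⟩), k, hk, ?_⟩
    rw [rep_mul_apply, rep_simple_sr, map_neg, ← e, neg_neg]

/-! ### Planes -/

/-- Avoiding finitely many kernels. -/
theorem exists_avoid {P ι : Type*} [AddCommGroup P] (s : Finset ι) (f : ι → P →+ ℤ)
    (hf : ∀ i ∈ s, ∃ u, f i u ≠ 0) : ∃ u, ∀ i ∈ s, f i u ≠ 0 := by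
  classical
  induction s using Finset.induction_on with
  | empty => exact ⟨0, by simp⟩
  | insert a s ha ih =>
    obtain ⟨u, hu⟩ := ih fun i hi => hf i (Finset.mem_insert_of_mem hi)
    by_cases h0 : f a u = 0
    · obtain ⟨v, hv⟩ := hf a (Finset.mem_insert_self a s)
      -- `t u + v` for large `t`
      let t : ℤ := 1 + ∑ i ∈ s, |f i v|
      have ht : ∀ i ∈ s, |f i v| < t := by
        intro i hi
        have h1 : |f i v| ≤ ∑ i ∈ s, |f i v| :=
          Finset.single_le_sum (f := fun i => |f i v|) (fun i _ => abs_nonneg _) hi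
        show |f i v| < 1 + ∑ i ∈ s, |f i v|
        omega
      refine ⟨t • u + v, fun i hi => ?_⟩
      rw [map_add, map_zsmul, smul_eq_mul]
      rcases Finset.mem_insert.1 hi with rfl | hi
      · rw [h0, mul_zero, zero_add]; exact hv
      · intro hc
        have h1 : |f i v| = t * |f i u| := by
          have h2 : f i v = -(t * f i u) := by linarith
          rw [h2, abs_neg, abs_mul, abs_of_pos (lt_of_le_of_lt (abs_nonneg _) (ht i hi))]
        have h3 : 1 ≤ |f i u| := Int.one_le_abs (hu i hi)
        have h4 := ht i hi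
        have h5 : 0 < t := lt_of_le_of_lt (abs_nonneg _) h4
        nlinarith
    · refine ⟨u, fun i hi => ?_⟩
      rcases Finset.mem_insert.1 hi with rfl | hi
      · exact h0
      · exact hu i hi

/-- Every `W`-orbit of vectors contains a dominant one. -/
theorem exists_dom_rep [Finite W] (u : I → ℤ) : ∃ w : W, Dom A (rep cs h w u) := by
  have : Fintype W := Fintype.ofFinite W
  obtain ⟨w, hw⟩ := Finite.exists_max (fun w : W => ht (rep cs h w u))
  refine ⟨w, fun i => ?_⟩
  by_contra hi
  have h1 := hw (cs.simple i * w)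
  rw [rep_mul_apply, ht_simple] at h1
  linarith

section Plane

variable [Fintype W]

/-- The (integral) projection of `z` to the orthogonal space of `x, y`. -/
noncomputable def pr (x y z : I → ℤ) : I → ℤ :=
  (form cs h x x * form cs h y y - form cs h x y * form cs h x y) • z
    - (form cs h z x * form cs h y y - form cs h z y * form cs h x y) • x
    - (form cs h z y * form cs h x x - form cs h z x * form cs h x y) • y

theorem form_pr_left (x y z : I → ℤ) : form cs h (pr cs h x y z) x = 0 := by
  unfold pr
  rw [form_sub_left, form_sub_left, form_smul_left, form_smul_left, form_smul_left, form_comm cs h y x]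
  ring

theorem form_pr_right (x y z : I → ℤ) : form cs h (pr cs h x y z) y = 0 := by
  unfold pr
  rw [form_sub_left, form_sub_left, form_smul_left, form_smul_left, form_smul_left]
  ring

theorem form_pr (x y z : I → ℤ) : form cs h (pr cs h x y z) (pr cs h x y z) =
    (form cs h x x * form cs h y y - form cs h x y * form cs h x y) * form cs h (pr cs h x y z) z := by
  conv_lhs => rhs; unfold pr
  rw [form_sub_right, form_sub_right, form_smul_right, form_smul_right, form_smul_right, form_pr_left,
    form_pr_right, mul_zero, mul_zero, sub_zero, sub_zero]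

end Plane

/-- Two roots which are not equal or opposite are conjugate into a standard rank two subsystem. -/
theorem exists_plane [Finite W] {x y : I → ℤ} (hx : IsRoot cs h x) (hy : IsRoot cs h y) (hxy : x ≠ y)
    (hxy' : x ≠ -y) : ∃ w : W, ∃ i j, i ≠ j ∧ Supp i j (rep cs h w x) ∧ Supp i j (rep cs h w y) := by
  classical
  have : Fintype W := Fintype.ofFinite W
  -- the generic vector `u`
  let P : AddSubgroup (I → ℤ) :=
    { carrier := {u | form cs h u x = 0 ∧ form cs h u y = 0}
      zero_mem' := by
        constructor <;> rw [form_comm, form_zero_right]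
      add_mem' := by
        rintro a b ⟨h1, h2⟩ ⟨h3, h4⟩
        constructor
        · rw [form_add_left, h1, h3, add_zero]
        · rw [form_add_left, h2, h4, add_zero]
      neg_mem' := by
        rintro a ⟨h1, h2⟩
        constructor
        · rw [form_neg_left, h1, neg_zero]
        · rw [form_neg_left, h2, neg_zero] }
  let rt' : W × I → (I → ℤ) := fun p => rep cs h p.1 (sr p.2)
  let f : W × I → P →+ ℤ := fun p =>
    { toFun := fun u => form cs h u (rt' p)
      map_zero' := by
        show form cs h ((0 : P) : I → ℤ) (rt' p) = 0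
        rw [ZeroMemClass.coe_zero, form_comm, form_zero_right]
      map_add' := by
        intro a b
        show form cs h ((a + b : P) : I → ℤ) (rt' p) = _
        rw [AddMemClass.coe_add, form_add_left] }
  obtain ⟨u, hu⟩ := exists_avoid (Finset.univ.filter fun p : W × I => pr cs h x y (rt' p) ≠ 0) f (by
    intro p hp
    rw [Finset.mem_filter] at hp
    refine ⟨⟨pr cs h x y (rt' p), form_pr_left cs h _ _ _, form_pr_right cs h _ _ _⟩, ?_⟩
    intro h0
    have h1 : form cs h (pr cs h x y (rt' p)) (rt' p) = 0 := h0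
    have h2 := form_pr cs h x y (rt' p)
    rw [h1, mul_zero] at h2
    exact absurd (form_pos cs h hp.2) (by rw [h2]; exact lt_irrefl _))
  obtain ⟨u, hux, huy⟩ := u
  have hu' : ∀ z, IsRoot cs h z → form cs h u z = 0 → pr cs h x y z = 0 := by
    rintro _ ⟨w, i, rfl⟩ h0
    by_contra hne
    exact hu (w, i) (Finset.mem_filter.2 ⟨Finset.mem_univ _, hne⟩) h0
  obtain ⟨w, hw⟩ := exists_dom_rep cs h u
  -- the support of a root orthogonal to `u`
  have hsupp : ∀ z, IsRoot cs h z → form cs h u z = 0 → ∀ k, rep cs h w z k ≠ 0 →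
      form cs h (rep cs h w u) (sr k) = 0 := by
    intro z hz h0 k hk
    have h1 : form cs h (rep cs h w u) (rep cs h w z) = 0 := by rw [form_rep, h0]
    rw [form_eq_sum] at h1
    have h2 : ∀ m, 0 ≤ form cs h (rep cs h w u) (sr m) := fun m => (form_sr_nonneg_iff cs h m _).2 (hw m)
    rcases (hz.act w).pos_or_neg with h3 | h3
    · have h4 := (Finset.sum_eq_zero_iff_of_nonneg (fun m _ => mul_nonneg (h3 m) (h2 m))).1 h1 k
        (Finset.mem_univ k)
      exact (mul_eq_zero.1 h4).resolve_left hk
    · have h4 := (Finset.sum_eq_zero_iff_of_nonpos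
        (fun m _ => mul_nonpos_of_nonpos_of_nonneg (h3 m) (h2 m))).1 h1 k (Finset.mem_univ k)
      exact (mul_eq_zero.1 h4).resolve_left hk
  -- `J`
  set J : Set I := {k | form cs h (rep cs h w u) (sr k) = 0} with hJ
  have hxJ : ∀ k, rep cs h w x k ≠ 0 → k ∈ J := hsupp x hx hux
  have hyJ : ∀ k, rep cs h w y k ≠ 0 → k ∈ J := hsupp y hy huy
  set D : ℤ := form cs h x x * form cs h y y - form cs h x y * form cs h x y with hD
  -- Cauchy-Schwarz
  have hDpos : D ≠ 0 := by
    intro hD0
    -- `(y,y) x - (x,y) y = 0`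
    have h1 : form cs h (form cs h y y • x - form cs h x y • y) (form cs h y y • x - form cs h x y • y)
        = form cs h y y * D := by
      rw [form_sub_left, form_sub_right, form_sub_right]
      simp only [form_smul_left, form_smul_right]
      rw [form_comm cs h y x, hD]
      ring
    rw [hD0, mul_zero] at h1
    have h2 : form cs h y y • x - form cs h x y • y = 0 := by
      by_contra hne
      exact absurd (form_pos cs h hne) (by rw [h1]; exact lt_irrefl _)
    -- so `x` and `y` are proportional roots
    obtain ⟨v, i, hv⟩ := hx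
    have h3 : form cs h y y • sr i = form cs h x y • rep cs h v⁻¹ y := by
      have h4 := congrArg (rep cs h v⁻¹) (sub_eq_zero.1 h2)
      rw [map_smul, map_smul] at h4
      rw [← h4, hv, rep_inv_apply]
    have hyr : IsRoot cs h (rep cs h v⁻¹ y) := hy.act _
    have hyy := form_pos cs h hy.ne_zero
    have hxy0 : form cs h x y ≠ 0 := by
      intro h0
      rw [h0, zero_smul] at h3
      have := congrFun h3 i
      rw [Pi.smul_apply, sr_self, smul_eq_mul, mul_one, Pi.zero_apply] at this
      exact absurd this hyy.ne'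
    have hsup : ∀ k, k ≠ i → rep cs h v⁻¹ y k = 0 := by
      intro k hk
      have := congrFun h3 k
      rw [Pi.smul_apply, Pi.smul_apply, sr_ne hk, smul_zero, smul_eq_mul] at this
      exact (mul_eq_zero.1 this.symm).resolve_left hxy0
    rcases hyr.pos_or_neg with h5 | h5
    · have h6 := hyr.eq_sr h5 i hsup
      apply hxy
      rw [hv, ← h6, rep_apply_inv]
    · have h6 := hyr.neg.eq_sr (neg_nonneg.2 h5) i (fun k hk => by rw [Pi.neg_apply, hsup k hk, neg_zero])
      apply hxy'
      rw [hv, ← h6, map_neg, rep_apply_inv]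
  -- the elements of `J` are in the plane
  have hplane : ∀ k ∈ J, ∃ a b : ℤ, D • sr k = a • rep cs h w x + b • rep cs h w y := by
    intro k hk
    have hk' : form cs h u (rep cs h w⁻¹ (sr k)) = 0 := by
      rw [← form_rep_left]; exact hk
    have h1 := hu' _ ((isRoot_sr cs h k).act _) hk'
    unfold pr at h1
    rw [sub_sub, sub_eq_zero] at h1
    have h2 := congrArg (rep cs h w) h1
    rw [map_smul, rep_apply_inv, map_add, map_smul, map_smul] at h2
    exact ⟨_, _, h2⟩
  -- not supported at one node
  have htwo : ∀ i, ∃ j ∈ J, j ≠ i := by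
    intro i
    by_contra hcon
    push Not at hcon
    have hx1 : ∀ k, k ≠ i → rep cs h w x k = 0 := by
      intro k hk
      by_contra h0
      exact hk (hcon k (hxJ k h0))
    have hy1 : ∀ k, k ≠ i → rep cs h w y k = 0 := by
      intro k hk
      by_contra h0
      exact hk (hcon k (hyJ k h0))
    have key : ∀ z, IsRoot cs h z → (∀ k, k ≠ i → rep cs h w z k = 0) →
        rep cs h w z = sr i ∨ rep cs h w z = -sr i := by
      intro z hz hz1
      rcases (hz.act w).pos_or_neg with h1 | h1
      · exact Or.inl ((hz.act w).eq_sr h1 i hz1)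
      · refine Or.inr ?_
        have h2 := (hz.act w).neg.eq_sr (neg_nonneg.2 h1) i (fun k hk => by rw [Pi.neg_apply, hz1 k hk, neg_zero])
        rw [← h2, neg_neg]
    rcases key x hx hx1 with h1 | h1 <;> rcases key y hy hy1 with h2 | h2
    · exact hxy (rep_injective_apply cs h w (h1.trans h2.symm))
    · apply hxy'
      apply rep_injective_apply cs h w
      rw [h1, map_neg, h2, neg_neg]
    · apply hxy'
      apply rep_injective_apply cs h w
      rw [h1, map_neg, h2]
    · exact hxy (rep_injective_apply cs h w (h1.trans h2.symm))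
  obtain ⟨i, hi, -⟩ : ∃ i ∈ J, True := by
    have hne : ∃ k, rep cs h w x k ≠ 0 := by
      by_contra hcon
      push Not at hcon
      exact (hx.act w).ne_zero (funext hcon)
    obtain ⟨k, hk⟩ := hne
    exact ⟨k, hxJ k hk, trivial⟩
  obtain ⟨j, hj, hji⟩ := htwo i
  have hthree : ∀ k ∈ J, k = i ∨ k = j := by
    intro k hk
    by_contra hcon
    rw [not_or] at hcon
    obtain ⟨a1, b1, e1⟩ := hplane i hi
    obtain ⟨a2, b2, e2⟩ := hplane j hj
    obtain ⟨a3, b3, e3⟩ := hplane k hk
    set X := rep cs h w x
    set Y := rep cs h w y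
    have E : ∀ m, (a1 * b2 - a2 * b1) * (D * sr k m) =
        (a3 * b2 - a2 * b3) * (D * sr i m) + (a1 * b3 - a3 * b1) * (D * sr j m) := by
      intro m
      have f1 := congrFun e1 m
      have f2 := congrFun e2 m
      have f3 := congrFun e3 m
      simp only [Pi.smul_apply, Pi.add_apply, smul_eq_mul] at f1 f2 f3
      rw [f1, f2, f3]
      ring
    have h1 : a1 * b2 - a2 * b1 = 0 := by
      have := E k
      rw [sr_self, sr_ne hcon.1, sr_ne hcon.2] at this
      rcases mul_eq_zero.1 (show (a1 * b2 - a2 * b1) * D = 0 by linarith) with h2 | h2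
      · exact h2
      · exact absurd h2 hDpos
    -- then `sr i` and `sr j` are dependent
    have F : ∀ m, a2 * (D * sr i m) = a1 * (D * sr j m) := by
      intro m
      have f1 := congrFun e1 m
      have f2 := congrFun e2 m
      simp only [Pi.smul_apply, Pi.add_apply, smul_eq_mul] at f1 f2
      rw [f1, f2]
      linear_combination (-(Y m)) * h1
    have F' : ∀ m, b2 * (D * sr i m) = b1 * (D * sr j m) := by
      intro m
      have f1 := congrFun e1 m
      have f2 := congrFun e2 m
      simp only [Pi.smul_apply, Pi.add_apply, smul_eq_mul] at f1 f2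
      rw [f1, f2]
      linear_combination (X m) * h1
    have ha1 : a1 = 0 := by
      have := F j
      rw [sr_self, sr_ne hji] at this
      rcases mul_eq_zero.1 (show a1 * D = 0 by linarith) with h2 | h2
      · exact h2
      · exact absurd h2 hDpos
    have hb1 : b1 = 0 := by
      have := F' j
      rw [sr_self, sr_ne hji] at this
      rcases mul_eq_zero.1 (show b1 * D = 0 by linarith) with h2 | h2
      · exact h2
      · exact absurd h2 hDpos
    have := congrFun e1 i
    rw [ha1, hb1, zero_smul, zero_smul, add_zero, Pi.smul_apply, sr_self, smul_eq_mul, mul_one,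
      Pi.zero_apply] at this
    exact hDpos this
  refine ⟨w, i, j, hji.symm, fun k h1 h2 => ?_, fun k h1 h2 => ?_⟩
  · by_contra h0
    rcases hthree k (hxJ k h0) with h3 | h3
    · exact h1 h3
    · exact h2 h3
  · by_contra h0
    rcases hthree k (hyJ k h0) with h3 | h3
    · exact h1 h3
    · exact h2 h3

end Cfsg.Agent.Nodes.Comb
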