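import Mathlib
import Cfsg.Agent.Nodes.Comb

/-!
Local-to-global theorem for root groups (project CIT, piece (3a)): representatives of the Weyl group modulo a
"torus", and the family of all root groups obtained from the fundamental ones.

* `cj g A` : the conjugate `g A g⁻¹`;
* `NSys M T n` : elements `n i` normalising `T` and satisfying the Coxeter relations modulo `T`;
* `Rp cs hN w g` : `g` represents `w` modulo `T`;
* `rootGrp` : the root group of a root, `rootGrp_spec`, `rootGrp_conj`, `rootGrp_comm`.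
-/

set_option autoImplicit false
set_option linter.unusedSectionVars false

namespace Cfsg.Agent.Nodes.Reps

open CoxeterSystem Cfsg.Agent.ChevalleyStructure.CoxeterGeom Cfsg.Agent.Tits.Roots Cfsg.Agent.Tits.Core
  Cfsg.Agent.Tits.RootComb Cfsg.Agent.Nodes.Comb
open scoped commutatorElement

/-! ### Conjugates -/

section Conj

variable {Y : Type*} [Group Y]

/-- The conjugate `g A g⁻¹`. -/
def cj (g : Y) (A : Subgroup Y) : Subgroup Y := A.map (MulAut.conj g).toMonoidHom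

theorem mem_cj {g x : Y} {A : Subgroup Y} : x ∈ cj g A ↔ g⁻¹ * x * g ∈ A := by
  unfold cj
  rw [Subgroup.mem_map_equiv]
  rw [MulAut.conj_symm_apply]

theorem conj_mem_cj {g x : Y} {A : Subgroup Y} : g * x * g⁻¹ ∈ cj g A ↔ x ∈ A := by
  rw [mem_cj]
  have : g⁻¹ * (g * x * g⁻¹) * g = x := by group
  rw [this]

@[simp] theorem cj_one (A : Subgroup Y) : cj 1 A = A := by
  ext x; rw [mem_cj]; simp

theorem cj_mul (g k : Y) (A : Subgroup Y) : cj (g * k) A = cj g (cj k A) := by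
  ext x
  rw [mem_cj, mem_cj, mem_cj]
  have : (g * k)⁻¹ * x * (g * k) = k⁻¹ * (g⁻¹ * x * g) * k := by group
  rw [this]

theorem cj_inv_cj (g : Y) (A : Subgroup Y) : cj g⁻¹ (cj g A) = A := by
  rw [← cj_mul, inv_mul_cancel, cj_one]

theorem cj_cj_inv (g : Y) (A : Subgroup Y) : cj g (cj g⁻¹ A) = A := by
  rw [← cj_mul, mul_inv_cancel, cj_one]

theorem cj_mono (g : Y) {A B : Subgroup Y} (hAB : A ≤ B) : cj g A ≤ cj g B := Subgroup.map_mono hAB

theorem cj_le_cj_iff (g : Y) {A B : Subgroup Y} : cj g A ≤ cj g B ↔ A ≤ B := by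
  constructor
  · intro h1
    have := cj_mono g⁻¹ h1
    rwa [cj_inv_cj, cj_inv_cj] at this
  · exact cj_mono g

theorem cj_iSup {ι : Sort*} (g : Y) (A : ι → Subgroup Y) : cj g (⨆ i, A i) = ⨆ i, cj g (A i) :=
  Subgroup.map_iSup _ _

theorem cj_sup (g : Y) (A B : Subgroup Y) : cj g (A ⊔ B) = cj g A ⊔ cj g B := Subgroup.map_sup _ _ _

theorem cj_eq_of_mem {g : Y} {A : Subgroup Y} (hg : g ∈ A) : cj g A = A := by
  ext x
  rw [mem_cj]
  constructor
  · intro h1
    have : x = g * (g⁻¹ * x * g) * g⁻¹ := by group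
    rw [this]
    exact mul_mem (mul_mem hg h1) (inv_mem hg)
  · intro h1
    exact mul_mem (mul_mem (inv_mem hg) h1) hg

theorem mem_normalizer_iff_cj {g : Y} {T : Subgroup Y} :
    g ∈ Subgroup.normalizer (T : Set Y) ↔ cj g T = T := by
  rw [Subgroup.mem_normalizer_iff]
  constructor
  · intro h1
    ext x
    rw [mem_cj]
    have h2 := h1 (g⁻¹ * x * g)
    have h3 : g * (g⁻¹ * x * g) * g⁻¹ = x := by group
    rw [h3] at h2
    exact h2
  · intro h1 x
    constructor
    · intro hx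
      rw [← h1]
      exact conj_mem_cj.2 hx
    · intro hx
      rw [← h1] at hx
      exact conj_mem_cj.1 hx

end Conj

/-! ### Representatives -/

section Rep

variable {I W Y : Type*} [Group W] [Group Y] {M : CoxeterMatrix I}

/-- Elements `n i` normalising `T` which satisfy the Coxeter relations modulo `T`. -/
structure NSys (M : CoxeterMatrix I) (T : Subgroup Y) (n : I → Y) : Prop where
  norm : ∀ i, n i ∈ Subgroup.normalizer (T : Set Y)
  rel : ∀ i j, (n i * n j) ^ M i j ∈ T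

variable {T : Subgroup Y} {n : I → Y}

/-- The quotient `N(T)/T`. -/
abbrev Quo (T : Subgroup Y) : Type _ :=
  ↥(Subgroup.normalizer (T : Set Y)) ⧸ T.subgroupOf (Subgroup.normalizer (T : Set Y))

instance normal_subgroupOf (T : Subgroup Y) : (T.subgroupOf (Subgroup.normalizer (T : Set Y))).Normal :=
  Subgroup.normal_in_normalizer

theorem liftable (hN : NSys M T n) : M.IsLiftable (fun i => (QuotientGroup.mk ⟨n i, hN.norm i⟩ : Quo T)) := by
  intro i j
  rw [← QuotientGroup.mk_mul, ← QuotientGroup.mk_pow, QuotientGroup.eq_one_iff, Subgroup.mem_subgroupOf]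
  rw [SubgroupClass.coe_pow]
  exact hN.rel i j

variable (cs : CoxeterSystem M W)

/-- The homomorphism `W → N(T)/T`. -/
noncomputable def wq (hN : NSys M T n) : W →* Quo T := cs.lift ⟨_, liftable hN⟩

theorem wq_simple (hN : NSys M T n) (i : I) : wq cs hN (cs.simple i) = QuotientGroup.mk ⟨n i, hN.norm i⟩ :=
  cs.lift_apply_simple (liftable hN) i

/-- `g` represents `w` modulo `T`. -/
def Rp (hN : NSys M T n) (w : W) (g : Y) : Prop :=
  ∃ hg : g ∈ Subgroup.normalizer (T : Set Y), wq cs hN w = QuotientGroup.mk ⟨g, hg⟩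

variable {cs} {hN : NSys M T n}

theorem Rp.mem_normalizer {w : W} {g : Y} (h : Rp cs hN w g) : g ∈ Subgroup.normalizer (T : Set Y) := h.1

variable (cs) (hN) in
theorem exists_rp (w : W) : ∃ g, Rp cs hN w g := by
  obtain ⟨⟨g, hg⟩, h1⟩ := QuotientGroup.mk_surjective (wq cs hN w)
  exact ⟨g, hg, h1.symm⟩

theorem Rp.mul {v w : W} {g k : Y} (hv : Rp cs hN v g) (hw : Rp cs hN w k) : Rp cs hN (v * w) (g * k) := by
  obtain ⟨h1, h2⟩ := hv
  obtain ⟨h3, h4⟩ := hw
  refine ⟨mul_mem h1 h3, ?_⟩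
  rw [map_mul, h2, h4, ← QuotientGroup.mk_mul]
  rfl

theorem Rp.inv {w : W} {g : Y} (hw : Rp cs hN w g) : Rp cs hN w⁻¹ g⁻¹ := by
  obtain ⟨h1, h2⟩ := hw
  refine ⟨inv_mem h1, ?_⟩
  rw [map_inv, h2, ← QuotientGroup.mk_inv]
  rfl

theorem rp_of_mem {t : Y} (ht : t ∈ T) : Rp cs hN 1 t := by
  refine ⟨Subgroup.le_normalizer ht, ?_⟩
  rw [map_one, eq_comm, QuotientGroup.eq_one_iff, Subgroup.mem_subgroupOf]
  exact ht

theorem rp_one : Rp cs hN 1 1 := rp_of_mem (one_mem T)

variable (cs) (hN) in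
theorem rp_simple (i : I) : Rp cs hN (cs.simple i) (n i) := ⟨hN.norm i, wq_simple cs hN i⟩

theorem Rp.mem_of_one {g : Y} (h : Rp cs hN 1 g) : g ∈ T := by
  obtain ⟨h1, h2⟩ := h
  rw [map_one, eq_comm, QuotientGroup.eq_one_iff, Subgroup.mem_subgroupOf] at h2
  exact h2

theorem Rp.unique {w : W} {g k : Y} (h1 : Rp cs hN w g) (h2 : Rp cs hN w k) : g⁻¹ * k ∈ T := by
  have := h1.inv.mul h2
  rw [inv_mul_cancel] at this
  exact this.mem_of_one

theorem Rp.mul_mem_right {w : W} {g t : Y} (h : Rp cs hN w g) (ht : t ∈ T) : Rp cs hN w (g * t) := by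
  have := h.mul (rp_of_mem (cs := cs) (hN := hN) ht)
  rwa [mul_one] at this

/-- The subgroup `N`, generated by `T` and the `n i`: all representatives. -/
def NN (cs : CoxeterSystem M W) (hN : NSys M T n) : Subgroup Y where
  carrier := {g | ∃ w, Rp cs hN w g}
  mul_mem' := by
    rintro a b ⟨v, hv⟩ ⟨w, hw⟩
    exact ⟨v * w, hv.mul hw⟩
  one_mem' := ⟨1, rp_one⟩
  inv_mem' := by
    rintro a ⟨v, hv⟩
    exact ⟨v⁻¹, hv.inv⟩

theorem mem_NN {g : Y} : g ∈ NN cs hN ↔ ∃ w, Rp cs hN w g := Iff.rfl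

theorem exists_rp_closure (w : W) : ∃ g ∈ Subgroup.closure (Set.range n), Rp cs hN w g := by
  obtain ⟨ω, rfl⟩ := cs.wordProd_surjective w
  induction ω with
  | nil => exact ⟨1, one_mem _, by rw [wordProd_nil]; exact rp_one⟩
  | cons i ω ih =>
    obtain ⟨g, hg, hr⟩ := ih
    refine ⟨n i * g, mul_mem (Subgroup.subset_closure ⟨i, rfl⟩) hg, ?_⟩
    rw [wordProd_cons]
    exact (rp_simple cs hN i).mul hr

theorem NN_eq : NN cs hN = T ⊔ Subgroup.closure (Set.range n) := by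
  apply le_antisymm
  · rintro g ⟨w, hw⟩
    obtain ⟨k, hk, hr⟩ := exists_rp_closure (cs := cs) (hN := hN) w
    have h1 := hr.unique hw
    have h2 : g = k * (k⁻¹ * g) := by group
    rw [h2]
    exact mul_mem (le_sup_right (a := T) hk) (le_sup_left (b := Subgroup.closure (Set.range n)) h1)
  · refine sup_le (fun t ht => ⟨1, rp_of_mem ht⟩) ?_
    rw [Subgroup.closure_le]
    rintro _ ⟨i, rfl⟩
    exact ⟨cs.simple i, rp_simple cs hN i⟩

end Rep

/-! ### Root groups -/

section RootGroups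

variable {I W Y : Type*} [Fintype I] [DecidableEq I] [Group W] [Group Y] {M : CoxeterMatrix I}
  {T : Subgroup Y} {n : I → Y} (cs : CoxeterSystem M W) {A : I → I → ℤ} (h : IsCartan M A)
  (hN : NSys M T n) (U : I → Subgroup Y)

/-- Local well-definedness of the root groups. -/
def LocalWD : Prop := ∀ i k, i ≠ k → ∀ v ∈ WJ cs {i, k}, ∀ l, l = i ∨ l = k → rep cs h v (sr i) = sr l →
  ∀ g, Rp cs hN v g → cj g (U i) = U l

variable {cs h hN U}

theorem cj_eq_of_rp (hT : ∀ i, ∀ t ∈ T, cj t (U i) = U i) {w : W} {g k : Y} (hg : Rp cs hN w g)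
    (hk : Rp cs hN w k) (i : I) : cj g (U i) = cj k (U i) := by
  have h1 : k = g * (g⁻¹ * k) := by group
  rw [h1, cj_mul, hT i _ (hg.unique hk)]

theorem cj_eq_of_rep (hT : ∀ i, ∀ t ∈ T, cj t (U i) = U i) (hL : LocalWD cs h hN U) {w : W} {i j : I}
    (hw : rep cs h w (sr i) = sr j) {g : Y} (hg : Rp cs hN w g) : cj g (U i) = U j := by
  refine transport cs h (fun w i j => ∀ g, Rp cs hN w g → cj g (U i) = U j) ?_ ?_ ?_ w i j hw g hg
  · intro i g hg
    exact hT i g hg.mem_of_one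
  · intro w v i l j h1 h2 g hg
    obtain ⟨a, ha⟩ := exists_rp cs hN w
    obtain ⟨b, hb⟩ := exists_rp cs hN v
    rw [cj_eq_of_rp hT hg (ha.mul hb) i, cj_mul, h2 b hb, h1 a ha]
  · intro i k hik v hv l hl hvl g hg
    exact hL i k hik v hv l hl hvl g hg

variable (cs h hN U) in
/-- The root group of the vector `x` (trivial if `x` is not a root). -/
noncomputable def rootGrp (x : I → ℤ) : Subgroup Y := by
  classical
  exact if hx : IsRoot cs h x then
    cj (Classical.choose (exists_rp cs hN (Classical.choose hx)))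
      (U (Classical.choose (Classical.choose_spec hx))) else ⊥

theorem rootGrp_spec (hT : ∀ i, ∀ t ∈ T, cj t (U i) = U i) (hL : LocalWD cs h hN U) {w : W} {g : Y}
    (hg : Rp cs hN w g) (i : I) : rootGrp cs h hN U (rep cs h w (sr i)) = cj g (U i) := by
  have hx : IsRoot cs h (rep cs h w (sr i)) := ⟨w, i, rfl⟩
  unfold rootGrp
  rw [dif_pos hx]
  have h1 := Classical.choose_spec (Classical.choose_spec hx)
  set w' := Classical.choose hx
  set i' := Classical.choose (Classical.choose_spec hx)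
  have hg' := Classical.choose_spec (exists_rp cs hN w')
  set g' := Classical.choose (exists_rp cs hN w')
  have h2 : rep cs h (w⁻¹ * w') (sr i') = sr i := by
    rw [rep_mul_apply, ← h1, rep_inv_apply]
  have h3 := cj_eq_of_rep hT hL h2 (hg.inv.mul hg')
  rw [← h3, ← cj_mul]
  have h4 : g * (g⁻¹ * g') = g' := by group
  rw [h4]

theorem rootGrp_sr (hT : ∀ i, ∀ t ∈ T, cj t (U i) = U i) (hL : LocalWD cs h hN U) (i : I) :
    rootGrp cs h hN U (sr i) = U i := by
  have := rootGrp_spec hT hL (rp_one (cs := cs) (hN := hN)) i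
  rwa [map_one, Module.End.one_apply, cj_one] at this

theorem rootGrp_neg_sr (hT : ∀ i, ∀ t ∈ T, cj t (U i) = U i) (hL : LocalWD cs h hN U) (i : I) :
    rootGrp cs h hN U (-sr i) = cj (n i) (U i) := by
  have := rootGrp_spec hT hL (rp_simple cs hN i) i
  rwa [rep_simple_sr] at this

theorem rootGrp_conj (hT : ∀ i, ∀ t ∈ T, cj t (U i) = U i) (hL : LocalWD cs h hN U) {w : W} {g : Y}
    (hg : Rp cs hN w g) {x : I → ℤ} (hx : IsRoot cs h x) :
    cj g (rootGrp cs h hN U x) = rootGrp cs h hN U (rep cs h w x) := by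
  obtain ⟨v, i, rfl⟩ := hx
  obtain ⟨k, hk⟩ := exists_rp cs hN v
  rw [rootGrp_spec hT hL hk, ← cj_mul, ← rootGrp_spec hT hL (hg.mul hk), rep_mul_apply]

theorem rootGrp_tor (hT : ∀ i, ∀ t ∈ T, cj t (U i) = U i) (hL : LocalWD cs h hN U) {x : I → ℤ}
    (hx : IsRoot cs h x) {t : Y} (ht : t ∈ T) : cj t (rootGrp cs h hN U x) = rootGrp cs h hN U x := by
  rw [rootGrp_conj hT hL (rp_of_mem (cs := cs) (hN := hN) ht) hx, map_one, Module.End.one_apply]

/-- The root `z` lies strictly between `x` and `y` (in the open RATIONAL cone of `x` and `y`; this covers the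
groups `SU_{2n+1}(q)`, whose commutator relations are not integral). -/
def Btwn (cs : CoxeterSystem M W) (h : IsCartan M A) (x y z : I → ℤ) : Prop :=
  IsRoot cs h z ∧ ∃ m a b : ℤ, 0 < m ∧ 0 < a ∧ 0 < b ∧ m • z = a • x + b • y

theorem Btwn.act {x y z : I → ℤ} (hz : Btwn cs h x y z) (w : W) :
    Btwn cs h (rep cs h w x) (rep cs h w y) (rep cs h w z) := by
  obtain ⟨hz, m, a, b, hm, ha, hb, he⟩ := hz
  exact ⟨hz.act w, m, a, b, hm, ha, hb, by rw [← map_smul, he, map_add, map_smul, map_smul]⟩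

theorem btwn_act_iff {x y z : I → ℤ} (w : W) :
    Btwn cs h (rep cs h w x) (rep cs h w y) (rep cs h w z) ↔ Btwn cs h x y z := by
  refine ⟨fun hz => ?_, fun hz => hz.act w⟩
  have := hz.act w⁻¹
  rwa [rep_inv_apply, rep_inv_apply, rep_inv_apply] at this

theorem Btwn.symm {x y z : I → ℤ} (hz : Btwn cs h x y z) : Btwn cs h y x z := by
  obtain ⟨hz, m, a, b, hm, ha, hb, he⟩ := hz
  exact ⟨hz, m, b, a, hm, hb, ha, by rw [he, add_comm]⟩

theorem Btwn.of_int {x y z : I → ℤ} (hz : IsRoot cs h z) {a b : ℤ} (ha : 0 < a) (hb : 0 < b)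
    (he : z = a • x + b • y) : Btwn cs h x y z := ⟨hz, 1, a, b, one_pos, ha, hb, by rw [one_smul, he]⟩

/-- The join of the root groups of the roots strictly between `x` and `y`. -/
def btw (cs : CoxeterSystem M W) (h : IsCartan M A) (X : (I → ℤ) → Subgroup Y) (x y : I → ℤ) : Subgroup Y :=
  ⨆ z : {z : I → ℤ // Btwn cs h x y z}, X z.1

theorem le_btw_of {X : (I → ℤ) → Subgroup Y} {x y z : I → ℤ} (hz : Btwn cs h x y z) : X z ≤ btw cs h X x y :=
  le_iSup (fun z : {z : I → ℤ // Btwn cs h x y z} => X z.1) ⟨z, hz⟩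

theorem le_btw {X : (I → ℤ) → Subgroup Y} {x y z : I → ℤ} (hz : IsRoot cs h z) {a b : ℤ} (ha : 0 < a)
    (hb : 0 < b) (he : z = a • x + b • y) : X z ≤ btw cs h X x y := le_btw_of (.of_int hz ha hb he)

theorem cj_btw (hT : ∀ i, ∀ t ∈ T, cj t (U i) = U i) (hL : LocalWD cs h hN U) {w : W} {g : Y}
    (hg : Rp cs hN w g) (x y : I → ℤ) :
    cj g (btw cs h (rootGrp cs h hN U) x y) ≤
      btw cs h (rootGrp cs h hN U) (rep cs h w x) (rep cs h w y) := by
  unfold btw
  rw [cj_iSup]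
  refine iSup_le ?_
  rintro ⟨z, hz⟩
  rw [rootGrp_conj hT hL hg hz.1]
  exact le_btw_of (hz.act w)

variable (cs h hN U) in
/-- The local commutator relations. -/
def LocalComm : Prop := ∀ i k, i ≠ k → ∀ v ∈ WJ cs {i, k}, ∀ l, l = i ∨ l = k →
  rep cs h v (sr l) ≠ sr i → rep cs h v (sr l) ≠ -sr i → ∀ g, Rp cs hN v g → ∀ a ∈ U i, ∀ b ∈ cj g (U l),
    ⁅a, b⁆ ∈ btw cs h (rootGrp cs h hN U) (sr i) (rep cs h v (sr l))

/-- **All commutator relations follow from the local ones.** -/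
theorem rootGrp_comm [Finite W] (hT : ∀ i, ∀ t ∈ T, cj t (U i) = U i) (hL : LocalWD cs h hN U)
    (hC : LocalComm cs h hN U) {x y : I → ℤ} (hx : IsRoot cs h x) (hy : IsRoot cs h y) (hxy : x ≠ y)
    (hxy' : x ≠ -y) {a b : Y} (ha : a ∈ rootGrp cs h hN U x) (hb : b ∈ rootGrp cs h hN U y) :
    ⁅a, b⁆ ∈ btw cs h (rootGrp cs h hN U) x y := by
  obtain ⟨w, i, j, hij, hsx, hsy⟩ := exists_plane cs h hx hy hxy hxy'
  obtain ⟨v, hv, k, hk, ek⟩ := exists_of_supp cs h (hx.act w) hsx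
  -- move `x` to a fundamental root
  set u : W := v⁻¹ * w with hu
  have hux : rep cs h u x = sr k := by
    rw [hu, rep_mul_apply, ek, rep_inv_apply]
  have hsy' : Supp i j (rep cs h u y) := by
    rw [hu, rep_mul_apply]
    exact supp_rep cs h (inv_mem hv) hsy
  obtain ⟨v', hv', l, hl, el⟩ := exists_of_supp cs h (hy.act u) hsy'
  obtain ⟨g, hg⟩ := exists_rp cs hN u
  obtain ⟨g', hg'⟩ := exists_rp cs hN v'
  have ha' : g * a * g⁻¹ ∈ U k := by
    have h1 : g * a * g⁻¹ ∈ cj g (rootGrp cs h hN U x) := conj_mem_cj.2 ha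
    rwa [rootGrp_conj hT hL hg hx, hux, rootGrp_sr hT hL] at h1
  have hb' : g * b * g⁻¹ ∈ cj g' (U l) := by
    have h1 : g * b * g⁻¹ ∈ cj g (rootGrp cs h hN U y) := conj_mem_cj.2 hb
    rwa [rootGrp_conj hT hL hg hy, el, rootGrp_spec hT hL hg'] at h1
  have hne : rep cs h v' (sr l) ≠ sr k := by
    rw [← el, ← hux]
    exact fun h1 => hxy (rep_injective_apply cs h u h1).symm
  have hne' : rep cs h v' (sr l) ≠ -sr k := by
    rw [← el, ← hux, ← map_neg]
    intro h1
    have h2 := rep_injective_apply cs h u h1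
    apply hxy'
    rw [h2, neg_neg]
  have key : ⁅g * a * g⁻¹, g * b * g⁻¹⁆ ∈ btw cs h (rootGrp cs h hN U) (sr k) (rep cs h v' (sr l)) := by
    rcases hk with rfl | rfl
    · exact hC k j hij v' hv' l hl hne hne' g' hg' _ ha' _ hb'
    · refine hC k i hij.symm v' ?_ l hl.symm hne hne' g' hg' _ ha' _ hb'
      rwa [Set.pair_comm]
  rw [← hux, ← el] at key
  have h1 : ⁅g * a * g⁻¹, g * b * g⁻¹⁆ = g * ⁅a, b⁆ * g⁻¹ := by
    simp only [commutatorElement_def]; group
  rw [h1] at key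
  have h2 := cj_btw hT hL hg.inv (rep cs h u x) (rep cs h u y)
  rw [rep_inv_apply, rep_inv_apply] at h2
  apply h2
  rw [mem_cj]
  have h3 : g⁻¹⁻¹ * ⁅a, b⁆ * g⁻¹ = g * ⁅a, b⁆ * g⁻¹ := by rw [inv_inv]
  rw [h3]
  exact key

end RootGroups

end Cfsg.Agent.Nodes.Reps
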