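import Mathlib
import Cfsg.Prelude.Def_LieExceptional
import Cfsg.Agent.Nodes.Reps

/-!
Root group data with commutator relations give a split (B,N)-pair (project CIT, piece (3a)).

* `RGD cs h p T n X` : a family of root groups `X x`, `x` a root, with torus `T`, reflections `n i`, all commutator
  relations, rank one axiom, `p`-groups;
* `Upos`, `B`, `isPGroup_Upos`, `not_neg_le_B`, `bnPair`.
-/

set_option autoImplicit false
set_option linter.unusedSectionVars false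

namespace Cfsg.Agent.Nodes.BNOf

open CoxeterSystem Cfsg.Agent.ChevalleyStructure.CoxeterGeom Cfsg.Agent.Tits.Roots Cfsg.Agent.Tits.Core
  Cfsg.Agent.Tits.RootComb Cfsg.Agent.Nodes.Comb Cfsg.Agent.Nodes.Reps
open scoped commutatorElement

variable {I W Y : Type*} [Fintype I] [DecidableEq I] [Group W] [Group Y] {M : CoxeterMatrix I}

/-- Root group data (all root groups, all commutator relations). -/
structure RGD (cs : CoxeterSystem M W) {A : I → I → ℤ} (h : IsCartan M A) (p : ℕ) (T : Subgroup Y) (n : I → Y)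
    (X : (I → ℤ) → Subgroup Y) : Prop where
  nsys : NSys M T n
  conj : ∀ i x, IsRoot cs h x → cj (n i) (X x) = X (rep cs h (cs.simple i) x)
  tor : ∀ x, IsRoot cs h x → ∀ t ∈ T, cj t (X x) = X x
  comm : ∀ x y, IsRoot cs h x → IsRoot cs h y → x ≠ y → x ≠ -y → ∀ a ∈ X x, ∀ b ∈ X y, ⁅a, b⁆ ∈ btw cs h X x y
  rk1 : ∀ i, ∀ u ∈ X (-sr i), u ≠ 1 → ∃ a ∈ X (sr i), ∃ t ∈ T, ∃ b ∈ X (sr i), u = a * t * n i * b
  pgrp : ∀ i, IsPGroup p ↥(X (sr i))
  notp : ∀ i, ¬ IsPGroup p ↥(X (sr i) ⊔ X (-sr i))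
  tcop : (Nat.card T).Coprime p

variable {cs : CoxeterSystem M W} {A : I → I → ℤ} {h : IsCartan M A} {p : ℕ} {T : Subgroup Y} {n : I → Y}
  {X : (I → ℤ) → Subgroup Y}

namespace RGD

variable (R : RGD cs h p T n X)

include R

theorem conj_rp {w : W} {g : Y} (hg : Rp cs R.nsys w g) {x : I → ℤ} (hx : IsRoot cs h x) :
    cj g (X x) = X (rep cs h w x) := by
  -- first for a product of `n i`'s
  have key : ∀ ω : List I, ∀ x, IsRoot cs h x → ∃ k, Rp cs R.nsys (cs.wordProd ω) k ∧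
      cj k (X x) = X (rep cs h (cs.wordProd ω) x) := by
    intro ω
    induction ω with
    | nil =>
      intro x _
      exact ⟨1, by rw [wordProd_nil]; exact rp_one, by rw [wordProd_nil, cj_one, map_one, Module.End.one_apply]⟩
    | cons i ω ih =>
      intro x hx
      obtain ⟨k, hk, e⟩ := ih x hx
      refine ⟨n i * k, ?_, ?_⟩
      · rw [wordProd_cons]; exact (rp_simple cs R.nsys i).mul hk
      · rw [cj_mul, e, R.conj i _ (hx.act _), ← rep_mul_apply, wordProd_cons]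
  obtain ⟨ω, rfl⟩ := cs.wordProd_surjective w
  obtain ⟨k, hk, e⟩ := key ω x hx
  have h1 : g = k * (k⁻¹ * g) := by group
  rw [h1, cj_mul, R.tor x hx _ (hk.unique hg), e]

/-- Conjugation of elements. -/
theorem conj_mem {w : W} {g : Y} (hg : Rp cs R.nsys w g) {x : I → ℤ} (hx : IsRoot cs h x) {u : Y} (hu : u ∈ X x) :
    g * u * g⁻¹ ∈ X (rep cs h w x) := by
  rw [← R.conj_rp hg hx]
  exact conj_mem_cj.2 hu

theorem conj_mem' {w : W} {g : Y} (hg : Rp cs R.nsys w g) {x : I → ℤ} (hx : IsRoot cs h x) {u : Y} (hu : u ∈ X x) :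
    g⁻¹ * u * g ∈ X (rep cs h w⁻¹ x) := by
  have := R.conj_mem hg.inv hx hu
  rwa [inv_inv] at this

omit R in
/-- The join of the root groups over a set of vectors. -/
def Sup (X : (I → ℤ) → Subgroup Y) (S : Set (I → ℤ)) : Subgroup Y := ⨆ z : S, X z.1

omit R in
theorem le_Sup {S : Set (I → ℤ)} {z : I → ℤ} (hz : z ∈ S) : X z ≤ Sup X S := le_iSup (fun z : S => X z.1) ⟨z, hz⟩

omit R in
theorem Sup_le {S : Set (I → ℤ)} {K : Subgroup Y} (hK : ∀ z ∈ S, X z ≤ K) : Sup X S ≤ K :=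
  iSup_le fun z => hK z.1 z.2

omit R in
theorem Sup_mono {S S' : Set (I → ℤ)} (hS : S ⊆ S') : Sup X S ≤ Sup X S' := Sup_le fun _ hz => le_Sup (hS hz)

omit R in
theorem cj_Sup (g : Y) (S : Set (I → ℤ)) : cj g (Sup X S) = ⨆ z : S, cj g (X z.1) := cj_iSup _ _

theorem btw_le_Sup {x y : I → ℤ} {S : Set (I → ℤ)} (hS : ∀ z, Btwn cs h x y z → z ∈ S) :
    btw cs h X x y ≤ Sup X S := by
  unfold Reps.btw
  refine iSup_le ?_
  rintro ⟨z, hz⟩
  exact le_Sup (hS z hz)

/-- `X x` normalises `Sup X S` when `S` absorbs the intervals. -/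
theorem le_normalizer {x : I → ℤ} {S : Set (I → ℤ)} (hx : IsRoot cs h x)
    (hS : ∀ y ∈ S, IsRoot cs h y ∧ (x = y ∨ (x ≠ -y ∧ ∀ z, Btwn cs h x y z → z ∈ S))) :
    X x ≤ Subgroup.normalizer (Sup X S : Set Y) := by
  have key : ∀ a ∈ X x, cj a (Sup X S) ≤ Sup X S := by
    intro a ha
    rw [cj_Sup]
    refine iSup_le ?_
    rintro ⟨y, hy⟩
    obtain ⟨hyr, hxy | ⟨hxy', hz⟩⟩ := hS y hy
    · subst hxy
      rw [cj_eq_of_mem ha]
      exact le_Sup hy
    · by_cases hxy : x = y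
      · subst hxy
        rw [cj_eq_of_mem ha]
        exact le_Sup hy
      intro b hb
      rw [mem_cj] at hb
      have h1 := R.comm x y hx hyr hxy hxy' a ha _ hb
      have h2 : b = ⁅a, a⁻¹ * b * a⁆ * (a⁻¹ * b * a) := by
        rw [commutatorElement_def]; group
      rw [h2]
      exact mul_mem (R.btw_le_Sup hz h1) (le_Sup hy hb)
  intro a ha
  rw [mem_normalizer_iff_cj]
  apply le_antisymm (key a ha)
  have h1 := key a⁻¹ (inv_mem ha)
  have h2 := cj_mono a h1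
  rwa [cj_cj_inv] at h2

omit R in
theorem finite_roots [Finite W] : {x | IsRoot cs h x}.Finite := by
  have : {x | IsRoot cs h x} = Set.range (fun q : W × I => rep cs h q.1 (sr q.2)) := by
    ext x
    constructor
    · rintro ⟨w, i, rfl⟩; exact ⟨(w, i), rfl⟩
    · rintro ⟨⟨w, i⟩, rfl⟩; exact ⟨w, i, rfl⟩
  rw [this]
  exact Set.finite_range _

omit R in
theorem ht_add (x y : I → ℤ) : ht (x + y) = ht x + ht y := by
  unfold ht
  simp only [Pi.add_apply, Finset.sum_add_distrib]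

omit R in
theorem ht_smul (a : ℤ) (x : I → ℤ) : ht (a • x) = a * ht x := by
  unfold ht
  simp only [Pi.smul_apply, smul_eq_mul, Finset.mul_sum]

omit R in
theorem ht_pos {x : I → ℤ} (hx : IsRoot cs h x) (h0 : 0 ≤ x) : 0 < ht x := by
  unfold ht
  have h1 : ∃ i ∈ Finset.univ, 0 < x i := by
    by_contra hcon
    push Not at hcon
    exact hx.ne_zero (funext fun i => le_antisymm (hcon i (Finset.mem_univ i)) (h0 i))
  exact Finset.sum_pos' (fun i _ => h0 i) h1

theorem pgrp' [Finite W] {x : I → ℤ} (hx : IsRoot cs h x) : IsPGroup p ↥(X x) := by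
  obtain ⟨w, i, rfl⟩ := hx
  obtain ⟨g, hg⟩ := exists_rp cs R.nsys w
  rw [← R.conj_rp hg (isRoot_sr cs h i)]
  exact (R.pgrp i).map _

omit R in
/-- The positive roots. -/
def Pos (cs : CoxeterSystem M W) (h : IsCartan M A) : Set (I → ℤ) := {x | IsRoot cs h x ∧ 0 ≤ x}

omit R in
/-- The positive roots other than `α_i`. -/
def PosNe (cs : CoxeterSystem M W) (h : IsCartan M A) (i : I) : Set (I → ℤ) :=
  {x | IsRoot cs h x ∧ 0 ≤ x ∧ x ≠ sr i}

omit R in
theorem add_nonneg' {x y : I → ℤ} (hx : 0 ≤ x) (hy : 0 ≤ y) {a b : ℤ} (ha : 0 < a) (hb : 0 < b) :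
    0 ≤ a • x + b • y := by
  intro k
  rw [Pi.add_apply, Pi.smul_apply, Pi.smul_apply, smul_eq_mul, smul_eq_mul]
  have h1 : 0 ≤ a * x k := mul_nonneg ha.le (hx k)
  have h2 : 0 ≤ b * y k := mul_nonneg hb.le (hy k)
  exact add_nonneg h1 h2

omit R in
/-- A root between two positive roots is positive. -/
theorem nonneg_of_btwn {x y z : I → ℤ} (hx : 0 ≤ x) (hy : 0 ≤ y) (hz : Btwn cs h x y z) : 0 ≤ z := by
  obtain ⟨-, m, a, b, hm, ha, hb, he⟩ := hz
  intro k
  have h1 := add_nonneg' hx hy ha hb k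
  rw [← he, Pi.smul_apply, smul_eq_mul] at h1
  exact nonneg_of_mul_nonneg_right h1 hm

omit R in
theorem nonpos_of_btwn {x y z : I → ℤ} (hx : x ≤ 0) (hy : y ≤ 0) (hz : Btwn cs h x y z) : z ≤ 0 := by
  obtain ⟨hz, m, a, b, hm, ha, hb, he⟩ := hz
  have h1 : Btwn cs h (-x) (-y) (-z) := ⟨hz.neg, m, a, b, hm, ha, hb, by
    rw [smul_neg, he, smul_neg, smul_neg, neg_add]⟩
  exact neg_nonneg.1 (nonneg_of_btwn (neg_nonneg.2 hx) (neg_nonneg.2 hy) h1)

omit R in
/-- A positive root `≠ α_i` has a positive coefficient outside `i`. -/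
theorem exists_coeff {x : I → ℤ} (hx : IsRoot cs h x) (h0 : 0 ≤ x) {i : I} (hi : x ≠ sr i) :
    ∃ k, k ≠ i ∧ 0 < x k := by
  by_contra hcon
  push Not at hcon
  exact hi (hx.eq_sr h0 i fun k hk => le_antisymm (hcon k hk) (h0 k))

omit R in
theorem ne_sr_of_btwn {x y z : I → ℤ} (h0 : 0 ≤ x) (hy : IsRoot cs h y) (hy0 : 0 ≤ y) {i : I} (hi : y ≠ sr i)
    (hz : Btwn cs h x y z) : z ≠ sr i := by
  obtain ⟨-, m, a, b, hm, ha, hb, he⟩ := hz
  obtain ⟨k, hk, hk0⟩ := exists_coeff hy hy0 hi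
  rintro rfl
  have h1 := congrFun he k
  rw [Pi.smul_apply, sr_ne hk, smul_zero, Pi.add_apply, Pi.smul_apply, Pi.smul_apply, smul_eq_mul,
    smul_eq_mul] at h1
  have h2 : 0 ≤ a * x k := mul_nonneg ha.le (h0 k)
  have h3 : 0 < b * y k := mul_pos hb hk0
  linarith

omit R in
/-- The inversion set of `w⁻¹`: positive roots made negative by `w⁻¹`. -/
def Inv (cs : CoxeterSystem M W) (h : IsCartan M A) (w : W) : Set (I → ℤ) :=
  {x | IsRoot cs h x ∧ 0 ≤ x ∧ rep cs h w⁻¹ x ≤ 0}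

omit R in
/-- If `w⁻¹ α_i < 0` then `Inv w = {α_i} ∪ s_i Inv (s_i w)`. -/
theorem mem_inv_iff {w : W} {i : I} (hw : rep cs h w⁻¹ (sr i) ≤ 0) {x : I → ℤ} :
    x ∈ Inv cs h w ↔ x = sr i ∨ rep cs h (cs.simple i) x ∈ Inv cs h (cs.simple i * w) := by
  have e1 : ∀ y : I → ℤ, rep cs h (cs.simple i * w)⁻¹ (rep cs h (cs.simple i) y) = rep cs h w⁻¹ y := by
    intro y
    rw [← rep_mul_apply, mul_inv_rev, cs.inv_simple, mul_assoc, cs.simple_mul_simple_self, mul_one]
  have e2 : ∀ y : I → ℤ, rep cs h (cs.simple i) (rep cs h (cs.simple i) y) = y := by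
    intro y
    rw [← rep_mul_apply, cs.simple_mul_simple_self, map_one, Module.End.one_apply]
  constructor
  · rintro ⟨hx, h0, h1⟩
    by_cases hi : x = sr i
    · exact Or.inl hi
    · exact Or.inr ⟨hx.act _, hx.simple_nonneg h0 i hi, by rw [e1]; exact h1⟩
  · rintro (rfl | ⟨hx, h0, h1⟩)
    · exact ⟨isRoot_sr cs h i, sr_nonneg i, hw⟩
    · rw [e1] at h1
      have hx' : IsRoot cs h x := by
        have := hx.act (cs.simple i)
        rwa [e2] at this
      refine ⟨hx', ?_, h1⟩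
      by_cases hi : rep cs h (cs.simple i) x = sr i
      · exfalso
        have h2 : x = - sr i := by
          rw [← e2 x, hi, rep_simple_sr]
        rw [h2, map_neg] at h1
        exact ((isRoot_sr cs h i).act w⁻¹).not_pos_neg (neg_nonpos.1 h1) hw
      · have := hx.simple_nonneg h0 i hi
        rwa [e2] at this

omit R in
theorem inv_one_eq : Inv cs h (1 : W) = ∅ := by
  ext x
  simp only [Set.mem_empty_iff_false, iff_false]
  rintro ⟨hx, h0, h1⟩
  rw [_root_.inv_one, map_one, Module.End.one_apply] at h1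
  exact hx.not_pos_neg h0 h1

/-- `X x` normalises the join over a set closed under the intervals from `x`. -/
theorem X_le_normalizer_diff {S : Set (I → ℤ)} (hS : ∀ x ∈ S, IsRoot cs h x ∧ 0 ≤ x) {x : I → ℤ}
    (hx : IsRoot cs h x) (h0 : 0 ≤ x) (hc : ∀ y ∈ S, y ≠ x → ∀ z, Btwn cs h x y z → z ∈ S ∧ z ≠ x) :
    X x ≤ Subgroup.normalizer (Sup X (S \ {x}) : Set Y) := by
  refine R.le_normalizer hx ?_
  rintro y ⟨hy, hyx⟩
  have hyx' : y ≠ x := hyx
  refine ⟨(hS y hy).1, Or.inr ⟨?_, fun z hz => hc y hy hyx' z hz⟩⟩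
  intro he
  rw [he] at h0
  exact (hS y hy).1.neg.not_pos_neg h0 (neg_nonpos.2 (hS y hy).2)

/-- The join over an inversion set is a `p`-group. -/
theorem isPGroup_inv [Finite W] (w : W) : IsPGroup p ↥(Sup X (Inv cs h w)) := by
  induction hn : cs.length w using Nat.strong_induction_on generalizing w with
  | _ k ih =>
  by_cases h1 : w = 1
  · subst h1
    have : Sup X (Inv cs h (1 : W)) = ⊥ := by
      rw [inv_one_eq, eq_bot_iff]
      exact Sup_le (fun z hz => absurd hz (by simp))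
    rw [this]
    exact IsPGroup.of_bot
  obtain ⟨i, hi⟩ : ∃ i, cs.IsLeftDescent w i := by
    have := cs.exists_leftDescent_of_ne_one h1
    exact this
  have hlt : cs.length (cs.simple i * w) < cs.length w := hi
  have hneg : rep cs h w⁻¹ (sr i) ≤ 0 := by
    refine nonpos_of_lt cs h w⁻¹ i ?_
    rw [cs.length_inv, ← cs.length_inv (w⁻¹ * cs.simple i), mul_inv_rev, inv_inv, cs.inv_simple]
    exact hlt
  have ih' := ih _ (hn ▸ hlt) (cs.simple i * w) rfl
  have hmem : sr i ∈ Inv cs h w := (mem_inv_iff hneg).2 (Or.inl rfl)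
  have hsup : Sup X (Inv cs h w) = X (sr i) ⊔ Sup X (Inv cs h w \ {sr i}) := by
    apply le_antisymm
    · refine Sup_le fun z hz => ?_
      by_cases hz0 : z = sr i
      · subst hz0; exact le_sup_left
      · exact le_trans (le_Sup (S := Inv cs h w \ {sr i}) ⟨hz, hz0⟩) le_sup_right
    · exact sup_le (le_Sup hmem) (Sup_mono Set.sdiff_subset)
  have hle : Sup X (Inv cs h w \ {sr i}) ≤ cj (n i) (Sup X (Inv cs h (cs.simple i * w))) := by
    refine Sup_le ?_
    rintro z ⟨hz, hz0⟩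
    have h2 := ((mem_inv_iff hneg).1 hz).resolve_left hz0
    have h3 := cj_mono (n i) (le_Sup (X := X) h2)
    rw [R.conj i _ h2.1, ← rep_mul_apply, cs.simple_mul_simple_self, map_one, Module.End.one_apply] at h3
    exact h3
  rw [hsup]
  refine IsPGroup.to_sup_of_normal_right' (R.pgrp i) ((ih'.map _).to_le hle) ?_
  refine R.X_le_normalizer_diff (fun x hx => ⟨hx.1, hx.2.1⟩) (isRoot_sr cs h i) (sr_nonneg i) ?_
  intro y hy hyi z hz
  refine ⟨⟨hz.1, nonneg_of_btwn (sr_nonneg i) hy.2.1 hz, nonpos_of_btwn hneg hy.2.2 (hz.act w⁻¹)⟩, ?_⟩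
  exact ne_sr_of_btwn (sr_nonneg i) hy.1 hy.2.1 hyi hz

omit R in
/-- The inversion set of the longest element. -/
theorem exists_inv_eq_pos [Finite W] : ∃ w : W, Inv cs h w = Pos cs h := by
  obtain ⟨w, hw⟩ := Finite.exists_max (fun w : W => cs.length w)
  have h1 : ∀ i, rep cs h w⁻¹ (sr i) ≤ 0 := by
    intro i
    refine nonpos_of_lt cs h w⁻¹ i ?_
    rw [cs.length_inv, ← cs.length_inv (w⁻¹ * cs.simple i), mul_inv_rev, inv_inv, cs.inv_simple]
    have h2 := hw (cs.simple i * w)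
    have h3 := cs.length_simple_mul w i
    omega
  refine ⟨w, Set.ext fun x => ⟨fun hx => ⟨hx.1, hx.2.1⟩, fun hx => ⟨hx.1, hx.2, ?_⟩⟩⟩
  have h2 : x = ∑ k, x k • sr k := by
    funext j
    simp [Finset.sum_apply, sr, Pi.single_apply]
  rw [h2, map_sum]
  refine Finset.sum_nonpos fun k _ => ?_
  rw [map_smul]
  intro j
  rw [Pi.smul_apply, smul_eq_mul]
  exact mul_nonpos_of_nonneg_of_nonpos (hx.2 k) (h1 k j)

theorem isPGroup_Upos [Finite W] : IsPGroup p ↥(Sup X (Pos cs h)) := by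
  obtain ⟨w, hw⟩ := exists_inv_eq_pos (cs := cs) (h := h)
  rw [← hw]
  exact R.isPGroup_inv w

/-- The join over any set of positive roots is a `p`-group. -/
theorem isPGroup_of_pos [Finite W] {S : Set (I → ℤ)} (hS : ∀ x ∈ S, IsRoot cs h x ∧ 0 ≤ x) :
    IsPGroup p ↥(Sup X S) := R.isPGroup_Upos.to_le (Sup_mono hS)

/-- `X α_i` normalises `V_i`. -/
theorem X_le_normalizer_V (i : I) : X (sr i) ≤ Subgroup.normalizer (Sup X (PosNe cs h i) : Set Y) := by
  refine R.le_normalizer (isRoot_sr cs h i) ?_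
  rintro y ⟨hy, hy0, hyi⟩
  refine ⟨hy, Or.inr ⟨?_, ?_⟩⟩
  · intro he
    have h1 := (sr_nonneg i : (0 : I → ℤ) ≤ sr i)
    rw [he] at h1
    exact hy.neg.not_pos_neg h1 (neg_nonpos.2 hy0)
  · intro z hz
    exact ⟨hz.1, nonneg_of_btwn (sr_nonneg i) hy0 hz, ne_sr_of_btwn (sr_nonneg i) hy hy0 hyi hz⟩

theorem Upos_eq (i : I) : Sup X (Pos cs h) = X (sr i) ⊔ Sup X (PosNe cs h i) := by
  apply le_antisymm
  · refine Sup_le fun z hz => ?_
    by_cases hz0 : z = sr i
    · subst hz0; exact le_sup_left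
    · exact le_trans (le_Sup (S := PosNe cs h i) ⟨hz.1, hz.2, hz0⟩) le_sup_right
  · exact sup_le (le_Sup ⟨isRoot_sr cs h i, sr_nonneg i⟩) (Sup_mono fun z hz => ⟨hz.1, hz.2.1⟩)

theorem cj_n_V (i : I) : cj (n i) (Sup X (PosNe cs h i)) = Sup X (PosNe cs h i) := by
  have key : cj (n i) (Sup X (PosNe cs h i)) ≤ Sup X (PosNe cs h i) := by
    rw [cj_Sup]
    refine iSup_le ?_
    rintro ⟨y, hy, hy0, hyi⟩
    rw [R.conj i y hy]
    refine le_Sup ⟨hy.act _, hy.simple_nonneg hy0 i hyi, ?_⟩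
    intro he
    have h1 := congrArg (rep cs h (cs.simple i)) he
    rw [← rep_mul_apply, simple_mul_simple_self, map_one, Module.End.one_apply, rep_simple_sr] at h1
    rw [h1] at hy0
    have h2 := hy0 i
    rw [Pi.neg_apply, sr_self] at h2
    exact absurd h2 (by simp)
  apply le_antisymm key
  have h2 : n i * n i ∈ T := by
    have := R.nsys.rel i i
    rwa [M.diagonal, pow_one] at this
  have h3 : cj (n i * n i) (Sup X (PosNe cs h i)) = Sup X (PosNe cs h i) := by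
    rw [cj_Sup]
    exact iSup_congr fun z => R.tor z.1 z.2.1 _ h2
  calc Sup X (PosNe cs h i) = cj (n i) (cj (n i) (Sup X (PosNe cs h i))) := by rw [← cj_mul, h3]
    _ ≤ cj (n i) (Sup X (PosNe cs h i)) := cj_mono _ key

theorem T_le_normalizer {S : Set (I → ℤ)} (hS : ∀ x ∈ S, IsRoot cs h x) :
    T ≤ Subgroup.normalizer (Sup X S : Set Y) := by
  intro t ht
  rw [mem_normalizer_iff_cj, cj_Sup]
  exact iSup_congr fun z => R.tor z.1 (hS z.1 z.2) t ht

/-- The Borel subgroup. -/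
def B (cs : CoxeterSystem M W) (h : IsCartan M A) (T : Subgroup Y) (X : (I → ℤ) → Subgroup Y) : Subgroup Y :=
  T ⊔ Sup X (Pos cs h)


omit R in
theorem T_le_B : T ≤ B cs h T X := le_sup_left

omit R in
theorem U_le_B : Sup X (Pos cs h) ≤ B cs h T X := le_sup_right

omit R in
theorem X_le_B {x : I → ℤ} (hx : IsRoot cs h x) (h0 : 0 ≤ x) : X x ≤ B cs h T X :=
  le_trans (le_Sup (S := Pos cs h) ⟨hx, h0⟩) U_le_B

theorem T_le_normalizer_U : T ≤ Subgroup.normalizer (Sup X (Pos cs h) : Set Y) :=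
  R.T_le_normalizer fun _ hx => hx.1

theorem B_le_normalizer_U : B cs h T X ≤ Subgroup.normalizer (Sup X (Pos cs h) : Set Y) :=
  sup_le R.T_le_normalizer_U Subgroup.le_normalizer

/-- `B = T U`. -/
theorem mem_B {x : Y} : x ∈ B cs h T X ↔ ∃ t ∈ T, ∃ u ∈ Sup X (Pos cs h), x = t * u := by
  constructor
  · intro hx
    have h1 : x ∈ ((T ⊔ Sup X (Pos cs h) : Subgroup Y) : Set Y) := hx
    rw [Subgroup.coe_mul_of_left_le_normalizer_right _ _ R.T_le_normalizer_U, Set.mem_mul] at h1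
    obtain ⟨t, ht, u, hu, e⟩ := h1
    exact ⟨t, ht, u, hu, e.symm⟩
  · rintro ⟨t, ht, u, hu, rfl⟩
    exact mul_mem (T_le_B ht) (U_le_B hu)

/-- `B = V_i X_i T`. -/
theorem mem_B' (i : I) {x : Y} (hx : x ∈ B cs h T X) :
    ∃ v ∈ Sup X (PosNe cs h i), ∃ u ∈ X (sr i), ∃ t ∈ T, x = v * u * t := by
  obtain ⟨t, ht, u, hu, e⟩ := R.mem_B.1 (inv_mem hx)
  have hx' : x = u⁻¹ * t⁻¹ := by
    rw [← inv_inv x, e]; group
  have h1 : u⁻¹ ∈ ((Sup X (PosNe cs h i) ⊔ X (sr i) : Subgroup Y) : Set Y) := by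
    rw [sup_comm, ← R.Upos_eq i]
    exact inv_mem hu
  rw [Subgroup.coe_mul_of_right_le_normalizer_left _ _ (R.X_le_normalizer_V i), Set.mem_mul] at h1
  obtain ⟨v, hv, u', hu', e'⟩ := h1
  exact ⟨v, hv, u', hu', t⁻¹, inv_mem ht, by rw [e', hx']⟩

/-- The `p`-elements of `B` lie in `U`. -/
theorem mem_U_of_mem_B {x : Y} (hx : x ∈ B cs h T X) {k : ℕ} (hk : x ^ p ^ k = 1) : x ∈ Sup X (Pos cs h) := by
  obtain ⟨t, ht, u, hu, e⟩ := R.mem_B.1 hx
  set N : Subgroup Y := Subgroup.normalizer (Sup X (Pos cs h) : Set Y) with hN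
  have hxN : x ∈ N := R.B_le_normalizer_U hx
  have htN : t ∈ N := R.T_le_normalizer_U ht
  have : ((Sup X (Pos cs h)).subgroupOf N).Normal := Subgroup.normal_in_normalizer
  have h1 : (QuotientGroup.mk ⟨t, htN⟩ : ↥N ⧸ (Sup X (Pos cs h)).subgroupOf N) = QuotientGroup.mk ⟨x, hxN⟩ := by
    rw [QuotientGroup.eq, Subgroup.mem_subgroupOf]
    have : t⁻¹ * x = u := by rw [e]; group
    change t⁻¹ * x ∈ _
    rw [this]; exact hu
  have h2 : orderOf (QuotientGroup.mk ⟨x, hxN⟩ : ↥N ⧸ (Sup X (Pos cs h)).subgroupOf N) ∣ p ^ k := by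
    apply orderOf_dvd_of_pow_eq_one
    rw [← QuotientGroup.mk_pow]
    have : (⟨x, hxN⟩ : ↥N) ^ p ^ k = 1 := Subtype.ext hk
    rw [this, QuotientGroup.mk_one]
  have h3 : orderOf (QuotientGroup.mk ⟨x, hxN⟩ : ↥N ⧸ (Sup X (Pos cs h)).subgroupOf N) ∣ Nat.card T := by
    apply orderOf_dvd_of_pow_eq_one
    rw [← h1, ← QuotientGroup.mk_pow]
    have h4 : (⟨t, ht⟩ : ↥T) ^ Nat.card T = 1 := pow_card_eq_one'
    have : (⟨t, htN⟩ : ↥N) ^ Nat.card T = 1 := Subtype.ext (by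
      have h5 := congrArg Subtype.val h4
      rwa [SubgroupClass.coe_pow] at h5)
    rw [this, QuotientGroup.mk_one]
  have h4 : orderOf (QuotientGroup.mk ⟨x, hxN⟩ : ↥N ⧸ (Sup X (Pos cs h)).subgroupOf N) = 1 := by
    have hc : (p ^ k).Coprime (Nat.card T) := (Nat.Coprime.pow_left k R.tcop.symm)
    exact Nat.dvd_one.1 (hc ▸ Nat.dvd_gcd h2 h3)
  rw [orderOf_eq_one_iff, QuotientGroup.eq_one_iff, Subgroup.mem_subgroupOf] at h4
  exact h4

theorem not_neg_le_B [Finite W] (i : I) : ¬ X (-sr i) ≤ B cs h T X := by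
  intro hle
  apply R.notp i
  have h1 : X (-sr i) ≤ Sup X (Pos cs h) := by
    intro x hx
    have h2 := (R.pgrp' (isRoot_sr cs h i).neg) ⟨x, hx⟩
    obtain ⟨k, hk⟩ := h2
    exact R.mem_U_of_mem_B (hle hx) (k := k) (by simpa using congrArg Subtype.val hk)
  have h2 : X (sr i) ⊔ X (-sr i) ≤ Sup X (Pos cs h) :=
    sup_le (le_Sup (S := Pos cs h) ⟨isRoot_sr cs h i, sr_nonneg i⟩) h1
  exact R.isPGroup_Upos.to_le h2

/-- `B ∩ N = T`. -/
theorem eq_one_of_mem_B [Finite W] {w : W} {g : Y} (hg : Rp cs R.nsys w g) (hB : g ∈ B cs h T X) : w = 1 := by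
  have h0 : w⁻¹ = 1 := by
    apply eq_one_of_nonneg cs h
    intro i
    by_contra hcon
    have hroot : IsRoot cs h (rep cs h w⁻¹ (sr i)) := ⟨_, _, rfl⟩
    have h1 := (hroot.not_nonneg_iff_neg).1 hcon
    apply R.not_neg_le_B i
    intro x hx
    have h2 : g⁻¹ * x * g ∈ X (-rep cs h w⁻¹ (sr i)) := by
      have := R.conj_mem' hg (isRoot_sr cs h i).neg hx
      rwa [map_neg] at this
    have h3 : g⁻¹ * x * g ∈ B cs h T X := X_le_B hroot.neg h1 h2
    have h4 : x = g * (g⁻¹ * x * g) * g⁻¹ := by group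
    rw [h4]
    exact mul_mem (mul_mem hB h3) (inv_mem hB)
  exact inv_eq_one.1 h0

theorem B_inf_NN [Finite W] : B cs h T X ⊓ NN cs R.nsys = T := by
  apply le_antisymm
  · rintro g ⟨hB, w, hw⟩
    have := R.eq_one_of_mem_B hw hB
    subst this
    exact hw.mem_of_one
  · exact le_inf T_le_B (fun t ht => ⟨1, rp_of_mem ht⟩)

theorem sq_mem_T (i : I) : n i * n i ∈ T := by
  have := R.nsys.rel i i
  rwa [M.diagonal, pow_one] at this

/-- The double coset axiom. -/
theorem bn3 (i : I) {w : W} {g : Y} (hg : Rp cs R.nsys w g) {b : Y} (hb : b ∈ B cs h T X) :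
    n i * b * g ∈ DoubleCoset.doubleCoset (n i * g) (B cs h T X : Set Y) (B cs h T X) ∪
      DoubleCoset.doubleCoset g (B cs h T X : Set Y) (B cs h T X) := by
  obtain ⟨v, hv, u, hu, t, ht, rfl⟩ := R.mem_B' i hb
  -- the `V_i`-part and the `T`-part
  have hv' : n i * v * (n i)⁻¹ ∈ B cs h T X := by
    have h1 : n i * v * (n i)⁻¹ ∈ cj (n i) (Sup X (PosNe cs h i)) := conj_mem_cj.2 hv
    rw [R.cj_n_V i] at h1
    exact U_le_B (Sup_mono (S := PosNe cs h i) (S' := Pos cs h) (fun z hz => ⟨hz.1, hz.2.1⟩) h1)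
  have ht' : g⁻¹ * t * g ∈ B cs h T X := by
    have h1 := (mem_normalizer_iff_cj.1 hg.inv.mem_normalizer)
    have h2 : g⁻¹ * t * g⁻¹⁻¹ ∈ cj g⁻¹ T := conj_mem_cj.2 ht
    rw [h1, inv_inv] at h2
    exact T_le_B h2
  have e : n i * (v * u * t) * g = (n i * v * (n i)⁻¹) * (n i * u * g) * (g⁻¹ * t * g) := by group
  have hroot : IsRoot cs h (rep cs h w⁻¹ (sr i)) := ⟨_, _, rfl⟩
  have huB : u ∈ B cs h T X := X_le_B (isRoot_sr cs h i) (sr_nonneg i) hu
  -- the essential part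
  have key : (∃ b₁ ∈ B cs h T X, ∃ b₂ ∈ B cs h T X, n i * u * g = b₁ * (n i * g) * b₂) ∨
      (∃ b₁ ∈ B cs h T X, ∃ b₂ ∈ B cs h T X, n i * u * g = b₁ * g * b₂) := by
    by_cases hpos : 0 ≤ rep cs h w⁻¹ (sr i)
    · left
      refine ⟨1, one_mem _, g⁻¹ * u * g, X_le_B hroot hpos (R.conj_mem' hg (isRoot_sr cs h i) hu), ?_⟩
      group
    · have hneg := (hroot.not_nonneg_iff_neg).1 hpos
      by_cases hu1 : u = 1
      · left
        refine ⟨1, one_mem _, 1, one_mem _, ?_⟩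
        rw [hu1]; group
      · right
        have h1 : n i * u * (n i)⁻¹ ∈ X (-sr i) := by
          have := R.conj_mem (rp_simple cs R.nsys i) (isRoot_sr cs h i) hu
          rwa [rep_simple_sr] at this
        have h2 : n i * u * (n i)⁻¹ ≠ 1 := by
          intro h3
          apply hu1
          have h4 : u = (n i)⁻¹ * (n i * u * (n i)⁻¹) * n i := by group
          rw [h4, h3]; group
        obtain ⟨a, ha, s, hs, c, hc, e'⟩ := R.rk1 i _ h1 h2
        -- `n u = a s n c n`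
        have h3 : (n i)⁻¹ * c * n i ∈ X (-sr i) := by
          have := R.conj_mem' (rp_simple cs R.nsys i) (isRoot_sr cs h i) hc
          rwa [inv_simple, rep_simple_sr] at this
        have h4 : g⁻¹ * ((n i)⁻¹ * c * n i) * g ∈ B cs h T X := by
          have := R.conj_mem' hg (isRoot_sr cs h i).neg h3
          rw [map_neg] at this
          exact X_le_B hroot.neg hneg this
        refine ⟨a * s * (n i * n i), mul_mem (mul_mem (X_le_B (isRoot_sr cs h i) (sr_nonneg i) ha) (T_le_B hs))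
          (T_le_B (R.sq_mem_T i)), g⁻¹ * ((n i)⁻¹ * c * n i) * g, h4, ?_⟩
        have h5 : n i * u * g = (n i * u * (n i)⁻¹) * n i * g := by group
        rw [h5, e']
        group
  rw [e]
  rcases key with ⟨b₁, hb₁, b₂, hb₂, e'⟩ | ⟨b₁, hb₁, b₂, hb₂, e'⟩
  · left
    rw [DoubleCoset.mem_doubleCoset]
    refine ⟨n i * v * (n i)⁻¹ * b₁, mul_mem hv' hb₁, b₂ * (g⁻¹ * t * g), mul_mem hb₂ ht', ?_⟩
    rw [e']; group
  · right
    rw [DoubleCoset.mem_doubleCoset]
    refine ⟨n i * v * (n i)⁻¹ * b₁, mul_mem hv' hb₁, b₂ * (g⁻¹ * t * g), mul_mem hb₂ ht', ?_⟩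
    rw [e']; group

include h in
omit R in
theorem simple_ne {i j : I} (hij : i ≠ j) : cs.simple i ≠ cs.simple j := by
  intro he
  have h1 := rep_simple_sr cs h i
  rw [he] at h1
  have h2 := congrFun h1 i
  rw [rep_simple_apply cs h j _ i hij, Pi.neg_apply, sr_self] at h2
  exact absurd h2 (by decide)

theorem eq_of_inv_mul_mem [Finite W] {i j : I} (hm : (n i)⁻¹ * n j ∈ B cs h T X) : i = j := by
  by_contra hij
  have h1 := R.eq_one_of_mem_B ((rp_simple cs R.nsys i).inv.mul (rp_simple cs R.nsys j)) hm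
  rw [inv_mul_eq_one] at h1
  exact simple_ne (cs := cs) (h := h) hij h1

theorem n_injective [Finite W] : Function.Injective n := by
  intro i j hij
  apply R.eq_of_inv_mul_mem
  rw [hij, inv_mul_cancel]
  exact one_mem _

include h in
omit R in
theorem comm_ne {i j : I} (hij : i ≠ j) (h2 : M i j ≠ 2) :
    cs.simple i * cs.simple j * (cs.simple i)⁻¹ * (cs.simple j)⁻¹ ≠ 1 := by
  intro he
  have h0 : cs.simple i * cs.simple j = cs.simple j * cs.simple i := by
    rw [mul_inv_eq_one, mul_inv_eq_iff_eq_mul] at he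
    exact he
  have h1 : rep cs h (cs.simple i) (rep cs h (cs.simple j) (sr i)) = - rep cs h (cs.simple j) (sr i) := by
    rw [← rep_mul_apply, h0, rep_mul_apply, rep_simple_sr, map_neg]
  have h3 := congrFun h1 j
  rw [rep_simple_apply cs h i _ j hij.symm, Pi.neg_apply, rep_simple_apply_self, sr_ne hij.symm] at h3
  have h4 : pairing A j (sr i) = A j i := by
    rw [sr, pairing_single, mul_one]
  rw [h4] at h3
  have h5 := cartan_neg h hij.symm (by rwa [M.symmetric] )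
  omega

/-- **The (B,N)-pair of a root group datum.** -/
def bnPair [Finite W] (hgen : B cs h T X ⊔ NN cs R.nsys = ⊤) : BNPair Y where
  B := B cs h T X
  N := NN cs R.nsys
  S := Set.range n
  sup_eq_top := hgen
  conj_mem := by
    rintro g ⟨w, hw⟩ t ht
    rw [R.B_inf_NN] at ht
    have h1 := (mem_normalizer_iff_cj.1 hw.mem_normalizer)
    have h2 : g * t * g⁻¹ ∈ cj g T := conj_mem_cj.2 ht
    rw [h1] at h2
    exact T_le_B h2
  subset := by
    rintro _ ⟨i, rfl⟩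
    exact ⟨_, rp_simple cs R.nsys i⟩
  sq_mem := by
    rintro _ ⟨i, rfl⟩
    exact T_le_B (R.sq_mem_T i)
  inj := by
    rintro _ ⟨i, rfl⟩ _ ⟨j, rfl⟩ hm
    rw [R.eq_of_inv_mul_mem hm]
  closure_sup := by
    rw [R.B_inf_NN, NN_eq, sup_comm]
  mul_mem_union := by
    rintro _ ⟨i, rfl⟩ g ⟨w, hw⟩ b hb
    exact R.bn3 i hw hb
  conj_ne := by
    rintro _ ⟨i, rfl⟩ he
    apply R.not_neg_le_B i
    intro x hx
    have h1 : (n i)⁻¹ * x * n i ∈ B cs h T X := by
      have := R.conj_mem' (rp_simple cs R.nsys i) (isRoot_sr cs h i).neg hx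
      rw [inv_simple, map_neg, rep_simple_sr, neg_neg] at this
      exact X_le_B (isRoot_sr cs h i) (sr_nonneg i) this
    have h2 : n i * ((n i)⁻¹ * x * n i) * n i ∈ (B cs h T X : Set Y) := by
      rw [← he]
      exact ⟨_, h1, rfl⟩
    have h3 : x = n i * ((n i)⁻¹ * x * n i) * n i * (n i * n i)⁻¹ := by group
    rw [h3]
    exact mul_mem h2 (inv_mem (T_le_B (R.sq_mem_T i)))

theorem bnPair_rank [Finite W] (hgen : B cs h T X ⊔ NN cs R.nsys = ⊤) :
    (R.bnPair hgen).rank = Fintype.card I := by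
  change Nat.card (Set.range n) = _
  rw [Nat.card_congr (Equiv.ofInjective n R.n_injective).symm, Nat.card_eq_fintype_card]

theorem bnPair_irreducible [Finite W] (hgen : B cs h T X ⊔ NN cs R.nsys = ⊤)
    (hconn : ∀ J : Set I, J.Nonempty → J ≠ Set.univ → ∃ a ∈ J, ∃ b, b ∉ J ∧ M a b ≠ 2) :
    (R.bnPair hgen).Irreducible := by
  intro J hJ hJne hJc
  obtain ⟨_, hx⟩ := hJne
  obtain ⟨i, rfl⟩ := hJ hx
  obtain ⟨_, ⟨j, rfl⟩, hj⟩ := hJc
  obtain ⟨a, ha, b, hb, hab⟩ := hconn {k | n k ∈ J} ⟨i, hx⟩ (fun hu => hj (by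
    have : j ∈ {k | n k ∈ J} := by rw [hu]; trivial
    exact this))
  refine ⟨n a, ha, n b, ⟨⟨b, rfl⟩, hb⟩, ?_⟩
  intro hm
  have hne : a ≠ b := fun h0 => hb (h0 ▸ ha)
  have h1 := R.eq_one_of_mem_B ((((rp_simple cs R.nsys a).mul (rp_simple cs R.nsys b)).mul
    (rp_simple cs R.nsys a).inv).mul (rp_simple cs R.nsys b).inv) hm
  exact comm_ne (cs := cs) (h := h) hne hab h1

end RGD

end Cfsg.Agent.Nodes.BNOf
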