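import Mathlib
import Cfsg.Agent.Nodes.BNOf

/-!
Root group data: transport (project CIT, charts).

* `rgd_map` : the image under a homomorphism; `rgd_map_of_injective`, `rgd_map_of_ker_le_center`;
* `rgd_restrict` : restriction to a subgroup containing the root groups and the `n i`.
-/

set_option autoImplicit false
set_option linter.unusedSectionVars false

namespace Cfsg.Agent.Nodes.RGDLib

open CoxeterSystem Cfsg.Agent.ChevalleyStructure.CoxeterGeom Cfsg.Agent.Tits.Roots Cfsg.Agent.Tits.Core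
  Cfsg.Agent.Tits.RootComb Cfsg.Agent.Nodes.Comb Cfsg.Agent.Nodes.Reps Cfsg.Agent.Nodes.BNOf
open scoped commutatorElement

variable {I W Y Y' : Type*} [Fintype I] [DecidableEq I] [Group W] [Group Y] [Group Y'] {M : CoxeterMatrix I}
  {cs : CoxeterSystem M W} {A : I → I → ℤ} {h : IsCartan M A} {p : ℕ} {T : Subgroup Y} {n : I → Y}
  {X : (I → ℤ) → Subgroup Y}

/-! ### Images -/

theorem cj_map (f : Y →* Y') (g : Y) (K : Subgroup Y) : cj (f g) (K.map f) = (cj g K).map f := by
  ext x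
  unfold cj
  simp only [Subgroup.mem_map]
  constructor
  · rintro ⟨_, ⟨k, hk, rfl⟩, rfl⟩
    exact ⟨_, ⟨k, hk, rfl⟩, by simp⟩
  · rintro ⟨_, ⟨k, hk, rfl⟩, rfl⟩
    exact ⟨_, ⟨k, hk, rfl⟩, by simp⟩

theorem btw_map (f : Y →* Y') (x y : I → ℤ) :
    (btw cs h X x y).map f = btw cs h (fun z => (X z).map f) x y := by
  unfold Reps.btw
  rw [Subgroup.map_iSup]

theorem nsys_map (hN : NSys M T n) (f : Y →* Y') : NSys M (T.map f) (fun i => f (n i)) := by
  refine ⟨fun i => ?_, fun i j => ?_⟩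
  · rw [mem_normalizer_iff_cj, cj_map, mem_normalizer_iff_cj.1 (hN.norm i)]
  · rw [← map_mul, ← map_pow]
    exact Subgroup.mem_map_of_mem f (hN.rel i j)

/-- The image of a root group datum. -/
theorem rgd_map (R : RGD cs h p T n X) (f : Y →* Y')
    (hnp : ∀ i, ¬ IsPGroup p ↥((X (sr i) ⊔ X (-sr i)).map f)) :
    RGD cs h p (T.map f) (fun i => f (n i)) (fun x => (X x).map f) where
  nsys := nsys_map R.nsys f
  conj i x hx := by rw [cj_map, R.conj i x hx]
  tor x hx := by
    rintro _ ⟨t, ht, rfl⟩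
    rw [cj_map, R.tor x hx t ht]
  comm x y hx hy hxy hxy' := by
    rintro _ ⟨a, ha, rfl⟩ _ ⟨b, hb, rfl⟩
    rw [← btw_map, ← map_commutatorElement]
    exact Subgroup.mem_map_of_mem f (R.comm x y hx hy hxy hxy' a ha b hb)
  rk1 i := by
    rintro _ ⟨u, hu, rfl⟩ hne
    have hu1 : u ≠ 1 := by rintro rfl; exact hne (map_one f)
    obtain ⟨a, ha, t, ht, b, hb, e⟩ := R.rk1 i u hu hu1
    exact ⟨f a, Subgroup.mem_map_of_mem f ha, f t, Subgroup.mem_map_of_mem f ht, f b,
      Subgroup.mem_map_of_mem f hb, by rw [e]; simp only [map_mul]⟩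
  pgrp i := (R.pgrp i).map f
  notp i := by rw [← Subgroup.map_sup]; exact hnp i
  tcop := Nat.Coprime.coprime_dvd_left (Subgroup.card_map_dvd T f) R.tcop

theorem rgd_map_of_injective (R : RGD cs h p T n X) (f : Y →* Y') (hf : Function.Injective f) :
    RGD cs h p (T.map f) (fun i => f (n i)) (fun x => (X x).map f) := by
  refine rgd_map R f fun i hp => R.notp i ?_
  exact hp.of_equiv ((X (sr i) ⊔ X (-sr i)).equivMapOfInjective f hf).symm

/-- A finite group generated by two `p`-subgroups whose image under a homomorphism with central kernel is a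
`p`-group is a `p`-group. -/
theorem isPGroup_of_map [Finite Y] {p : ℕ} [Fact p.Prime] {P Q : Subgroup Y} (hP : IsPGroup p P)
    (hQ : IsPGroup p Q) (f : Y →* Y') (hf : f.ker ≤ Subgroup.center Y) (hp : IsPGroup p ↥((P ⊔ Q).map f)) :
    IsPGroup p ↥(P ⊔ Q) := by
  set K : Subgroup Y := P ⊔ Q with hK
  have hnil : Group.IsNilpotent ↥(K.map f) := by
    have : Finite ↥(K.map f) := Finite.of_surjective _ (f.subgroupMap_surjective K)
    exact hp.isNilpotent
  have hnilK : Group.IsNilpotent ↥K := by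
    refine Subgroup.isNilpotent_of_ker_le_center (f.subgroupMap K) ?_
    intro x hx
    rw [Subgroup.mem_center_iff]
    intro y
    have h1 : (x : Y) ∈ f.ker := by
      rw [MonoidHom.mem_ker] at hx ⊢
      exact congrArg Subtype.val hx
    exact Subtype.ext (Subgroup.mem_center_iff.1 (hf h1) y)
  let S : Sylow p ↥K := default
  have hSn : (S : Subgroup ↥K).Normal := by
    have := (Group.isNilpotent_of_finite_tfae (G := ↥K)).out 0 3
    exact this.1 hnilK p inferInstance S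
  have hPS : ∀ R : Subgroup Y, IsPGroup p R → R ≤ K → R.subgroupOf K ≤ (S : Subgroup ↥K) := by
    intro R hR hRK
    have h1 : IsPGroup p ↥(R.subgroupOf K) := hR.of_equiv (Subgroup.subgroupOfEquivOfLe hRK).symm
    have h2 : IsPGroup p ↥(R.subgroupOf K ⊔ (S : Subgroup ↥K)) := IsPGroup.to_sup_of_normal_right h1 S.isPGroup'
    have h3 := S.is_maximal' h2 le_sup_right
    rw [← h3]
    exact le_sup_left
  have htop : (S : Subgroup ↥K) = ⊤ := by
    rw [eq_top_iff]
    have h1 : P.subgroupOf K ⊔ Q.subgroupOf K = ⊤ := by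
      rw [← Subgroup.subgroupOf_sup le_sup_left le_sup_right, Subgroup.subgroupOf_self]
    rw [← h1]
    exact sup_le (hPS P hP le_sup_left) (hPS Q hQ le_sup_right)
  have h1 := S.isPGroup'
  rw [htop] at h1
  exact h1.of_equiv Subgroup.topEquiv

theorem rgd_map_of_ker_le_center [Finite Y] [Finite W] [Fact p.Prime] (R : RGD cs h p T n X) (f : Y →* Y')
    (hf : f.ker ≤ Subgroup.center Y) :
    RGD cs h p (T.map f) (fun i => f (n i)) (fun x => (X x).map f) := by
  refine rgd_map R f fun i hp => R.notp i ?_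
  exact isPGroup_of_map (R.pgrp i) (R.pgrp' (isRoot_sr cs h i).neg) f hf hp

/-! ### Restriction to a subgroup -/

theorem cj_subgroupOf {K : Subgroup Y} (g : K) {B : Subgroup Y} :
    cj g (B.subgroupOf K) = (cj (g : Y) B).subgroupOf K := by
  ext x
  rw [mem_cj, Subgroup.mem_subgroupOf, Subgroup.mem_subgroupOf, mem_cj]
  rfl

theorem iSup_subgroupOf {ι : Sort*} {K : Subgroup Y} (B : ι → Subgroup Y) (hB : ∀ i, B i ≤ K) :
    (⨆ i, B i).subgroupOf K = ⨆ i, (B i).subgroupOf K := by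
  apply Subgroup.map_injective K.subtype_injective
  rw [Subgroup.subgroupOf_map_subtype, Subgroup.map_iSup, inf_eq_left.2 (iSup_le hB)]
  exact iSup_congr fun i => by rw [Subgroup.subgroupOf_map_subtype, inf_eq_left.2 (hB i)]

theorem rgd_restrict (R : RGD cs h p T n X) (K : Subgroup Y) (hX : ∀ x, IsRoot cs h x → X x ≤ K)
    (hn : ∀ i, n i ∈ K) :
    RGD cs h p (T.subgroupOf K) (fun i => ⟨n i, hn i⟩) (fun x => (X x).subgroupOf K) where
  nsys := by
    refine ⟨fun i => ?_, fun i j => ?_⟩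
    · rw [mem_normalizer_iff_cj, cj_subgroupOf]
      exact congrArg (fun S => Subgroup.subgroupOf S K) (mem_normalizer_iff_cj.1 (R.nsys.norm i))
    · rw [Subgroup.mem_subgroupOf]
      exact R.nsys.rel i j
  conj i x hx := by
    rw [cj_subgroupOf]
    exact congrArg (fun S => Subgroup.subgroupOf S K) (R.conj i x hx)
  tor x hx t ht := by
    rw [cj_subgroupOf]
    exact congrArg (fun S => Subgroup.subgroupOf S K) (R.tor x hx t ht)
  comm x y hx hy hxy hxy' a ha b hb := by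
    have h1 := R.comm x y hx hy hxy hxy' a ha b hb
    unfold Reps.btw at h1 ⊢
    rw [← iSup_subgroupOf (K := K) (fun z : {z : I → ℤ // Btwn cs h x y z} => X z.1) (fun z => hX z.1 z.2.1)]
    exact h1
  rk1 i u hu hne := by
    obtain ⟨a, ha, t, ht, b, hb, e⟩ := R.rk1 i u hu (fun h0 => hne (Subtype.ext h0))
    have haK : a ∈ K := hX _ (isRoot_sr cs h i) ha
    have hbK : b ∈ K := hX _ (isRoot_sr cs h i) hb
    have htK : t ∈ K := by
      have : t = a⁻¹ * u * b⁻¹ * (n i)⁻¹ := by rw [e]; group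
      rw [this]
      exact mul_mem (mul_mem (mul_mem (inv_mem haK) u.2) (inv_mem hbK)) (inv_mem (hn i))
    exact ⟨⟨a, haK⟩, ha, ⟨t, htK⟩, ht, ⟨b, hbK⟩, hb, Subtype.ext e⟩
  pgrp i := (R.pgrp i).of_equiv (Subgroup.subgroupOfEquivOfLe (hX _ (isRoot_sr cs h i))).symm
  notp i hp := by
    have h1 : X (sr i) ≤ K := hX _ (isRoot_sr cs h i)
    have h2 : X (-sr i) ≤ K := hX _ (isRoot_sr cs h i).neg
    apply R.notp i
    rw [← Subgroup.subgroupOf_sup h1 h2] at hp
    exact hp.of_equiv (Subgroup.subgroupOfEquivOfLe (sup_le h1 h2))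
  tcop := by
    refine Nat.Coprime.coprime_dvd_left ?_ R.tcop
    have h1 : Nat.card (T.subgroupOf K) = Nat.card ↥((T.subgroupOf K).map K.subtype) :=
      Nat.card_congr ((T.subgroupOf K).equivMapOfInjective K.subtype K.subtype_injective).toEquiv
    rw [h1, Subgroup.subgroupOf_map_subtype]
    exact Subgroup.card_dvd_of_le inf_le_left

/-- The group generated by all root groups. -/
def G1 (cs : CoxeterSystem M W) (h : IsCartan M A) (X : (I → ℤ) → Subgroup Y) : Subgroup Y :=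
  RGD.Sup X {x | IsRoot cs h x}

theorem X_le_G1 {x : I → ℤ} (hx : IsRoot cs h x) : X x ≤ G1 cs h X := RGD.le_Sup hx

/-- `B` and `N` generate a group containing all root groups. -/
theorem rgd_G1_le (R : RGD cs h p T n X) : G1 cs h X ≤ RGD.B cs h T X ⊔ NN cs R.nsys := by
  refine RGD.Sup_le ?_
  rintro _ ⟨w, i, rfl⟩
  obtain ⟨g, hg⟩ := exists_rp cs R.nsys w
  intro x hx
  have h1 := R.conj_mem' hg ⟨w, i, rfl⟩ hx
  rw [rep_inv_apply] at h1
  have h2 : g⁻¹ * x * g ∈ RGD.B cs h T X ⊔ NN cs R.nsys :=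
    (le_sup_left : RGD.B cs h T X ≤ _) (RGD.X_le_B (isRoot_sr cs h i) (sr_nonneg i) h1)
  have h3 : g ∈ RGD.B cs h T X ⊔ NN cs R.nsys := (le_sup_right : NN cs R.nsys ≤ _) ⟨w, hg⟩
  have h4 : x = g * (g⁻¹ * x * g) * g⁻¹ := by group
  rw [h4]
  exact mul_mem (mul_mem h3 h2) (inv_mem h3)

/-- If all root groups generate the whole group then so do `B` and `N`. -/
theorem rgd_gen_of_G1 (R : RGD cs h p T n X) (hG : G1 cs h X = ⊤) : RGD.B cs h T X ⊔ NN cs R.nsys = ⊤ :=
  top_le_iff.1 (hG ▸ rgd_G1_le R)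

/-- If the `n i` lie in the groups `⟨X_i, X_{-i}⟩` then these generate `G1`. -/
theorem rgd_G1_eq (R : RGD cs h p T n X) (hn : ∀ i, n i ∈ ⨆ j, (X (sr j) ⊔ X (-sr j))) :
    G1 cs h X = ⨆ j, (X (sr j) ⊔ X (-sr j)) := by
  apply le_antisymm
  · refine RGD.Sup_le ?_
    rintro _ ⟨w, i, rfl⟩
    obtain ⟨g, hgc, hg⟩ := exists_rp_closure (cs := cs) (hN := R.nsys) w
    intro x hx
    have h1 := R.conj_mem' hg ⟨w, i, rfl⟩ hx
    rw [rep_inv_apply] at h1
    have h2 : g⁻¹ * x * g ∈ ⨆ j, (X (sr j) ⊔ X (-sr j)) :=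
      le_trans le_sup_left (le_iSup (fun j => X (sr j) ⊔ X (-sr j)) i) h1
    have h3 : g ∈ ⨆ j, (X (sr j) ⊔ X (-sr j)) := by
      refine (Subgroup.closure_le _).2 ?_ hgc
      rintro _ ⟨j, rfl⟩
      exact hn j
    have h4 : x = g * (g⁻¹ * x * g) * g⁻¹ := by group
    rw [h4]
    exact mul_mem (mul_mem h3 h2) (inv_mem h3)
  · refine iSup_le fun j => sup_le (X_le_G1 (isRoot_sr cs h j)) (X_le_G1 (isRoot_sr cs h j).neg)

end Cfsg.Agent.Nodes.RGDLib
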