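import Mathlib
import Cfsg.Agent.Nodes.RGDLib

/-!
# Charts (project CIT)

* `Cls` : the classical ("long") root groups `Z r`, `r ∈ R`, of a root group datum `RGD` and the involutions `z r` of
  the groups `⟨Z r, Z (-r)⟩`;
* `Chart Om p L` : a chart of the subgroup `L` of `G` with respect to the class `Om` of classical subgroups.
-/

set_option autoImplicit false
set_option linter.unusedSectionVars false
set_option linter.dupNamespace false

namespace Cfsg.Agent.Nodes.Chart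

open CoxeterSystem Cfsg.Agent.ChevalleyStructure.CoxeterGeom Cfsg.Agent.Tits.Roots Cfsg.Agent.Tits.Core
  Cfsg.Agent.Tits.RootComb Cfsg.Agent.Nodes.Comb Cfsg.Agent.Nodes.Reps Cfsg.Agent.Nodes.BNOf
  Cfsg.Agent.Nodes.RGDLib
open scoped commutatorElement

variable {I W Y : Type*} [Fintype I] [DecidableEq I] [Group W] [Fintype W] [Group Y] {M : CoxeterMatrix I}

/-- Classical root groups `Z r ≤ X r` (`r ∈ R`) of a root group datum, with the involutions `z r` of `⟨Z r, Z (-r)⟩`.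
For the groups with abelian long root groups `Z r = X r`, `R` = the long roots; for `SU_{2n+1}(q)` (`X r` the root
groups of order `q³`) `Z r` is the centre of `X r`. -/
structure Cls (cs : CoxeterSystem M W) {A : I → I → ℤ} (h : IsCartan M A) (p : ℕ) (T : Subgroup Y) (n : I → Y)
    (X : (I → ℤ) → Subgroup Y) (R : Set (I → ℤ)) (Z : (I → ℤ) → Subgroup Y) (z : (I → ℤ) → Y) : Prop where
  rgd : RGD cs h p T n X
  root : ∀ r ∈ R, IsRoot cs h r
  act : ∀ r ∈ R, ∀ w, rep cs h w r ∈ R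
  le : ∀ r ∈ R, Z r ≤ X r
  ne_bot : ∀ r ∈ R, Z r ≠ ⊥
  conj : ∀ i, ∀ r ∈ R, cj (n i) (Z r) = Z (rep cs h (cs.simple i) r)
  tor : ∀ r ∈ R, ∀ t ∈ T, cj t (Z r) = Z r
  /-- `Z r` is centralised by all root groups `X y` with `(y, r) ≥ 0` (the case `y = r` included) -/
  cent : ∀ r ∈ R, ∀ y, IsRoot cs h y → 0 ≤ form cs h y r → ∀ a ∈ X y, ∀ b ∈ Z r, a * b = b * a
  notp : ∀ r ∈ R, ¬ IsPGroup p ↥(Z r ⊔ Z (-r))
  /-- the involutions -/
  z_mem : ∀ r ∈ R, z r ∈ Z r ⊔ Z (-r)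
  z_torus : ∀ r ∈ R, z r ∈ T
  z_T : ∀ r ∈ R, ∀ t ∈ T, z r * t = t * z r
  z_sq : ∀ r ∈ R, z r * z r = 1
  z_conj : ∀ i, ∀ r ∈ R, n i * z r * (n i)⁻¹ = z (rep cs h (cs.simple i) r)
  z_neg : ∀ r ∈ R, z (-r) = z r
  z_cent : ∀ r ∈ R, ∀ b ∈ Z r, z r * b = b * z r
  /-- `z r` inverts all root groups `X y`, `y ≠ ± r`, not orthogonal to `r` -/
  z_inv : ∀ r ∈ R, ∀ y, IsRoot cs h y → y ≠ r → y ≠ -r → form cs h y r ≠ 0 → ∀ a ∈ X y, z r * a * z r = a⁻¹
  /-- and it inverts `X r` modulo `Z r` -/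
  z_inv_self : ∀ r ∈ R, ∀ a ∈ X r, z r * a * z r * a ∈ Z r

/-- A chart of the subgroup `L` of `G`: an irreducible root group datum (finite Weyl group) whose root groups generate
`L`, with classical root groups such that `Om ∩ L` consists of the `L`-conjugates of the `K_r = ⟨Z r, Z (-r)⟩`. -/
structure Chart {G : Type*} [Group G] (Om : Set (Subgroup G)) (p : ℕ) (L : Subgroup G) where
  prime : p.Prime
  odd : p ≠ 2
  I : Type
  W : Type
  [instI : Fintype I]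
  [instD : DecidableEq I]
  [instG : Group W]
  [instW : Fintype W]
  M : CoxeterMatrix I
  cs : CoxeterSystem M W
  A : I → I → ℤ
  h : IsCartan M A
  T : Subgroup G
  n : I → G
  X : (I → ℤ) → Subgroup G
  R : Set (I → ℤ)
  Z : (I → ℤ) → Subgroup G
  z : (I → ℤ) → G
  cls : Cls cs h p T n X R Z z
  /-- irreducible, not empty -/
  irr : ∀ J : Set I, J.Nonempty → J ≠ Set.univ → ∃ a ∈ J, ∃ b, b ∉ J ∧ M a b ≠ 2
  ne : Nonempty I
  T_le : T ≤ L
  gen : G1 cs h X = L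
  /-- all classical roots are conjugate -/
  trans : ∀ r ∈ R, ∀ s ∈ R, ∃ w, s = rep cs h w r
  Rne : R.Nonempty
  om : ∀ r ∈ R, Z r ⊔ Z (-r) ∈ Om
  om_conj : ∀ K ∈ Om, K ≤ L → ∃ r ∈ R, ∃ g ∈ L, K = cj g (Z r ⊔ Z (-r))

attribute [instance] Chart.instI Chart.instD Chart.instG Chart.instW

end Cfsg.Agent.Nodes.Chart
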