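import Mathlib
import Cfsg.Agent.Nodes.Reps
import Cfsg.Agent.Tits.Exchange

/-!
Combinatorics of finite crystallographic root systems for the chart library (project CIT): parabolic subsystems,
positive systems of chambers, the longest element, stabilisers of dominant vectors.
-/

set_option autoImplicit false
set_option linter.unusedSectionVars false

namespace Cfsg.Agent.Nodes.StabComb

open CoxeterSystem Cfsg.Agent.ChevalleyStructure.CoxeterGeom Cfsg.Agent.Tits.Roots Cfsg.Agent.Tits.Core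
  Cfsg.Agent.Tits.RootComb Cfsg.Agent.Tits.Exchange Cfsg.Agent.Nodes.Comb Cfsg.Agent.Nodes.Reps

variable {I W : Type*} [Fintype I] [DecidableEq I] [Group W] {M : CoxeterMatrix I} (cs : CoxeterSystem M W)
  {A : I → I → ℤ} (h : IsCartan M A)

/-- the positive roots of the parabolic subsystem of `J` -/
def PosJ (J : Set I) : Set (I → ℤ) := {x | IsRoot cs h x ∧ 0 ≤ x ∧ ∀ k, k ∉ J → x k = 0}

/-- the positive roots outside the parabolic subsystem of `J` -/
def NotJ (J : Set I) : Set (I → ℤ) := {x | IsRoot cs h x ∧ 0 ≤ x ∧ ∃ k, k ∉ J ∧ 0 < x k}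

/-- the roots of the parabolic subsystem of `J` -/
def RootsJ (J : Set I) : Set (I → ℤ) := {x | IsRoot cs h x ∧ ∀ k, k ∉ J → x k = 0}

/-- the positive roots made positive by `w` -/
def PW (w : W) : Set (I → ℤ) := {x | IsRoot cs h x ∧ 0 ≤ x ∧ 0 ≤ rep cs h w x}

variable {cs h}

theorem mem_PosJ_or_NotJ (J : Set I) {x : I → ℤ} (hx : IsRoot cs h x) (h0 : 0 ≤ x) :
    x ∈ PosJ cs h J ∨ x ∈ NotJ cs h J := by
  by_cases hk : ∃ k, k ∉ J ∧ 0 < x k
  · exact Or.inr ⟨hx, h0, hk⟩
  · left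
    push Not at hk
    exact ⟨hx, h0, fun k hkJ => le_antisymm (hk k hkJ) (h0 k)⟩

theorem PosJ_subset (J : Set I) : PosJ cs h J ⊆ RootsJ cs h J := fun _ hx => ⟨hx.1, hx.2.2⟩

theorem RootsJ_univ : RootsJ cs h Set.univ = {x | IsRoot cs h x} := by
  ext x
  exact ⟨fun hx => hx.1, fun hx => ⟨hx, fun k hk => absurd (Set.mem_univ k) hk⟩⟩

theorem RootsJ.neg {J : Set I} {x : I → ℤ} (hx : x ∈ RootsJ cs h J) : -x ∈ RootsJ cs h J :=
  ⟨hx.1.neg, fun k hk => by rw [Pi.neg_apply, hx.2 k hk, neg_zero]⟩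

theorem sr_mem_PosJ {J : Set I} {i : I} (hi : i ∈ J) : sr i ∈ PosJ cs h J :=
  ⟨isRoot_sr cs h i, sr_nonneg i, fun k hk => sr_ne (by rintro rfl; exact hk hi)⟩

theorem sr_mem_NotJ {J : Set I} {i : I} (hi : i ∉ J) : sr i ∈ NotJ cs h J :=
  ⟨isRoot_sr cs h i, sr_nonneg i, i, hi, by rw [sr_self]; exact one_pos⟩

/-- elements of `W_J` preserve the roots of `J` -/
theorem RootsJ.act {J : Set I} {w : W} (hw : w ∈ WJ cs J) {x : I → ℤ} (hx : x ∈ RootsJ cs h J) :
    rep cs h w x ∈ RootsJ cs h J :=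
  ⟨hx.1.act w, fun k hk => by rw [rep_apply_of_mem cs h hw x hk]; exact hx.2 k hk⟩

/-- elements of `W_J` preserve the positive roots outside `J` -/
theorem NotJ.act {J : Set I} {w : W} (hw : w ∈ WJ cs J) {x : I → ℤ} (hx : x ∈ NotJ cs h J) :
    rep cs h w x ∈ NotJ cs h J := by
  obtain ⟨hr, h0, k, hk, hk0⟩ := hx
  have h1 : 0 < rep cs h w x k := by rw [rep_apply_of_mem cs h hw x hk]; exact hk0
  refine ⟨hr.act w, ?_, k, hk, h1⟩
  rcases (hr.act w).pos_or_neg with h2 | h2
  · exact h2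
  · exact absurd (h2 k) (not_le.2 h1)

theorem nonneg_of_pos_apply {x : I → ℤ} (hx : IsRoot cs h x) {k : I} (hk : 0 < x k) : 0 ≤ x := by
  rcases hx.pos_or_neg with h1 | h1
  · exact h1
  · exact absurd (h1 k) (not_le.2 hk)

theorem sum_pos {x : I → ℤ} (h0 : 0 ≤ x) (hx : x ≠ 0) : 0 < ht x := by
  unfold ht
  have h1 : ∃ i ∈ Finset.univ, 0 < x i := by
    by_contra hcon
    push Not at hcon
    exact hx (funext fun i => le_antisymm (hcon i (Finset.mem_univ i)) (h0 i))
  exact Finset.sum_pos' (fun i _ => h0 i) h1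

/-- a positive root of `J` is conjugate under `W_J` to a simple root of `J` -/
theorem exists_of_mem_PosJ [Finite W] {J : Set I} (n : ℕ) : ∀ x ∈ PosJ cs h J, ht x ≤ n →
    ∃ w ∈ WJ cs J, ∃ j ∈ J, x = rep cs h w (sr j) := by
  have := Fintype.ofFinite W
  induction n with
  | zero =>
    rintro x ⟨hx, h0, -⟩ hn
    have := sum_pos h0 hx.ne_zero
    omega
  | succ n ih =>
    rintro x ⟨hx, h0, hJ⟩ hn
    obtain ⟨i, hi0, hi⟩ := exists_pairing_pos cs h h0 hx.ne_zero
    have hiJ : i ∈ J := by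
      by_contra hiJ
      have := hJ i hiJ
      omega
    by_cases hxi : x = sr i
    · exact ⟨1, one_mem _, i, hiJ, by rw [map_one, Module.End.one_apply]; exact hxi⟩
    have h1 : rep cs h (cs.simple i) x ∈ PosJ cs h J :=
      ⟨hx.act _, hx.simple_nonneg h0 i hxi, fun k hk => by
        rw [rep_simple_apply cs h i x k (by rintro rfl; exact hk hiJ)]
        exact hJ k hk⟩
    obtain ⟨w, hw, j, hj, e⟩ := ih _ h1 (by rw [ht_simple]; push_cast at hn; omega)
    refine ⟨cs.simple i * w, mul_mem (simple_mem_WJ cs hiJ) hw, j, hj, ?_⟩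
    rw [rep_mul_apply, ← e, ← rep_mul_apply, simple_mul_simple_self, map_one, Module.End.one_apply]

/-- a root of `J` is conjugate under `W_J` to a simple root of `J` -/
theorem exists_of_mem_RootsJ [Finite W] {J : Set I} {x : I → ℤ} (hx : x ∈ RootsJ cs h J) :
    ∃ w ∈ WJ cs J, ∃ j ∈ J, x = rep cs h w (sr j) := by
  rcases hx.1.pos_or_neg with h1 | h1
  · exact exists_of_mem_PosJ (ht x).toNat x ⟨hx.1, h1, hx.2⟩ (by
      have := sum_pos h1 hx.1.ne_zero
      omega)
  · have hx' := RootsJ.neg hx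
    have h2 : (0 : I → ℤ) ≤ -x := neg_nonneg.2 h1
    obtain ⟨w, hw, j, hj, e⟩ := exists_of_mem_PosJ (ht (-x)).toNat (-x) ⟨hx'.1, h2, hx'.2⟩ (by
      have := sum_pos h2 hx'.1.ne_zero
      omega)
    refine ⟨w * cs.simple j, mul_mem hw (simple_mem_WJ cs hj), j, hj, ?_⟩
    rw [rep_mul_apply, rep_simple_sr, map_neg, ← e, neg_neg]

/-! ### the longest elements -/

/-- the longest element of `W_J` makes the positive roots of `J` negative -/
theorem rep_longest_nonpos [Finite W] {J : Set I} {w : W} (hw : IsLongest cs J w) {x : I → ℤ}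
    (hx : x ∈ PosJ cs h J) : rep cs h w x ≤ 0 := by
  have h1 : ∀ j ∈ J, rep cs h w (sr j) ≤ 0 := by
    intro j hj
    refine nonpos_of_lt cs h w j ?_
    have h2 := (hw.2 _ (simple_mem_WJ cs hj)).1
    rw [cs.length_simple] at h2
    omega
  have h2 : x = ∑ k, x k • sr k := by
    funext k
    rw [Finset.sum_apply, Finset.sum_eq_single k (fun b _ hb => by
      rw [Pi.smul_apply, sr_ne hb.symm, smul_zero]) (by simp), Pi.smul_apply, sr_self, smul_eq_mul, mul_one]
  rw [h2, map_sum]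
  refine Finset.sum_nonpos fun k _ => ?_
  rw [map_smul]
  by_cases hk : k ∈ J
  · exact smul_nonpos_of_nonneg_of_nonpos (hx.2.1 k) (h1 k hk)
  · rw [hx.2.2 k hk, zero_smul]

theorem rep_w0_nonpos [Finite W] {x : I → ℤ} (hx : IsRoot cs h x) (h0 : 0 ≤ x) : rep cs h (w0 cs) x ≤ 0 :=
  rep_longest_nonpos (isLongest_w0 cs) ⟨hx, h0, fun k hk => absurd (Set.mem_univ k) hk⟩

theorem rep_w0_nonneg [Finite W] {x : I → ℤ} (hx : IsRoot cs h x) (h0 : x ≤ 0) : 0 ≤ rep cs h (w0 cs) x := by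
  have := rep_w0_nonpos hx.neg (neg_nonneg.2 h0)
  rw [map_neg] at this
  exact neg_nonpos.1 this

theorem PW_w0 [Finite W] : PW cs h (w0 cs) = ∅ := by
  rw [Set.eq_empty_iff_forall_notMem]
  rintro x ⟨hx, h0, h1⟩
  have h2 := rep_w0_nonpos hx h0
  exact (hx.act (w0 cs)).not_pos_neg h1 h2

theorem PW_one : PW cs h 1 = {x | IsRoot cs h x ∧ 0 ≤ x} := by
  ext x
  constructor
  · exact fun hx => ⟨hx.1, hx.2.1⟩
  · exact fun hx => ⟨hx.1, hx.2, by rw [map_one, Module.End.one_apply]; exact hx.2⟩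

/-! ### rational cones -/

theorem btwn_apply_nonneg {x y z : I → ℤ} (hz : Btwn cs h x y z) {k : I} (hx : 0 ≤ x k) (hy : 0 ≤ y k) :
    0 ≤ z k := by
  obtain ⟨-, m, a, b, hm, ha, hb, e⟩ := hz
  have h1 := congrFun e k
  simp only [Pi.add_apply, Pi.smul_apply, smul_eq_mul] at h1
  have h2 : 0 ≤ m * z k := by rw [h1]; positivity
  exact nonneg_of_mul_nonneg_right h2 hm

theorem btwn_apply_pos {x y z : I → ℤ} (hz : Btwn cs h x y z) {k : I} (hx : 0 < x k) (hy : 0 ≤ y k) :
    0 < z k := by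
  obtain ⟨-, m, a, b, hm, ha, hb, e⟩ := hz
  have h1 := congrFun e k
  simp only [Pi.add_apply, Pi.smul_apply, smul_eq_mul] at h1
  have h2 : 0 < m * z k := by rw [h1]; positivity
  exact pos_of_mul_pos_right h2 hm.le

theorem btwn_nonneg {x y z : I → ℤ} (hz : Btwn cs h x y z) (hx : 0 ≤ x) (hy : 0 ≤ y) : 0 ≤ z :=
  fun k => btwn_apply_nonneg hz (hx k) (hy k)

theorem btwn_apply_zero {x y z : I → ℤ} (hz : Btwn cs h x y z) {k : I} (hx : x k = 0) (hy : y k = 0) :
    z k = 0 := by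
  obtain ⟨-, m, a, b, hm, ha, hb, e⟩ := hz
  have h1 := congrFun e k
  simp only [Pi.add_apply, Pi.smul_apply, smul_eq_mul, hx, hy, mul_zero, add_zero] at h1
  rcases mul_eq_zero.1 h1 with h2 | h2
  · omega
  · exact h2

theorem exists_coeff {x : I → ℤ} (hx : IsRoot cs h x) (h0 : 0 ≤ x) {i : I} (hi : x ≠ sr i) :
    ∃ k, k ≠ i ∧ 0 < x k := by
  by_contra hcon
  push Not at hcon
  exact hi (hx.eq_sr h0 i fun k hk => le_antisymm (hcon k hk) (h0 k))

/-- a root strictly between a positive `x` and a positive root `y ≠ α_i` is not `α_i` -/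
theorem btwn_ne_sr {x y z : I → ℤ} (hz : Btwn cs h x y z) (hx : 0 ≤ x) (hy : IsRoot cs h y) (hy0 : 0 ≤ y) {i : I}
    (hi : y ≠ sr i) : z ≠ sr i := by
  obtain ⟨k, hk, hk0⟩ := exists_coeff hy hy0 hi
  have h1 := btwn_apply_pos hz.symm hk0 (hx k)
  rintro rfl
  rw [sr_ne hk] at h1
  exact absurd h1 (lt_irrefl _)

/-- a root between `x` and `y` is different from `y`, if `x` is not proportional to `y` -/
theorem btwn_pos {x y z : I → ℤ} (hz : Btwn cs h x y z) (f : (I → ℤ) →ₗ[ℤ] ℤ) (hx : 0 ≤ f x) (hy : 0 ≤ f y) :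
    0 ≤ f z := by
  obtain ⟨-, m, a, b, hm, ha, hb, e⟩ := hz
  have h1 := congrArg f e
  simp only [map_add, map_smul, smul_eq_mul] at h1
  have h2 : 0 ≤ m * f z := by rw [h1]; positivity
  exact nonneg_of_mul_nonneg_right h2 hm

/-! ### dominant vectors -/

/-- the simple roots orthogonal to `r` -/
def orth (cs : CoxeterSystem M W) (h : IsCartan M A) (r : I → ℤ) : Set I := {i | rep cs h (cs.simple i) r = r}

theorem mem_orth {r : I → ℤ} {i : I} : i ∈ orth cs h r ↔ pairing A i r = 0 := by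
  change rep cs h (cs.simple i) r = r ↔ _
  rw [rep_simple_eq]
  constructor
  · intro h1
    have h2 := congrFun h1 i
    rw [Pi.sub_apply, Pi.smul_apply, sr_self, smul_eq_mul, mul_one] at h2
    omega
  · intro h1
    rw [h1, zero_smul, sub_zero]

theorem rep_of_mem_WJ_orth {r : I → ℤ} {w : W} (hw : w ∈ WJ cs (orth cs h r)) : rep cs h w r = r := by
  unfold WJ at hw
  induction hw using Subgroup.closure_induction with
  | mem w hw => obtain ⟨i, hi, rfl⟩ := hw; exact hi
  | one => rw [map_one, Module.End.one_apply]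
  | mul v w _ _ ih1 ih2 => rw [rep_mul_apply, ih2, ih1]
  | inv w _ ih => conv_lhs => rw [← ih]
                  rw [rep_inv_apply]

/-- the stabiliser of a dominant vector is parabolic -/
theorem mem_WJ_of_rep [Finite W] {r : I → ℤ} (hr : Dom A r) : ∀ {w : W}, rep cs h w r = r →
    w ∈ WJ cs (orth cs h r) := by
  have := Fintype.ofFinite W
  intro w
  induction hn : cs.length w using Nat.strong_induction_on generalizing w with
  | _ N ih =>
  intro hw
  by_cases hw1 : w = 1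
  · rw [hw1]; exact one_mem _
  obtain ⟨i, hi⟩ := cs.exists_rightDescent_of_ne_one hw1
  have hi' : cs.length (w * cs.simple i) < cs.length w := hi
  have hneg : rep cs h w (sr i) ≤ 0 := nonpos_of_lt cs h w i hi'
  have h1 : 0 ≤ form cs h r (sr i) := form_nonneg_of_dom cs h hr (sr_nonneg i)
  have h2 : form cs h r (sr i) = form cs h r (rep cs h w (sr i)) := by
    conv_rhs => rw [← hw]
    rw [form_rep]
  have h3 : 0 ≤ form cs h r (-rep cs h w (sr i)) := form_nonneg_of_dom cs h hr (neg_nonneg.2 hneg)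
  rw [form_neg_right, ← h2] at h3
  have h4 : form cs h r (sr i) = 0 := by omega
  have h5 : pairing A i r = 0 := by
    have h6 := (form_sr_nonneg_iff cs h i r).1 h4.ge
    by_contra h7
    have h8 : 0 < pairing A i r := lt_of_le_of_ne h6 (Ne.symm h7)
    have := (form_sr_pos_iff cs h i r).2 h8
    omega
  have hio : i ∈ orth cs h r := mem_orth.2 h5
  have h6 := ih _ (by omega) (w := w * cs.simple i) rfl (by
    rw [rep_mul_apply, show rep cs h (cs.simple i) r = r from hio, hw])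
  have h7 : w = w * cs.simple i * cs.simple i := by rw [mul_assoc, simple_mul_simple_self, mul_one]
  rw [h7]
  exact mul_mem h6 (simple_mem_WJ cs hio)

end Cfsg.Agent.Nodes.StabComb
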