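import Mathlib
import Cfsg.Agent.Nodes.StabComb
import Cfsg.Agent.Nodes.BNOf

/-!
Bruhat decomposition for root group data (project CIT, chart library).

* `Cell R w g` : `g ∈ B k B` with `k` over `w`; uniqueness of `w`; relative version `CellJ` for Levi subgroups;
* `GG` : the subgroup generated by `T` and all root groups, `mem_GG`;
* the opposite unipotent group, `B ⊓ B⁻ = T`, Birkhoff uniqueness.
-/

set_option autoImplicit false
set_option linter.unusedSectionVars false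

namespace Cfsg.Agent.Nodes.Bruhat

open CoxeterSystem Cfsg.Agent.ChevalleyStructure.CoxeterGeom Cfsg.Agent.Tits.Roots Cfsg.Agent.Tits.Core
  Cfsg.Agent.Tits.Exchange Cfsg.Agent.Nodes.Reps Cfsg.Agent.Nodes.BNOf Cfsg.Agent.Nodes.StabComb
open scoped commutatorElement

variable {I W Y : Type*} [Fintype I] [DecidableEq I] [Group W] [Group Y] {M : CoxeterMatrix I}
  {cs : CoxeterSystem M W} {A : I → I → ℤ} {h : IsCartan M A} {p : ℕ} {T : Subgroup Y} {n : I → Y}
  {X : (I → ℤ) → Subgroup Y}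

/-- the positive unipotent group of the Levi subgroup of `J` -/
def UJ (cs : CoxeterSystem M W) (h : IsCartan M A) (X : (I → ℤ) → Subgroup Y) (J : Set I) : Subgroup Y :=
  RGD.Sup X (PosJ cs h J)

/-- the Borel subgroup of the Levi subgroup of `J` -/
def BJ (cs : CoxeterSystem M W) (h : IsCartan M A) (T : Subgroup Y) (X : (I → ℤ) → Subgroup Y) (J : Set I) :
    Subgroup Y := T ⊔ UJ cs h X J

omit [Fintype I] [DecidableEq I] in
theorem mem_univ' (cs : CoxeterSystem M W) (w : W) : w ∈ WJ cs Set.univ := by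
  rw [WJ_univ]; exact Subgroup.mem_top w

theorem T_le_BJ {J : Set I} : T ≤ BJ cs h T X J := le_sup_left

theorem UJ_le_BJ {J : Set I} : UJ cs h X J ≤ BJ cs h T X J := le_sup_right

theorem X_le_BJ {J : Set I} {x : I → ℤ} (hx : x ∈ PosJ cs h J) : X x ≤ BJ cs h T X J :=
  le_trans (RGD.le_Sup hx) UJ_le_BJ

theorem UJ_le_U (J : Set I) : UJ cs h X J ≤ RGD.Sup X (RGD.Pos cs h) :=
  RGD.Sup_mono fun _ hx => ⟨hx.1, hx.2.1⟩

theorem BJ_le_B (J : Set I) : BJ cs h T X J ≤ RGD.B cs h T X :=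
  sup_le RGD.T_le_B (le_trans (UJ_le_U J) RGD.U_le_B)

theorem UJ_univ : UJ cs h X Set.univ = RGD.Sup X (RGD.Pos cs h) := by
  unfold UJ
  congr 1
  ext x
  exact ⟨fun hx => ⟨hx.1, hx.2.1⟩, fun hx => ⟨hx.1, hx.2, fun k hk => absurd (Set.mem_univ k) hk⟩⟩

theorem BJ_univ : BJ cs h T X Set.univ = RGD.B cs h T X := by
  unfold BJ RGD.B
  rw [UJ_univ]

variable (R : RGD cs h p T n X)

include R

/-! ### closed sets of positive roots and simple roots -/

/-- For a set `S` of positive roots containing `α_i`, closed under intervals from `α_i`: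
`Sup S = Sup (S \ {α_i}) · X α_i`. -/
theorem exists_mul {S : Set (I → ℤ)} {i : I} (hS : ∀ x ∈ S, IsRoot cs h x ∧ 0 ≤ x) (hi : sr i ∈ S)
    (hc : ∀ y ∈ S, y ≠ sr i → ∀ z, Btwn cs h (sr i) y z → z ∈ S) {a : Y} (ha : a ∈ RGD.Sup X S) :
    ∃ r ∈ RGD.Sup X (S \ {sr i}), ∃ u ∈ X (sr i), a = r * u := by
  have hn : X (sr i) ≤ Subgroup.normalizer (RGD.Sup X (S \ {sr i}) : Set Y) := by
    refine R.X_le_normalizer_diff hS (isRoot_sr cs h i) (sr_nonneg i) ?_
    intro y hy hyi z hz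
    exact ⟨hc y hy hyi z hz, btwn_ne_sr hz (sr_nonneg i) (hS y hy).1 (hS y hy).2 hyi⟩
  have h1 : a ∈ ((RGD.Sup X (S \ {sr i}) ⊔ X (sr i) : Subgroup Y) : Set Y) := by
    refine (?_ : RGD.Sup X S ≤ _) ha
    refine RGD.Sup_le fun z hz => ?_
    by_cases hz0 : z = sr i
    · subst hz0; exact le_sup_right
    · exact le_trans (RGD.le_Sup (S := S \ {sr i}) ⟨hz, hz0⟩) le_sup_left
  rw [Subgroup.coe_mul_of_right_le_normalizer_left _ _ hn, Set.mem_mul] at h1
  obtain ⟨r, hr, u, hu, e⟩ := h1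
  exact ⟨r, hr, u, hu, e.symm⟩

/-- the image of a join under a representative -/
theorem cj_Sup_le {w : W} {g : Y} (hg : Rp cs R.nsys w g) {S S' : Set (I → ℤ)} (hS : ∀ x ∈ S, IsRoot cs h x)
    (hSS : ∀ x ∈ S, rep cs h w x ∈ S') : cj g (RGD.Sup X S) ≤ RGD.Sup X S' := by
  rw [RGD.cj_Sup]
  refine iSup_le ?_
  rintro ⟨x, hx⟩
  rw [R.conj_rp hg (hS x hx)]
  exact RGD.le_Sup (hSS x hx)

theorem conj_mem_Sup {w : W} {g : Y} (hg : Rp cs R.nsys w g) {S S' : Set (I → ℤ)} (hS : ∀ x ∈ S, IsRoot cs h x)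
    (hSS : ∀ x ∈ S, rep cs h w x ∈ S') {a : Y} (ha : a ∈ RGD.Sup X S) : g * a * g⁻¹ ∈ RGD.Sup X S' :=
  cj_Sup_le R hg hS hSS (conj_mem_cj.2 ha)

theorem conj_mem_Sup' {w : W} {g : Y} (hg : Rp cs R.nsys w g) {S S' : Set (I → ℤ)} (hS : ∀ x ∈ S, IsRoot cs h x)
    (hSS : ∀ x ∈ S, rep cs h w⁻¹ x ∈ S') {a : Y} (ha : a ∈ RGD.Sup X S) : g⁻¹ * a * g ∈ RGD.Sup X S' := by
  have := conj_mem_Sup R hg.inv hS hSS ha
  rwa [inv_inv] at this

/-- an element of `X α_i` moved into `B` by `n i` is trivial -/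
theorem eq_one_of_conj_mem_B [Finite W] {i : I} {u : Y} (hu : u ∈ X (sr i)) {k : Y}
    (hk : Rp cs R.nsys (cs.simple i) k) (hB : k * u * k⁻¹ ∈ RGD.B cs h T X) : u = 1 := by
  by_contra hu1
  have h1 : k * u * k⁻¹ ∈ X (-sr i) := by
    have := R.conj_mem hk (isRoot_sr cs h i) hu
    rwa [rep_simple_sr] at this
  have h2 : k * u * k⁻¹ ≠ 1 := by
    intro h3
    apply hu1
    have h4 : u = k⁻¹ * (k * u * k⁻¹) * k := by group
    rw [h4, h3]; group
  obtain ⟨a, ha, t, ht, b, hb, e⟩ := R.rk1 i _ h1 h2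
  have haB := RGD.X_le_B (T := T) (isRoot_sr cs h i) (sr_nonneg i) ha
  have hbB := RGD.X_le_B (T := T) (isRoot_sr cs h i) (sr_nonneg i) hb
  have htB := RGD.T_le_B (cs := cs) (h := h) (X := X) ht
  have h3 : n i = (a * t)⁻¹ * (k * u * k⁻¹) * b⁻¹ := by rw [e]; group
  have h4 : n i ∈ RGD.B cs h T X := by
    rw [h3]
    exact mul_mem (mul_mem (inv_mem (mul_mem haB htB)) hB) (inv_mem hbB)
  have h5 := R.eq_one_of_mem_B (rp_simple cs R.nsys i) h4
  have h6 := cs.length_simple i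
  rw [h5, cs.length_one] at h6
  exact absurd h6 (by decide)

/-- some element of `X α_i` is nontrivial -/
theorem exists_ne_one (i : I) : ∃ u ∈ X (sr i), u ≠ 1 := by
  by_contra hcon
  push Not at hcon
  apply R.notp i
  have h1 : X (sr i) = ⊥ := by
    rw [Subgroup.eq_bot_iff_forall]; exact hcon
  have h2 : X (-sr i) = ⊥ := by
    have := R.conj i _ (isRoot_sr cs h i)
    rw [rep_simple_sr, h1] at this
    rw [← this]
    exact Subgroup.map_bot _
  rw [h1, h2, sup_bot_eq]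
  exact IsPGroup.of_bot

theorem X_ne_bot {x : I → ℤ} (hx : IsRoot cs h x) : X x ≠ ⊥ := by
  obtain ⟨w, i, rfl⟩ := hx
  obtain ⟨k, hk⟩ := exists_rp cs R.nsys w
  rw [← R.conj_rp hk (isRoot_sr cs h i)]
  intro h1
  obtain ⟨u, hu, hu1⟩ := exists_ne_one R i
  have h2 : k * u * k⁻¹ ∈ cj k (X (sr i)) := conj_mem_cj.2 hu
  rw [h1, Subgroup.mem_bot, mul_inv_eq_one] at h2
  exact hu1 (mul_eq_left.1 h2)

/-! ### the group generated by the root groups and the torus -/

omit R in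
/-- the group generated by `T` and all root groups -/
def GG (cs : CoxeterSystem M W) (h : IsCartan M A) (T : Subgroup Y) (X : (I → ℤ) → Subgroup Y) : Subgroup Y :=
  T ⊔ RGD.Sup X {x | IsRoot cs h x}

omit R in
/-- the Levi subgroup of `J` -/
def LJ (cs : CoxeterSystem M W) (h : IsCartan M A) (T : Subgroup Y) (X : (I → ℤ) → Subgroup Y) (J : Set I) :
    Subgroup Y := T ⊔ RGD.Sup X (RootsJ cs h J)

omit R in
theorem LJ_univ : LJ cs h T X Set.univ = GG cs h T X := by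
  unfold LJ GG
  rw [RootsJ_univ]

omit R in
theorem T_le_LJ {J : Set I} : T ≤ LJ cs h T X J := le_sup_left

omit R in
theorem X_le_LJ {J : Set I} {x : I → ℤ} (hx : x ∈ RootsJ cs h J) : X x ≤ LJ cs h T X J :=
  le_trans (RGD.le_Sup hx) le_sup_right

omit R in
theorem BJ_le_LJ {J : Set I} : BJ cs h T X J ≤ LJ cs h T X J :=
  sup_le T_le_LJ (RGD.Sup_le fun _ hx => X_le_LJ (PosJ_subset J hx))

omit R in
theorem LJ_mono {J J' : Set I} (hJ : J ⊆ J') : LJ cs h T X J ≤ LJ cs h T X J' :=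
  sup_le_sup_left (RGD.Sup_mono (S := RootsJ cs h J) (S' := RootsJ cs h J')
    fun _ hx => ⟨hx.1, fun k hk => hx.2 k fun h1 => hk (hJ h1)⟩) _

omit R in
theorem LJ_le_GG {J : Set I} : LJ cs h T X J ≤ GG cs h T X := by
  rw [← LJ_univ]; exact LJ_mono (Set.subset_univ J)

omit R in
theorem X_le_GG {x : I → ℤ} (hx : IsRoot cs h x) : X x ≤ GG cs h T X :=
  le_trans (RGD.le_Sup (S := {x | IsRoot cs h x}) hx) le_sup_right

omit R in
theorem T_le_GG : T ≤ GG cs h T X := le_sup_left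

omit R in
theorem B_le_GG : RGD.B cs h T X ≤ GG cs h T X :=
  sup_le T_le_GG (RGD.Sup_le fun _ hx => X_le_GG hx.1)

theorem n_mem_LJ {J : Set I} {i : I} (hi : i ∈ J) : n i ∈ LJ cs h T X J := by
  obtain ⟨u, hu, hu1⟩ := exists_ne_one R i
  have h1 : n i * u * (n i)⁻¹ ∈ X (-sr i) := by
    have := R.conj_mem (rp_simple cs R.nsys i) (isRoot_sr cs h i) hu
    rwa [rep_simple_sr] at this
  have h2 : n i * u * (n i)⁻¹ ≠ 1 := by
    intro h3
    exact hu1 (mul_eq_left.1 (mul_inv_eq_one.1 h3))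
  obtain ⟨a, ha, t, ht, b, hb, e⟩ := R.rk1 i _ h1 h2
  have hri : sr i ∈ RootsJ cs h J := PosJ_subset J (sr_mem_PosJ hi)
  have h3 : n i = (a * t)⁻¹ * (n i * u * (n i)⁻¹) * b⁻¹ := by
    conv_rhs => rw [e]
    group
  rw [h3]
  exact mul_mem (mul_mem (inv_mem (mul_mem (X_le_LJ hri ha) (T_le_LJ ht))) (X_le_LJ (RootsJ.neg hri) h1))
    (inv_mem (X_le_LJ hri hb))

/-- representatives of the elements of `W_J` lie in the Levi subgroup -/
theorem rp_mem_LJ {J : Set I} {w : W} (hw : w ∈ WJ cs J) {g : Y} (hg : Rp cs R.nsys w g) :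
    g ∈ LJ cs h T X J := by
  obtain ⟨ω, hω, rfl⟩ := exists_word_of_mem_WJ cs hw
  clear hw
  induction ω generalizing g with
  | nil =>
    rw [wordProd_nil] at hg
    exact T_le_LJ hg.mem_of_one
  | cons i ω ih =>
    have hω' : ∀ j ∈ ω, j ∈ J := fun j hj => hω j (by simp [hj])
    rw [wordProd_cons] at hg
    have h1 : Rp cs R.nsys (cs.wordProd ω) ((n i)⁻¹ * g) := by
      have := (rp_simple cs R.nsys i).inv.mul hg
      rwa [inv_mul_cancel_left] at this
    have h2 := ih hω' h1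
    have h3 : g = n i * ((n i)⁻¹ * g) := by group
    rw [h3]
    exact mul_mem (n_mem_LJ R (hω i (by simp))) h2

theorem NN_le_GG : NN cs R.nsys ≤ GG cs h T X := by
  rintro g ⟨w, hg⟩
  rw [← LJ_univ]
  exact rp_mem_LJ R (mem_univ' cs w) hg

/-! ### cells -/

omit R in
/-- `g ∈ B_J k B_J` with `k` over `w` -/
def CellJ (hN : NSys M T n) (cs : CoxeterSystem M W) (h : IsCartan M A) (X : (I → ℤ) → Subgroup Y) (J : Set I)
    (w : W) (g : Y) : Prop :=
  ∃ b₁ ∈ BJ cs h T X J, ∃ k, Rp cs hN w k ∧ ∃ b₂ ∈ BJ cs h T X J, g = b₁ * k * b₂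

omit R in
/-- `g ∈ B k B` with `k` over `w` -/
def Cell (hN : NSys M T n) (cs : CoxeterSystem M W) (h : IsCartan M A) (X : (I → ℤ) → Subgroup Y)
    (w : W) (g : Y) : Prop :=
  ∃ b₁ ∈ RGD.B cs h T X, ∃ k, Rp cs hN w k ∧ ∃ b₂ ∈ RGD.B cs h T X, g = b₁ * k * b₂

omit R in
theorem CellJ.cell {hN : NSys M T n} {J : Set I} {w : W} {g : Y} (hg : CellJ hN cs h X J w g) :
    Cell hN cs h X w g := by
  obtain ⟨b₁, hb₁, k, hk, b₂, hb₂, e⟩ := hg
  exact ⟨b₁, BJ_le_B J hb₁, k, hk, b₂, BJ_le_B J hb₂, e⟩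

omit R in
theorem cellJ_univ {hN : NSys M T n} {w : W} {g : Y} : CellJ hN cs h X Set.univ w g ↔ Cell hN cs h X w g := by
  unfold CellJ Cell
  rw [BJ_univ]

omit R in
theorem cellJ_of_rp {hN : NSys M T n} {J : Set I} {w : W} {g : Y} (hg : Rp cs hN w g) : CellJ hN cs h X J w g :=
  ⟨1, one_mem _, g, hg, 1, one_mem _, by group⟩

omit R in
theorem cell_of_rp {hN : NSys M T n} {w : W} {g : Y} (hg : Rp cs hN w g) : Cell hN cs h X w g :=
  ⟨1, one_mem _, g, hg, 1, one_mem _, by group⟩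

omit R in
theorem CellJ.mul_left {hN : NSys M T n} {J : Set I} {w : W} {g b : Y} (hg : CellJ hN cs h X J w g)
    (hb : b ∈ BJ cs h T X J) : CellJ hN cs h X J w (b * g) := by
  obtain ⟨b₁, hb₁, k, hk, b₂, hb₂, rfl⟩ := hg
  exact ⟨b * b₁, mul_mem hb hb₁, k, hk, b₂, hb₂, by group⟩

omit R in
theorem CellJ.mul_right {hN : NSys M T n} {J : Set I} {w : W} {g b : Y} (hg : CellJ hN cs h X J w g)
    (hb : b ∈ BJ cs h T X J) : CellJ hN cs h X J w (g * b) := by
  obtain ⟨b₁, hb₁, k, hk, b₂, hb₂, rfl⟩ := hg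
  exact ⟨b₁, hb₁, k, hk, b₂ * b, mul_mem hb₂ hb, by group⟩

omit R in
theorem Cell.mul_left {hN : NSys M T n} {w : W} {g b : Y} (hg : Cell hN cs h X w g)
    (hb : b ∈ RGD.B cs h T X) : Cell hN cs h X w (b * g) := by
  obtain ⟨b₁, hb₁, k, hk, b₂, hb₂, rfl⟩ := hg
  exact ⟨b * b₁, mul_mem hb hb₁, k, hk, b₂, hb₂, by group⟩

omit R in
theorem Cell.mul_right {hN : NSys M T n} {w : W} {g b : Y} (hg : Cell hN cs h X w g)
    (hb : b ∈ RGD.B cs h T X) : Cell hN cs h X w (g * b) := by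
  obtain ⟨b₁, hb₁, k, hk, b₂, hb₂, rfl⟩ := hg
  exact ⟨b₁, hb₁, k, hk, b₂ * b, mul_mem hb₂ hb, by group⟩

omit R in
theorem Cell.inv {hN : NSys M T n} {w : W} {g : Y} (hg : Cell hN cs h X w g) : Cell hN cs h X w⁻¹ g⁻¹ := by
  obtain ⟨b₁, hb₁, k, hk, b₂, hb₂, rfl⟩ := hg
  exact ⟨b₂⁻¹, inv_mem hb₂, k⁻¹, hk.inv, b₁⁻¹, inv_mem hb₁, by group⟩

omit R in
theorem CellJ.inv {hN : NSys M T n} {J : Set I} {w : W} {g : Y} (hg : CellJ hN cs h X J w g) :
    CellJ hN cs h X J w⁻¹ g⁻¹ := by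
  obtain ⟨b₁, hb₁, k, hk, b₂, hb₂, rfl⟩ := hg
  exact ⟨b₂⁻¹, inv_mem hb₂, k⁻¹, hk.inv, b₁⁻¹, inv_mem hb₁, by group⟩

omit R in
theorem cell_one_of_mem {hN : NSys M T n} {b : Y} (hb : b ∈ RGD.B cs h T X) : Cell hN cs h X 1 b :=
  ⟨b, hb, 1, rp_one, 1, one_mem _, by group⟩

omit R in
theorem cellJ_one_of_mem {hN : NSys M T n} {J : Set I} {b : Y} (hb : b ∈ BJ cs h T X J) :
    CellJ hN cs h X J 1 b :=
  ⟨b, hb, 1, rp_one, 1, one_mem _, by group⟩

omit R in
theorem Cell.mem_of_one {hN : NSys M T n} {g : Y} (hg : Cell hN cs h X 1 g) : g ∈ RGD.B cs h T X := by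
  obtain ⟨b₁, hb₁, k, hk, b₂, hb₂, rfl⟩ := hg
  exact mul_mem (mul_mem hb₁ (RGD.T_le_B hk.mem_of_one)) hb₂

omit R in
theorem CellJ.mem_of_one {hN : NSys M T n} {J : Set I} {g : Y} (hg : CellJ hN cs h X J 1 g) :
    g ∈ BJ cs h T X J := by
  obtain ⟨b₁, hb₁, k, hk, b₂, hb₂, rfl⟩ := hg
  exact mul_mem (mul_mem hb₁ (T_le_BJ hk.mem_of_one)) hb₂

/-- `B_J = V_{J,i} X_i T` -/
theorem mem_BJ' {J : Set I} {i : I} (hi : i ∈ J) {x : Y} (hx : x ∈ BJ cs h T X J) :
    ∃ v ∈ RGD.Sup X (PosJ cs h J \ {sr i}), ∃ u ∈ X (sr i), ∃ t ∈ T, x = v * u * t := by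
  have hT : T ≤ Subgroup.normalizer (UJ cs h X J : Set Y) := R.T_le_normalizer fun _ hx => hx.1
  have h1 : x ∈ ((UJ cs h X J ⊔ T : Subgroup Y) : Set Y) := by rw [sup_comm]; exact hx
  rw [Subgroup.coe_mul_of_right_le_normalizer_left _ _ hT, Set.mem_mul] at h1
  obtain ⟨y, hy, t, ht, rfl⟩ := h1
  obtain ⟨v, hv, u, hu, rfl⟩ := exists_mul R (S := PosJ cs h J) (i := i) (fun x hx => ⟨hx.1, hx.2.1⟩)
    (sr_mem_PosJ hi) (fun y hy _ z hz => ⟨hz.1, btwn_nonneg hz (sr_nonneg i) hy.2.1, fun k hk =>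
      btwn_apply_zero hz ((sr_mem_PosJ (cs := cs) (h := h) hi).2.2 k hk) (hy.2.2 k hk)⟩) hy
  exact ⟨v, hv, u, hu, t, ht, rfl⟩

/-- `n_i` normalises the complement of `X_i` in `U_J` -/
theorem conj_n_mem {J : Set I} {i : I} (hi : i ∈ J) {g : Y} (hg : Rp cs R.nsys (cs.simple i) g) {v : Y}
    (hv : v ∈ RGD.Sup X (PosJ cs h J \ {sr i})) : g * v * g⁻¹ ∈ BJ cs h T X J := by
  refine UJ_le_BJ (conj_mem_Sup R hg (S' := PosJ cs h J) (fun x hx => hx.1.1) (fun x hx => ?_) hv)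
  refine ⟨hx.1.1.act _, hx.1.1.simple_nonneg hx.1.2.1 i hx.2, fun k hk => ?_⟩
  rw [rep_simple_apply cs h i x k (by rintro rfl; exact hk hi)]
  exact hx.1.2.2 k hk

/-- multiplication of a cell by `n_i` -/
theorem stepJ {J : Set I} {i : I} (hi : i ∈ J) {w : W} (hw : w ∈ WJ cs J) {g : Y} (hg : Rp cs R.nsys w g)
    {b : Y} (hb : b ∈ BJ cs h T X J) :
    CellJ R.nsys cs h X J (cs.simple i * w) (n i * b * g) ∨
      (cs.length (cs.simple i * w) < cs.length w ∧ CellJ R.nsys cs h X J w (n i * b * g)) := by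
  obtain ⟨v, hv, u, hu, t, ht, rfl⟩ := mem_BJ' R hi hb
  have hv' : n i * v * (n i)⁻¹ ∈ BJ cs h T X J := conj_n_mem R hi (rp_simple cs R.nsys i) hv
  have ht' : g⁻¹ * t * g ∈ BJ cs h T X J := by
    have h1 := (mem_normalizer_iff_cj.1 hg.inv.mem_normalizer)
    have h2 : g⁻¹ * t * g⁻¹⁻¹ ∈ cj g⁻¹ T := conj_mem_cj.2 ht
    rw [h1, inv_inv] at h2
    exact T_le_BJ h2
  have e : n i * (v * u * t) * g = (n i * v * (n i)⁻¹) * (n i * u * g) * (g⁻¹ * t * g) := by group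
  have hri : sr i ∈ RootsJ cs h J := PosJ_subset J (sr_mem_PosJ hi)
  have hroot : rep cs h w⁻¹ (sr i) ∈ RootsJ cs h J := RootsJ.act (inv_mem hw) hri
  rw [e]
  by_cases hpos : 0 ≤ rep cs h w⁻¹ (sr i)
  · left
    refine CellJ.mul_right (CellJ.mul_left ?_ hv') ht'
    refine ⟨1, one_mem _, n i * g, (rp_simple cs R.nsys i).mul hg, g⁻¹ * u * g,
      X_le_BJ ⟨hroot.1, hpos, hroot.2⟩ (R.conj_mem' hg (isRoot_sr cs h i) hu), ?_⟩
    group
  · have hneg := (hroot.1.not_nonneg_iff_neg).1 hpos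
    by_cases hu1 : u = 1
    · left
      refine CellJ.mul_right (CellJ.mul_left ?_ hv') ht'
      refine ⟨1, one_mem _, n i * g, (rp_simple cs R.nsys i).mul hg, 1, one_mem _, ?_⟩
      rw [hu1]; group
    · right
      constructor
      · have h1 : ¬ cs.length w⁻¹ < cs.length (w⁻¹ * cs.simple i) := fun h2 =>
          hpos ((lt_iff' cs h w⁻¹ i).1 h2)
        rw [← cs.length_inv w, ← cs.length_inv (cs.simple i * w), mul_inv_rev, inv_simple]
        have h2 := cs.length_mul_simple w⁻¹ i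
        omega
      have h1 : n i * u * (n i)⁻¹ ∈ X (-sr i) := by
        have := R.conj_mem (rp_simple cs R.nsys i) (isRoot_sr cs h i) hu
        rwa [rep_simple_sr] at this
      have h2 : n i * u * (n i)⁻¹ ≠ 1 := fun h3 => hu1 (mul_eq_left.1 (mul_inv_eq_one.1 h3))
      obtain ⟨a, ha, s, hs, c, hc, e'⟩ := R.rk1 i _ h1 h2
      have h3 : (n i)⁻¹ * c * n i ∈ X (-sr i) := by
        have := R.conj_mem' (rp_simple cs R.nsys i) (isRoot_sr cs h i) hc
        rwa [inv_simple, rep_simple_sr] at this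
      have h4 : g⁻¹ * ((n i)⁻¹ * c * n i) * g ∈ BJ cs h T X J := by
        have := R.conj_mem' hg (isRoot_sr cs h i).neg h3
        rw [map_neg] at this
        exact X_le_BJ ⟨hroot.1.neg, hneg, (RootsJ.neg hroot).2⟩ this
      refine CellJ.mul_right (CellJ.mul_left ?_ hv') ht'
      refine ⟨a * s * (n i * n i), mul_mem (mul_mem (X_le_BJ (sr_mem_PosJ hi) ha) (T_le_BJ hs))
        (T_le_BJ (R.sq_mem_T i)), g, hg, g⁻¹ * ((n i)⁻¹ * c * n i) * g, h4, ?_⟩
      have h5 : n i * u * g = (n i * u * (n i)⁻¹) * n i * g := by group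
      rw [h5, e']
      group

/-- `w ↦ s_i w` on cells -/
theorem CellJ.simple_mul {J : Set I} {i : I} (hi : i ∈ J) {w : W} (hw : w ∈ WJ cs J) {a b : Y}
    (ha : CellJ R.nsys cs h X J (cs.simple i) a) (hb : CellJ R.nsys cs h X J w b) :
    CellJ R.nsys cs h X J (cs.simple i * w) (a * b) ∨
      (cs.length (cs.simple i * w) < cs.length w ∧ CellJ R.nsys cs h X J w (a * b)) := by
  obtain ⟨a₁, ha₁, k, hk, a₂, ha₂, rfl⟩ := ha
  obtain ⟨b₁, hb₁, g, hg, b₂, hb₂, rfl⟩ := hb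
  have hk' : n i * ((n i)⁻¹ * k) = k := by group
  have ht : (n i)⁻¹ * k ∈ T := (rp_simple cs R.nsys i).unique hk
  have hB : (n i)⁻¹ * k * (a₂ * b₁) ∈ BJ cs h T X J := mul_mem (T_le_BJ ht) (mul_mem ha₂ hb₁)
  have e : a₁ * k * a₂ * (b₁ * g * b₂) = a₁ * (n i * ((n i)⁻¹ * k * (a₂ * b₁)) * g) * b₂ := by group
  rw [e]
  rcases stepJ R hi hw hg hB with h1 | ⟨h0, h1⟩
  · exact Or.inl ((h1.mul_left ha₁).mul_right hb₂)
  · exact Or.inr ⟨h0, (h1.mul_left ha₁).mul_right hb₂⟩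

theorem Cell.simple_mul {i : I} {w : W} {a b : Y}
    (ha : Cell R.nsys cs h X (cs.simple i) a) (hb : Cell R.nsys cs h X w b) :
    Cell R.nsys cs h X (cs.simple i * w) (a * b) ∨
      (cs.length (cs.simple i * w) < cs.length w ∧ Cell R.nsys cs h X w (a * b)) := by
  rw [← cellJ_univ] at ha hb ⊢
  rw [← cellJ_univ]
  exact CellJ.simple_mul R (Set.mem_univ i) (mem_univ' cs w) ha hb

/-- if the lengths add up the cells multiply -/
theorem Cell.mul_of_length {v : W} : ∀ {w : W} {a b : Y}, cs.length (v * w) = cs.length v + cs.length w →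
    Cell R.nsys cs h X v a → Cell R.nsys cs h X w b → Cell R.nsys cs h X (v * w) (a * b) := by
  induction hn : cs.length v using Nat.strong_induction_on generalizing v with
  | _ N ih =>
  intro w a b hlen ha hb
  by_cases hv : v = 1
  · subst hv
    rw [one_mul]
    exact hb.mul_left ha.mem_of_one
  obtain ⟨i, hi⟩ := cs.exists_leftDescent_of_ne_one hv
  have hi' : cs.length (cs.simple i * v) < cs.length v := hi
  have hlen' : cs.length (cs.simple i * v) + 1 = cs.length v := by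
    have := cs.length_simple_mul v i
    omega
  have hle := cs.length_mul_le (cs.simple i * v) w
  have hge : cs.length (v * w) ≤ cs.length (cs.simple i * v * w) + 1 := by
    have h1 := cs.length_mul_le (cs.simple i) (cs.simple i * v * w)
    rw [cs.length_simple] at h1
    have h2 : cs.simple i * (cs.simple i * v * w) = v * w := by
      rw [← mul_assoc, ← mul_assoc, simple_mul_simple_self, one_mul]
    rw [h2] at h1
    omega
  obtain ⟨a₁, ha₁, k, hk, a₂, ha₂, rfl⟩ := ha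
  have hk2 : Rp cs R.nsys (cs.simple i * v) ((n i)⁻¹ * k) := by
    have := (rp_simple cs R.nsys i).inv.mul hk
    rwa [inv_simple] at this
  have h1 := ih (cs.length (cs.simple i * v)) (by omega) (v := cs.simple i * v) rfl (w := w)
    (a := (n i)⁻¹ * k * a₂) (b := b) (by omega) ((cell_of_rp hk2).mul_right ha₂) hb
  have h2 : Cell R.nsys cs h X (cs.simple i) (a₁ * n i) := (cell_of_rp (rp_simple cs R.nsys i)).mul_left ha₁
  have e : a₁ * k * a₂ * b = (a₁ * n i) * ((n i)⁻¹ * k * a₂ * b) := by group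
  have ew : v * w = cs.simple i * (cs.simple i * v * w) := by
    rw [← mul_assoc, ← mul_assoc, simple_mul_simple_self, one_mul]
  rw [e, ew]
  rcases Cell.simple_mul R h2 h1 with h3 | ⟨h0, -⟩
  · exact h3
  · exfalso
    rw [← ew] at h0
    omega

/-- the cells are disjoint -/
theorem Cell.unique [Finite W] {v : W} : ∀ {w : W} {g : Y}, Cell R.nsys cs h X v g → Cell R.nsys cs h X w g →
    v = w := by
  -- first the case `ℓ v ≤ ℓ w`
  have key : ∀ (v w : W) (g : Y), cs.length v ≤ cs.length w → Cell R.nsys cs h X v g →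
      Cell R.nsys cs h X w g → v = w := by
    intro v
    induction hn : cs.length v using Nat.strong_induction_on generalizing v with
    | _ N ih =>
    intro w g hle hv hw
    by_cases hv1 : v = 1
    · subst hv1
      have hg := hv.mem_of_one
      obtain ⟨b₁, hb₁, k, hk, b₂, hb₂, e⟩ := hw
      have h1 : k ∈ RGD.B cs h T X := by
        have : k = b₁⁻¹ * g * b₂⁻¹ := by rw [e]; group
        rw [this]
        exact mul_mem (mul_mem (inv_mem hb₁) hg) (inv_mem hb₂)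
      exact (R.eq_one_of_mem_B hk h1).symm
    obtain ⟨i, hi⟩ := cs.exists_leftDescent_of_ne_one hv1
    have hi' : cs.length (cs.simple i * v) < cs.length v := hi
    obtain ⟨a₁, ha₁, k, hk, a₂, ha₂, rfl⟩ := hv
    have hk2 : Rp cs R.nsys (cs.simple i * v) ((n i)⁻¹ * k) := by
      have := (rp_simple cs R.nsys i).inv.mul hk
      rwa [inv_simple] at this
    -- the element `n_i⁻¹ k`
    have h1 : Cell R.nsys cs h X w k := by
      have := (hw.mul_left (inv_mem ha₁)).mul_right (inv_mem ha₂)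
      have e : a₁⁻¹ * (a₁ * k * a₂) * a₂⁻¹ = k := by group
      rwa [e] at this
    have h2 : Cell R.nsys cs h X (cs.simple i) (n i)⁻¹ := by
      have := (cell_of_rp (X := X) (h := h) (rp_simple cs R.nsys i)).inv
      rwa [inv_simple] at this
    have h4 : Cell R.nsys cs h X (cs.simple i * v) ((n i)⁻¹ * k) := cell_of_rp hk2
    rcases Cell.simple_mul R h2 h1 with h3 | ⟨h0, h3⟩
    · have hlw : cs.length w ≤ cs.length (cs.simple i * w) + 1 := by
        have := cs.length_simple_mul w i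
        omega
      have h5 := ih (cs.length (cs.simple i * v)) (by omega) (cs.simple i * v) rfl (cs.simple i * w) _
        (by omega) h4 h3
      exact mul_left_cancel h5
    · exfalso
      have h5 := ih (cs.length (cs.simple i * v)) (by omega) (cs.simple i * v) rfl w _ (by omega) h4 h3
      rw [h5] at hi'
      omega
  intro w g hv hw
  rcases le_total (cs.length v) (cs.length w) with h1 | h1
  · exact key v w g h1 hv hw
  · exact (key w v g h1 hw hv).symm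

/-- Bruhat decomposition of the Levi subgroup -/
theorem exists_cellJ [Finite W] {J : Set I} {g : Y} (hg : g ∈ LJ cs h T X J) :
    ∃ w ∈ WJ cs J, CellJ R.nsys cs h X J w g := by
  -- the union of the cells is stable under left multiplication by the generators
  have hB : ∀ b ∈ BJ cs h T X J, ∀ g, (∃ w ∈ WJ cs J, CellJ R.nsys cs h X J w g) →
      ∃ w ∈ WJ cs J, CellJ R.nsys cs h X J w (b * g) := by
    rintro b hb g ⟨w, hw, hc⟩
    exact ⟨w, hw, hc.mul_left hb⟩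
  have hn : ∀ i ∈ J, ∀ k, Rp cs R.nsys (cs.simple i) k → ∀ g, (∃ w ∈ WJ cs J, CellJ R.nsys cs h X J w g) →
      ∃ w ∈ WJ cs J, CellJ R.nsys cs h X J w (k * g) := by
    rintro i hi k hk g ⟨w, hw, hc⟩
    rcases CellJ.simple_mul R hi hw (cellJ_of_rp hk) hc with h1 | ⟨-, h1⟩
    · exact ⟨_, mul_mem (simple_mem_WJ cs hi) hw, h1⟩
    · exact ⟨_, hw, h1⟩
  have hrep : ∀ v ∈ WJ cs J, ∀ k, Rp cs R.nsys v k → ∀ g, (∃ w ∈ WJ cs J, CellJ R.nsys cs h X J w g) →
      ∃ w ∈ WJ cs J, CellJ R.nsys cs h X J w (k * g) := by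
    intro v hv
    obtain ⟨ω, hω, rfl⟩ := exists_word_of_mem_WJ cs hv
    clear hv
    induction ω with
    | nil =>
      intro k hk g hg
      rw [wordProd_nil] at hk
      exact hB k (T_le_BJ hk.mem_of_one) g hg
    | cons i ω ih =>
      intro k hk g hg
      have hω' : ∀ j ∈ ω, j ∈ J := fun j hj => hω j (by simp [hj])
      rw [wordProd_cons] at hk
      have h1 : Rp cs R.nsys (cs.wordProd ω) ((n i)⁻¹ * k) := by
        have := (rp_simple cs R.nsys i).inv.mul hk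
        rwa [inv_mul_cancel_left] at this
      have h2 := ih hω' _ h1 g hg
      have h3 : k * g = n i * ((n i)⁻¹ * k * g) := by group
      rw [h3]
      exact hn i (hω i (by simp)) _ (rp_simple cs R.nsys i) _ h2
  -- the stabiliser
  let S : Subgroup Y :=
    { carrier := {a | ∀ g, (∃ w ∈ WJ cs J, CellJ R.nsys cs h X J w g) ↔
        ∃ w ∈ WJ cs J, CellJ R.nsys cs h X J w (a * g)}
      one_mem' := fun g => by rw [one_mul]
      mul_mem' := fun {a b} ha hb g => by rw [hb g, ha (b * g), mul_assoc]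
      inv_mem' := fun {a} ha g => by rw [ha (a⁻¹ * g), mul_inv_cancel_left] }
  have key : ∀ K : Subgroup Y, (∀ a ∈ K, ∀ g, (∃ w ∈ WJ cs J, CellJ R.nsys cs h X J w g) →
      ∃ w ∈ WJ cs J, CellJ R.nsys cs h X J w (a * g)) → K ≤ S := by
    intro K hK a ha g
    refine ⟨hK a ha g, fun h1 => ?_⟩
    have := hK a⁻¹ (inv_mem ha) _ h1
    rwa [inv_mul_cancel_left] at this
  have h1 : LJ cs h T X J ≤ S := by
    refine sup_le (key T fun a ha => hB a (T_le_BJ ha)) (RGD.Sup_le fun x hx => key _ ?_)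
    intro a ha g hg
    obtain ⟨w, hw, j, hj, rfl⟩ := exists_of_mem_RootsJ hx
    obtain ⟨k, hk⟩ := exists_rp cs R.nsys w
    have ha' : k⁻¹ * a * k ∈ X (sr j) := by
      have := R.conj_mem' hk hx.1 ha
      rwa [rep_inv_apply] at this
    have e : a * g = k * ((k⁻¹ * a * k) * (k⁻¹ * g)) := by group
    rw [e]
    exact hrep w hw k hk _ (hB _ (X_le_BJ (sr_mem_PosJ hj) ha') _
      (hrep w⁻¹ (inv_mem hw) k⁻¹ hk.inv _ hg))
  have h2 := (h1 hg 1).1 ⟨1, one_mem _, cellJ_one_of_mem (one_mem _)⟩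
  rwa [mul_one] at h2

/-- **Bruhat decomposition.** -/
theorem mem_GG [Finite W] {g : Y} : g ∈ GG cs h T X ↔ ∃ w, Cell R.nsys cs h X w g := by
  constructor
  · intro hg
    rw [← LJ_univ] at hg
    obtain ⟨w, -, hw⟩ := exists_cellJ R hg
    exact ⟨w, hw.cell⟩
  · rintro ⟨w, b₁, hb₁, k, hk, b₂, hb₂, rfl⟩
    exact mul_mem (mul_mem (B_le_GG hb₁) (NN_le_GG R ⟨w, hk⟩)) (B_le_GG hb₂)

/-- The Levi subgroup consists of the cells over `W_J`. -/
theorem mem_LJ [Finite W] {J : Set I} {g : Y} :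
    g ∈ LJ cs h T X J ↔ ∃ w ∈ WJ cs J, CellJ R.nsys cs h X J w g := by
  refine ⟨exists_cellJ R, ?_⟩
  rintro ⟨w, hw, b₁, hb₁, k, hk, b₂, hb₂, rfl⟩
  exact mul_mem (mul_mem (BJ_le_LJ hb₁) (rp_mem_LJ R hw hk)) (BJ_le_LJ hb₂)

/-- `B ∩ L_J = B_J` -/
theorem B_inf_LJ [Finite W] (J : Set I) : RGD.B cs h T X ⊓ LJ cs h T X J = BJ cs h T X J := by
  apply le_antisymm
  · rintro g ⟨hB, hL⟩
    obtain ⟨w, -, hw⟩ := (mem_LJ R).1 hL
    have h1 := Cell.unique R (cell_one_of_mem hB) hw.cell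
    subst h1
    exact hw.mem_of_one
  · exact le_inf (BJ_le_B J) BJ_le_LJ

end Cfsg.Agent.Nodes.Bruhat
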