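import Mathlib
import Cfsg.Agent.Nodes.Bruhat

/-!
Opposite unipotent groups for root group data (project CIT, chart library).

* `mem_PW_of_conj` : `u ∈ U`, `k⁻¹ u k ∈ B`, `k` over `w` ⟹ `u` lies in the join over the positive roots made
  positive by `w⁻¹`;
* `U_inf_BN : U ⊓ B⁻ = ⊥`, `B_inf_BN : B ⊓ B⁻ = T`, `birkhoff` (uniqueness of `w` in `B⁻ w B`);
* `X_inf_X : X x ⊓ X y = ⊥`.
-/

set_option autoImplicit false
set_option linter.unusedSectionVars false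

namespace Cfsg.Agent.Nodes.OppDec

open CoxeterSystem Cfsg.Agent.ChevalleyStructure.CoxeterGeom Cfsg.Agent.Tits.Roots Cfsg.Agent.Tits.Core
  Cfsg.Agent.Tits.Exchange Cfsg.Agent.Nodes.Reps Cfsg.Agent.Nodes.BNOf Cfsg.Agent.Nodes.StabComb
  Cfsg.Agent.Nodes.Bruhat
open scoped commutatorElement

variable {I W Y : Type*} [Fintype I] [DecidableEq I] [Group W] [Group Y] {M : CoxeterMatrix I}
  {cs : CoxeterSystem M W} {A : I → I → ℤ} {h : IsCartan M A} {p : ℕ} {T : Subgroup Y} {n : I → Y}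
  {X : (I → ℤ) → Subgroup Y}

theorem Sup_empty : RGD.Sup X ∅ = ⊥ := by
  rw [eq_bot_iff]
  exact RGD.Sup_le fun z hz => absurd hz (Set.notMem_empty z)

theorem PW_one_eq : PW cs h 1 = RGD.Pos cs h := PW_one

/-- the negative roots -/
def Neg (cs : CoxeterSystem M W) (h : IsCartan M A) : Set (I → ℤ) := {x | IsRoot cs h x ∧ x ≤ 0}

/-- the opposite unipotent group -/
def UN (cs : CoxeterSystem M W) (h : IsCartan M A) (X : (I → ℤ) → Subgroup Y) : Subgroup Y :=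
  RGD.Sup X (Neg cs h)

/-- the opposite Borel subgroup -/
def BN (cs : CoxeterSystem M W) (h : IsCartan M A) (T : Subgroup Y) (X : (I → ℤ) → Subgroup Y) : Subgroup Y :=
  T ⊔ UN cs h X

theorem T_le_BN : T ≤ BN cs h T X := le_sup_left

theorem UN_le_BN : UN cs h X ≤ BN cs h T X := le_sup_right

theorem X_le_UN {x : I → ℤ} (hx : IsRoot cs h x) (h0 : x ≤ 0) : X x ≤ UN cs h X :=
  RGD.le_Sup (S := Neg cs h) ⟨hx, h0⟩

theorem X_le_BN {x : I → ℤ} (hx : IsRoot cs h x) (h0 : x ≤ 0) : X x ≤ BN cs h T X :=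
  le_trans (X_le_UN hx h0) UN_le_BN

theorem BN_le_GG : BN cs h T X ≤ GG cs h T X :=
  sup_le T_le_GG (RGD.Sup_le fun _ hx => X_le_GG hx.1)

variable (R : RGD cs h p T n X)

include R

/-- the set `PW w` is closed under intervals from a simple root in it -/
theorem exists_mul_PW {w : W} {i : I} (hi : 0 ≤ rep cs h w (sr i)) {a : Y} (ha : a ∈ RGD.Sup X (PW cs h w)) :
    ∃ r ∈ RGD.Sup X (PW cs h w \ {sr i}), ∃ u ∈ X (sr i), a = r * u := by
  refine exists_mul R (S := PW cs h w) (fun x hx => ⟨hx.1, hx.2.1⟩) ⟨isRoot_sr cs h i, sr_nonneg i, hi⟩ ?_ ha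
  intro y hy _ z hz
  exact ⟨hz.1, btwn_nonneg hz (sr_nonneg i) hy.2.1, btwn_nonneg (hz.act w) hi hy.2.2⟩

/-- `u ∈ U` with `k⁻¹ u k ∈ B` -/
theorem mem_PW_of_conj [Finite W] : ∀ {w : W} {k : Y}, Rp cs R.nsys w k → ∀ {u : Y},
    u ∈ RGD.Sup X (RGD.Pos cs h) → k⁻¹ * u * k ∈ RGD.B cs h T X → u ∈ RGD.Sup X (PW cs h w⁻¹) := by
  intro w
  induction hn : cs.length w using Nat.strong_induction_on generalizing w with
  | _ N ih =>
  intro k hk u hu hB
  by_cases hw1 : w = 1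
  · rw [hw1, inv_one, PW_one_eq]; exact hu
  obtain ⟨i, hi⟩ := cs.exists_rightDescent_of_ne_one hw1
  have hi' : cs.length (w * cs.simple i) < cs.length w := hi
  have hww : w * cs.simple i * cs.simple i = w := by rw [mul_assoc, simple_mul_simple_self, mul_one]
  have hlen : cs.length (w * cs.simple i * cs.simple i) = cs.length (w * cs.simple i) + cs.length (cs.simple i) := by
    rw [hww, cs.length_simple]
    have := cs.length_mul_simple w i
    omega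
  set w' := w * cs.simple i with hw'
  have hpos : 0 ≤ rep cs h w' (sr i) := (lt_iff' cs h w' i).1 (by rw [hww]; omega)
  obtain ⟨k', hk'⟩ : ∃ k', k' = k * (n i)⁻¹ := ⟨_, rfl⟩
  have hk'2 : Rp cs R.nsys w' k' := by
    have := hk.mul (rp_simple cs R.nsys i).inv
    rwa [inv_simple, ← hk'] at this
  have hkk : k = k' * n i := by rw [hk']; group
  obtain ⟨c, hc⟩ : ∃ c, c = k'⁻¹ * u * k' := ⟨_, rfl⟩
  have hcB : (n i)⁻¹ * c * n i ∈ RGD.B cs h T X := by
    have : (n i)⁻¹ * c * n i = k⁻¹ * u * k := by rw [hc, hkk]; group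
    rw [this]; exact hB
  -- `c ∈ B`
  have hcB2 : c ∈ RGD.B cs h T X := by
    have h1 : Cell R.nsys cs h X (cs.simple i) (n i * ((n i)⁻¹ * c * n i)) :=
      (cell_of_rp (rp_simple cs R.nsys i)).mul_right hcB
    have h2 : Cell R.nsys cs h X (cs.simple i) (n i)⁻¹ := by
      have := (cell_of_rp (X := X) (h := h) (rp_simple cs R.nsys i)).inv
      rwa [inv_simple] at this
    have e : n i * ((n i)⁻¹ * c * n i) * (n i)⁻¹ = c := by group
    rcases Cell.simple_mul R h1 h2 with h3 | ⟨-, h3⟩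
    · rw [e, simple_mul_simple_self] at h3
      exact h3.mem_of_one
    · exfalso
      rw [e] at h3
      have h4 : Cell R.nsys cs h X w' (k' * c) := by
        have : k' * c = u * k' := by rw [hc]; group
        rw [this]
        exact (cell_of_rp hk'2).mul_left (RGD.U_le_B hu)
      have h5 := Cell.mul_of_length R hlen (cell_of_rp hk'2) h3
      have h6 := Cell.unique R h4 h5
      rw [left_eq_mul] at h6
      have h7 := cs.length_simple i
      rw [h6, cs.length_one] at h7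
      exact absurd h7 (by decide)
  have hu2 := ih (cs.length w') (by omega) (w := w') rfl hk'2 hu (by rw [← hc]; exact hcB2)
  have hc2 : c ∈ RGD.Sup X (PW cs h w') := by
    rw [hc]
    refine conj_mem_Sup' R hk'2 (fun x hx => hx.1) (fun x hx => ?_) hu2
    exact ⟨hx.1.act _, hx.2.2, by rw [rep_apply_inv]; exact hx.2.1⟩
  obtain ⟨r, hr, v, hv, e⟩ := exists_mul_PW R hpos hc2
  have hrB : (n i)⁻¹ * r * n i ∈ RGD.B cs h T X := by
    refine RGD.U_le_B (conj_mem_Sup' R (rp_simple cs R.nsys i) (S' := RGD.Pos cs h) (fun x hx => hx.1.1)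
      (fun x hx => ?_) hr)
    rw [inv_simple]
    exact ⟨hx.1.1.act _, hx.1.1.simple_nonneg hx.1.2.1 i hx.2⟩
  have hv1 : v = 1 := by
    have h1 : Rp cs R.nsys (cs.simple i) (n i)⁻¹ := by
      have := (rp_simple cs R.nsys i).inv
      rwa [inv_simple] at this
    refine eq_one_of_conj_mem_B R hv h1 ?_
    have e2 : (n i)⁻¹ * v * (n i)⁻¹⁻¹ = ((n i)⁻¹ * r * n i)⁻¹ * ((n i)⁻¹ * c * n i) := by rw [e]; group
    rw [e2]
    exact mul_mem (inv_mem hrB) hcB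
  have hu3 : u = k' * r * k'⁻¹ := by
    rw [hv1, mul_one] at e
    rw [← e, hc]; group
  rw [hu3]
  refine conj_mem_Sup R hk'2 (fun x hx => hx.1.1) (fun x hx => ?_) hr
  refine ⟨hx.1.1.act _, hx.1.2.2, ?_⟩
  rw [← rep_mul_apply, hw', inv_mul_cancel_left]
  exact hx.1.1.simple_nonneg hx.1.2.1 i hx.2

/-! ### the longest element -/

theorem cj_T {w : W} {k : Y} (hk : Rp cs R.nsys w k) : cj k T = T := mem_normalizer_iff_cj.1 hk.mem_normalizer

/-- representatives of the longest element exchange `U` and `U⁻` -/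
theorem cj_U [Finite W] {k : Y} (hk : Rp cs R.nsys (w0 cs) k) :
    cj k (RGD.Sup X (RGD.Pos cs h)) = UN cs h X := by
  apply le_antisymm
  · exact cj_Sup_le R hk (fun x hx => hx.1) fun x hx => ⟨hx.1.act _, rep_w0_nonpos hx.1 hx.2⟩
  · have h1 := cj_Sup_le R hk.inv (S := Neg cs h) (S' := RGD.Pos cs h) (fun x hx => hx.1) (fun x hx => by
      rw [w0_inv]; exact ⟨hx.1.act _, rep_w0_nonneg hx.1 hx.2⟩)
    have h2 := cj_mono k h1
    rwa [cj_cj_inv] at h2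

theorem cj_UN [Finite W] {k : Y} (hk : Rp cs R.nsys (w0 cs) k) :
    cj k (UN cs h X) = RGD.Sup X (RGD.Pos cs h) := by
  have hk' : Rp cs R.nsys (w0 cs) k⁻¹ := by
    have := hk.inv
    rwa [w0_inv] at this
  rw [← cj_U R hk', cj_cj_inv]

theorem cj_B [Finite W] {k : Y} (hk : Rp cs R.nsys (w0 cs) k) :
    cj k (RGD.B cs h T X) = BN cs h T X := by
  unfold RGD.B BN
  rw [cj_sup, cj_T R hk, cj_U R hk]

theorem cj_BN [Finite W] {k : Y} (hk : Rp cs R.nsys (w0 cs) k) :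
    cj k (BN cs h T X) = RGD.B cs h T X := by
  unfold RGD.B BN
  rw [cj_sup, cj_T R hk, cj_UN R hk]

theorem eq_one_of_mem_U_of_mem_BN [Finite W] {u : Y} (hu : u ∈ RGD.Sup X (RGD.Pos cs h))
    (hB : u ∈ BN cs h T X) : u = 1 := by
  obtain ⟨k, hk⟩ := exists_rp cs R.nsys (w0 cs)
  have h1 : k⁻¹ * u * k ∈ RGD.B cs h T X := by
    rw [← cj_B R hk] at hB
    exact mem_cj.1 hB
  have h2 := mem_PW_of_conj R hk hu h1
  rwa [w0_inv, PW_w0, Sup_empty, Subgroup.mem_bot] at h2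

theorem eq_one_of_mem_UN_of_mem_B [Finite W] {u : Y} (hu : u ∈ UN cs h X)
    (hB : u ∈ RGD.B cs h T X) : u = 1 := by
  obtain ⟨k, hk⟩ := exists_rp cs R.nsys (w0 cs)
  have h1 : k⁻¹ * u * k ∈ BN cs h T X := by
    rw [← cj_BN R hk] at hB
    exact mem_cj.1 hB
  have h2 : k⁻¹ * u * k ∈ RGD.Sup X (RGD.Pos cs h) := by
    rw [← cj_U R hk] at hu
    exact mem_cj.1 hu
  have h3 := eq_one_of_mem_U_of_mem_BN R h2 h1
  have h4 : u = k * (k⁻¹ * u * k) * k⁻¹ := by group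
  rw [h4, h3]; group

/-- `U ∩ B⁻ = 1` -/
theorem U_inf_BN [Finite W] : RGD.Sup X (RGD.Pos cs h) ⊓ BN cs h T X = ⊥ := by
  rw [Subgroup.eq_bot_iff_forall]
  rintro u ⟨h1, h2⟩
  exact eq_one_of_mem_U_of_mem_BN R h1 h2

theorem U_inf_UN [Finite W] : RGD.Sup X (RGD.Pos cs h) ⊓ UN cs h X = ⊥ := by
  rw [Subgroup.eq_bot_iff_forall]
  rintro u ⟨h1, h2⟩
  exact eq_one_of_mem_U_of_mem_BN R h1 (UN_le_BN h2)

theorem U_inf_T [Finite W] : RGD.Sup X (RGD.Pos cs h) ⊓ T = ⊥ := by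
  rw [Subgroup.eq_bot_iff_forall]
  rintro u ⟨h1, h2⟩
  exact eq_one_of_mem_U_of_mem_BN R h1 (T_le_BN h2)

/-- `B ∩ B⁻ = T` -/
theorem B_inf_BN [Finite W] : RGD.B cs h T X ⊓ BN cs h T X = T := by
  apply le_antisymm
  · rintro g ⟨h1, h2⟩
    obtain ⟨t, ht, u, hu, rfl⟩ := R.mem_B.1 h1
    have h3 : u ∈ BN cs h T X := by
      have : u = t⁻¹ * (t * u) := by group
      rw [this]
      exact mul_mem (T_le_BN (inv_mem ht)) h2
    rw [eq_one_of_mem_U_of_mem_BN R hu h3, mul_one]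
    exact ht
  · exact le_inf RGD.T_le_B T_le_BN

/-- **Birkhoff**: `w` is determined by `B⁻ w B` -/
theorem birkhoff [Finite W] {w w' : W} {k k' b₁ b₂ b₁' b₂' : Y} (hk : Rp cs R.nsys w k)
    (hk' : Rp cs R.nsys w' k') (h1 : b₁ ∈ BN cs h T X) (h2 : b₂ ∈ RGD.B cs h T X)
    (h1' : b₁' ∈ BN cs h T X) (h2' : b₂' ∈ RGD.B cs h T X) (e : b₁ * k * b₂ = b₁' * k' * b₂') : w = w' := by
  obtain ⟨k₀, hk₀⟩ := exists_rp cs R.nsys (w0 cs)
  have key : ∀ {v : W} {l c₁ c₂ : Y}, Rp cs R.nsys v l → c₁ ∈ BN cs h T X → c₂ ∈ RGD.B cs h T X →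
      Cell R.nsys cs h X ((w0 cs)⁻¹ * v) (k₀⁻¹ * (c₁ * l * c₂)) := by
    intro v l c₁ c₂ hl hc₁ hc₂
    have h3 : k₀⁻¹ * c₁ * k₀ ∈ RGD.B cs h T X := by
      rw [← cj_B R hk₀] at hc₁
      exact mem_cj.1 hc₁
    have e3 : k₀⁻¹ * (c₁ * l * c₂) = (k₀⁻¹ * c₁ * k₀) * (k₀⁻¹ * l) * c₂ := by group
    rw [e3]
    exact ((cell_of_rp (hk₀.inv.mul hl)).mul_left h3).mul_right hc₂
  have h3 := key hk h1 h2
  rw [e] at h3
  exact mul_left_cancel (Cell.unique R h3 (key hk' h1' h2'))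

/-- an element of `X α_i` in the join of the other positive root groups is trivial -/
theorem eq_one_of_mem_PosNe [Finite W] {i : I} {u : Y} (hu : u ∈ X (sr i))
    (hu' : u ∈ RGD.Sup X (RGD.PosNe cs h i)) : u = 1 := by
  refine eq_one_of_conj_mem_B R hu (rp_simple cs R.nsys i) ?_
  refine RGD.U_le_B (conj_mem_Sup R (rp_simple cs R.nsys i) (S' := RGD.Pos cs h) (fun x hx => hx.1)
    (fun x hx => ?_) hu')
  exact ⟨hx.1.act _, hx.1.simple_nonneg hx.2.1 i hx.2.2⟩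

/-- different root groups intersect trivially -/
theorem X_inf_X [Finite W] {x y : I → ℤ} (hx : IsRoot cs h x) (hy : IsRoot cs h y) (hxy : x ≠ y) :
    X x ⊓ X y = ⊥ := by
  rw [Subgroup.eq_bot_iff_forall]
  rintro u ⟨h1, h2⟩
  obtain ⟨w, i, rfl⟩ := hx
  obtain ⟨k, hk⟩ := exists_rp cs R.nsys w
  have h3 : k⁻¹ * u * k ∈ X (sr i) := by
    have := R.conj_mem' hk ⟨w, i, rfl⟩ h1
    rwa [rep_inv_apply] at this
  have h4 : k⁻¹ * u * k ∈ X (rep cs h w⁻¹ y) := R.conj_mem' hk hy h2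
  have h5 : rep cs h w⁻¹ y ≠ sr i := by
    intro h6
    apply hxy
    rw [← h6, rep_apply_inv]
  have h6 : k⁻¹ * u * k = 1 := by
    rcases (hy.act w⁻¹).pos_or_neg with h7 | h7
    · exact eq_one_of_mem_PosNe R h3 (RGD.le_Sup (S := RGD.PosNe cs h i) ⟨hy.act w⁻¹, h7, h5⟩ h4)
    · exact eq_one_of_mem_U_of_mem_BN R (RGD.le_Sup (S := RGD.Pos cs h) ⟨isRoot_sr cs h i, sr_nonneg i⟩ h3)
        (X_le_BN (hy.act w⁻¹) h7 h4)
  have h7 : u = k * (k⁻¹ * u * k) * k⁻¹ := by group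
  rw [h7, h6]; group

theorem X_inf_T [Finite W] {x : I → ℤ} (hx : IsRoot cs h x) : X x ⊓ T = ⊥ := by
  rw [Subgroup.eq_bot_iff_forall]
  rintro u ⟨h1, h2⟩
  rcases hx.pos_or_neg with h0 | h0
  · exact eq_one_of_mem_U_of_mem_BN R (RGD.le_Sup (S := RGD.Pos cs h) ⟨hx, h0⟩ h1) (T_le_BN h2)
  · exact eq_one_of_mem_UN_of_mem_B R (X_le_UN hx h0 h1) (RGD.T_le_B h2)

/-- root groups are equal only for equal roots -/
theorem X_injective [Finite W] {x y : I → ℤ} (hx : IsRoot cs h x) (hy : IsRoot cs h y) (he : X x = X y) :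
    x = y := by
  by_contra hxy
  have h1 := X_inf_X R hx hy hxy
  rw [he, inf_idem] at h1
  exact X_ne_bot R hy h1

end Cfsg.Agent.Nodes.OppDec
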