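import Mathlib
import Cfsg.Agent.Nodes.Chart
import Cfsg.Agent.Nodes.LeviDec

/-!
Normalisers of classical root groups (project CIT, chart library).

* `form_eq_zero_iff`, `form_pos_iff` : roots orthogonal to a dominant vector;
* `B_le_normalizer`, `normalizer_inf_GG : N(Z r) ⊓ GG = PJ (orth r)`, `mem_LJ_of_normalizes` : `N(Z r) ∩ N(Z (-r)) ∩ GG = LJ`;
* `comm_mem_VJ` : `[N_GG(Z r), z r] ≤ VJ (orth r)`;
* `exists_levi_conj` : fusion of classical root groups in Levi subgroups.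
-/

set_option autoImplicit false
set_option linter.unusedSectionVars false

namespace Cfsg.Agent.Nodes.ClsNorm

open CoxeterSystem Cfsg.Agent.ChevalleyStructure.CoxeterGeom Cfsg.Agent.Tits.Roots Cfsg.Agent.Tits.Core
  Cfsg.Agent.Tits.RootComb Cfsg.Agent.Tits.Exchange Cfsg.Agent.Nodes.Comb Cfsg.Agent.Nodes.Reps
  Cfsg.Agent.Nodes.BNOf Cfsg.Agent.Nodes.RGDLib Cfsg.Agent.Nodes.Chart Cfsg.Agent.Nodes.StabComb
  Cfsg.Agent.Nodes.Bruhat Cfsg.Agent.Nodes.OppDec Cfsg.Agent.Nodes.LeviDec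
open scoped commutatorElement

variable {I W Y : Type*} [Fintype I] [DecidableEq I] [Group W] [Fintype W] [Group Y] {M : CoxeterMatrix I}
  {cs : CoxeterSystem M W} {A : I → I → ℤ} {h : IsCartan M A} {p : ℕ} {T : Subgroup Y} {n : I → Y}
  {X : (I → ℤ) → Subgroup Y} {R : Set (I → ℤ)} {Z : (I → ℤ) → Subgroup Y} {z : (I → ℤ) → Y}

/-! ### The form and dominant vectors -/

/-- For `r` dominant and `x ≥ 0`: `(r, x) = 0` iff `x` is supported on `orth r`. -/
theorem form_eq_zero_iff {r : I → ℤ} (hr : Dom A r) {x : I → ℤ} (hx : 0 ≤ x) :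
    form cs h r x = 0 ↔ ∀ k, k ∉ orth cs h r → x k = 0 := by
  have h0 : ∀ k, 0 ≤ form cs h r (sr k) := fun k => form_nonneg_of_dom cs h hr (sr_nonneg k)
  rw [form_eq_sum, Finset.sum_eq_zero_iff_of_nonneg (fun k _ => mul_nonneg (hx k) (h0 k))]
  constructor
  · intro h1 k hk
    rcases mul_eq_zero.1 (h1 k (Finset.mem_univ k)) with h2 | h2
    · exact h2
    · exfalso
      apply hk
      rw [mem_orth]
      have h3 := (form_sr_nonneg_iff cs h k r).1 h2.ge
      by_contra h4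
      have h5 := (form_sr_pos_iff cs h k r).2 (lt_of_le_of_ne h3 (Ne.symm h4))
      omega
  · intro h1 k _
    by_cases hk : k ∈ orth cs h r
    · have h2 : form cs h r (sr k) = 0 := by
        rw [mem_orth] at hk
        have h3 := h0 k
        by_contra h4
        have h5 := (form_sr_pos_iff cs h k r).1 (lt_of_le_of_ne h3 (Ne.symm h4))
        omega
      rw [h2, mul_zero]
    · rw [h1 k hk, zero_mul]

theorem mem_RootsJ_orth_iff {r : I → ℤ} (hr : Dom A r) {x : I → ℤ} (hx : IsRoot cs h x) :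
    x ∈ RootsJ cs h (orth cs h r) ↔ form cs h x r = 0 := by
  rw [form_comm]
  rcases hx.pos_or_neg with h0 | h0
  · rw [form_eq_zero_iff hr h0]
    exact ⟨fun h1 => h1.2, fun h1 => ⟨hx, h1⟩⟩
  · have h1 : form cs h r x = - form cs h r (-x) := by rw [form_neg_right, neg_neg]
    rw [h1, neg_eq_zero, form_eq_zero_iff hr (neg_nonneg.2 h0)]
    constructor
    · intro h2 k hk
      rw [Pi.neg_apply, h2.2 k hk, neg_zero]
    · intro h2
      refine ⟨hx, fun k hk => ?_⟩
      have := h2 k hk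
      rwa [Pi.neg_apply, neg_eq_zero] at this

theorem mem_NotJ_orth_iff {r : I → ℤ} (hr : Dom A r) {x : I → ℤ} (hx : IsRoot cs h x) :
    x ∈ NotJ cs h (orth cs h r) ↔ 0 < form cs h x r := by
  constructor
  · rintro ⟨-, h0, k, hk, hk0⟩
    have h1 : 0 ≤ form cs h x r := by rw [form_comm]; exact form_nonneg_of_dom cs h hr h0
    refine lt_of_le_of_ne h1 (Ne.symm ?_)
    rw [form_comm, Ne, form_eq_zero_iff hr h0]
    intro h2
    exact hk0.ne' (h2 k hk)
  · intro h1
    have h0 : 0 ≤ x := by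
      by_contra h2
      have h3 := (hx.not_nonneg_iff_neg).1 h2
      have h4 := form_nonneg_of_dom cs h hr h3
      rw [form_neg_right, form_comm] at h4
      omega
    rcases mem_PosJ_or_NotJ (orth cs h r) hx h0 with h2 | h2
    · exfalso
      have := (mem_RootsJ_orth_iff hr hx).1 (PosJ_subset _ h2)
      omega
    · exact h2

/-- A vector is moved to a dominant one. -/
theorem exists_dominant (r : I → ℤ) : ∃ w : W, Dom A (rep cs h w r) := exists_dom_rep cs h r

/-- The opposite of a dominant vector. -/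
theorem dom_opp {r : I → ℤ} (hr : Dom A r) : Dom A (-rep cs h (w0 cs) r) := by
  intro i
  have h1 : 0 ≤ form cs h (-rep cs h (w0 cs) r) (sr i) := by
    rw [form_neg_left, form_rep_left, w0_inv, ← form_neg_right]
    refine form_nonneg_of_dom cs h hr ?_
    exact neg_nonneg.2 (rep_w0_nonpos (isRoot_sr cs h i) (sr_nonneg i))
  exact (form_sr_nonneg_iff cs h i _).1 h1

/-! ### Classical root groups -/

variable (C : Cls cs h p T n X R Z z)

include C

theorem neg_mem {r : I → ℤ} (hr : r ∈ R) : -r ∈ R := by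
  obtain ⟨w, i, rfl⟩ := C.root r hr
  have h1 := C.act _ hr (w * cs.simple i * w⁻¹)
  rw [rep_mul_apply, rep_mul_apply, rep_inv_apply, rep_simple_sr, map_neg] at h1
  exact h1

/-- Conjugation of the classical root groups. -/
theorem conj_Z {w : W} {g : Y} (hg : Rp cs C.rgd.nsys w g) {r : I → ℤ} (hr : r ∈ R) :
    cj g (Z r) = Z (rep cs h w r) := by
  have key : ∀ ω : List I, ∀ r ∈ R, ∃ k, Rp cs C.rgd.nsys (cs.wordProd ω) k ∧
      cj k (Z r) = Z (rep cs h (cs.wordProd ω) r) := by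
    intro ω
    induction ω with
    | nil =>
      intro r _
      exact ⟨1, by rw [wordProd_nil]; exact rp_one, by rw [wordProd_nil, cj_one, map_one, Module.End.one_apply]⟩
    | cons i ω ih =>
      intro r hr
      obtain ⟨k, hk, e⟩ := ih r hr
      refine ⟨n i * k, ?_, ?_⟩
      · rw [wordProd_cons]; exact (rp_simple cs C.rgd.nsys i).mul hk
      · rw [cj_mul, e, C.conj i _ (C.act r hr _), ← rep_mul_apply, wordProd_cons]
  obtain ⟨ω, rfl⟩ := cs.wordProd_surjective w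
  obtain ⟨k, hk, e⟩ := key ω r hr
  have h1 : g = k * (k⁻¹ * g) := by group
  rw [h1, cj_mul, C.tor r hr _ (hk.unique hg), e]

theorem conj_z {w : W} {g : Y} (hg : Rp cs C.rgd.nsys w g) {r : I → ℤ} (hr : r ∈ R) :
    g * z r * g⁻¹ = z (rep cs h w r) := by
  have key : ∀ ω : List I, ∀ r ∈ R, ∃ k, Rp cs C.rgd.nsys (cs.wordProd ω) k ∧
      k * z r * k⁻¹ = z (rep cs h (cs.wordProd ω) r) := by
    intro ω
    induction ω with
    | nil =>
      intro r _
      exact ⟨1, by rw [wordProd_nil]; exact rp_one, by rw [wordProd_nil, map_one, Module.End.one_apply]; group⟩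
    | cons i ω ih =>
      intro r hr
      obtain ⟨k, hk, e⟩ := ih r hr
      refine ⟨n i * k, ?_, ?_⟩
      · rw [wordProd_cons]; exact (rp_simple cs C.rgd.nsys i).mul hk
      · have h1 : n i * k * z r * (n i * k)⁻¹ = n i * (k * z r * k⁻¹) * (n i)⁻¹ := by group
        rw [h1, e, C.z_conj i _ (C.act r hr _), ← rep_mul_apply, wordProd_cons]
  obtain ⟨ω, rfl⟩ := cs.wordProd_surjective w
  obtain ⟨k, hk, e⟩ := key ω r hr
  have h1 := C.z_T r hr _ (hk.unique hg)
  have h2 : g * z r * g⁻¹ = k * ((k⁻¹ * g) * z r) * (k⁻¹ * g)⁻¹ * k⁻¹ := by group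
  rw [h2, ← h1]
  have h3 : k * (z r * (k⁻¹ * g)) * (k⁻¹ * g)⁻¹ * k⁻¹ = k * z r * k⁻¹ := by group
  rw [h3, e]

theorem Z_injective {r s : I → ℤ} (hr : r ∈ R) (hs : s ∈ R) (he : Z r = Z s) : r = s := by
  by_contra hne
  have h1 := X_inf_X C.rgd (C.root r hr) (C.root s hs) hne
  apply C.ne_bot r hr
  rw [eq_bot_iff, ← h1]
  exact le_inf (C.le r hr) (he ▸ C.le s hs)

theorem X_le_centralizer {r : I → ℤ} (hr : r ∈ R) {y : I → ℤ} (hy : IsRoot cs h y) (h0 : 0 ≤ form cs h y r) :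
    X y ≤ Subgroup.centralizer (Z r : Set Y) := by
  intro a ha
  rw [Subgroup.mem_centralizer_iff]
  intro b hb
  exact (C.cent r hr y hy h0 a ha b hb).symm

omit C in
theorem centralizer_le_normalizer' (K : Subgroup Y) :
    Subgroup.centralizer (K : Set Y) ≤ Subgroup.normalizer (K : Set Y) := by
  intro g hg
  rw [mem_normalizer_iff_cj]
  ext x
  rw [mem_cj]
  rw [Subgroup.mem_centralizer_iff] at hg
  constructor
  · intro hx
    have h1 := hg _ hx
    have h2 : x = g⁻¹ * x * g := by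
      have h5 : x = g * (g⁻¹ * x * g) * g⁻¹ := by group
      conv_lhs => rw [h5, ← h1]
      group
    rw [h2]; exact hx
  · intro hx
    have h1 := hg _ hx
    have h2 : g⁻¹ * x * g = x := by
      rw [mul_assoc, h1]; group
    rwa [h2]

theorem T_le_normalizer {r : I → ℤ} (hr : r ∈ R) : T ≤ Subgroup.normalizer (Z r : Set Y) := fun t ht =>
  mem_normalizer_iff_cj.2 (C.tor r hr t ht)

theorem B_le_normalizer {r : I → ℤ} (hr : r ∈ R) (hd : Dom A r) :
    RGD.B cs h T X ≤ Subgroup.normalizer (Z r : Set Y) := by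
  refine sup_le (T_le_normalizer C hr) (RGD.Sup_le fun x hx => ?_)
  refine le_trans (X_le_centralizer C hr hx.1 ?_) (centralizer_le_normalizer' _)
  rw [form_comm]
  exact form_nonneg_of_dom cs h hd hx.2

theorem n_mem_normalizer_iff {r : I → ℤ} (hr : r ∈ R) {w : W} {k : Y} (hk : Rp cs C.rgd.nsys w k) :
    k ∈ Subgroup.normalizer (Z r : Set Y) ↔ rep cs h w r = r := by
  rw [mem_normalizer_iff_cj, conj_Z C hk hr]
  exact ⟨fun h1 => Z_injective C (C.act r hr w) hr h1, fun h1 => by rw [h1]⟩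

/-- `N(Z r) ∩ GG = P_J`, `J = orth r`. -/
theorem normalizer_inf_GG {r : I → ℤ} (hr : r ∈ R) (hd : Dom A r) :
    Subgroup.normalizer (Z r : Set Y) ⊓ GG cs h T X = PJ cs h T X (orth cs h r) := by
  rw [inf_eq_PJ C.rgd (B_le_normalizer C hr hd)]
  congr 1
  ext i
  exact n_mem_normalizer_iff C hr (rp_simple cs C.rgd.nsys i)

theorem LJ_le_normalizer {r : I → ℤ} (hr : r ∈ R) (hd : Dom A r) :
    LJ cs h T X (orth cs h r) ≤ Subgroup.normalizer (Z r : Set Y) ⊓ Subgroup.normalizer (Z (-r) : Set Y) := by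
  refine sup_le (le_inf (T_le_normalizer C hr) (T_le_normalizer C (neg_mem C hr))) (RGD.Sup_le fun x hx => ?_)
  have h1 := (mem_RootsJ_orth_iff hd hx.1).1 hx
  refine le_inf (le_trans (X_le_centralizer C hr hx.1 h1.ge) (centralizer_le_normalizer' _))
    (le_trans (X_le_centralizer C (neg_mem C hr) hx.1 ?_) (centralizer_le_normalizer' _))
  rw [form_neg_right, h1, neg_zero]

/-- `z r` centralises the Levi subgroup `L_J`, `J = orth r`. -/
theorem z_comm_LJ {r : I → ℤ} (hr : r ∈ R) (hd : Dom A r) {l : Y} (hl : l ∈ LJ cs h T X (orth cs h r)) :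
    z r * l = l * z r := by
  have h1 : LJ cs h T X (orth cs h r) ≤ Subgroup.centralizer {z r} := by
    refine sup_le (fun t ht => ?_) (RGD.Sup_le fun x hx a ha => ?_)
    · rw [Subgroup.mem_centralizer_singleton_iff]
      exact (C.z_T r hr t ht).symm
    · have h2 := (mem_RootsJ_orth_iff hd hx.1).1 hx
      have h3 : Z r ⊔ Z (-r) ≤ Subgroup.centralizer {a} := by
        refine sup_le (fun b hb => ?_) (fun b hb => ?_)
        · rw [Subgroup.mem_centralizer_singleton_iff]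
          exact (C.cent r hr x hx.1 h2.ge a ha b hb).symm
        · rw [Subgroup.mem_centralizer_singleton_iff]
          exact (C.cent (-r) (neg_mem C hr) x hx.1 (by rw [form_neg_right, h2, neg_zero]) a ha b hb).symm
      have h4 := h3 (C.z_mem r hr)
      rw [Subgroup.mem_centralizer_singleton_iff] at h4 ⊢
      exact h4.symm
  have h2 := h1 hl
  rw [Subgroup.mem_centralizer_singleton_iff] at h2
  exact h2.symm

/-- `[N_GG(Z r), z r] ≤ V_J`. -/
theorem comm_mem_VJ {r : I → ℤ} (hr : r ∈ R) (hd : Dom A r) {g : Y} (hg : g ∈ GG cs h T X)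
    (hN : g ∈ Subgroup.normalizer (Z r : Set Y)) : g * z r * g⁻¹ * (z r)⁻¹ ∈ VJ cs h X (orth cs h r) := by
  have h1 : g ∈ PJ cs h T X (orth cs h r) := by
    rw [← normalizer_inf_GG C hr hd]; exact ⟨hN, hg⟩
  obtain ⟨l, hl, v, hv, rfl⟩ := (mem_PJ C.rgd).1 h1
  have h2 : z r ∈ LJ cs h T X (orth cs h r) := T_le_LJ (C.z_torus r hr)
  have h3 := z_comm_LJ C hr hd hl
  have h5 : z r * v⁻¹ * (z r)⁻¹ ∈ VJ cs h X (orth cs h r) :=
    (Subgroup.mem_normalizer_iff.1 (LJ_le_normalizer_VJ C.rgd _ h2) _).1 (inv_mem hv)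
  have h6 : l * (v * (z r * v⁻¹ * (z r)⁻¹)) * l⁻¹ ∈ VJ cs h X (orth cs h r) :=
    (Subgroup.mem_normalizer_iff.1 (LJ_le_normalizer_VJ C.rgd _ hl) _).1 (mul_mem hv h5)
  have h7 : l * v * z r * (l * v)⁻¹ * (z r)⁻¹ = l * (v * (z r * v⁻¹ * (z r)⁻¹)) * l⁻¹ := by
    have h8 : l⁻¹ * (z r)⁻¹ = (z r)⁻¹ * l⁻¹ := by
      rw [← mul_inv_rev, ← mul_inv_rev, h3]
    calc l * v * z r * (l * v)⁻¹ * (z r)⁻¹ = l * v * z r * v⁻¹ * (l⁻¹ * (z r)⁻¹) := by group
      _ = l * v * z r * v⁻¹ * ((z r)⁻¹ * l⁻¹) := by rw [h8]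
      _ = l * (v * (z r * v⁻¹ * (z r)⁻¹)) * l⁻¹ := by group
  rw [h7]; exact h6

/-- `N(Z r) ∩ N(Z (-r)) ∩ GG = L_J`. -/
theorem mem_LJ_of_normalizes {r : I → ℤ} (hr : r ∈ R) (hd : Dom A r) {g : Y} (hg : g ∈ GG cs h T X)
    (hN : g ∈ Subgroup.normalizer (Z r : Set Y)) (hN' : g ∈ Subgroup.normalizer (Z (-r) : Set Y)) :
    g ∈ LJ cs h T X (orth cs h r) := by
  have h1 : g ∈ PJ cs h T X (orth cs h r) := by
    rw [← normalizer_inf_GG C hr hd]; exact ⟨hN, hg⟩
  obtain ⟨l, hl, v, hv, rfl⟩ := (mem_PJ C.rgd).1 h1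
  have hv' : v ∈ Subgroup.normalizer (Z (-r) : Set Y) := by
    have : v = l⁻¹ * (l * v) := by group
    rw [this]
    exact mul_mem (inv_mem ((LJ_le_normalizer C hr hd).trans inf_le_right hl)) hN'
  obtain ⟨k, hk⟩ := exists_rp cs C.rgd.nsys (w0 cs)
  set r' := -rep cs h (w0 cs) r with hr'def
  have hr' : r' ∈ R := neg_mem C (C.act r hr _)
  have hd' : Dom A r' := dom_opp hd
  have hZ : cj k (Z (-r)) = Z r' := by
    rw [conj_Z C hk (neg_mem C hr), map_neg]
  have h2 : k * v * k⁻¹ ∈ PJ cs h T X (orth cs h r') := by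
    rw [← normalizer_inf_GG C hr' hd']
    refine Subgroup.mem_inf.2 ⟨?_, ?_⟩
    · rw [mem_normalizer_iff_cj, ← hZ, ← cj_mul]
      have h3 : k * v * k⁻¹ * k = k * v := by group
      rw [h3, cj_mul, mem_normalizer_iff_cj.1 hv']
    · have h3 : k ∈ GG cs h T X := NN_le_GG C.rgd ⟨_, hk⟩
      exact mul_mem (mul_mem h3 (B_le_GG (VJ_le_B _ hv))) (inv_mem h3)
  have h3 : k * v * k⁻¹ ∈ VNJ cs h X (orth cs h r') := by
    refine conj_mem_Sup C.rgd hk (fun x hx => hx.1) (fun x hx => ?_) hv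
    change -rep cs h (w0 cs) x ∈ NotJ cs h (orth cs h r')
    rw [mem_NotJ_orth_iff hd' (hx.1.act _).neg, hr'def, form_neg_left, form_neg_right, neg_neg, form_rep]
    exact (mem_NotJ_orth_iff hd hx.1).1 hx
  have h4 := eq_one_of_mem_VNJ_of_mem_PJ C.rgd h3 h2
  have h5 : v = 1 := by
    have : v = k⁻¹ * (k * v * k⁻¹) * k := by group
    rw [this, h4]; group
  rw [h5, mul_one]; exact hl

/-! ### Fusion in Levi subgroups -/

/-- If `Z s ≤ P_J` then `s` is a root of `J` or a positive root outside `J`. -/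
theorem mem_of_Z_le_PJ {J : Set I} {s : I → ℤ} (hs : s ∈ R) (hP : Z s ≤ PJ cs h T X J) :
    s ∈ RootsJ cs h J ∨ s ∈ NotJ cs h J := by
  have hroot := C.root s hs
  rcases hroot.pos_or_neg with h0 | h0
  · rcases mem_PosJ_or_NotJ J hroot h0 with h1 | h1
    · exact Or.inl (PosJ_subset J h1)
    · exact Or.inr h1
  · rcases mem_PosJ_or_NotJ J hroot.neg (neg_nonneg.2 h0) with h1 | h1
    · have := RootsJ.neg (PosJ_subset J h1)
      rw [neg_neg] at this
      exact Or.inl this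
    · exfalso
      apply C.ne_bot s hs
      rw [Subgroup.eq_bot_iff_forall]
      intro a ha
      exact eq_one_of_mem_VNJ_of_mem_PJ C.rgd (RGD.le_Sup (S := NotNJ cs h J) h1 (C.le s hs ha)) (hP ha)

/-- **Fusion in Levi subgroups**: a subgroup of `L_J` which is conjugate in `GG` to a classical root group is conjugate
in `L_J` to one. -/
theorem exists_levi_conj {J : Set I} {K : Subgroup Y} (hK : K ≤ LJ cs h T X J) {r : I → ℤ} (hr : r ∈ R) {g : Y}
    (hg : g ∈ GG cs h T X) (he : K = cj g (Z r)) :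
    ∃ w : W, rep cs h w r ∈ RootsJ cs h J ∧ ∃ l ∈ LJ cs h T X J, K = cj l (Z (rep cs h w r)) := by
  obtain ⟨w₁, hw₁⟩ := exists_dominant (cs := cs) (h := h) r
  obtain ⟨k₁, hk₁⟩ := exists_rp cs C.rgd.nsys w₁
  have hg' : g * k₁⁻¹ ∈ GG cs h T X := mul_mem hg (inv_mem (NN_le_GG C.rgd ⟨_, hk₁⟩))
  obtain ⟨w, b₁, hb₁, k, hk, b₂, hb₂, e⟩ := (mem_GG C.rgd).1 hg'
  have hr₁ : rep cs h w₁ r ∈ R := C.act r hr w₁
  set s := rep cs h (w * w₁) r with hs
  have hsR : s ∈ R := C.act r hr _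
  have h1 : K = cj b₁ (Z s) := by
    have h2 : g = b₁ * k * b₂ * k₁ := by rw [← e]; group
    rw [he, h2, cj_mul, conj_Z C hk₁ hr, cj_mul, mem_normalizer_iff_cj.1 (B_le_normalizer C hr₁ hw₁ hb₂), cj_mul,
      conj_Z C hk hr₁, hs, rep_mul_apply]
  obtain ⟨l, hl, v, hv, e₁⟩ := (mem_PJ C.rgd).1 (B_le_PJ (J := J) hb₁)
  have hb₁P : b₁ ∈ PJ cs h T X J := B_le_PJ hb₁
  have h2 : Z s ≤ PJ cs h T X J := by
    intro a ha
    have h3 : b₁ * a * b₁⁻¹ ∈ K := by rw [h1]; exact conj_mem_cj.2 ha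
    have h4 : a = b₁⁻¹ * (b₁ * a * b₁⁻¹) * b₁ := by group
    rw [h4]
    exact mul_mem (mul_mem (inv_mem hb₁P) (LJ_le_PJ (hK h3))) hb₁P
  rcases mem_of_Z_le_PJ C hsR h2 with h3 | h3
  · refine ⟨w * w₁, h3, l, hl, ?_⟩
    -- `v` centralises `Z s`
    have h4 : cj v (Z s) = Z s := by
      have h5 : ∀ a ∈ Z s, v * a * v⁻¹ = a := by
        intro a ha
        have haL : a ∈ LJ cs h T X J := X_le_LJ h3 (C.le s hsR ha)
        have h6 : b₁ * a * b₁⁻¹ ∈ LJ cs h T X J := hK (by rw [h1]; exact conj_mem_cj.2 ha)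
        have h7 : v * a * v⁻¹ ∈ LJ cs h T X J := by
          have : v * a * v⁻¹ = l⁻¹ * (b₁ * a * b₁⁻¹) * l := by rw [e₁]; group
          rw [this]
          exact mul_mem (mul_mem (inv_mem hl) h6) hl
        have h8 : v * a * v⁻¹ * a⁻¹ ∈ LJ cs h T X J := mul_mem h7 (inv_mem haL)
        have h9 : v * a * v⁻¹ * a⁻¹ ∈ VJ cs h X J := by
          have h10 : a * v⁻¹ * a⁻¹ ∈ VJ cs h X J :=
            (Subgroup.mem_normalizer_iff.1 (LJ_le_normalizer_VJ C.rgd J haL) _).1 (inv_mem hv)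
          have : v * a * v⁻¹ * a⁻¹ = v * (a * v⁻¹ * a⁻¹) := by group
          rw [this]
          exact mul_mem hv h10
        have h10 := eq_one_of_mem_LJ_of_mem_VJ C.rgd h8 h9
        exact mul_inv_eq_one.1 h10
      ext x
      rw [mem_cj]
      constructor
      · intro hx
        have := h5 _ hx
        have h6 : x = v⁻¹ * x * v := by
          have h7 : v * (v⁻¹ * x * v) * v⁻¹ = x := by group
          rw [h7] at this
          exact this
        rw [h6]; exact hx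
      · intro hx
        have := h5 _ hx
        have h6 : v⁻¹ * x * v = x := by
          conv_lhs => rw [← this]
          group
        rwa [h6]
    rw [h1, e₁, cj_mul, h4]
  · exfalso
    apply C.ne_bot s hsR
    rw [Subgroup.eq_bot_iff_forall]
    intro a ha
    have haV : a ∈ VJ cs h X J := RGD.le_Sup h3 (C.le s hsR ha)
    have h4 : b₁ * a * b₁⁻¹ ∈ VJ cs h X J :=
      (Subgroup.mem_normalizer_iff.1 (PJ_le_normalizer_VJ C.rgd J hb₁P) _).1 haV
    have h5 : b₁ * a * b₁⁻¹ ∈ LJ cs h T X J := hK (by rw [h1]; exact conj_mem_cj.2 ha)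
    have h6 := eq_one_of_mem_LJ_of_mem_VJ C.rgd h5 h4
    have h7 : a = b₁⁻¹ * (b₁ * a * b₁⁻¹) * b₁ := by group
    rw [h7, h6]; group

end Cfsg.Agent.Nodes.ClsNorm
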