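import Mathlib
import Cfsg.Agent.Nodes.RGDLib
import Cfsg.Agent.RootAmalgam.Pair
import Cfsg.Agent.Tits.Exchange

/-!
The data of one pair of nodes (`RootAmalgam.PairData` of helper866) from a root group datum (project CIT, charts).

* `cyc cs h i j : ℤ → (I → ℤ)` : the roots of the rank two subsystem of `i` and `j` in cyclic order;
* `pairData` : `PairData (M i j) (X α_i) (X (-α_i)) (X α_j) (X (-α_j)) (fun k => X (cyc k))`.
-/

set_option autoImplicit false
set_option linter.unusedSectionVars false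

namespace Cfsg.Agent.Nodes.ZFam

open CoxeterSystem Cfsg.Agent.ChevalleyStructure.CoxeterGeom Cfsg.Agent.Tits.Roots Cfsg.Agent.Tits.Core
  Cfsg.Agent.Tits.RootComb Cfsg.Agent.Nodes.Comb Cfsg.Agent.Nodes.Reps Cfsg.Agent.Nodes.BNOf
  Cfsg.Agent.Nodes.RGDLib Cfsg.Agent.Tits.Exchange
open scoped commutatorElement

/-! ### The table -/

/-- Coordinates of the roots. -/
def co (a b : ℤ) : ℕ → ℤ × ℤ
  | 0 => (0, -1)
  | 1 => (1, 0)
  | (k + 2) => ((if k % 2 = 0 then a else b) * (co a b (k + 1)).1 - (co a b k).1,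
      (if k % 2 = 0 then a else b) * (co a b (k + 1)).2 - (co a b k).2)

/-- The facts about the rank two root systems. -/
def Tab (m : ℕ) (a b : ℤ) : Prop :=
  1 ≤ m ∧ co a b m = (0, 1) ∧ co a b (m + 1) = (-1, 0) ∧
  (∀ k, k < m + 1 → 1 ≤ k → 0 ≤ (co a b k).1 ∧ 0 ≤ (co a b k).2) ∧
  (∀ k, k < m + 1 → 1 ≤ k → ∀ l, l < m + 1 → k < l →
    0 < (co a b k).1 * (co a b l).2 - (co a b k).2 * (co a b l).1)

theorem tab {I : Type*} {M : CoxeterMatrix I} {A : I → I → ℤ} (h : IsCartan M A) {i j : I} (hij : i ≠ j) :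
    Tab (M i j) (-A i j) (-A j i) := by
  rcases h.rel i j hij with ⟨h0, h1, h2⟩ | ⟨h0, h1, h2⟩ | ⟨h0, ⟨h1, h2⟩ | ⟨h1, h2⟩⟩ | ⟨h0, ⟨h1, h2⟩ | ⟨h1, h2⟩⟩ <;>
    rw [h0, h1, h2] <;> unfold Tab <;> decide

variable {I W : Type*} [Fintype I] [DecidableEq I] [Group W] {M : CoxeterMatrix I}
  (cs : CoxeterSystem M W) {A : I → I → ℤ} (h : IsCartan M A) (i j : I)

/-- The roots of the rank two subsystem of `i` and `j` in cyclic order. -/
def cyc (k : ℤ) : I → ℤ :=
  if k % 2 = 0 then rep cs h ((cs.simple i * cs.simple j) ^ (k / 2)) (-sr j)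
  else rep cs h ((cs.simple i * cs.simple j) ^ (k / 2)) (sr i)

theorem cyc_even (a : ℤ) : cyc cs h i j (2 * a) = rep cs h ((cs.simple i * cs.simple j) ^ a) (-sr j) := by
  unfold cyc
  rw [if_pos (by omega)]
  congr 3
  omega

theorem cyc_odd (a : ℤ) : cyc cs h i j (2 * a + 1) = rep cs h ((cs.simple i * cs.simple j) ^ a) (sr i) := by
  unfold cyc
  rw [if_neg (by omega)]
  congr 3
  omega

theorem cyc_zero : cyc cs h i j 0 = -sr j := by
  have := cyc_even cs h i j 0
  rwa [mul_zero, zpow_zero, map_one, Module.End.one_apply] at this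

theorem cyc_one : cyc cs h i j 1 = sr i := by
  have := cyc_odd cs h i j 0
  rwa [mul_zero, zpow_zero, map_one, Module.End.one_apply, zero_add] at this

theorem cyc_shift (k a : ℤ) :
    cyc cs h i j (k + 2 * a) = rep cs h ((cs.simple i * cs.simple j) ^ a) (cyc cs h i j k) := by
  rcases Int.even_or_odd' k with ⟨c, rfl | rfl⟩
  · have : 2 * c + 2 * a = 2 * (a + c) := by ring
    rw [this, cyc_even, cyc_even, ← rep_mul_apply, ← zpow_add]
  · have : 2 * c + 1 + 2 * a = 2 * (a + c) + 1 := by ring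
    rw [this, cyc_odd, cyc_odd, ← rep_mul_apply, ← zpow_add]

theorem isRoot_cyc (k : ℤ) : IsRoot cs h (cyc cs h i j k) := by
  rcases Int.even_or_odd' k with ⟨c, rfl | rfl⟩
  · rw [cyc_even]; exact (isRoot_sr cs h j).neg.act _
  · rw [cyc_odd]; exact (isRoot_sr cs h i).act _

omit [Fintype I] [DecidableEq I] in
theorem left_mul_pow (a : ℤ) :
    cs.simple i * (cs.simple i * cs.simple j) ^ a = (cs.simple i * cs.simple j) ^ (-a) * cs.simple i := by
  have h1 : cs.simple i * (cs.simple i * cs.simple j) * (cs.simple i)⁻¹ = (cs.simple i * cs.simple j)⁻¹ := by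
    rw [mul_inv_rev, inv_simple, inv_simple]
    have : cs.simple i * (cs.simple i * cs.simple j) * cs.simple i =
        (cs.simple i * cs.simple i) * cs.simple j * cs.simple i := by group
    rw [this, simple_mul_simple_self, one_mul]
  have h2 : cs.simple i * (cs.simple i * cs.simple j) ^ a * (cs.simple i)⁻¹ =
      (cs.simple i * cs.simple j) ^ (-a) := by
    rw [← conj_zpow, h1, zpow_neg, inv_zpow]
  rw [← h2]; group

omit [Fintype I] [DecidableEq I] in
theorem right_mul_pow (a : ℤ) :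
    cs.simple j * (cs.simple i * cs.simple j) ^ a = (cs.simple i * cs.simple j) ^ (-a) * cs.simple j := by
  have h1 : cs.simple j * (cs.simple i * cs.simple j) * (cs.simple j)⁻¹ = (cs.simple i * cs.simple j)⁻¹ := by
    rw [mul_inv_rev, inv_simple, inv_simple]
    have : cs.simple j * (cs.simple i * cs.simple j) * cs.simple j =
        cs.simple j * cs.simple i * (cs.simple j * cs.simple j) := by group
    rw [this, simple_mul_simple_self, mul_one]
  have h2 : cs.simple j * (cs.simple i * cs.simple j) ^ a * (cs.simple j)⁻¹ =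
      (cs.simple i * cs.simple j) ^ (-a) := by
    rw [← conj_zpow, h1, zpow_neg, inv_zpow]
  rw [← h2]; group

theorem rep_left_cyc (k : ℤ) : rep cs h (cs.simple i) (cyc cs h i j k) = -cyc cs h i j (2 - k) := by
  rcases Int.even_or_odd' k with ⟨c, rfl | rfl⟩
  · have : 2 - 2 * c = 2 * (-c + 1) := by ring
    rw [this, cyc_even, cyc_even, ← rep_mul_apply, left_mul_pow, zpow_add, zpow_one, rep_mul_apply,
      rep_mul_apply _ _ _ (cs.simple i * cs.simple j), rep_mul_apply _ _ (cs.simple i), map_neg (rep cs h (cs.simple j)),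
      rep_simple_sr, neg_neg, map_neg (rep cs h (cs.simple i)), map_neg]
  · have : 2 - (2 * c + 1) = 2 * (-c) + 1 := by ring
    rw [this, cyc_odd, cyc_odd, ← rep_mul_apply, left_mul_pow, rep_mul_apply, rep_simple_sr, map_neg]

theorem rep_right_cyc (k : ℤ) : rep cs h (cs.simple j) (cyc cs h i j k) = -cyc cs h i j (-k) := by
  rcases Int.even_or_odd' k with ⟨c, rfl | rfl⟩
  · have : -(2 * c) = 2 * (-c) := by ring
    rw [this, cyc_even, cyc_even, ← rep_mul_apply, right_mul_pow, rep_mul_apply, map_neg (rep cs h (cs.simple j)),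
      rep_simple_sr, map_neg]
  · have : -(2 * c + 1) = 2 * (-c + -1) + 1 := by ring
    have h1 : (cs.simple i * cs.simple j) ^ (-1 : ℤ) = cs.simple j * cs.simple i := by
      rw [zpow_neg, zpow_one, mul_inv_rev, inv_simple, inv_simple]
    rw [this, cyc_odd, cyc_odd, ← rep_mul_apply, right_mul_pow, zpow_add, h1, rep_mul_apply,
      rep_mul_apply _ _ _ (cs.simple j * cs.simple i), rep_mul_apply _ _ (cs.simple j), rep_simple_sr,
      map_neg (rep cs h (cs.simple j)), map_neg, neg_neg]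

omit cs in
theorem pairing_sr' (A : I → I → ℤ) (k l : I) : pairing A k (sr l) = A k l := by
  rw [sr, pairing_single, mul_one]

theorem cyc_two : cyc cs h i j 2 = (-A i j) • cyc cs h i j 1 - cyc cs h i j 0 := by
  rw [cyc_one, cyc_zero]
  have := rep_left_cyc cs h i j 0
  rw [sub_zero, cyc_zero, map_neg, rep_simple_eq, pairing_sr'] at this
  rw [← neg_inj, ← this]
  module

theorem cyc_three : cyc cs h i j 3 = (-A j i) • cyc cs h i j 2 - cyc cs h i j 1 := by
  have h1 : cyc cs h i j 3 = -rep cs h (cs.simple i) (cyc cs h i j (-1)) := by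
    rw [rep_left_cyc]; norm_num
  have h2 : cyc cs h i j (-1) = -rep cs h (cs.simple j) (sr i) := by
    have := rep_right_cyc cs h i j 1
    rw [cyc_one] at this
    rw [this, neg_neg]
  rw [h1, h2, rep_simple_eq cs h j, pairing_sr', map_neg, neg_neg, map_sub, map_smul, rep_simple_sr, cyc_two,
    cyc_one, cyc_zero, rep_simple_eq cs h i, pairing_sr']
  module

theorem cyc_rec_even (a : ℤ) :
    cyc cs h i j (2 * a + 2) = (-A i j) • cyc cs h i j (2 * a + 1) - cyc cs h i j (2 * a) := by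
  have h1 := cyc_shift cs h i j 2 a
  have h2 := cyc_shift cs h i j 1 a
  have h3 := cyc_shift cs h i j 0 a
  rw [add_comm] at h1 h2 h3
  rw [add_zero] at h3
  rw [h1, h2, h3, cyc_two, map_sub, map_smul]

theorem cyc_rec_odd (a : ℤ) :
    cyc cs h i j (2 * a + 3) = (-A j i) • cyc cs h i j (2 * a + 2) - cyc cs h i j (2 * a + 1) := by
  have h1 := cyc_shift cs h i j 3 a
  have h2 := cyc_shift cs h i j 2 a
  have h3 := cyc_shift cs h i j 1 a
  rw [add_comm] at h1 h2 h3
  rw [h1, h2, h3, cyc_three, map_sub, map_smul]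

/-- Coordinates. -/
theorem cyc_eq (k : ℕ) : cyc cs h i j k = (co (-A i j) (-A j i) k).1 • sr i + (co (-A i j) (-A j i) k).2 • sr j := by
  induction k using Nat.twoStepInduction with
  | zero =>
    rw [Nat.cast_zero, cyc_zero]
    simp only [co]
    module
  | one =>
    rw [Nat.cast_one, cyc_one]
    simp only [co]
    module
  | more k ih1 ih2 =>
    rcases Nat.even_or_odd' k with ⟨c, rfl | rfl⟩
    · have e1 : (((2 * c + 2 : ℕ)) : ℤ) = 2 * (c : ℤ) + 2 := by push_cast; ring
      have e2 : (((2 * c + 1 : ℕ)) : ℤ) = 2 * (c : ℤ) + 1 := by push_cast; ring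
      have e3 : (((2 * c : ℕ)) : ℤ) = 2 * (c : ℤ) := by push_cast; ring
      rw [e2] at ih2
      rw [e3] at ih1
      rw [e1, cyc_rec_even, ih1, ih2]
      have : (2 * c) % 2 = 0 := by omega
      simp only [co, this, if_true]
      module
    · have e1 : (((2 * c + 1 + 2 : ℕ)) : ℤ) = 2 * (c : ℤ) + 3 := by push_cast; ring
      have e2 : (((2 * c + 1 + 1 : ℕ)) : ℤ) = 2 * (c : ℤ) + 2 := by push_cast; ring
      have e3 : (((2 * c + 1 : ℕ)) : ℤ) = 2 * (c : ℤ) + 1 := by push_cast; ring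
      rw [e2] at ih2
      rw [e3] at ih1
      rw [e1, cyc_rec_odd, ih1, ih2]
      have : ¬ (2 * c + 1) % 2 = 0 := by omega
      simp only [co, this, if_false]
      module

variable {i j}

theorem cyc_m (hij : i ≠ j) : cyc cs h i j (M i j) = sr j := by
  rw [cyc_eq, (tab h hij).2.1]
  module

theorem cyc_m1 (hij : i ≠ j) : cyc cs h i j (M i j + 1) = -sr i := by
  have h1 := cyc_eq cs h i j (M i j + 1)
  rw [(tab h hij).2.2.1] at h1
  push_cast at h1
  rw [h1]
  module

theorem cyc_add_m (hij : i ≠ j) (k : ℤ) : cyc cs h i j (k + M i j) = -cyc cs h i j k := by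
  rcases Int.even_or_odd' k with ⟨c, rfl | rfl⟩
  · rw [add_comm, cyc_shift, cyc_m cs h hij, cyc_even, map_neg, neg_neg]
  · have : 2 * c + 1 + (M i j : ℤ) = (M i j + 1) + 2 * c := by ring
    rw [this, cyc_shift, cyc_m1 cs h hij, cyc_odd, map_neg]

theorem cyc_per (hij : i ≠ j) (k : ℤ) : cyc cs h i j (k + 2 * M i j) = cyc cs h i j k := by
  have : k + 2 * (M i j : ℤ) = (k + M i j) + M i j := by ring
  rw [this, cyc_add_m cs h hij, cyc_add_m cs h hij, neg_neg]

theorem left_cyc (hij : i ≠ j) (k : ℤ) :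
    rep cs h (cs.simple i) (cyc cs h i j k) = cyc cs h i j (M i j + 2 - k) := by
  have : (M i j : ℤ) + 2 - k = (2 - k) + M i j := by ring
  rw [rep_left_cyc, this, cyc_add_m cs h hij]

theorem right_cyc (hij : i ≠ j) (k : ℤ) :
    rep cs h (cs.simple j) (cyc cs h i j k) = cyc cs h i j (M i j - k) := by
  have : (M i j : ℤ) - k = -k + M i j := by ring
  rw [rep_right_cyc, this, cyc_add_m cs h hij]

/-- The determinant of two roots. -/
def dt (i j : I) (x y : I → ℤ) : ℤ := x i * y j - x j * y i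

theorem cyc_apply (hij : i ≠ j) (k : ℕ) :
    cyc cs h i j k i = (co (-A i j) (-A j i) k).1 ∧ cyc cs h i j k j = (co (-A i j) (-A j i) k).2 := by
  rw [cyc_eq]
  constructor
  · rw [Pi.add_apply, Pi.smul_apply, Pi.smul_apply, sr_self, sr_ne hij]
    simp
  · rw [Pi.add_apply, Pi.smul_apply, Pi.smul_apply, sr_self, sr_ne hij.symm]
    simp

theorem dt_pos (hij : i ≠ j) {k l : ℤ} (hk : 1 ≤ k) (hkl : k < l) (hl : l ≤ M i j) :
    0 < dt i j (cyc cs h i j k) (cyc cs h i j l) := by
  obtain ⟨k', rfl⟩ := Int.eq_ofNat_of_zero_le (by omega : 0 ≤ k)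
  obtain ⟨l', rfl⟩ := Int.eq_ofNat_of_zero_le (by omega : 0 ≤ l)
  have h1 := (tab h hij).2.2.2.2 k' (by omega) (by omega) l' (by omega) (by omega)
  unfold dt
  rw [(cyc_apply cs h hij k').1, (cyc_apply cs h hij k').2, (cyc_apply cs h hij l').1, (cyc_apply cs h hij l').2]
  exact h1

theorem cyc_nonneg (hij : i ≠ j) {k : ℤ} (hk : 1 ≤ k) (hl : k ≤ M i j) : 0 ≤ cyc cs h i j k := by
  obtain ⟨k', rfl⟩ := Int.eq_ofNat_of_zero_le (by omega : 0 ≤ k)
  have h1 := (tab h hij).2.2.2.1 k' (by omega) (by omega)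
  rw [cyc_eq]
  exact add_nonneg (smul_nonneg h1.1 (sr_nonneg i)) (smul_nonneg h1.2 (sr_nonneg j))

/-- All roots of the subsystem occur. -/
theorem exists_cyc [Finite W] (hij : i ≠ j) {z : I → ℤ} (hz : IsRoot cs h z) (hs : Supp i j z) :
    ∃ k, z = cyc cs h i j k := by
  obtain ⟨v, hv, l, hl, rfl⟩ := exists_of_supp cs h hz hs
  have h1 : ∃ k, (sr l : I → ℤ) = cyc cs h i j k := by
    rcases hl with rfl | rfl
    · exact ⟨1, (cyc_one cs h _ j).symm⟩
    · exact ⟨_, (cyc_m cs h hij).symm⟩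
  obtain ⟨k, hk⟩ := h1
  rw [hk]
  clear hz hs hk hl
  obtain ⟨ω, hω, rfl⟩ := exists_word_of_mem_WJ cs hv
  clear hv
  induction ω with
  | nil => exact ⟨k, by rw [wordProd_nil, map_one, Module.End.one_apply]⟩
  | cons a ω ih =>
    obtain ⟨k', hk'⟩ := ih (fun b hb => hω b (by simp [hb]))
    rw [wordProd_cons, rep_mul_apply, hk']
    have ha : a = i ∨ a = j := by simpa using hω a (by simp)
    rcases ha with rfl | rfl
    · exact ⟨_, left_cyc cs h hij k'⟩
    · exact ⟨_, right_cyc cs h hij k'⟩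

/-- The positive roots of the subsystem. -/
theorem exists_cyc_pos [Finite W] (hij : i ≠ j) {z : I → ℤ} (hz : IsRoot cs h z) (hs : Supp i j z) (h0 : 0 ≤ z) :
    ∃ k : ℤ, 1 ≤ k ∧ k ≤ M i j ∧ z = cyc cs h i j k := by
  obtain ⟨k, rfl⟩ := exists_cyc cs h hij hz hs
  have hm : 1 ≤ M i j := (tab h hij).1
  -- reduce `k` modulo `2 m`
  have key : ∀ k : ℤ, ∃ r : ℤ, 1 ≤ r ∧ r ≤ 2 * M i j ∧ cyc cs h i j k = cyc cs h i j r := by
    intro k
    have hshift : ∀ a : ℤ, cyc cs h i j (k + a * (2 * M i j)) = cyc cs h i j k := by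
      intro a
      induction a using Int.induction_on with
      | zero => rw [zero_mul, add_zero]
      | succ a ih =>
        have : k + ((a : ℤ) + 1) * (2 * M i j) = (k + a * (2 * M i j)) + 2 * M i j := by ring
        rw [this, cyc_per cs h hij, ih]
      | pred a ih =>
        have : k + -(a : ℤ) * (2 * M i j) = (k + (-(a : ℤ) - 1) * (2 * M i j)) + 2 * M i j := by ring
        rw [this, cyc_per cs h hij] at ih
        exact ih
    refine ⟨(k - 1) % (2 * M i j) + 1, ?_, ?_, ?_⟩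
    · have := Int.emod_nonneg (k - 1) (show (2 * M i j : ℤ) ≠ 0 by positivity)
      omega
    · have := Int.emod_lt_of_pos (k - 1) (show (0 : ℤ) < 2 * M i j by positivity)
      omega
    · have h1 := Int.emod_add_mul_ediv (k - 1) (2 * M i j)
      have h2 := hshift (-((k - 1) / (2 * M i j)))
      rw [← h2]
      congr 1
      linear_combination -h1
  obtain ⟨r, hr1, hr2, hr⟩ := key k
  refine ⟨r, hr1, ?_, hr⟩
  by_contra hcon
  have h1 := cyc_nonneg cs h hij (k := r - M i j) (by omega) (by omega)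
  have h2 := cyc_add_m cs h hij (r - M i j)
  rw [sub_add_cancel] at h2
  rw [hr, h2] at h0
  exact (isRoot_cyc cs h i j (r - M i j)).not_pos_neg h1 (neg_nonneg.1 h0)

theorem cyc_supp (k : ℤ) : Supp i j (cyc cs h i j k) := by
  intro m hmi hmj
  rcases Int.even_or_odd' k with ⟨c, rfl | rfl⟩
  · rw [cyc_even]
    have h1 : (cs.simple i * cs.simple j) ^ c ∈ WJ cs {i, j} :=
      zpow_mem (mul_mem (simple_mem_WJ cs (by simp)) (simple_mem_WJ cs (by simp))) c
    exact supp_rep cs h h1 (fun q hqi hqj => by rw [Pi.neg_apply, sr_ne hqj, neg_zero]) m hmi hmj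
  · rw [cyc_odd]
    have h1 : (cs.simple i * cs.simple j) ^ c ∈ WJ cs {i, j} :=
      zpow_mem (mul_mem (simple_mem_WJ cs (by simp)) (simple_mem_WJ cs (by simp))) c
    exact supp_rep cs h h1 (fun q hqi hqj => sr_ne hqi) m hmi hmj

/-- The window. -/
theorem window [Finite W] (hij : i ≠ j) {k l : ℤ} (hk : 1 ≤ k) (hkl : k < l) (hl : l ≤ M i j) {z : I → ℤ}
    (hz : Btwn cs h (cyc cs h i j k) (cyc cs h i j l) z) : ∃ r : ℤ, k < r ∧ r < l ∧ z = cyc cs h i j r := by
  obtain ⟨hzr, m, a, b, hm, ha, hb, e⟩ := hz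
  have hs : Supp i j z := by
    intro q hqi hqj
    have h1 := congrFun e q
    rw [Pi.add_apply, Pi.smul_apply, Pi.smul_apply, Pi.smul_apply, cyc_supp cs h k q hqi hqj,
      cyc_supp cs h l q hqi hqj, smul_zero, smul_zero, add_zero, smul_eq_mul] at h1
    rcases mul_eq_zero.1 h1 with h2 | h2
    · omega
    · exact h2
  have h0 : 0 ≤ z := RGD.nonneg_of_btwn (cyc_nonneg cs h hij hk (by omega)) (cyc_nonneg cs h hij (by omega) hl)
    ⟨hzr, m, a, b, hm, ha, hb, e⟩
  obtain ⟨r, hr1, hr2, rfl⟩ := exists_cyc_pos cs h hij hzr hs h0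
  have e1 : m * dt i j (cyc cs h i j k) (cyc cs h i j r) = b * dt i j (cyc cs h i j k) (cyc cs h i j l) := by
    have h1 := congrFun e i
    have h2 := congrFun e j
    simp only [Pi.add_apply, Pi.smul_apply, smul_eq_mul] at h1 h2
    unfold dt
    linear_combination (cyc cs h i j k i) * h2 - (cyc cs h i j k j) * h1
  have e2 : m * dt i j (cyc cs h i j r) (cyc cs h i j l) = a * dt i j (cyc cs h i j k) (cyc cs h i j l) := by
    have h1 := congrFun e i
    have h2 := congrFun e j
    simp only [Pi.add_apply, Pi.smul_apply, smul_eq_mul] at h1 h2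
    unfold dt
    linear_combination (cyc cs h i j l j) * h1 - (cyc cs h i j l i) * h2
  have hpos := dt_pos cs h hij hk hkl hl
  have h1 : 0 < dt i j (cyc cs h i j k) (cyc cs h i j r) := by
    have : 0 < m * dt i j (cyc cs h i j k) (cyc cs h i j r) := by rw [e1]; exact mul_pos hb hpos
    exact (mul_pos_iff_of_pos_left hm).1 this
  have h2 : 0 < dt i j (cyc cs h i j r) (cyc cs h i j l) := by
    have : 0 < m * dt i j (cyc cs h i j r) (cyc cs h i j l) := by rw [e2]; exact mul_pos ha hpos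
    exact (mul_pos_iff_of_pos_left hm).1 this
  have hanti : ∀ x y : I → ℤ, dt i j x y = -dt i j y x := by
    intro x y; unfold dt; ring
  refine ⟨r, ?_, ?_, rfl⟩
  · by_contra hcon
    rcases eq_or_lt_of_le (not_lt.1 hcon) with h3 | h3
    · rw [h3] at h1
      have h4 := hanti (cyc cs h i j k) (cyc cs h i j k)
      omega
    · have h4 := dt_pos cs h hij hr1 h3 (by omega)
      rw [hanti] at h4
      omega
  · by_contra hcon
    rcases eq_or_lt_of_le (not_lt.1 hcon) with h3 | h3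
    · rw [h3] at h2
      have h4 := hanti (cyc cs h i j r) (cyc cs h i j r)
      omega
    · have h4 := dt_pos cs h hij (by omega) h3 hr2
      rw [hanti] at h4
      omega

variable {cs h} {Y : Type*} [Group Y] {p : ℕ} {T : Subgroup Y} {n : I → Y} {X : (I → ℤ) → Subgroup Y}

/-- **The pair data of two nodes.** -/
theorem pairData [Finite W] (R : RGD cs h p T n X) (hij : i ≠ j) :
    RootAmalgam.PairData (M i j) (X (sr i)) (X (-sr i)) (X (sr j)) (X (-sr j)) (fun k => X (cyc cs h i j k)) where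
  per k := by rw [cyc_per cs h hij]
  z_one := by rw [cyc_one]
  z_m := by rw [cyc_m cs h hij]
  z_m1 := by rw [cyc_m1 cs h hij]
  z_zero := by rw [cyc_zero]
  comm k l hk hkl hl x hx y hy := by
    have hpos := dt_pos cs h hij hk hkl hl
    have h1 := R.comm _ _ (isRoot_cyc cs h i j k) (isRoot_cyc cs h i j l) (by
      intro he
      rw [he] at hpos
      unfold dt at hpos
      have : cyc cs h i j l i * cyc cs h i j l j - cyc cs h i j l j * cyc cs h i j l i = 0 := by ring
      omega) (by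
      intro he
      rw [he] at hpos
      unfold dt at hpos
      simp only [Pi.neg_apply] at hpos
      have : -cyc cs h i j l i * cyc cs h i j l j - -cyc cs h i j l j * cyc cs h i j l i = 0 := by ring
      omega) x hx y hy
    refine (?_ : btw cs h X _ _ ≤ _) h1
    unfold Reps.btw
    refine iSup_le ?_
    rintro ⟨z, hz⟩
    obtain ⟨r, hr1, hr2, rfl⟩ := window cs h hij hk hkl hl hz
    exact le_iSup₂_of_le r ⟨hr1, hr2⟩ le_rfl
  mu a ha hne := by
    obtain ⟨x, hx, t, ht, y, hy, e⟩ := R.rk1 i a ha hne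
    refine ⟨x⁻¹, inv_mem hx, y⁻¹, inv_mem hy, fun k z => ?_⟩
    have h1 : x⁻¹ * a * y⁻¹ = t * n i := by rw [e]; group
    rw [h1]
    change t * n i * z * (t * n i)⁻¹ ∈ X (cyc cs h i j (M i j + 2 - k)) ↔ z ∈ X (cyc cs h i j k)
    rw [← left_cyc cs h hij]
    have h2 : cj (t * n i) (X (cyc cs h i j k)) = X (rep cs h (cs.simple i) (cyc cs h i j k)) := by
      rw [cj_mul, R.conj i _ (isRoot_cyc cs h i j k), R.tor _ ((isRoot_cyc cs h i j k).act _) t ht]
    rw [← h2, conj_mem_cj]
  mu' a ha hne := by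
    obtain ⟨x, hx, t, ht, y, hy, e⟩ := R.rk1 j a ha hne
    refine ⟨x⁻¹, inv_mem hx, y⁻¹, inv_mem hy, fun k z => ?_⟩
    have h1 : x⁻¹ * a * y⁻¹ = t * n j := by rw [e]; group
    rw [h1]
    change t * n j * z * (t * n j)⁻¹ ∈ X (cyc cs h i j (M i j - k)) ↔ z ∈ X (cyc cs h i j k)
    rw [← right_cyc cs h hij]
    have h2 : cj (t * n j) (X (cyc cs h i j k)) = X (rep cs h (cs.simple j) (cyc cs h i j k)) := by
      rw [cj_mul, R.conj j _ (isRoot_cyc cs h i j k), R.tor _ ((isRoot_cyc cs h i j k).act _) t ht]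
    rw [← h2, conj_mem_cj]

end Cfsg.Agent.Nodes.ZFam
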