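import Mathlib
import Cfsg.Agent.Tits.Roots
import Cfsg.Agent.Tits.Exchange
/-!
NODES ⟹ BN-PAIR, part 1. A finite crystallographic Coxeter system `cs` and, in a group `G`, subgroups
`U i`, `H` and elements `n i` such that every PAIR of nodes is a system of root groups of rank two.
Then root groups are well defined for all roots of `cs`.
-/

set_option autoImplicit false
set_option linter.unusedSectionVars false

namespace Cfsg.Agent.Nodes

open CoxeterSystem Cfsg.Agent.ChevalleyStructure.CoxeterGeom Cfsg.Agent.Tits.Roots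
open Cfsg.Agent.Tits.Exchange Cfsg.Agent.Tits.Core
open scoped Pointwise

variable {I W : Type*} [Fintype I] [DecidableEq I] [Group W] {M : CoxeterMatrix I}
  (cs : CoxeterSystem M W) {A : I → I → ℤ} (h : IsCartan M A)

/-- `x` is a root of the rank two subsystem of `k` and `l`. -/
def RootJ (k l : I) (x : I → ℤ) : Prop :=
  ∃ w ∈ WJ cs {k, l}, ∃ i, (i = k ∨ i = l) ∧ x = rep cs h w (sr i)

theorem RootJ.isRoot {k l : I} {x : I → ℤ} (hx : RootJ cs h k l x) : IsRoot cs h x := by
  obtain ⟨w, -, i, -, rfl⟩ := hx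
  exact ⟨w, i, rfl⟩

theorem rootJ_left (k l : I) : RootJ cs h k l (sr k) :=
  ⟨1, one_mem _, k, Or.inl rfl, by rw [map_one, Module.End.one_apply]⟩

theorem rootJ_right (k l : I) : RootJ cs h k l (sr l) :=
  ⟨1, one_mem _, l, Or.inr rfl, by rw [map_one, Module.End.one_apply]⟩

theorem RootJ.act {k l : I} {x : I → ℤ} (hx : RootJ cs h k l x) {w : W} (hw : w ∈ WJ cs {k, l}) :
    RootJ cs h k l (rep cs h w x) := by
  obtain ⟨v, hv, i, hi, rfl⟩ := hx
  exact ⟨w * v, mul_mem hw hv, i, hi, by rw [rep_mul_apply]⟩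

theorem RootJ.symm {k l : I} {x : I → ℤ} (hx : RootJ cs h k l x) : RootJ cs h l k x := by
  obtain ⟨v, hv, i, hi, rfl⟩ := hx
  refine ⟨v, ?_, i, hi.symm, rfl⟩
  rwa [Set.pair_comm]

/-- Elements of `W_{k,l}` change only the coordinates `k` and `l`. -/
theorem rep_apply_of_mem {k l : I} {w : W} (hw : w ∈ WJ cs {k, l}) (x : I → ℤ) (j : I) (hk : j ≠ k)
    (hl : j ≠ l) : rep cs h w x j = x j := by
  unfold WJ at hw
  induction hw using Subgroup.closure_induction generalizing x with
  | mem w hw =>
    obtain ⟨i, hi, rfl⟩ := hw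
    rcases hi with rfl | hi
    · exact rep_simple_apply cs h _ x j hk
    · rw [Set.mem_singleton_iff] at hi
      subst hi
      exact rep_simple_apply cs h _ x j hl
  | one => rw [map_one, Module.End.one_apply]
  | mul v w _ _ ih1 ih2 => rw [rep_mul_apply, ih1, ih2]
  | inv w _ ih =>
    have := ih (rep cs h w⁻¹ x)
    rw [rep_apply_inv] at this
    exact this.symm

theorem RootJ.apply {k l : I} {x : I → ℤ} (hx : RootJ cs h k l x) (j : I) (hk : j ≠ k)
    (hl : j ≠ l) : x j = 0 := by
  obtain ⟨w, hw, i, hi, rfl⟩ := hx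
  rw [rep_apply_of_mem cs h hw _ j hk hl]
  rcases hi with rfl | rfl
  · exact sr_ne hk
  · exact sr_ne hl

/-- A positive root made negative by an element of `W_{k,l}` is a root of the subsystem. -/
theorem rootJ_of_neg {k l : I} {w : W} (hw : w ∈ WJ cs {k, l}) {x : I → ℤ} (hx : IsRoot cs h x)
    (h0 : 0 ≤ x) (h1 : ¬ 0 ≤ rep cs h w x) : RootJ cs h k l x := by
  obtain ⟨ω, hω, rfl⟩ := exists_word_of_mem_WJ cs hw
  clear hw
  induction ω with
  | nil =>
    rw [wordProd_nil, map_one, Module.End.one_apply] at h1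
    exact absurd h0 h1
  | cons i ω ih =>
    have hω' : ∀ j ∈ ω, j ∈ ({k, l} : Set I) := fun j hj => hω j (by simp [hj])
    by_cases h2 : 0 ≤ rep cs h (cs.wordProd ω) x
    · rw [wordProd_cons, rep_mul_apply] at h1
      have h3 : rep cs h (cs.wordProd ω) x = sr i := by
        by_contra h4
        exact h1 ((hx.act _).simple_nonneg h2 i h4)
      have h5 : x = rep cs h (cs.wordProd ω)⁻¹ (sr i) := by rw [← h3, rep_inv_apply]
      refine ⟨_, inv_mem (wordProd_mem_WJ cs hω'), i, ?_, h5⟩
      have := hω i (by simp)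
      simpa using this
    · exact ih hω' h2

theorem sr_injective {i j : I} (hij : (sr i : I → ℤ) = sr j) : i = j := by
  by_contra hne
  have := congrFun hij i
  rw [sr_self, sr_ne hne] at this
  exact absurd this one_ne_zero

theorem exists_pos_of_ne_zero {x : I → ℤ} (h0 : 0 ≤ x) (hx : x ≠ 0) : 1 ≤ ∑ k, x k := by
  have h1 : 0 ≤ ∑ k, x k := Finset.sum_nonneg fun k _ => h0 k
  rcases h1.lt_or_eq with h2 | h2
  · omega
  · exfalso
    apply hx
    have h3 := (Finset.sum_eq_zero_iff_of_nonneg (fun k _ => h0 k)).1 h2.symm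
    funext k
    exact h3 k (Finset.mem_univ k)

theorem sum_sr (i : I) : ∑ k, (sr i : I → ℤ) k = 1 := by
  rw [Finset.sum_eq_single i (fun k _ hk => sr_ne hk) (by simp), sr_self]

/-- decomposition of a root of a rank two subsystem -/
theorem RootJ.eq_comb {k l : I} (hkl : k ≠ l) {x : I → ℤ} (hx : RootJ cs h k l x) :
    x = x k • sr k + x l • sr l := by
  funext j
  simp only [Pi.add_apply, Pi.smul_apply, smul_eq_mul]
  by_cases hk : j = k
  · subst hk
    rw [sr_self, sr_ne hkl, mul_one, mul_zero, add_zero]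
  · by_cases hl : j = l
    · subst hl
      rw [sr_self, sr_ne hk, mul_one, mul_zero, zero_add]
    · rw [hx.apply cs h j hk hl, sr_ne hk, sr_ne hl, mul_zero, mul_zero, add_zero]

/-- `v` positive on the simple roots `k`, `l` : if `v x` is simple for a root `x` of the subsystem then `x`
is simple. -/
theorem RootJ.simple_of_map {k l : I} (hkl : k ≠ l) {v : W} (hk : 0 ≤ rep cs h v (sr k))
    (hl : 0 ≤ rep cs h v (sr l)) {x : I → ℤ} (hx : RootJ cs h k l x) {i : I}
    (hvi : rep cs h v x = sr i) : x = sr k ∨ x = sr l := by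
  have hroot := hx.isRoot cs h
  have hk0 : rep cs h v (sr k) ≠ 0 := ((isRoot_sr cs h k).act v).ne_zero
  have hl0 : rep cs h v (sr l) ≠ 0 := ((isRoot_sr cs h l).act v).ne_zero
  have hk1 := exists_pos_of_ne_zero hk hk0
  have hl1 := exists_pos_of_ne_zero hl hl0
  have he := hx.eq_comb cs h hkl
  have hpos : 0 ≤ x := by
    rcases hroot.pos_or_neg with h1 | h1
    · exact h1
    · exfalso
      have h2 : rep cs h v x = x k • rep cs h v (sr k) + x l • rep cs h v (sr l) := by
        conv_lhs => rw [he]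
        rw [map_add, map_smul, map_smul]
      have h3 := congrArg (fun y : I → ℤ => ∑ j, y j) (hvi.symm.trans h2)
      simp only [sum_sr, Pi.add_apply, Pi.smul_apply, smul_eq_mul, Finset.sum_add_distrib,
        ← Finset.mul_sum] at h3
      have h4 := h1 k
      have h5 := h1 l
      simp only [Pi.zero_apply] at h4 h5
      nlinarith
  have h2 : rep cs h v x = x k • rep cs h v (sr k) + x l • rep cs h v (sr l) := by
    conv_lhs => rw [he]
    rw [map_add, map_smul, map_smul]
  have h3 := congrArg (fun y : I → ℤ => ∑ j, y j) (hvi.symm.trans h2)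
  simp only [sum_sr, Pi.add_apply, Pi.smul_apply, smul_eq_mul, Finset.sum_add_distrib,
    ← Finset.mul_sum] at h3
  have h4 := hpos k
  have h5 := hpos l
  simp only [Pi.zero_apply] at h4 h5
  have h6 : x k = 0 ∨ x l = 0 := by
    by_contra hne
    push Not at hne
    have h7 : 1 ≤ x k := by omega
    have h8 : 1 ≤ x l := by omega
    nlinarith
  rcases h6 with h6 | h6
  · right
    refine hroot.eq_sr hpos l fun j hj => ?_
    by_cases hjk : j = k
    · subst hjk; exact h6
    · exact hx.apply cs h j hjk hj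
  · left
    refine hroot.eq_sr hpos k fun j hj => ?_
    by_cases hjl : j = l
    · subst hjl; exact h6
    · exact hx.apply cs h j hj hjl

end Cfsg.Agent.Nodes
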