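import Mathlib
import Cfsg.Agent.Nodes.Base
/-!
NODES ⟹ BN-PAIR, part 2. A simple root and a positive root lie in a common translate of a standard
rank two subsystem (walk along the wall of the simple root).
-/

set_option autoImplicit false
set_option linter.unusedSectionVars false

namespace Cfsg.Agent.Nodes

open CoxeterSystem Cfsg.Agent.ChevalleyStructure.CoxeterGeom Cfsg.Agent.Tits.Roots
open Cfsg.Agent.Tits.Exchange Cfsg.Agent.Tits.Core

variable {I W : Type*} [Fintype I] [DecidableEq I] [Group W] {M : CoxeterMatrix I}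
  (cs : CoxeterSystem M W) {A : I → I → ℤ} (h : IsCartan M A)

theorem eq_sum_sr (x : I → ℤ) : x = ∑ k, x k • sr k := by
  funext j
  rw [Finset.sum_apply, Finset.sum_eq_single j]
  · rw [Pi.smul_apply, sr_self, smul_eq_mul, mul_one]
  · intro k _ hk
    rw [Pi.smul_apply, sr_ne hk.symm, smul_zero]
  · intro hj; exact absurd (Finset.mem_univ j) hj

theorem rep_eq_sum (w : W) (x : I → ℤ) : rep cs h w x = ∑ k, x k • rep cs h w (sr k) := by
  conv_lhs => rw [eq_sum_sr x]
  rw [map_sum]
  simp only [map_smul]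

/-- In a rank two parabolic subgroup there is a nontrivial element moving a simple root to `α_k` and the
other simple root to a negative root. -/
theorem exists_rank_two [Finite W] {k l : I} (hkl : k ≠ l) :
    ∃ w ∈ WJ cs {k, l}, w ≠ 1 ∧ ∃ j m, ((j = k ∧ m = l) ∨ (j = l ∧ m = k)) ∧
      rep cs h w (sr j) = sr k ∧ rep cs h w (sr m) ≤ 0 := by
  classical
  set S : Set W := {w | w ∈ WJ cs {k, l} ∧ 0 ≤ rep cs h w⁻¹ (sr k)} with hS
  have hfin : S.Finite := Set.toFinite S
  have hl : cs.simple l ∈ S := by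
    refine ⟨simple_mem_WJ cs (by simp), ?_⟩
    rw [inv_simple]
    exact (isRoot_sr cs h k).simple_nonneg (sr_nonneg k) l (fun h1 => hkl (sr_injective h1))
  obtain ⟨w, hwS, hmax⟩ := hfin.exists_maximalFor cs.length S ⟨_, hl⟩
  have hlen : 1 ≤ cs.length w := by
    by_contra hlt
    have h1 : cs.length w ≤ cs.length (cs.simple l) := by omega
    have h2 := hmax hl h1
    rw [cs.length_simple] at h2
    omega
  have hroot : IsRoot cs h (rep cs h w⁻¹ (sr k)) := (isRoot_sr cs h k).act _
  have key : ∀ j, (j = k ∨ j = l) → cs.length w < cs.length (w * cs.simple j) →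
      rep cs h w (sr j) = sr k := by
    intro j hj hlt
    have hnot : w * cs.simple j ∉ S := by
      intro hin
      have := hmax hin hlt.le
      omega
    have hmem : w * cs.simple j ∈ WJ cs {k, l} :=
      mul_mem hwS.1 (simple_mem_WJ cs (by rcases hj with rfl | rfl <;> simp))
    have hneg : ¬ 0 ≤ rep cs h (w * cs.simple j)⁻¹ (sr k) := fun h1 => hnot ⟨hmem, h1⟩
    rw [mul_inv_rev, inv_simple, rep_mul_apply] at hneg
    have h2 : rep cs h w⁻¹ (sr k) = sr j := by
      by_contra h3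
      exact hneg (hroot.simple_nonneg hwS.2 j h3)
    rw [← h2, rep_apply_inv]
  have other : ∀ j m, (j = k ∨ j = l) → (m = k ∨ m = l) → m ≠ j → rep cs h w (sr j) = sr k →
      rep cs h w (sr m) ≤ 0 := by
    intro j m _ hm hmj hj
    by_cases hlt : cs.length w < cs.length (w * cs.simple m)
    · exfalso
      have h1 := key m hm hlt
      exact hmj (sr_injective (rep_injective_apply cs h w (h1.trans hj.symm)))
    · refine nonpos_of_lt cs h w m ?_
      rcases cs.length_mul_simple w m with h1 | h1 <;> omega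
  by_cases hk : cs.length w < cs.length (w * cs.simple k)
  · exact ⟨w, hwS.1, fun h1 => by rw [h1, cs.length_one] at hlen; omega, k, l, Or.inl ⟨rfl, rfl⟩,
      key k (Or.inl rfl) hk, other k l (Or.inl rfl) (Or.inr rfl) hkl.symm (key k (Or.inl rfl) hk)⟩
  by_cases hl' : cs.length w < cs.length (w * cs.simple l)
  · exact ⟨w, hwS.1, fun h1 => by rw [h1, cs.length_one] at hlen; omega, l, k, Or.inr ⟨rfl, rfl⟩,
      key l (Or.inr rfl) hl', other l k (Or.inr rfl) (Or.inl rfl) hkl (key l (Or.inr rfl) hl')⟩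
  exfalso
  have hk2 : cs.length (w * cs.simple k) < cs.length w := by
    rcases cs.length_mul_simple w k with h1 | h1 <;> omega
  have hl2 : cs.length (w * cs.simple l) < cs.length w := by
    rcases cs.length_mul_simple w l with h1 | h1 <;> omega
  have nk : rep cs h w (sr k) ≤ 0 := nonpos_of_lt cs h w k hk2
  have nl : rep cs h w (sr l) ≤ 0 := nonpos_of_lt cs h w l hl2
  have hz : RootJ cs h k l (rep cs h w⁻¹ (sr k)) := (rootJ_left cs h k l).act cs h (inv_mem hwS.1)
  have he := hz.eq_comb cs h hkl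
  have h3 : sr k = (rep cs h w⁻¹ (sr k)) k • rep cs h w (sr k) +
      (rep cs h w⁻¹ (sr k)) l • rep cs h w (sr l) := by
    rw [← map_smul, ← map_smul, ← map_add, ← he, rep_apply_inv]
  have h4 := congrFun h3 k
  rw [sr_self] at h4
  simp only [Pi.add_apply, Pi.smul_apply, smul_eq_mul] at h4
  have h5 := nk k
  have h6 := nl k
  have h7 := hwS.2 k
  have h8 := hwS.2 l
  simp only [Pi.zero_apply] at h5 h6 h7 h8
  nlinarith [mul_nonneg h7 (neg_nonneg.2 h5), mul_nonneg h8 (neg_nonneg.2 h6)]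

/-- The element of `exists_rank_two` makes all other positive roots of the subsystem negative. -/
theorem nonpos_of_rank_two {k l : I} (hkl : k ≠ l) {w : W} (hw : w ∈ WJ cs {k, l}) {j m : I}
    (hjm : (j = k ∧ m = l) ∨ (j = l ∧ m = k)) (hj : rep cs h w (sr j) = sr k)
    (hm : rep cs h w (sr m) ≤ 0) {x : I → ℤ} (hx : RootJ cs h k l x) (h0 : 0 ≤ x) (hne : x ≠ sr k) :
    rep cs h w⁻¹ x ≤ 0 := by
  have hz : RootJ cs h k l (rep cs h w⁻¹ x) := hx.act cs h (inv_mem hw)
  rcases (hz.isRoot cs h).pos_or_neg with h1 | h1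
  · exfalso
    apply hne
    have hjm' : j ≠ m := by rcases hjm with ⟨rfl, rfl⟩ | ⟨rfl, rfl⟩ <;> [exact hkl; exact hkl.symm]
    have hz' : RootJ cs h j m (rep cs h w⁻¹ x) := by
      rcases hjm with ⟨rfl, rfl⟩ | ⟨rfl, rfl⟩
      · exact hz
      · exact hz.symm
    have he := hz'.eq_comb cs h hjm'
    have h3 : x = (rep cs h w⁻¹ x) j • sr k + (rep cs h w⁻¹ x) m • rep cs h w (sr m) := by
      rw [← hj, ← map_smul, ← map_smul, ← map_add, ← he, rep_apply_inv]
    refine (hx.isRoot cs h).eq_sr h0 k fun i hi => ?_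
    have h4 := congrFun h3 i
    simp only [Pi.add_apply, Pi.smul_apply, smul_eq_mul] at h4
    rw [sr_ne hi, mul_zero, zero_add] at h4
    have h5 := h1 m
    have h6 := hm i
    have h7 := h0 i
    simp only [Pi.zero_apply] at h5 h6 h7
    have h8 := mul_nonneg h5 (neg_nonneg.2 h6)
    rw [mul_neg] at h8
    omega
  · exact h1

/-- Closure lemma. -/
theorem exists_closure [Finite W] (i : I) {y : I → ℤ} (hy : IsRoot cs h y) (h0 : 0 ≤ y)
    (hne : y ≠ sr i) : ∃ (v : W) (k l : I) (y' : I → ℤ), k ≠ l ∧ rep cs h v (sr k) = sr i ∧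
      0 ≤ rep cs h v (sr l) ∧ RootJ cs h k l y' ∧ 0 ≤ y' ∧ rep cs h v y' = y := by
  classical
  set S : Set W := {v | (∃ k, rep cs h v (sr k) = sr i) ∧ 0 ≤ rep cs h v⁻¹ y} with hS
  have hfin : S.Finite := Set.toFinite S
  have h1S : (1 : W) ∈ S := by
    refine ⟨⟨i, by rw [map_one, Module.End.one_apply]⟩, ?_⟩
    rw [inv_one, map_one, Module.End.one_apply]
    exact h0
  obtain ⟨v, hvS, hmax⟩ := hfin.exists_maximalFor cs.length S ⟨_, h1S⟩
  obtain ⟨⟨k, hk⟩, hx0⟩ := hvS
  have hxr : IsRoot cs h (rep cs h v⁻¹ y) := hy.act _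
  have hvx : rep cs h v (rep cs h v⁻¹ y) = y := rep_apply_inv cs h v y
  obtain ⟨l, hkl, hl⟩ : ∃ l, k ≠ l ∧ 0 ≤ rep cs h v (sr l) := by
    by_contra hcon
    push Not at hcon
    have hneg : ∀ l, l ≠ k → rep cs h v (sr l) ≤ 0 := fun l hl =>
      (((isRoot_sr cs h l).act v).not_nonneg_iff).1 (hcon l hl.symm)
    apply hne
    refine hy.eq_sr h0 i fun j hj => ?_
    have h2 : y = ∑ m, (rep cs h v⁻¹ y) m • rep cs h v (sr m) := by
      rw [← rep_eq_sum, hvx]
    have h3 := congrFun h2 j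
    rw [Finset.sum_apply] at h3
    have h4 : ∑ m, ((rep cs h v⁻¹ y) m • rep cs h v (sr m)) j ≤ 0 := by
      refine Finset.sum_nonpos fun m _ => ?_
      rw [Pi.smul_apply, smul_eq_mul]
      by_cases hm : m = k
      · subst hm
        rw [hk, sr_ne hj, mul_zero]
      · have h5 := hneg m hm j
        have h6 := hx0 m
        simp only [Pi.zero_apply] at h5 h6
        exact mul_nonpos_of_nonneg_of_nonpos h6 h5
    have h5 := h0 j
    simp only [Pi.zero_apply] at h5
    omega
  refine ⟨v, k, l, rep cs h v⁻¹ y, hkl, hk, hl, ?_, hx0, hvx⟩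
  by_contra hnot
  obtain ⟨w, hw, hw1, j, -, -, hwj, -⟩ := exists_rank_two cs h hkl
  have hpos : 0 ≤ rep cs h w⁻¹ (rep cs h v⁻¹ y) := by
    by_contra hneg
    exact hnot (rootJ_of_neg cs h (inv_mem hw) hxr hx0 hneg)
  have hmin : IsMinR cs {k, l} v := by
    rw [isMinR_iff]
    intro m hm
    rcases hm with rfl | hm
    · rw [lt_iff' cs h]
      show 0 ≤ rep cs h v (sr m)
      rw [hk]; exact sr_nonneg i
    · rw [Set.mem_singleton_iff] at hm
      subst hm
      rw [lt_iff' cs h]
      exact hl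
  have hlen := hmin w hw
  have hw2 : cs.length w ≠ 0 := fun h1 => hw1 (cs.length_eq_zero_iff.1 h1)
  have hin : v * w ∈ S := by
    refine ⟨⟨j, by rw [rep_mul_apply, hwj, hk]⟩, ?_⟩
    rw [mul_inv_rev, rep_mul_apply]
    exact hpos
  have := hmax hin (by omega)
  omega

end Cfsg.Agent.Nodes
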