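import Mathlib
import Cfsg.Agent.Nodes.Closure
/-!
NODES ⟹ BN-PAIR, part 3. The structure `Sys` (node system) and the root groups `XX x` of all roots.
-/

set_option autoImplicit false
set_option linter.unusedSectionVars false

namespace Cfsg.Agent.Nodes

open CoxeterSystem Cfsg.Agent.ChevalleyStructure.CoxeterGeom Cfsg.Agent.Tits.Roots
open Cfsg.Agent.Tits.Exchange Cfsg.Agent.Tits.Core
open scoped commutatorElement

variable {I W : Type*} [Fintype I] [DecidableEq I] [Group W] {M : CoxeterMatrix I}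
  (cs : CoxeterSystem M W) {A : I → I → ℤ} (h : IsCartan M A)

/-- the roots strictly between `x` and `y` in the subsystem of `k` and `l` (rational positive combinations) -/
def Cone (k l : I) (x y : I → ℤ) : Set (I → ℤ) :=
  {z | RootJ cs h k l z ∧ ∃ e c d : ℤ, 0 < e ∧ 0 < c ∧ 0 < d ∧ e • z = c • x + d • y}

theorem mem_Cone_of_eq {k l : I} {x y z : I → ℤ} (hz : RootJ cs h k l z) {c d : ℤ} (hc : 0 < c) (hd : 0 < d)
    (he : z = c • x + d • y) : z ∈ Cone cs h k l x y :=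
  ⟨hz, 1, c, d, one_pos, hc, hd, by rw [one_smul, he]⟩

/-- A system of nodes in the group `G`: simple root groups `U i`, elements `n i`, a torus `H`, and for each
pair of nodes a system `X k l` of root groups of rank two. -/
structure Sys (G : Type*) [Group G] where
  U : I → Subgroup G
  n : I → G
  H : Subgroup G
  nH : ∀ i t, n i * t * (n i)⁻¹ ∈ H ↔ t ∈ H
  braid : ∀ i j, (n i * n j) ^ M i j ∈ H
  HU : ∀ i, ∀ t ∈ H, ∀ u, t * u * t⁻¹ ∈ U i ↔ u ∈ U i
  X : I → I → (I → ℤ) → Subgroup G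
  X_left : ∀ k l, k ≠ l → X k l (sr k) = U k
  X_right : ∀ k l, k ≠ l → X k l (sr l) = U l
  X_conj : ∀ k l, k ≠ l → ∀ x, RootJ cs h k l x → ∀ j, (j = k ∨ j = l) →
    ∀ a, n j * a * (n j)⁻¹ ∈ X k l (rep cs h (cs.simple j) x) ↔ a ∈ X k l x
  X_comm : ∀ k l, k ≠ l → ∀ j, (j = k ∨ j = l) → ∀ x, RootJ cs h k l x → 0 ≤ x → x ≠ sr j →
    ∀ a ∈ U j, ∀ b ∈ X k l x, ⁅a, b⁆ ∈ ⨆ z ∈ Cone cs h k l (sr j) x, X k l z

namespace Sys

variable {cs h} {G : Type*} [Group G] (D : Sys cs h G)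

theorem n_mem (i : I) : D.n i ∈ Subgroup.normalizer (D.H : Set G) := by
  rw [Subgroup.mem_normalizer_iff]
  intro t
  exact (D.nH i t).symm

theorem H_le : D.H ≤ Subgroup.normalizer (D.H : Set G) := Subgroup.le_normalizer

instance normal_H : (D.H.subgroupOf (Subgroup.normalizer (D.H : Set G))).Normal :=
  Subgroup.normal_in_normalizer

/-- The homomorphism from the Coxeter group. -/
noncomputable def phi : W →* ↥(Subgroup.normalizer (D.H : Set G)) ⧸
    D.H.subgroupOf (Subgroup.normalizer (D.H : Set G)) :=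
  cs.lift ⟨fun i => QuotientGroup.mk ⟨D.n i, D.n_mem i⟩, fun i j => by
    rw [← QuotientGroup.mk_mul, ← QuotientGroup.mk_pow, QuotientGroup.eq_one_iff,
      Subgroup.mem_subgroupOf]
    simpa using D.braid i j⟩

theorem phi_simple (i : I) : D.phi (cs.simple i) = QuotientGroup.mk ⟨D.n i, D.n_mem i⟩ :=
  cs.lift_apply_simple _ i

/-- `g` lifts `w` -/
def Lift (w : W) (g : G) : Prop :=
  ∃ hg : g ∈ Subgroup.normalizer (D.H : Set G), D.phi w = QuotientGroup.mk ⟨g, hg⟩

theorem lift_one_iff {g : G} : D.Lift 1 g ↔ g ∈ D.H := by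
  constructor
  · rintro ⟨hg, h1⟩
    rw [map_one, eq_comm, QuotientGroup.eq_one_iff, Subgroup.mem_subgroupOf] at h1
    exact h1
  · intro hg
    refine ⟨D.H_le hg, ?_⟩
    rw [map_one, eq_comm, QuotientGroup.eq_one_iff, Subgroup.mem_subgroupOf]
    exact hg

theorem lift_simple (i : I) : D.Lift (cs.simple i) (D.n i) := ⟨D.n_mem i, D.phi_simple i⟩

variable {D} in
theorem Lift.mul {v w : W} {a b : G} (ha : D.Lift v a) (hb : D.Lift w b) :
    D.Lift (v * w) (a * b) := by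
  obtain ⟨ha', ha2⟩ := ha
  obtain ⟨hb', hb2⟩ := hb
  refine ⟨mul_mem ha' hb', ?_⟩
  rw [map_mul, ha2, hb2]
  rfl

variable {D} in
theorem Lift.inv {v : W} {a : G} (ha : D.Lift v a) : D.Lift v⁻¹ a⁻¹ := by
  obtain ⟨ha', ha2⟩ := ha
  refine ⟨inv_mem ha', ?_⟩
  rw [map_inv, ha2]
  rfl

variable {D} in
theorem Lift.unique {v : W} {a b : G} (ha : D.Lift v a) (hb : D.Lift v b) : a⁻¹ * b ∈ D.H := by
  rw [← lift_one_iff]
  have := ha.inv.mul hb
  rwa [inv_mul_cancel] at this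

variable {D} in
theorem Lift.mul_right {v : W} {a t : G} (ha : D.Lift v a) (ht : t ∈ D.H) : D.Lift v (a * t) := by
  have := ha.mul (D.lift_one_iff.2 ht)
  rwa [mul_one] at this

variable {D} in
theorem Lift.mul_left {v : W} {a t : G} (ha : D.Lift v a) (ht : t ∈ D.H) : D.Lift v (t * a) := by
  have := (D.lift_one_iff.2 ht).mul ha
  rwa [one_mul] at this

/-- the subgroup `N` -/
def N : Subgroup G := D.H ⊔ Subgroup.closure (Set.range D.n)

theorem H_le_N : D.H ≤ D.N := le_sup_left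

theorem n_mem_N (i : I) : D.n i ∈ D.N :=
  (le_sup_right : Subgroup.closure (Set.range D.n) ≤ D.N) (Subgroup.subset_closure ⟨i, rfl⟩)

theorem exists_lift (w : W) : ∃ g ∈ D.N, D.Lift w g := by
  induction w using cs.simple_induction_left with
  | one => exact ⟨1, one_mem _, D.lift_one_iff.2 (one_mem _)⟩
  | mul_simple_left w i ih =>
    obtain ⟨g, hg, hl⟩ := ih
    exact ⟨D.n i * g, mul_mem (D.n_mem_N i) hg, (D.lift_simple i).mul hl⟩

theorem exists_of_mem_N {g : G} (hg : g ∈ D.N) : ∃ w, D.Lift w g := by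
  have h1 : D.N ≤ Subgroup.normalizer (D.H : Set G) := by
    refine sup_le D.H_le ?_
    rw [Subgroup.closure_le]
    rintro _ ⟨i, rfl⟩
    exact D.n_mem i
  have key : D.N ≤ (D.phi.range.comap (QuotientGroup.mk' _)).map (Subgroup.subtype _) := by
    refine sup_le ?_ ?_
    · intro t ht
      exact ⟨⟨t, D.H_le ht⟩, ⟨1, by
        obtain ⟨hg, h2⟩ := D.lift_one_iff.2 ht
        exact h2⟩, rfl⟩
    · rw [Subgroup.closure_le]
      rintro _ ⟨i, rfl⟩
      exact ⟨⟨D.n i, D.n_mem i⟩, ⟨cs.simple i, D.phi_simple i⟩, rfl⟩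
  obtain ⟨⟨g', hg'⟩, ⟨w, hw⟩, rfl⟩ := key hg
  exact ⟨w, hg', hw⟩

variable {D} in
theorem Lift.mem_N {w : W} {g : G} (hg : D.Lift w g) : g ∈ D.N := by
  obtain ⟨g', hg', hl⟩ := D.exists_lift w
  have h1 := hl.unique hg
  have h2 : g = g' * (g'⁻¹ * g) := by group
  rw [h2]
  exact mul_mem hg' (D.H_le_N h1)

/-! ### rank two: conjugation by lifts of elements of `W_{k,l}` -/

theorem X_inv_conj {k l : I} (hkl : k ≠ l) {x : I → ℤ} (hx : RootJ cs h k l x) {j : I}
    (hj : j = k ∨ j = l) (a : G) :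
    (D.n j)⁻¹ * a * D.n j ∈ D.X k l (rep cs h (cs.simple j) x) ↔ a ∈ D.X k l x := by
  have hx' : RootJ cs h k l (rep cs h (cs.simple j) x) :=
    hx.act cs h (simple_mem_WJ cs (by rcases hj with rfl | rfl <;> simp))
  rw [← D.X_conj k l hkl _ hx' j hj]
  have h1 : rep cs h (cs.simple j) (rep cs h (cs.simple j) x) = x := by
    rw [← rep_mul_apply, simple_mul_simple_self, map_one, Module.End.one_apply]
  have h2 : D.n j * ((D.n j)⁻¹ * a * D.n j) * (D.n j)⁻¹ = a := by group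
  rw [h1, h2]

/-- `H` normalises the rank two root groups and lifts permute them. -/
theorem X_lift {k l : I} (hkl : k ≠ l) : ∀ {w : W}, w ∈ WJ cs {k, l} → ∃ g, D.Lift w g ∧
    ∀ x, RootJ cs h k l x → ∀ a, g * a * g⁻¹ ∈ D.X k l (rep cs h w x) ↔ a ∈ D.X k l x := by
  intro w hw
  obtain ⟨ω, hω, rfl⟩ := exists_word_of_mem_WJ cs hw
  clear hw
  induction ω with
  | nil =>
    refine ⟨1, ?_, fun x _ a => ?_⟩
    · rw [wordProd_nil]; exact D.lift_one_iff.2 (one_mem _)
    · rw [wordProd_nil, map_one, Module.End.one_apply, one_mul, inv_one, mul_one]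
  | cons i ω ih =>
    have hω' : ∀ j ∈ ω, j ∈ ({k, l} : Set I) := fun j hj => hω j (by simp [hj])
    obtain ⟨g, hg, hconj⟩ := ih hω'
    have hi : i = k ∨ i = l := by simpa using hω i (by simp)
    refine ⟨D.n i * g, ?_, fun x hx a => ?_⟩
    · rw [wordProd_cons]; exact (D.lift_simple i).mul hg
    · rw [wordProd_cons, rep_mul_apply, ← hconj x hx a,
        ← D.X_conj k l hkl _ (hx.act cs h (wordProd_mem_WJ cs hω')) i hi]
      have : D.n i * g * a * (D.n i * g)⁻¹ = D.n i * (g * a * g⁻¹) * (D.n i)⁻¹ := by group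
      rw [this]

theorem X_H {k l : I} (hkl : k ≠ l) {x : I → ℤ} (hx : RootJ cs h k l x) {t : G} (ht : t ∈ D.H)
    (a : G) : t * a * t⁻¹ ∈ D.X k l x ↔ a ∈ D.X k l x := by
  obtain ⟨w, hw, i, hi, rfl⟩ := hx
  obtain ⟨g, hg, hconj⟩ := D.X_lift hkl hw
  have hXi : D.X k l (sr i) = D.U i := by
    rcases hi with rfl | rfl
    · exact D.X_left _ _ hkl
    · exact D.X_right _ _ hkl
  have hri : RootJ cs h k l (sr i) := by
    rcases hi with rfl | rfl
    · exact rootJ_left cs h _ _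
    · exact rootJ_right cs h _ _
  have h1 : ∀ b, b ∈ D.X k l (rep cs h w (sr i)) ↔ g⁻¹ * b * g ∈ D.U i := by
    intro b
    rw [← hXi, ← hconj _ hri]
    have : g * (g⁻¹ * b * g) * g⁻¹ = b := by group
    rw [this]
  have ht' : g⁻¹ * t * g ∈ D.H := by
    obtain ⟨hg', -⟩ := hg.inv
    have := (Subgroup.mem_normalizer_iff.1 hg' t).1 ht
    simpa using this
  rw [h1, h1]
  have h2 : g⁻¹ * (t * a * t⁻¹) * g = (g⁻¹ * t * g) * (g⁻¹ * a * g) * (g⁻¹ * t * g)⁻¹ := by group
  rw [h2]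
  exact D.HU i _ ht' _

theorem X_lift' {k l : I} (hkl : k ≠ l) {w : W} (hw : w ∈ WJ cs {k, l}) {g : G}
    (hg : D.Lift w g) {x : I → ℤ} (hx : RootJ cs h k l x) (a : G) :
    g * a * g⁻¹ ∈ D.X k l (rep cs h w x) ↔ a ∈ D.X k l x := by
  obtain ⟨g', hg', hconj⟩ := D.X_lift hkl hw
  have h1 := hg'.unique hg
  have h2 : g * a * g⁻¹ = g' * ((g'⁻¹ * g) * a * (g'⁻¹ * g)⁻¹) * g'⁻¹ := by group
  rw [h2, hconj x hx]
  exact D.X_H hkl hx h1 a

/-! ### the root groups are well defined -/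

/-- If `w(α_i) = α_j` then each lift of `w` conjugates `U i` to `U j`. -/
theorem U_lift [Finite W] {w : W} {g : G} (hg : D.Lift w g) {i j : I}
    (hij : rep cs h w (sr i) = sr j) (a : G) : g * a * g⁻¹ ∈ D.U j ↔ a ∈ D.U i := by
  induction hn : cs.length w using Nat.strong_induction_on generalizing w g i j a with
  | _ N ih =>
  by_cases hw1 : w = 1
  · subst hw1
    rw [map_one, Module.End.one_apply] at hij
    rw [sr_injective hij]
    exact D.HU j g (D.lift_one_iff.1 hg) a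
  obtain ⟨k, hk⟩ := cs.exists_rightDescent_of_ne_one hw1
  have hk' : cs.length (w * cs.simple k) < cs.length w := hk
  have hik : i ≠ k := by
    rintro rfl
    have h1 : rep cs h w (sr i) ≤ 0 := nonpos_of_lt cs h w i hk'
    rw [hij] at h1
    have h2 := h1 j
    rw [sr_self] at h2
    exact absurd h2 (by simp)
  obtain ⟨v, hv, y, hy, rfl⟩ := exists_isMinR cs {i, k} w
  have hvi : 0 ≤ rep cs h v (sr i) := by
    have := (isMinR_iff cs).1 hv i (by simp)
    exact (lt_iff' cs h v i).1 this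
  have hvk : 0 ≤ rep cs h v (sr k) := by
    have := (isMinR_iff cs).1 hv k (by simp)
    exact (lt_iff' cs h v k).1 this
  have hxJ : RootJ cs h i k (rep cs h y (sr i)) := (rootJ_left cs h i k).act cs h hy
  have hvx : rep cs h v (rep cs h y (sr i)) = sr j := by rw [← rep_mul_apply]; exact hij
  have hlen := hv y hy
  have hy1 : cs.length y ≠ 0 := by
    intro h0
    rw [cs.length_eq_zero_iff] at h0
    subst h0
    rw [mul_one] at hk'
    have := (isMinR_iff cs).1 hv k (by simp)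
    omega
  obtain ⟨gy, -, hgy⟩ := D.exists_lift y
  have hgv : D.Lift v (g * gy⁻¹) := by
    have := hg.mul hgy.inv
    rwa [mul_inv_cancel_right] at this
  have hsplit : g * a * g⁻¹ = (g * gy⁻¹) * (gy * a * gy⁻¹) * (g * gy⁻¹)⁻¹ := by group
  have hUi : D.X i k (sr i) = D.U i := D.X_left _ _ hik
  have h3 := D.X_lift' hik hy hgy (rootJ_left cs h i k) a
  rw [hUi] at h3
  rcases hxJ.simple_of_map cs h hik hvi hvk hvx with h4 | h4
  · rw [h4] at hvx h3
    rw [hUi] at h3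
    rw [hsplit, ih (cs.length v) (by omega) hgv hvx _ rfl, h3]
  · rw [h4] at hvx h3
    rw [D.X_right _ _ hik] at h3
    rw [hsplit, ih (cs.length v) (by omega) hgv hvx _ rfl, h3]

/-- The root group of the root `x`. -/
def XX (x : I → ℤ) : Subgroup G :=
  ⨆ (w : W) (i : I) (g : G) (_ : rep cs h w (sr i) = x ∧ D.Lift w g),
    (D.U i).map (MulAut.conj g).toMonoidHom

theorem mem_XX [Finite W] {w : W} {g : G} (hg : D.Lift w g) (i : I) (a : G) :
    a ∈ D.XX (rep cs h w (sr i)) ↔ g⁻¹ * a * g ∈ D.U i := by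
  have key : ∀ (w' : W) (i' : I) (g' : G), rep cs h w' (sr i') = rep cs h w (sr i) →
      D.Lift w' g' → (D.U i').map (MulAut.conj g').toMonoidHom =
        (D.U i).map (MulAut.conj g).toMonoidHom := by
    intro w' i' g' h1 h2
    have h3 : rep cs h (w⁻¹ * w') (sr i') = sr i := by rw [rep_mul_apply, h1, rep_inv_apply]
    have h4 := D.U_lift (hg.inv.mul h2) h3
    ext b
    simp only [Subgroup.mem_map, MulEquiv.coe_toMonoidHom, MulAut.conj_apply]
    constructor
    · rintro ⟨u, hu, rfl⟩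
      exact ⟨_, (h4 u).2 hu, by group⟩
    · rintro ⟨u, hu, rfl⟩
      refine ⟨(g⁻¹ * g')⁻¹ * u * (g⁻¹ * g'), ?_, by group⟩
      rw [← h4]
      have : g⁻¹ * g' * ((g⁻¹ * g')⁻¹ * u * (g⁻¹ * g')) * (g⁻¹ * g')⁻¹ = u := by group
      rw [this]; exact hu
  have hX : D.XX (rep cs h w (sr i)) = (D.U i).map (MulAut.conj g).toMonoidHom := by
    apply le_antisymm
    · refine iSup_le fun w' => iSup_le fun i' => iSup_le fun g' => iSup_le fun h1 => ?_
      exact (key w' i' g' h1.1 h1.2).le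
    · exact le_iSup_of_le w (le_iSup_of_le i (le_iSup_of_le g (le_iSup_of_le ⟨rfl, hg⟩ le_rfl)))
  rw [hX]
  simp only [Subgroup.mem_map, MulEquiv.coe_toMonoidHom, MulAut.conj_apply]
  constructor
  · rintro ⟨u, hu, rfl⟩
    have : g⁻¹ * (g * u * g⁻¹) * g = u := by group
    rw [this]; exact hu
  · intro hu
    exact ⟨_, hu, by group⟩

theorem XX_sr [Finite W] (i : I) : D.XX (sr i) = D.U i := by
  ext a
  have h1 := D.mem_XX (D.lift_one_iff.2 (one_mem _)) i a
  rw [map_one, Module.End.one_apply] at h1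
  simpa using h1

theorem XX_lift [Finite W] {w : W} {g : G} (hg : D.Lift w g) {x : I → ℤ} (hx : IsRoot cs h x)
    (a : G) : g * a * g⁻¹ ∈ D.XX (rep cs h w x) ↔ a ∈ D.XX x := by
  obtain ⟨v, i, rfl⟩ := hx
  obtain ⟨γ, -, hγ⟩ := D.exists_lift v
  rw [← rep_mul_apply, D.mem_XX (hg.mul hγ), D.mem_XX hγ]
  have : (g * γ)⁻¹ * (g * a * g⁻¹) * (g * γ) = γ⁻¹ * a * γ := by group
  rw [this]

theorem XX_H [Finite W] {t : G} (ht : t ∈ D.H) {x : I → ℤ} (hx : IsRoot cs h x) (a : G) :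
    t * a * t⁻¹ ∈ D.XX x ↔ a ∈ D.XX x := by
  have := D.XX_lift (D.lift_one_iff.2 ht) hx a
  rwa [map_one, Module.End.one_apply] at this

theorem XX_eq_X [Finite W] {k l : I} (hkl : k ≠ l) {x : I → ℤ} (hx : RootJ cs h k l x) :
    D.XX x = D.X k l x := by
  obtain ⟨w, hw, i, hi, rfl⟩ := hx
  obtain ⟨g, -, hg⟩ := D.exists_lift w
  have hXi : D.X k l (sr i) = D.U i := by
    rcases hi with rfl | rfl
    · exact D.X_left _ _ hkl
    · exact D.X_right _ _ hkl
  have hri : RootJ cs h k l (sr i) := by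
    rcases hi with rfl | rfl
    · exact rootJ_left cs h _ _
    · exact rootJ_right cs h _ _
  ext a
  rw [D.mem_XX hg, ← hXi, ← D.X_lift' hkl hw hg hri]
  have : g * (g⁻¹ * a * g) * g⁻¹ = a := by group
  rw [this]

end Sys

end Cfsg.Agent.Nodes
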