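import Mathlib
import Cfsg.Agent.Nodes.System
/-!
NODES ⟹ BN-PAIR, part 4. Commutator relations for all pairs of roots, the group `UP` generated by the
positive root groups, its subgroup `R i`.
-/

set_option autoImplicit false
set_option linter.unusedSectionVars false

namespace Cfsg.Agent.Nodes

open CoxeterSystem Cfsg.Agent.ChevalleyStructure.CoxeterGeom Cfsg.Agent.Tits.Roots
open Cfsg.Agent.Tits.Exchange Cfsg.Agent.Tits.Core
open scoped commutatorElement

variable {I W : Type*} [Fintype I] [DecidableEq I] [Group W] {M : CoxeterMatrix I}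
  {cs : CoxeterSystem M W} {A : I → I → ℤ} {h : IsCartan M A}

/-- all roots that are rational positive combinations of `x` and `y` -/
def Cone' (cs : CoxeterSystem M W) (h : IsCartan M A) (x y : I → ℤ) : Set (I → ℤ) :=
  {z | IsRoot cs h z ∧ ∃ e c d : ℤ, 0 < e ∧ 0 < c ∧ 0 < d ∧ e • z = c • x + d • y}

namespace Sys

variable {G : Type*} [Group G] (D : Sys cs h G)

/-- conjugating a supremum of root groups by a lift -/
theorem conj_iSup_mem [Finite W] {w : W} {g : G} (hg : D.Lift w g) {S S' : Set (I → ℤ)}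
    (hS : ∀ z ∈ S, IsRoot cs h z) (hSS : ∀ z ∈ S, rep cs h w z ∈ S') {a : G}
    (ha : a ∈ ⨆ z ∈ S, D.XX z) : g * a * g⁻¹ ∈ ⨆ z ∈ S', D.XX z := by
  have h1 : (⨆ z ∈ S, D.XX z) ≤
      (⨆ z ∈ S', D.XX z).comap (MulAut.conj g).toMonoidHom := by
    refine iSup₂_le fun z hz b hb => ?_
    rw [Subgroup.mem_comap]
    simp only [MulEquiv.coe_toMonoidHom, MulAut.conj_apply]
    have h2 : D.XX (rep cs h w z) ≤ ⨆ z ∈ S', D.XX z := le_iSup₂_of_le _ (hSS z hz) le_rfl
    exact h2 ((D.XX_lift hg (hS z hz) b).2 hb)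
  have := h1 ha
  simpa using this

/-- The commutator relations for all pairs of roots. -/
theorem comm [Finite W] {x y : I → ℤ} (hx : IsRoot cs h x) (hy : IsRoot cs h y) (hxy : x ≠ y)
    (hxy' : x ≠ -y) {a b : G} (ha : a ∈ D.XX x) (hb : b ∈ D.XX y) :
    ⁅a, b⁆ ∈ ⨆ z ∈ Cone' cs h x y, D.XX z := by
  obtain ⟨w, i, rfl⟩ := hx
  have hy1 : IsRoot cs h (rep cs h w⁻¹ y) := hy.act _
  have hwy : rep cs h w (rep cs h w⁻¹ y) = y := rep_apply_inv cs h w y
  -- main step: a presentation of the pair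
  have main : ∃ (v : W) (k l j : I) (y' : I → ℤ), k ≠ l ∧ (j = k ∨ j = l) ∧
      rep cs h v (sr j) = sr i ∧ RootJ cs h k l y' ∧ 0 ≤ y' ∧ y' ≠ sr j ∧
      rep cs h v y' = rep cs h w⁻¹ y := by
    rcases hy1.pos_or_neg with hpos | hneg
    · have hne : rep cs h w⁻¹ y ≠ sr i := by
        intro h1
        apply hxy
        rw [← h1, hwy]
      obtain ⟨v, k, l, y', hkl, hk, -, hy', h0', hvy⟩ := exists_closure cs h i hy1 hpos hne
      refine ⟨v, k, l, k, y', hkl, Or.inl rfl, hk, hy', h0', ?_, hvy⟩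
      rintro rfl
      exact hne (hvy.symm.trans hk)
    · have hpos : 0 ≤ -rep cs h w⁻¹ y := neg_nonneg.2 hneg
      have hne : -rep cs h w⁻¹ y ≠ sr i := by
        intro h1
        apply hxy'
        rw [← h1, map_neg, hwy]
      obtain ⟨v, k, l, y', hkl, hk, -, hy', h0', hvy⟩ := exists_closure cs h i hy1.neg hpos hne
      obtain ⟨t, ht, -, j, m, hjm, htj, htm⟩ := exists_rank_two cs h hkl
      have hy'k : y' ≠ sr k := by
        rintro rfl
        exact hne (hvy.symm.trans hk)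
      have h3 := nonpos_of_rank_two cs h hkl ht hjm htj htm hy' h0' hy'k
      have hJ : RootJ cs h k l (-rep cs h t⁻¹ y') := by
        obtain ⟨u, hu, q, hq, hq2⟩ := hy'.act cs h (inv_mem ht)
        refine ⟨u * cs.simple q, mul_mem hu (simple_mem_WJ cs (by rcases hq with rfl | rfl <;> simp)),
          q, hq, ?_⟩
        rw [hq2, rep_mul_apply, rep_simple_sr, map_neg]
      refine ⟨v * t, k, l, j, -rep cs h t⁻¹ y', hkl, ?_, ?_, hJ, neg_nonneg.2 h3, ?_, ?_⟩
      · rcases hjm with ⟨rfl, -⟩ | ⟨rfl, -⟩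
        · exact Or.inl rfl
        · exact Or.inr rfl
      · rw [rep_mul_apply, htj, hk]
      · intro h4
        have h5 : rep cs h t (-rep cs h t⁻¹ y') = sr k := by rw [h4, htj]
        rw [map_neg, rep_apply_inv] at h5
        have h6 := congrFun h5 k
        rw [sr_self, Pi.neg_apply] at h6
        have h7 := h0' k
        simp only [Pi.zero_apply] at h7
        omega
      · rw [map_neg, rep_mul_apply, rep_apply_inv, hvy, neg_neg]
  obtain ⟨v, k, l, j, y', hkl, hj, hvj, hy', h0', hy'j, hvy⟩ := main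
  obtain ⟨γ, -, hγ⟩ := D.exists_lift (w * v)
  have hj' : RootJ cs h k l (sr j) := by
    rcases hj with rfl | rfl
    · exact rootJ_left cs h _ _
    · exact rootJ_right cs h _ _
  have e1 : rep cs h (w * v) (sr j) = rep cs h w (sr i) := by rw [rep_mul_apply, hvj]
  have e2 : rep cs h (w * v) y' = y := by rw [rep_mul_apply, hvy, hwy]
  have ha' : γ⁻¹ * a * γ ∈ D.U j := by
    rw [← D.XX_sr j, ← D.XX_lift hγ (isRoot_sr cs h j), e1]
    have : γ * (γ⁻¹ * a * γ) * γ⁻¹ = a := by group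
    rw [this]; exact ha
  have hb' : γ⁻¹ * b * γ ∈ D.X k l y' := by
    rw [← D.XX_eq_X hkl hy', ← D.XX_lift hγ (hy'.isRoot cs h), e2]
    have : γ * (γ⁻¹ * b * γ) * γ⁻¹ = b := by group
    rw [this]; exact hb
  have hc := D.X_comm k l hkl j hj y' hy' h0' hy'j _ ha' _ hb'
  have hle : (⨆ z ∈ Cone cs h k l (sr j) y', D.X k l z) ≤
      ⨆ z ∈ Cone cs h k l (sr j) y', D.XX z :=
    iSup₂_le fun z hz => le_iSup₂_of_le z hz (D.XX_eq_X hkl hz.1).ge
  have h8 := D.conj_iSup_mem hγ (S' := Cone' cs h (rep cs h w (sr i)) y)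
    (fun z hz => hz.1.isRoot cs h) (fun z hz => ?_) (hle hc)
  · have : γ * ⁅γ⁻¹ * a * γ, γ⁻¹ * b * γ⁆ * γ⁻¹ = ⁅a, b⁆ := by
      simp only [commutatorElement_def]; group
    rwa [this] at h8
  · obtain ⟨e, c, d, he', hc', hd', hz'⟩ := hz.2
    refine ⟨(hz.1.isRoot cs h).act _, e, c, d, he', hc', hd', ?_⟩
    rw [← map_smul, hz', map_add, map_smul, map_smul, e1, e2]

/-! ### positive root groups -/

/-- The group generated by the positive root groups. -/
def UP : Subgroup G := ⨆ z ∈ {z | IsRoot cs h z ∧ 0 ≤ z}, D.XX z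

/-- The group generated by the positive root groups other than `U i`. -/
def R (i : I) : Subgroup G := ⨆ z ∈ {z | IsRoot cs h z ∧ 0 ≤ z ∧ z ≠ sr i}, D.XX z

theorem XX_le_UP {z : I → ℤ} (hz : IsRoot cs h z) (h0 : 0 ≤ z) : D.XX z ≤ D.UP :=
  le_iSup₂_of_le z ⟨hz, h0⟩ le_rfl

theorem XX_le_R {i : I} {z : I → ℤ} (hz : IsRoot cs h z) (h0 : 0 ≤ z) (hi : z ≠ sr i) :
    D.XX z ≤ D.R i := le_iSup₂_of_le z ⟨hz, h0, hi⟩ le_rfl

theorem R_le_UP (i : I) : D.R i ≤ D.UP :=
  iSup₂_le fun _ hz => D.XX_le_UP hz.1 hz.2.1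

theorem U_le_UP [Finite W] (i : I) : D.U i ≤ D.UP := by
  rw [← D.XX_sr i]
  exact D.XX_le_UP (isRoot_sr cs h i) (sr_nonneg i)

theorem UP_eq [Finite W] (i : I) : D.UP = D.U i ⊔ D.R i := by
  apply le_antisymm
  · refine iSup₂_le fun z hz => ?_
    by_cases hi : z = sr i
    · rw [hi, D.XX_sr]; exact le_sup_left
    · exact le_sup_of_le_right (D.XX_le_R hz.1 hz.2 hi)
  · exact sup_le (D.U_le_UP i) (D.R_le_UP i)

theorem H_UP [Finite W] {t : G} (ht : t ∈ D.H) {a : G} (ha : a ∈ D.UP) : t * a * t⁻¹ ∈ D.UP := by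
  refine D.conj_iSup_mem (D.lift_one_iff.2 ht) (fun z hz => hz.1) (fun z hz => ?_) ha
  rw [map_one, Module.End.one_apply]; exact hz

theorem H_R [Finite W] (i : I) {t : G} (ht : t ∈ D.H) {a : G} (ha : a ∈ D.R i) :
    t * a * t⁻¹ ∈ D.R i := by
  refine D.conj_iSup_mem (D.lift_one_iff.2 ht) (fun z hz => hz.1) (fun z hz => ?_) ha
  rw [map_one, Module.End.one_apply]; exact hz

theorem simple_mem {i : I} {z : I → ℤ} (hz : IsRoot cs h z ∧ 0 ≤ z ∧ z ≠ sr i) :
    IsRoot cs h (rep cs h (cs.simple i) z) ∧ 0 ≤ rep cs h (cs.simple i) z ∧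
      rep cs h (cs.simple i) z ≠ sr i := by
  refine ⟨hz.1.act _, hz.1.simple_nonneg hz.2.1 i hz.2.2, fun h1 => ?_⟩
  have h2 : z = rep cs h (cs.simple i) (sr i) := by
    rw [← h1, ← rep_mul_apply, simple_mul_simple_self, map_one, Module.End.one_apply]
  rw [rep_simple_sr] at h2
  have h3 := congrFun h2 i
  rw [Pi.neg_apply, sr_self] at h3
  have h4 := hz.2.1 i
  simp only [Pi.zero_apply] at h4
  omega

theorem n_R [Finite W] (i : I) {a : G} (ha : a ∈ D.R i) : D.n i * a * (D.n i)⁻¹ ∈ D.R i :=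
  D.conj_iSup_mem (D.lift_simple i) (fun _ hz => hz.1) (fun _ hz => simple_mem hz) ha

theorem n_R' [Finite W] (i : I) {a : G} (ha : a ∈ D.R i) : (D.n i)⁻¹ * a * D.n i ∈ D.R i := by
  have h1 : D.Lift (cs.simple i) (D.n i)⁻¹ := by
    have := (D.lift_simple i).inv
    rwa [inv_simple] at this
  have := D.conj_iSup_mem h1 (S' := {z | IsRoot cs h z ∧ 0 ≤ z ∧ z ≠ sr i}) (fun _ hz => hz.1)
    (fun _ hz => simple_mem hz) ha
  rwa [inv_inv] at this

/-- proportional roots are equal -/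
theorem eq_of_smul_eq {x y : I → ℤ} (hx : IsRoot cs h x) (hy : IsRoot cs h y) {c d : ℤ} (hc : 0 < c)
    (hd : 0 < d) (he : c • x = d • y) : x = y := by
  obtain ⟨w, i, rfl⟩ := hx
  have hy1 : IsRoot cs h (rep cs h w⁻¹ y) := hy.act _
  have h1 : c • (sr i : I → ℤ) = d • rep cs h w⁻¹ y := by
    rw [← map_smul, ← he, map_smul, rep_inv_apply]
  obtain ⟨v, j, hv⟩ := hy1
  have h2 : c • rep cs h v⁻¹ (sr i) = d • (sr j : I → ℤ) := by
    rw [← map_smul, h1, hv, map_smul, rep_inv_apply]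
  -- `d` divides `c` and `c` divides `d`
  have h3 : c = d * (rep cs h w⁻¹ y) i := by
    have := congrFun h1 i
    simpa [sr_self] using this
  have h4 : d = c * (rep cs h v⁻¹ (sr i)) j := by
    have := congrFun h2 j
    simpa [sr_self] using this.symm
  have h5 : c = d := Int.dvd_antisymm hc.le hd.le ⟨_, h4⟩ ⟨_, h3⟩
  subst h5
  have h6 : c • rep cs h w (sr i) = c • y := he
  exact smul_right_injective _ hc.ne' h6

/-- cones of positive roots -/
theorem cone_pos {x y z : I → ℤ} (hx : IsRoot cs h x) (hy : IsRoot cs h y) (hx0 : 0 ≤ x) (hy0 : 0 ≤ y)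
    (hxy : x ≠ y) (hz : z ∈ Cone' cs h x y) : 0 ≤ z ∧ z ≠ y := by
  obtain ⟨hzr, e, c, d, he, hc, hd, hez⟩ := hz
  have h0 : 0 ≤ e • z := by
    rw [hez]
    exact add_nonneg (smul_nonneg hc.le hx0) (smul_nonneg hd.le hy0)
  refine ⟨fun k => ?_, fun h1 => ?_⟩
  · have := h0 k
    simp only [Pi.zero_apply, Pi.smul_apply, smul_eq_mul] at this ⊢
    exact nonneg_of_mul_nonneg_right this he
  · subst h1
    have h2 : c • x = (e - d) • z := by rw [sub_smul, hez]; abel
    have h3 : 0 < e - d := by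
      by_contra hcon
      push Not at hcon
      obtain ⟨k, hk⟩ : ∃ k, 0 < x k := by
        by_contra hcon'
        push Not at hcon'
        exact hx.ne_zero (le_antisymm (fun k => hcon' k) hx0)
      have h4 := congrFun h2 k
      simp only [Pi.smul_apply, smul_eq_mul] at h4
      have h5 := hy0 k
      simp only [Pi.zero_apply] at h5
      nlinarith
    exact hxy (eq_of_smul_eq hx hy hc h3 h2)

/-- `U i` normalises `R i`. -/
theorem U_R [Finite W] (i : I) {u : G} (hu : u ∈ D.U i) {a : G} (ha : a ∈ D.R i) :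
    u * a * u⁻¹ ∈ D.R i := by
  have hu' : u ∈ D.XX (sr i) := by rw [D.XX_sr]; exact hu
  have key : D.R i ≤ (D.R i).comap (MulAut.conj u).toMonoidHom := by
    refine iSup₂_le fun z hz b hb => ?_
    rw [Subgroup.mem_comap]
    simp only [MulEquiv.coe_toMonoidHom, MulAut.conj_apply]
    have hne' : sr i ≠ -z := by
      intro h1
      have h2 := congrFun h1 i
      rw [sr_self, Pi.neg_apply] at h2
      have h3 := hz.2.1 i
      simp only [Pi.zero_apply] at h3
      omega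
    have h1 := D.comm (isRoot_sr cs h i) hz.1 hz.2.2.symm hne' hu' hb
    have h2 : (⨆ w ∈ Cone' cs h (sr i) z, D.XX w) ≤ D.R i := by
      refine iSup₂_le fun w hw => ?_
      have h3 := cone_pos (isRoot_sr cs h i) hz.1 (sr_nonneg i) hz.2.1 hz.2.2.symm hw
      refine D.XX_le_R hw.1 h3.1 ?_
      -- `w = c α_i + d z ≠ α_i`
      have hw' : w ∈ Cone' cs h z (sr i) := by
        obtain ⟨hr, e, c, d, he', hc, hd, he⟩ := hw
        exact ⟨hr, e, d, c, he', hd, hc, by rw [he, add_comm]⟩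
      exact (cone_pos hz.1 (isRoot_sr cs h i) hz.2.1 (sr_nonneg i) hz.2.2 hw').2
    have h3 : u * b * u⁻¹ = ⁅u, b⁆ * b := by rw [commutatorElement_def]; group
    rw [h3]
    exact mul_mem (h2 h1) (D.XX_le_R hz.1 hz.2.1 hz.2.2 hb)
  have := key ha
  simpa using this

/-! ### the Borel subgroup -/

/-- the Borel subgroup -/
def B : Subgroup G := D.H ⊔ D.UP

theorem H_le_B : D.H ≤ D.B := le_sup_left

theorem UP_le_B : D.UP ≤ D.B := le_sup_right

/-- `B = H · U⁺`. -/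
theorem mem_B [Finite W] {b : G} : b ∈ D.B ↔ ∃ t ∈ D.H, ∃ u ∈ D.UP, b = t * u := by
  constructor
  · intro hb
    let S : Subgroup G :=
      { carrier := {b | ∃ t ∈ D.H, ∃ u ∈ D.UP, b = t * u}
        one_mem' := ⟨1, one_mem _, 1, one_mem _, by rw [one_mul]⟩
        mul_mem' := by
          rintro _ _ ⟨t, ht, u, hu, rfl⟩ ⟨t', ht', u', hu', rfl⟩
          refine ⟨t * t', mul_mem ht ht', (t'⁻¹ * u * t'⁻¹⁻¹) * u',
            mul_mem (D.H_UP (inv_mem ht') hu) hu', by group⟩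
        inv_mem' := by
          rintro _ ⟨t, ht, u, hu, rfl⟩
          exact ⟨t⁻¹, inv_mem ht, t * u⁻¹ * t⁻¹, D.H_UP ht (inv_mem hu), by group⟩ }
    have h1 : D.B ≤ S := by
      refine sup_le (fun t ht => ⟨t, ht, 1, one_mem _, by rw [mul_one]⟩)
        (fun u hu => ⟨1, one_mem _, u, hu, by rw [one_mul]⟩)
    exact h1 hb
  · rintro ⟨t, ht, u, hu, rfl⟩
    exact mul_mem (D.H_le_B ht) (D.UP_le_B hu)

/-- `U⁺ = R_i · U_i`. -/
theorem mem_UP [Finite W] (i : I) {b : G} : b ∈ D.UP ↔ ∃ r ∈ D.R i, ∃ u ∈ D.U i, b = r * u := by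
  constructor
  · intro hb
    let S : Subgroup G :=
      { carrier := {b | ∃ r ∈ D.R i, ∃ u ∈ D.U i, b = r * u}
        one_mem' := ⟨1, one_mem _, 1, one_mem _, by rw [one_mul]⟩
        mul_mem' := by
          rintro _ _ ⟨t, ht, u, hu, rfl⟩ ⟨t', ht', u', hu', rfl⟩
          exact ⟨t * (u * t' * u⁻¹), mul_mem ht (D.U_R i hu ht'), u * u', mul_mem hu hu', by group⟩
        inv_mem' := by
          rintro _ ⟨t, ht, u, hu, rfl⟩
          exact ⟨u⁻¹ * t⁻¹ * u⁻¹⁻¹, D.U_R i (inv_mem hu) (inv_mem ht), u⁻¹, inv_mem hu, by group⟩ }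
    have h1 : D.UP ≤ S := by
      rw [D.UP_eq i]
      refine sup_le (fun u hu => ⟨1, one_mem _, u, hu, by rw [one_mul]⟩)
        (fun r hr => ⟨r, hr, 1, one_mem _, by rw [mul_one]⟩)
    exact h1 hb
  · rintro ⟨t, ht, u, hu, rfl⟩
    exact mul_mem (D.R_le_UP i ht) (D.U_le_UP i hu)

/-- decomposition `b = r t u` with `r ∈ R i`, `t ∈ H`, `u ∈ U i`. -/
theorem exists_rtu [Finite W] (i : I) {b : G} (hb : b ∈ D.B) :
    ∃ r ∈ D.R i, ∃ t ∈ D.H, ∃ u ∈ D.U i, b = r * t * u := by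
  obtain ⟨t, ht, v, hv, rfl⟩ := D.mem_B.1 hb
  obtain ⟨r, hr, u, hu, rfl⟩ := (D.mem_UP i).1 hv
  exact ⟨t * r * t⁻¹, D.H_R i ht hr, t, ht, u, hu, by group⟩

theorem R_le_B (i : I) : D.R i ≤ D.B := (D.R_le_UP i).trans D.UP_le_B

theorem U_le_B [Finite W] (i : I) : D.U i ≤ D.B := (D.U_le_UP i).trans D.UP_le_B

end Sys

end Cfsg.Agent.Nodes
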