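import Mathlib
import Cfsg.Agent.Nodes.Bruhat
import Cfsg.Agent.Nodes.Relations

/-!
Linear functionals on root group data (project CIT, frame method).

* `split` : for a closed set `S` of roots in an open half space `{lam > 0}` and any additive functional `ell`,
  `Sup S = Sup S⁺ · Sup S^{≤0}`; `split3` : `Sup S = Sup S⁺ · Sup S⁻ · Sup S⁰`;
* `exists_w` : a functional without zeros on the roots is positive on some base;
* `sup_inf_sup_eq_bot` : `Sup {f > 0} ⊓ Sup {f < 0} = ⊥`.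
-/

set_option autoImplicit false
set_option linter.unusedSectionVars false

namespace Cfsg.Agent.Nodes.Slope

open CoxeterSystem Cfsg.Agent.ChevalleyStructure.CoxeterGeom Cfsg.Agent.Tits.Roots Cfsg.Agent.Tits.Core
  Cfsg.Agent.Tits.Exchange Cfsg.Agent.Nodes.Reps Cfsg.Agent.Nodes.BNOf Cfsg.Agent.Nodes.StabComb
  Cfsg.Agent.Nodes.Comb Cfsg.Agent.Nodes.Bruhat
open scoped commutatorElement

variable {I W Y : Type*} [Fintype I] [DecidableEq I] [Group W] [Group Y] {M : CoxeterMatrix I}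
  {cs : CoxeterSystem M W} {A : I → I → ℤ} {h : IsCartan M A} {p : ℕ} {T : Subgroup Y} {n : I → Y}
  {X : (I → ℤ) → Subgroup Y}

/-- closed sets of roots (rational cones) -/
structure Closed (cs : CoxeterSystem M W) (h : IsCartan M A) (S : Set (I → ℤ)) : Prop where
  root : ∀ x ∈ S, IsRoot cs h x
  btw : ∀ x ∈ S, ∀ y ∈ S, ∀ z, Btwn cs h x y z → z ∈ S

theorem btwn_map {x y z : I → ℤ} (hz : Btwn cs h x y z) (f : (I → ℤ) →+ ℤ) :
    ∃ m a b : ℤ, 0 < m ∧ 0 < a ∧ 0 < b ∧ m * f z = a * f x + b * f y := by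
  obtain ⟨-, m, a, b, hm, ha, hb, he⟩ := hz
  refine ⟨m, a, b, hm, ha, hb, ?_⟩
  have := congrArg f he
  rw [map_zsmul, map_add, map_zsmul, map_zsmul] at this
  simpa [smul_eq_mul] using this

theorem btwn_pos' {x y z : I → ℤ} (hz : Btwn cs h x y z) (f : (I → ℤ) →+ ℤ) (hx : 0 < f x) (hy : 0 ≤ f y) :
    0 < f z := by
  obtain ⟨m, a, b, hm, ha, hb, he⟩ := btwn_map hz f
  have h1 : 0 < m * f z := by
    rw [he]
    have := mul_pos ha hx
    have := mul_nonneg hb.le hy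
    linarith
  exact (pos_iff_pos_of_mul_pos h1).1 hm

theorem btwn_nonneg' {x y z : I → ℤ} (hz : Btwn cs h x y z) (f : (I → ℤ) →+ ℤ) (hx : 0 ≤ f x) (hy : 0 ≤ f y) :
    0 ≤ f z := by
  obtain ⟨m, a, b, hm, ha, hb, he⟩ := btwn_map hz f
  have h1 : 0 ≤ m * f z := by
    rw [he]
    have := mul_nonneg ha.le hx
    have := mul_nonneg hb.le hy
    linarith
  exact nonneg_of_mul_nonneg_right h1 hm

theorem btwn_nonpos' {x y z : I → ℤ} (hz : Btwn cs h x y z) (f : (I → ℤ) →+ ℤ) (hx : f x ≤ 0) (hy : f y ≤ 0) :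
    f z ≤ 0 := by
  have := btwn_nonneg' hz (-f) (by simpa using hx) (by simpa using hy)
  simpa using this

theorem btwn_zero' {x y z : I → ℤ} (hz : Btwn cs h x y z) (f : (I → ℤ) →+ ℤ) (hx : f x = 0) (hy : f y = 0) :
    f z = 0 := le_antisymm (btwn_nonpos' hz f hx.le hy.le) (btwn_nonneg' hz f hx.ge hy.ge)

theorem closed_univ : Closed cs h {x | IsRoot cs h x} := ⟨fun _ hx => hx, fun _ _ _ _ _ hz => hz.1⟩

theorem Closed.pos {S : Set (I → ℤ)} (hS : Closed cs h S) (f : (I → ℤ) →+ ℤ) :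
    Closed cs h {x | x ∈ S ∧ 0 < f x} :=
  ⟨fun x hx => hS.root x hx.1, fun x hx y hy z hz => ⟨hS.btw x hx.1 y hy.1 z hz, btwn_pos' hz f hx.2 hy.2.le⟩⟩

theorem Closed.neg' {S : Set (I → ℤ)} (hS : Closed cs h S) (f : (I → ℤ) →+ ℤ) :
    Closed cs h {x | x ∈ S ∧ f x < 0} := by
  have := hS.pos (-f)
  simpa using this

theorem Closed.nonpos {S : Set (I → ℤ)} (hS : Closed cs h S) (f : (I → ℤ) →+ ℤ) :
    Closed cs h {x | x ∈ S ∧ f x ≤ 0} :=
  ⟨fun x hx => hS.root x hx.1, fun x hx y hy z hz => ⟨hS.btw x hx.1 y hy.1 z hz, btwn_nonpos' hz f hx.2 hy.2⟩⟩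

theorem Closed.zero {S : Set (I → ℤ)} (hS : Closed cs h S) (f : (I → ℤ) →+ ℤ) :
    Closed cs h {x | x ∈ S ∧ f x = 0} :=
  ⟨fun x hx => hS.root x hx.1, fun x hx y hy z hz => ⟨hS.btw x hx.1 y hy.1 z hz, btwn_zero' hz f hx.2 hy.2⟩⟩

theorem Closed.inter {S S' : Set (I → ℤ)} (hS : Closed cs h S) (hS' : Closed cs h S') : Closed cs h (S ∩ S') :=
  ⟨fun x hx => hS.root x hx.1, fun x hx y hy z hz => ⟨hS.btw x hx.1 y hy.1 z hz, hS'.btw x hx.2 y hy.2 z hz⟩⟩

theorem Closed.finite [Finite W] {S : Set (I → ℤ)} (hS : Closed cs h S) : S.Finite :=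
  (RGD.finite_roots (cs := cs) (h := h)).subset fun _ hx => hS.root _ hx

/-- positive multiples of roots -/
theorem eq_of_cross {x y : I → ℤ} (hx : IsRoot cs h x) (hy : IsRoot cs h y) {c d : ℤ} (hc : 0 < c) (hd : 0 < d)
    (he : c • x = d • y) : x = y := Sys.eq_of_smul_eq hx hy hc hd he

/-- a functional separating the directions of a finite set of roots -/
theorem exists_sep [Finite W] {S : Set (I → ℤ)} (hS : ∀ x ∈ S, IsRoot cs h x) (lam : (I → ℤ) →+ ℤ)
    (hl : ∀ x ∈ S, 0 < lam x) : ∃ mu : (I → ℤ) →+ ℤ, ∀ x ∈ S, ∀ y ∈ S, mu x * lam y = mu y * lam x → x = y := by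
  classical
  have hfin : S.Finite := (RGD.finite_roots (cs := cs) (h := h)).subset hS
  let f : (I → ℤ) × (I → ℤ) → (I → ℤ) →+ ℤ := fun q =>
    { toFun := fun u => ∑ k, u k * (lam q.2 * q.1 k - lam q.1 * q.2 k)
      map_zero' := by simp
      map_add' := fun u v => by
        rw [← Finset.sum_add_distrib]
        exact Finset.sum_congr rfl fun k _ => by rw [Pi.add_apply]; ring }
  have hf : ∀ q u, f q u = ∑ k, u k * (lam q.2 * q.1 k - lam q.1 * q.2 k) := fun _ _ => rfl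
  obtain ⟨u, hu⟩ := exists_avoid ((hfin.toFinset ×ˢ hfin.toFinset).filter fun q => q.1 ≠ q.2) f (by
    intro q hq
    rw [Finset.mem_filter, Finset.mem_product, Set.Finite.mem_toFinset, Set.Finite.mem_toFinset] at hq
    obtain ⟨⟨h1, h2⟩, h3⟩ := hq
    by_contra hcon
    push Not at hcon
    apply h3
    refine eq_of_cross (hS _ h1) (hS _ h2) (hl _ h2) (hl _ h1) (funext fun k => ?_)
    have h4 := hcon (Pi.single k 1)
    rw [hf, Finset.sum_eq_single k (fun b _ hb => by rw [Pi.single_eq_of_ne hb, zero_mul])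
      (fun hk => absurd (Finset.mem_univ k) hk), Pi.single_eq_same, one_mul, sub_eq_zero] at h4
    simpa [smul_eq_mul] using h4)
  refine ⟨{ toFun := fun x => ∑ k, u k * x k
            map_zero' := by simp
            map_add' := fun x y => by
              rw [← Finset.sum_add_distrib]
              exact Finset.sum_congr rfl fun k _ => by rw [Pi.add_apply]; ring }, ?_⟩
  intro x hx y hy he
  by_contra hxy
  apply hu (x, y) (by
    rw [Finset.mem_filter, Finset.mem_product, Set.Finite.mem_toFinset, Set.Finite.mem_toFinset]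
    exact ⟨⟨hx, hy⟩, hxy⟩)
  rw [hf]
  change (∑ k, u k * x k) * lam y = (∑ k, u k * y k) * lam x at he
  rw [Finset.sum_mul, Finset.sum_mul] at he
  have : ∑ k, u k * (lam y * x k - lam x * y k) = ∑ k, u k * x k * lam y - ∑ k, u k * y k * lam x := by
    rw [← Finset.sum_sub_distrib]
    exact Finset.sum_congr rfl fun k _ => by ring
  rw [this, he, sub_self]

/-- the extreme element of a nonempty set of roots, for the slope of `ell` and then of `mu` -/
theorem exists_extreme {S : Set (I → ℤ)} (hfin : S.Finite) (hne : S.Nonempty) (lam ell mu : (I → ℤ) →+ ℤ)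
    (hl : ∀ x ∈ S, 0 < lam x) : ∃ r ∈ S, ∀ x ∈ S, ell x * lam r < ell r * lam x ∨
      (ell x * lam r = ell r * lam x ∧ mu x * lam r ≤ mu r * lam x) := by
  obtain ⟨r, hr, hmax⟩ := Set.exists_max_image S
    (fun x => toLex (((ell x : ℚ) / lam x), ((mu x : ℚ) / lam x))) hfin hne
  refine ⟨r, hr, fun x hx => ?_⟩
  have h1 := hmax x hx
  rw [Prod.Lex.toLex_le_toLex] at h1
  have hlr : (0 : ℚ) < lam r := by exact_mod_cast hl r hr
  have hlx : (0 : ℚ) < lam x := by exact_mod_cast hl x hx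
  rcases h1 with h1 | ⟨h1, h2⟩
  · left
    rw [div_lt_div_iff₀ hlx hlr] at h1
    exact_mod_cast h1
  · right
    rw [div_eq_div_iff hlx.ne' hlr.ne'] at h1
    rw [div_le_div_iff₀ hlx hlr] at h2
    exact ⟨by exact_mod_cast h1, by exact_mod_cast h2⟩

/-- the extreme element is not strictly between two others -/
theorem extreme_ne {x y r : I → ℤ} {lam ell mu : (I → ℤ) →+ ℤ} (hz : Btwn cs h x y r)
    (hx : ell x * lam r < ell r * lam x ∨ (ell x * lam r = ell r * lam x ∧ mu x * lam r ≤ mu r * lam x))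
    (hy : ell y * lam r < ell r * lam y ∨ (ell y * lam r = ell r * lam y ∧ mu y * lam r ≤ mu r * lam y)) :
    mu x * lam r = mu r * lam x ∧ mu y * lam r = mu r * lam y := by
  obtain ⟨-, m, a, b, hm, ha, hb, he⟩ := hz
  have e : ∀ f : (I → ℤ) →+ ℤ, m * f r = a * f x + b * f y := by
    intro f
    have := congrArg f he
    rw [map_zsmul, map_add, map_zsmul, map_zsmul] at this
    simpa [smul_eq_mul] using this
  have key : ∀ f : (I → ℤ) →+ ℤ, a * (f x * lam r - f r * lam x) + b * (f y * lam r - f r * lam y) = 0 := by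
    intro f
    have h1 := e f
    have h2 := e lam
    linear_combination (lam r) * (-h1) + (f r) * h2
  have key1 := key ell
  have key2 := key mu
  have hx0 : ell x * lam r - ell r * lam x ≤ 0 := by rcases hx with h1 | ⟨h1, -⟩ <;> linarith
  have hy0 : ell y * lam r - ell r * lam y ≤ 0 := by rcases hy with h1 | ⟨h1, -⟩ <;> linarith
  have hx1 : ell x * lam r - ell r * lam x = 0 := by
    by_contra hne
    have h1 : ell x * lam r - ell r * lam x < 0 := lt_of_le_of_ne hx0 hne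
    have h2 := mul_neg_of_pos_of_neg ha h1
    have h3 := mul_nonpos_of_nonneg_of_nonpos hb.le hy0
    linarith
  have hy1 : ell y * lam r - ell r * lam y = 0 := by
    by_contra hne
    have h1 : ell y * lam r - ell r * lam y < 0 := lt_of_le_of_ne hy0 hne
    have h2 := mul_neg_of_pos_of_neg hb h1
    have h3 := mul_nonpos_of_nonneg_of_nonpos ha.le hx0
    linarith
  have hx2 : mu x * lam r - mu r * lam x ≤ 0 := by rcases hx with h1 | ⟨-, h1⟩ <;> linarith
  have hy2 : mu y * lam r - mu r * lam y ≤ 0 := by rcases hy with h1 | ⟨-, h1⟩ <;> linarith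
  constructor
  · by_contra hne
    have h1 : mu x * lam r - mu r * lam x < 0 := lt_of_le_of_ne hx2 (fun h0 => hne (by linarith))
    have h2 := mul_neg_of_pos_of_neg ha h1
    have h3 := mul_nonpos_of_nonneg_of_nonpos hb.le hy2
    linarith
  · by_contra hne
    have h1 : mu y * lam r - mu r * lam y < 0 := lt_of_le_of_ne hy2 (fun h0 => hne (by linarith))
    have h2 := mul_neg_of_pos_of_neg hb h1
    have h3 := mul_nonpos_of_nonneg_of_nonpos ha.le hx2
    linarith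

section Split

variable (R : RGD cs h p T n X)

include R

/-- **Splitting of a unipotent group by the sign of a functional.** -/
theorem split [Finite W] {S : Set (I → ℤ)} (hS : Closed cs h S) (lam ell : (I → ℤ) →+ ℤ)
    (hl : ∀ x ∈ S, 0 < lam x) {u : Y} (hu : u ∈ RGD.Sup X S) :
    ∃ a ∈ RGD.Sup X {x | x ∈ S ∧ 0 < ell x}, ∃ c ∈ RGD.Sup X {x | x ∈ S ∧ ell x ≤ 0}, u = a * c := by
  obtain ⟨mu, hmu⟩ := exists_sep (cs := cs) (h := h) hS.root lam hl
  have hfin := hS.finite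
  have key : ∀ k : ℕ, ∀ S' : Set (I → ℤ), S' ⊆ S → Closed cs h S' → S'.ncard = k → ∀ u ∈ RGD.Sup X S',
      ∃ a ∈ RGD.Sup X {x | x ∈ S' ∧ 0 < ell x}, ∃ c ∈ RGD.Sup X {x | x ∈ S' ∧ ell x ≤ 0}, u = a * c := by
    intro k
    induction k with
    | zero =>
      intro S' hsub hS' hk u hu
      rw [Set.ncard_eq_zero (hfin.subset hsub)] at hk
      subst hk
      refine ⟨1, one_mem _, u, ?_, by rw [one_mul]⟩
      have : ({x | x ∈ (∅ : Set (I → ℤ)) ∧ ell x ≤ 0} : Set (I → ℤ)) = ∅ := by ext x; simp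
      rw [this]; exact hu
    | succ k ih =>
      intro S' hsub hS' hk u hu
      have hfin' := hfin.subset hsub
      have hne : S'.Nonempty := by
        rw [Set.nonempty_iff_ne_empty]
        rintro rfl
        rw [Set.ncard_empty] at hk
        exact absurd hk (by omega)
      obtain ⟨r, hr, hmax⟩ := exists_extreme hfin' hne lam ell mu (fun x hx => hl x (hsub hx))
      by_cases h0 : ell r ≤ 0
      · -- no root with positive value
        refine ⟨1, one_mem _, u, ?_, by rw [one_mul]⟩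
        refine RGD.Sup_mono (S := S') (S' := {x | x ∈ S' ∧ ell x ≤ 0}) (fun x hx => ⟨hx, ?_⟩) hu
        have hlx := hl x (hsub hx)
        have hlr := hl r (hsub hr)
        by_contra hx0
        push Not at hx0
        have h1 : 0 < ell x * lam r := mul_pos hx0 hlr
        have h2 : ell r * lam x ≤ 0 := mul_nonpos_of_nonpos_of_nonneg h0 hlx.le
        rcases hmax x hx with h3 | ⟨h3, -⟩ <;> linarith
      · push Not at h0
        have hne' : ∀ x ∈ S', ∀ y ∈ S', Btwn cs h x y r → x = r ∧ y = r := by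
          intro x hx y hy hz
          obtain ⟨h1, h2⟩ := extreme_ne hz (hmax x hx) (hmax y hy)
          exact ⟨hmu x (hsub hx) r (hsub hr) h1, hmu y (hsub hy) r (hsub hr) h2⟩
        have hcl : Closed cs h (S' \ {r}) := by
          refine ⟨fun x hx => hS'.root x hx.1, fun x hx y hy z hz => ⟨hS'.btw x hx.1 y hy.1 z hz, ?_⟩⟩
          rintro rfl
          exact hx.2 (hne' x hx.1 y hy.1 hz).1
        have hcard : (S' \ {r}).ncard = k := by
          have := Set.ncard_sdiff_singleton_add_one hr hfin'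
          omega
        have hnorm : X r ≤ Subgroup.normalizer (RGD.Sup X (S' \ {r}) : Set Y) := by
          refine R.le_normalizer (hS'.root r hr) ?_
          rintro y ⟨hy, hyr⟩
          refine ⟨hS'.root y hy, Or.inr ⟨?_, fun z hz => ⟨hS'.btw r hr y hy z hz, ?_⟩⟩⟩
          · intro he
            have h1 := hl r (hsub hr)
            have h2 := hl y (hsub hy)
            rw [he, map_neg] at h1
            linarith
          · rintro rfl
            exact hyr (hne' _ hr y hy hz).2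
        have hsup : RGD.Sup X S' = X r ⊔ RGD.Sup X (S' \ {r}) := by
          apply le_antisymm
          · refine RGD.Sup_le fun z hz => ?_
            by_cases hz0 : z = r
            · subst hz0; exact le_sup_left
            · exact le_trans (RGD.le_Sup (S := S' \ {r}) ⟨hz, hz0⟩) le_sup_right
          · exact sup_le (RGD.le_Sup hr) (RGD.Sup_mono Set.sdiff_subset)
        have h1 : u ∈ ((X r ⊔ RGD.Sup X (S' \ {r}) : Subgroup Y) : Set Y) := by
          rw [← hsup]; exact hu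
        rw [Subgroup.coe_mul_of_left_le_normalizer_right _ _ hnorm, Set.mem_mul] at h1
        obtain ⟨v, hv, u', hu', rfl⟩ := h1
        obtain ⟨a, ha, c, hc, rfl⟩ := ih (S' \ {r}) (fun x hx => hsub hx.1) hcl hcard u' hu'
        refine ⟨v * a, mul_mem (RGD.le_Sup (S := {x | x ∈ S' ∧ 0 < ell x}) ⟨hr, h0⟩ hv)
          (RGD.Sup_mono (S := {x | x ∈ S' \ {r} ∧ 0 < ell x}) (S' := {x | x ∈ S' ∧ 0 < ell x})
            (fun x hx => ⟨hx.1.1, hx.2⟩) ha), c,
          RGD.Sup_mono (S := {x | x ∈ S' \ {r} ∧ ell x ≤ 0}) (S' := {x | x ∈ S' ∧ ell x ≤ 0})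
            (fun x hx => ⟨hx.1.1, hx.2⟩) hc, ?_⟩
        rw [mul_assoc]
  exact key _ S subset_rfl hS rfl u hu

/-- The splitting `S⁺ · S⁻ · S⁰`. -/
theorem split3 [Finite W] {S : Set (I → ℤ)} (hS : Closed cs h S) (lam ell : (I → ℤ) →+ ℤ)
    (hl : ∀ x ∈ S, 0 < lam x) {u : Y} (hu : u ∈ RGD.Sup X S) :
    ∃ a ∈ RGD.Sup X {x | x ∈ S ∧ 0 < ell x}, ∃ b ∈ RGD.Sup X {x | x ∈ S ∧ ell x < 0},
      ∃ c ∈ RGD.Sup X {x | x ∈ S ∧ ell x = 0}, u = a * b * c := by
  obtain ⟨a, ha, c, hc, rfl⟩ := split R hS lam ell hl hu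
  obtain ⟨b, hb, c', hc', rfl⟩ := split R (hS.nonpos ell) lam (-ell) (fun x hx => hl x hx.1) hc
  refine ⟨a, ha, b, ?_, c', ?_, by rw [mul_assoc]⟩
  · refine RGD.Sup_mono ?_ hb
    rintro x ⟨⟨hx, -⟩, h1⟩
    exact ⟨hx, by simpa using h1⟩
  · refine RGD.Sup_mono ?_ hc'
    rintro x ⟨⟨hx, h2⟩, h1⟩
    exact ⟨hx, le_antisymm h2 (by simpa using h1)⟩

/-! ### the unipotent group and its opposite -/

/-- `u ∈ U`, `g⁻¹ u g ∈ B`, `g` over `w`: `u` lies in the group of the positive roots that stay positive. -/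
theorem mem_of_conj_mem_B [Finite W] : ∀ {w : W} {g u : Y}, Rp cs R.nsys w g → u ∈ RGD.Sup X (RGD.Pos cs h) →
    g⁻¹ * u * g ∈ RGD.B cs h T X → u ∈ RGD.Sup X {x | IsRoot cs h x ∧ 0 ≤ x ∧ 0 ≤ rep cs h w⁻¹ x} := by
  intro w
  induction hn : cs.length w using Nat.strong_induction_on generalizing w with
  | _ N ih =>
  intro g u hg hu hB
  by_cases hw : w = 1
  · subst hw
    have : RGD.Pos cs h = {x | IsRoot cs h x ∧ 0 ≤ x ∧ 0 ≤ rep cs h (1 : W)⁻¹ x} := by
      ext x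
      simp [RGD.Pos]
    rw [← this]; exact hu
  obtain ⟨i, hi⟩ := cs.exists_leftDescent_of_ne_one hw
  have hlt : cs.length (cs.simple i * w) < cs.length w := hi
  have hneg : rep cs h w⁻¹ (sr i) ≤ 0 := by
    refine nonpos_of_lt cs h w⁻¹ i ?_
    rw [cs.length_inv, ← cs.length_inv (w⁻¹ * cs.simple i), mul_inv_rev, inv_inv, cs.inv_simple]
    exact hlt
  have ew : ∀ x, rep cs h w⁻¹ (rep cs h (cs.simple i) x) = rep cs h (cs.simple i * w)⁻¹ x := by
    intro x
    rw [← rep_mul_apply, mul_inv_rev, cs.inv_simple]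
  have hpos : 0 ≤ rep cs h (cs.simple i * w)⁻¹ (sr i) := by
    rw [← ew, rep_simple_sr, map_neg]
    exact neg_nonneg.2 hneg
  have hg' : Rp cs R.nsys (cs.simple i * w) ((n i)⁻¹ * g) := by
    have := (rp_simple cs R.nsys i).inv.mul hg
    rwa [inv_simple] at this
  have hsi : ∀ x ∈ RGD.Pos cs h \ {sr i}, rep cs h (cs.simple i) x ∈ RGD.Pos cs h \ {sr i} := by
    rintro x ⟨hx, hxi⟩
    refine ⟨⟨hx.1.act _, hx.1.simple_nonneg hx.2 i hxi⟩, ?_⟩
    intro he
    have h1 : x = - sr i := by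
      have h2 := congrArg (rep cs h (cs.simple i)) (he : rep cs h (cs.simple i) x = sr i)
      rwa [← rep_mul_apply, simple_mul_simple_self, map_one, Module.End.one_apply, rep_simple_sr] at h2
    have h3 : (0 : I → ℤ) ≤ - sr i := h1 ▸ hx.2
    exact (isRoot_sr cs h i).not_pos_neg (sr_nonneg i) (neg_nonneg.1 h3)
  have hPr : ∀ x ∈ RGD.Pos cs h \ {sr i}, IsRoot cs h x := fun x hx => hx.1.1
  have hmv : ∀ v ∈ RGD.Sup X (RGD.Pos cs h \ {sr i}), (n i)⁻¹ * v * n i ∈ RGD.Sup X (RGD.Pos cs h \ {sr i}) :=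
    fun v hv => conj_mem_Sup' R (rp_simple cs R.nsys i) hPr
      (fun x hx => by rw [cs.inv_simple]; exact hsi x hx) hv
  have hmv' : ∀ v ∈ RGD.Sup X (RGD.Pos cs h \ {sr i}), n i * v * (n i)⁻¹ ∈ RGD.Sup X (RGD.Pos cs h \ {sr i}) :=
    fun v hv => conj_mem_Sup R (rp_simple cs R.nsys i) hPr hsi hv
  have hVB : RGD.Sup X (RGD.Pos cs h \ {sr i}) ≤ RGD.B cs h T X :=
    le_trans (RGD.Sup_mono (S := RGD.Pos cs h \ {sr i}) (S' := RGD.Pos cs h) Set.sdiff_subset) RGD.U_le_B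
  obtain ⟨v, hv, a, ha, rfl⟩ := exists_mul R (S := RGD.Pos cs h) (i := i) (fun x hx => hx)
    ⟨isRoot_sr cs h i, sr_nonneg i⟩
    (fun y hy _ z hz => ⟨hz.1, btwn_nonneg hz (sr_nonneg i) hy.2⟩) hu
  -- the component in `X i` is trivial
  have ha1 : a = 1 := by
    by_contra ha1
    have h1 : (n i)⁻¹ * a * n i ∈ X (-sr i) := by
      have := R.conj_mem' (rp_simple cs R.nsys i) (isRoot_sr cs h i) ha
      rwa [inv_simple, rep_simple_sr] at this
    have h2 : (n i)⁻¹ * a * n i ≠ 1 := by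
      intro h3
      apply ha1
      have h4 : a = n i * ((n i)⁻¹ * a * n i) * (n i)⁻¹ := by group
      rw [h4, h3]; group
    obtain ⟨b1, hb1, t, ht, b2, hb2, e⟩ := R.rk1 i _ h1 h2
    have hβ : Cell R.nsys cs h X (cs.simple i * w) ((n i)⁻¹ * g * (g⁻¹ * (v * a) * g)) :=
      (cell_of_rp hg').mul_right hB
    have hb2' : ((n i)⁻¹ * g)⁻¹ * b2 * ((n i)⁻¹ * g) ∈ RGD.B cs h T X :=
      RGD.X_le_B ((isRoot_sr cs h i).act _) hpos (R.conj_mem' hg' (isRoot_sr cs h i) hb2)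
    have e2 : (n i)⁻¹ * g * (g⁻¹ * (v * a) * g) =
        ((n i)⁻¹ * v * n i * b1 * t) * (n i * ((n i)⁻¹ * g)) * (((n i)⁻¹ * g)⁻¹ * b2 * ((n i)⁻¹ * g)) := by
      have e3 : (n i)⁻¹ * g * (g⁻¹ * (v * a) * g) =
          ((n i)⁻¹ * v * n i) * ((n i)⁻¹ * a * n i) * ((n i)⁻¹ * g) := by group
      rw [e3, e]; group
    have hγ : Cell R.nsys cs h X (cs.simple i * (cs.simple i * w)) ((n i)⁻¹ * g * (g⁻¹ * (v * a) * g)) := by
      rw [e2]
      refine ((cell_of_rp ((rp_simple cs R.nsys i).mul hg')).mul_left ?_).mul_right hb2'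
      exact mul_mem (mul_mem (hVB (hmv v hv)) (RGD.X_le_B (isRoot_sr cs h i) (sr_nonneg i) hb1)) (RGD.T_le_B ht)
    have h3 := Cell.unique R hβ hγ
    have h4 : cs.simple i * w = cs.simple i * (cs.simple i * w) := h3
    have h5 : w = cs.simple i * w := mul_left_cancel h4
    rw [← h5] at hlt
    exact lt_irrefl _ hlt
  subst ha1
  rw [mul_one] at hB ⊢
  set u' : Y := (n i)⁻¹ * v * n i with hu'
  have hu'V : u' ∈ RGD.Sup X (RGD.Pos cs h \ {sr i}) := hmv v hv
  have h1 := ih (cs.length (cs.simple i * w)) (hn ▸ hlt) (w := cs.simple i * w) rfl (g := (n i)⁻¹ * g) (u := u') hg'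
    (RGD.Sup_mono (S := RGD.Pos cs h \ {sr i}) (S' := RGD.Pos cs h) Set.sdiff_subset hu'V) (by
      have e : ((n i)⁻¹ * g)⁻¹ * u' * ((n i)⁻¹ * g) = g⁻¹ * v * g := by rw [hu']; group
      rw [e]; exact hB)
  obtain ⟨r, hr, a', ha', e⟩ := exists_mul R (i := i)
    (S := {x | IsRoot cs h x ∧ 0 ≤ x ∧ 0 ≤ rep cs h (cs.simple i * w)⁻¹ x}) (fun x hx => ⟨hx.1, hx.2.1⟩)
    ⟨isRoot_sr cs h i, sr_nonneg i, hpos⟩
    (fun y hy _ z hz => ⟨hz.1, btwn_nonneg hz (sr_nonneg i) hy.2.1,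
      btwn_nonneg (hz.act (cs.simple i * w)⁻¹) hpos hy.2.2⟩) h1
  have hrV : r ∈ RGD.Sup X (RGD.Pos cs h \ {sr i}) :=
    RGD.Sup_mono (S := {x | IsRoot cs h x ∧ 0 ≤ x ∧ 0 ≤ rep cs h (cs.simple i * w)⁻¹ x} \ {sr i})
      (S' := RGD.Pos cs h \ {sr i}) (fun x hx => ⟨⟨hx.1.1, hx.1.2.1⟩, hx.2⟩) hr
  have ha'V : a' ∈ RGD.Sup X (RGD.Pos cs h \ {sr i}) := by
    have : a' = r⁻¹ * u' := by rw [e]; group
    rw [this]
    exact mul_mem (inv_mem hrV) hu'V
  have ha'1 : a' = 1 := eq_one_of_conj_mem_B R ha' (rp_simple cs R.nsys i) (hVB (hmv' a' ha'V))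
  rw [ha'1, mul_one] at e
  have e2 : v = n i * r * (n i)⁻¹ := by rw [← e, hu']; group
  rw [e2]
  refine conj_mem_Sup R (rp_simple cs R.nsys i) (fun x hx => hx.1.1) ?_ hr
  rintro x ⟨⟨hx, hx0, hx1⟩, hxi⟩
  have h2 := hsi x ⟨⟨hx, hx0⟩, hxi⟩
  exact ⟨h2.1.1, h2.1.2, by rw [ew]; exact hx1⟩

/-- `U ∩ U⁻ = 1`. -/
theorem inf_opp [Finite W] {u : Y} (hu : u ∈ RGD.Sup X (RGD.Pos cs h))
    (hu' : u ∈ RGD.Sup X {x | IsRoot cs h x ∧ x ≤ 0}) : u = 1 := by
  obtain ⟨k, hk⟩ := exists_rp cs R.nsys (w0 cs)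
  have h1 : k⁻¹ * u * k ∈ RGD.Sup X (RGD.Pos cs h) := by
    refine conj_mem_Sup' R hk (S := {x | IsRoot cs h x ∧ x ≤ 0}) (S' := RGD.Pos cs h) (fun x hx => hx.1)
      (fun x hx => ⟨hx.1.act _, ?_⟩) hu'
    have h2 : (w0 cs)⁻¹ = w0 cs := (isLongest_w0 cs).inv_eq
    rw [h2]
    exact rep_w0_nonneg hx.1 hx.2
  have h2 := mem_of_conj_mem_B R hk hu (RGD.U_le_B h1)
  have h3 : {x | IsRoot cs h x ∧ 0 ≤ x ∧ 0 ≤ rep cs h (w0 cs)⁻¹ x} = (∅ : Set (I → ℤ)) := by
    ext x
    simp only [Set.mem_ofPred_eq, Set.mem_empty_iff_false, iff_false]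
    rintro ⟨hx, h0, h4⟩
    have h5 : (w0 cs)⁻¹ = w0 cs := (isLongest_w0 cs).inv_eq
    rw [h5] at h4
    exact (hx.act (w0 cs)).not_pos_neg h4 (rep_w0_nonpos hx h0)
  rw [h3] at h2
  have h4 : RGD.Sup X (∅ : Set (I → ℤ)) ≤ ⊥ := RGD.Sup_le (fun z hz => absurd hz (by simp))
  exact Subgroup.mem_bot.1 (h4 h2)

/-! ### functionals without zeros -/

omit R in
/-- A functional without zeros on the roots is positive on the image of the simple roots under some `w`. -/
theorem exists_w [Finite W] (mu : (I → ℤ) →+ ℤ) (hmu : ∀ x, IsRoot cs h x → mu x ≠ 0) :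
    ∃ w : W, ∀ i, 0 < mu (rep cs h w (sr i)) := by
  classical
  have hfin : (RGD.Pos cs h).Finite := (RGD.finite_roots (cs := cs) (h := h)).subset fun _ hx => hx.1
  set P : Finset (I → ℤ) := hfin.toFinset with hP
  have hmem : ∀ x, x ∈ P ↔ IsRoot cs h x ∧ 0 ≤ x := fun x => by rw [hP, Set.Finite.mem_toFinset]; rfl
  have hrho : ∀ i, ∑ x ∈ P, rep cs h (cs.simple i) x = ∑ x ∈ P, x - (2 : ℤ) • sr i := by
    intro i
    have hi : sr i ∈ P := (hmem _).2 ⟨isRoot_sr cs h i, sr_nonneg i⟩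
    have hinv : ∀ x : I → ℤ, rep cs h (cs.simple i) (rep cs h (cs.simple i) x) = x := fun x => by
      rw [← rep_mul_apply, cs.simple_mul_simple_self, map_one, Module.End.one_apply]
    have hstab : ∀ x ∈ P.erase (sr i), rep cs h (cs.simple i) x ∈ P.erase (sr i) := by
      intro x hx
      rw [Finset.mem_erase, hmem] at hx ⊢
      obtain ⟨hxi, hx, hx0⟩ := hx
      refine ⟨?_, hx.act _, hx.simple_nonneg hx0 i hxi⟩
      intro he
      have h1 : x = - sr i := by rw [← hinv x, he, rep_simple_sr]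
      rw [h1] at hx0
      exact (isRoot_sr cs h i).not_pos_neg (sr_nonneg i) (neg_nonneg.1 hx0)
    have h1 : ∑ x ∈ P.erase (sr i), rep cs h (cs.simple i) x = ∑ x ∈ P.erase (sr i), x := by
      refine Finset.sum_bij' (fun x _ => rep cs h (cs.simple i) x) (fun x _ => rep cs h (cs.simple i) x)
        hstab hstab (fun x _ => hinv x) (fun x _ => hinv x) (fun x _ => rfl)
    rw [← Finset.add_sum_erase P _ hi, ← Finset.add_sum_erase P (fun x => x) hi, h1, rep_simple_sr]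
    rw [two_smul]; abel
  obtain ⟨w, hw⟩ := Finite.exists_max (fun w : W => mu (rep cs h w (∑ x ∈ P, x)))
  refine ⟨w, fun i => ?_⟩
  by_contra hcon
  have h0 : mu (rep cs h w (sr i)) < 0 := lt_of_le_of_ne (not_lt.1 hcon) (hmu _ ⟨w, i, rfl⟩)
  have h1 := hw (w * cs.simple i)
  rw [rep_mul_apply, map_sum (rep cs h (cs.simple i)), hrho i, map_sub, map_sub, map_smul, map_zsmul,
    smul_eq_mul] at h1
  linarith

omit R in
/-- The height as an additive map. -/
def htHom : (I → ℤ) →+ ℤ where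
  toFun := ht
  map_zero' := by unfold ht; simp
  map_add' := RGD.ht_add

omit R in
theorem htHom_apply (x : I → ℤ) : htHom x = ht x := rfl

omit R in
theorem ht_ne_zero {x : I → ℤ} (hx : IsRoot cs h x) : ht x ≠ 0 := by
  rcases hx.pos_or_neg with h0 | h0
  · exact (RGD.ht_pos hx h0).ne'
  · have h1 := RGD.ht_pos hx.neg (neg_nonneg.2 h0)
    have h2 : ht (-x) = - ht x := by unfold ht; simp
    omega

omit R in
/-- A functional with the same signs as `f` (where `f` does not vanish) and no zeros. -/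
theorem exists_generic [Finite W] (f : (I → ℤ) →+ ℤ) : ∃ mu : (I → ℤ) →+ ℤ, (∀ x, IsRoot cs h x → mu x ≠ 0) ∧
    (∀ x, IsRoot cs h x → 0 < f x → 0 < mu x) ∧ (∀ x, IsRoot cs h x → f x < 0 → mu x < 0) := by
  classical
  have hfin := RGD.finite_roots (cs := cs) (h := h)
  obtain ⟨N, hN⟩ : ∃ N : ℤ, ∀ x, IsRoot cs h x → |ht x| < N := by
    refine ⟨1 + ∑ x ∈ hfin.toFinset, |ht x|, fun x hx => ?_⟩
    have h1 : |ht x| ≤ ∑ x ∈ hfin.toFinset, |ht x| :=
      Finset.single_le_sum (f := fun x : I → ℤ => |ht x|) (fun i _ => abs_nonneg _)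
        (hfin.mem_toFinset.2 hx)
    omega
  have hval : ∀ x, (N • f + htHom : (I → ℤ) →+ ℤ) x = N * f x + ht x := fun x => by
    rw [AddMonoidHom.add_apply, AddMonoidHom.smul_apply, smul_eq_mul, htHom_apply]
  have hpos : ∀ x, IsRoot cs h x → 0 < f x → 0 < (N • f + htHom : (I → ℤ) →+ ℤ) x := by
    intro x hx h0
    rw [hval]
    have h1 := hN x hx
    have h2 := neg_abs_le (ht x)
    have h3 := abs_nonneg (ht x)
    nlinarith
  have hneg : ∀ x, IsRoot cs h x → f x < 0 → (N • f + htHom : (I → ℤ) →+ ℤ) x < 0 := by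
    intro x hx h0
    rw [hval]
    have h1 := hN x hx
    have h2 := le_abs_self (ht x)
    have h3 := abs_nonneg (ht x)
    nlinarith
  refine ⟨N • f + htHom, fun x hx => ?_, hpos, hneg⟩
  rcases lt_trichotomy (f x) 0 with h0 | h0 | h0
  · exact (hneg x hx h0).ne
  · rw [hval, h0, mul_zero, zero_add]; exact ht_ne_zero hx
  · exact (hpos x hx h0).ne'

/-- **`Sup {f > 0} ⊓ Sup {f < 0} = ⊥`.** -/
theorem sup_inf_sup [Finite W] (f : (I → ℤ) →+ ℤ) {u : Y} (h1 : u ∈ RGD.Sup X {x | IsRoot cs h x ∧ 0 < f x})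
    (h2 : u ∈ RGD.Sup X {x | IsRoot cs h x ∧ f x < 0}) : u = 1 := by
  obtain ⟨mu, hmu, hp, hm⟩ := exists_generic (cs := cs) (h := h) f
  obtain ⟨w, hw⟩ := exists_w (cs := cs) (h := h) mu hmu
  obtain ⟨g, hg⟩ := exists_rp cs R.nsys w
  have hval : ∀ y : I → ℤ, mu (rep cs h w y) = ∑ k, y k * mu (rep cs h w (sr k)) := by
    intro y
    have e : y = ∑ k, y k • sr k := by
      funext j
      simp [Finset.sum_apply, sr, Pi.single_apply]
    conv_lhs => rw [e]
    rw [map_sum, map_sum]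
    exact Finset.sum_congr rfl fun k _ => by rw [map_smul, map_zsmul, smul_eq_mul]
  have hnn : ∀ y : I → ℤ, 0 ≤ y → 0 ≤ mu (rep cs h w y) := fun y hy => by
    rw [hval]
    exact Finset.sum_nonneg fun k _ => mul_nonneg (hy k) (hw k).le
  have key : g⁻¹ * u * g = 1 := by
    refine inf_opp R ?_ ?_
    · refine conj_mem_Sup' R hg (S := {x | IsRoot cs h x ∧ 0 < f x}) (S' := RGD.Pos cs h) (fun x hx => hx.1)
        (fun x hx => ⟨hx.1.act _, ?_⟩) h1
      rcases (hx.1.act w⁻¹).pos_or_neg with h0 | h0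
      · exact h0
      · exfalso
        have h3 := hnn _ (neg_nonneg.2 h0)
        rw [map_neg, rep_apply_inv, map_neg] at h3
        have h4 := hp x hx.1 hx.2
        linarith
    · refine conj_mem_Sup' R hg (S := {x | IsRoot cs h x ∧ f x < 0}) (S' := {x | IsRoot cs h x ∧ x ≤ 0})
        (fun x hx => hx.1) (fun x hx => ⟨hx.1.act _, ?_⟩) h2
      rcases (hx.1.act w⁻¹).pos_or_neg with h0 | h0
      · exfalso
        have h3 := hnn _ h0
        rw [rep_apply_inv] at h3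
        have h4 := hm x hx.1 hx.2
        linarith
      · exact h0
  have : u = g * (g⁻¹ * u * g) * g⁻¹ := by group
  rw [this, key]; group

/-- `Sup {ell > 0} ⊓ Sup {ell ≤ 0, lam > 0} = ⊥`. -/
theorem sup_inf_sup' [Finite W] (ell lam : (I → ℤ) →+ ℤ) {u : Y}
    (h1 : u ∈ RGD.Sup X {x | IsRoot cs h x ∧ 0 < ell x})
    (h2 : u ∈ RGD.Sup X {x | IsRoot cs h x ∧ ell x ≤ 0 ∧ 0 < lam x}) : u = 1 := by
  classical
  have hfin := RGD.finite_roots (cs := cs) (h := h)
  obtain ⟨N, hN⟩ : ∃ N : ℤ, ∀ x, IsRoot cs h x → |lam x| < N := by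
    refine ⟨1 + ∑ x ∈ hfin.toFinset, |lam x|, fun x hx => ?_⟩
    have h1 : |lam x| ≤ ∑ x ∈ hfin.toFinset, |lam x| :=
      Finset.single_le_sum (f := fun x : I → ℤ => |lam x|) (fun i _ => abs_nonneg _)
        (hfin.mem_toFinset.2 hx)
    omega
  have hval : ∀ x, (N • ell - lam : (I → ℤ) →+ ℤ) x = N * ell x - lam x := fun x => by
    rw [AddMonoidHom.sub_apply, AddMonoidHom.smul_apply, smul_eq_mul]
  refine sup_inf_sup R (N • ell - lam) (RGD.Sup_mono ?_ h1) (RGD.Sup_mono ?_ h2)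
  · rintro x ⟨hx, h0⟩
    refine ⟨hx, ?_⟩
    rw [hval]
    have h1 := hN x hx
    have h2 := le_abs_self (lam x)
    have h3 := abs_nonneg (lam x)
    nlinarith
  · rintro x ⟨hx, h0, h0'⟩
    refine ⟨hx, ?_⟩
    rw [hval]
    have h1 := hN x hx
    have h3 := abs_nonneg (lam x)
    nlinarith

end Split

end Cfsg.Agent.Nodes.Slope
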