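import Mathlib
import Cfsg.Agent.Nodes.Comb

/-!
Closed subsystems of a finite crystallographic root system (project CIT, charts), combinatorial part.

`SubSys cs h M' A' β w i` : a linearly independent family `β j = w_j (α_{i j})` of roots with Cartan numbers
`A' j k = ⟨β_k, β_j^∨⟩`.

* `phi` : the homomorphism `W' → W` sending the simple reflections to the reflections in the `β j`;
* `iota` : the linear map `c ↦ ∑ c_j β_j`; `rep_phi`, `isRoot_iota`, `phi_injective`, `finite_of_subSys`;
* `isRoot_of_iota` : if the `β j` form a base of the subsystem then every root in the span comes from `W'`.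
-/

set_option autoImplicit false
set_option linter.unusedSectionVars false

namespace Cfsg.Agent.Nodes.SubComb

open CoxeterSystem Cfsg.Agent.ChevalleyStructure.CoxeterGeom Cfsg.Agent.Tits.Roots Cfsg.Agent.Tits.Core
  Cfsg.Agent.Tits.RootComb Cfsg.Agent.Nodes.Comb

/-! ### Abstract reflections -/

section Abstract

variable {V : Type*} [AddCommGroup V]

/-- The map `v ↦ v - f(v) b`. -/
def rf (f : V →ₗ[ℤ] ℤ) (b : V) : Module.End ℤ V where
  toFun v := v - f v • b
  map_add' v w := by rw [map_add, add_smul]; abel
  map_smul' c v := by rw [map_smul, RingHom.id_apply, smul_sub, smul_eq_mul, mul_smul]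

theorem rf_apply (f : V →ₗ[ℤ] ℤ) (b v : V) : rf f b v = v - f v • b := rfl

theorem rf_mul_self (f : V →ₗ[ℤ] ℤ) (b : V) (hb : f b = 2) : rf f b * rf f b = 1 := by
  refine LinearMap.ext fun v => ?_
  rw [Module.End.mul_apply, Module.End.one_apply, rf_apply, rf_apply, map_sub, map_smul, hb, smul_eq_mul]
  have : f v - f v * 2 = - f v := by ring
  rw [this, neg_smul]
  abel

variable {J : Type*} {M' : CoxeterMatrix J} {A' : J → J → ℤ}

/-- Abstract version of the Coxeter relations. -/
theorem rf_mul_pow (h' : IsCartan M' A') (f : J → V →ₗ[ℤ] ℤ) (b : J → V) (hfb : ∀ j k, f j (b k) = A' j k)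
    (i j : J) : (rf (f i) (b i) * rf (f j) (b j)) ^ M' i j = 1 := by
  by_cases hij : i = j
  · subst hij
    rw [M'.diagonal, pow_one, rf_mul_self _ _ (by rw [hfb, h'.diag])]
  have key : ∀ (v : V) (x y x' y' : ℤ),
      (x' = -x - f i v - A' i j * (-y - f j v - A' j i * x)) →
      (y' = -y - f j v - A' j i * x) →
      (rf (f i) (b i) * rf (f j) (b j)) (v + x • b i + y • b j) = v + x' • b i + y' • b j := by
    intro v x y x' y' hx hy
    rw [hx, hy, Module.End.mul_apply, rf_apply (f j), rf_apply (f i)]
    simp only [map_add, map_sub, map_smul, hfb, h'.diag, smul_eq_mul]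
    module
  have hz : ∀ v : V, v = v + (0 : ℤ) • b i + (0 : ℤ) • b j := by
    intro v; simp
  rcases h'.rel i j hij with ⟨hm, hp, hq⟩ | ⟨hm, hp, hq⟩ | ⟨hm, ⟨hp, hq⟩ | ⟨hp, hq⟩⟩ | ⟨hm, ⟨hp, hq⟩ | ⟨hp, hq⟩⟩
  all_goals
    rw [hm]
    refine LinearMap.ext fun v => ?_
    rw [Module.End.one_apply]
    simp only [pow_succ, pow_zero, one_mul]
    simp only [hp, hq] at key
    generalize hR : rf (f i) (b i) * rf (f j) (b j) = R at key ⊢
    simp only [Module.End.mul_apply]
    conv_lhs => rw [hz v]
    conv_rhs => rw [hz v]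
    repeat rw [key v _ _ _ _ rfl rfl]
    congr 2
    · congr 2
      ring
    · ring

end Abstract

/-! ### Subsystems -/

variable {I W J W' : Type*} [Fintype I] [DecidableEq I] [Group W] {M : CoxeterMatrix I}
  (cs : CoxeterSystem M W) {A : I → I → ℤ} (h : IsCartan M A)
  [Fintype J] [DecidableEq J] [Group W'] {M' : CoxeterMatrix J} (cs' : CoxeterSystem M' W') {A' : J → J → ℤ}
  (h' : IsCartan M' A')

/-- The linear map `c ↦ ∑ c_j β_j`. -/
def iota (β : J → I → ℤ) : (J → ℤ) →ₗ[ℤ] (I → ℤ) := Fintype.linearCombination ℤ β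

theorem iota_apply (β : J → I → ℤ) (c : J → ℤ) : iota β c = ∑ j, c j • β j := rfl

theorem iota_sr (β : J → I → ℤ) (j : J) : iota β (sr j) = β j := by
  rw [iota_apply, Finset.sum_eq_single j]
  · rw [sr_self, one_smul]
  · intro k _ hk
    rw [sr_ne hk, zero_smul]
  · intro hj; exact absurd (Finset.mem_univ j) hj

/-- A linearly independent family of roots with prescribed Cartan numbers. -/
structure SubSys (A' : J → J → ℤ) (β : J → I → ℤ) (w : J → W) (i : J → I) : Prop where
  eq : ∀ j, β j = rep cs h (w j) (sr (i j))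
  cartan : ∀ j k, pairing A (i j) (rep cs h (w j)⁻¹ (β k)) = A' j k
  indep : ∀ c : J → ℤ, iota β c = 0 → c = 0

/-- The functional `⟨·, β_j^∨⟩`. -/
def fn (w : W) (i : I) : (I → ℤ) →ₗ[ℤ] ℤ where
  toFun z := pairing A i (rep cs h w⁻¹ z)
  map_add' x y := by rw [map_add, pairing_add]
  map_smul' c x := by rw [map_smul, pairing_smul]; rfl

theorem fn_apply (w : W) (i : I) (z : I → ℤ) : fn cs h w i z = pairing A i (rep cs h w⁻¹ z) := rfl

/-- The reflection in the root `w α_i`. -/
def rfl' (w : W) (i : I) : W := w * cs.simple i * w⁻¹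

theorem rep_rfl' (w : W) (i : I) : rep cs h (rfl' cs w i) = rf (fn cs h w i) (rep cs h w (sr i)) := by
  refine LinearMap.ext fun z => ?_
  rw [rf_apply, rfl', rep_mul_apply, rep_mul_apply, rep_simple_eq, map_sub, map_smul, rep_apply_inv, fn_apply]

variable {cs h} {β : J → I → ℤ} {w : J → W} {i : J → I}

namespace SubSys

variable (S : SubSys cs h A' β w i)

include S

theorem liftable (h' : IsCartan M' A') : M'.IsLiftable (fun j => rfl' cs (w j) (i j)) := by
  intro j k
  apply rep_injective cs h
  rw [map_pow, map_mul, map_one, rep_rfl', rep_rfl', ← S.eq, ← S.eq]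
  exact rf_mul_pow h' (fun j => fn cs h (w j) (i j)) β (fun j k => by rw [fn_apply, S.cartan]) j k

/-- The homomorphism `W' → W`. -/
def phi : W' →* W := cs'.lift ⟨_, S.liftable h'⟩

theorem phi_simple (j : J) : S.phi cs' h' (cs'.simple j) = rfl' cs (w j) (i j) :=
  cs'.lift_apply_simple (S.liftable h') j

theorem fn_iota (j : J) (c : J → ℤ) : fn cs h (w j) (i j) (iota β c) = pairing A' j c := by
  rw [iota_apply, map_sum]
  unfold pairing
  refine Finset.sum_congr rfl fun k _ => ?_
  rw [map_smul, fn_apply, S.cartan, smul_eq_mul, mul_comm]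

theorem rep_simple_iota (j : J) (c : J → ℤ) :
    rep cs h (rfl' cs (w j) (i j)) (iota β c) = iota β (rep cs' h' (cs'.simple j) c) := by
  rw [rep_rfl', rf_apply, S.fn_iota, ← S.eq, rep_simple_eq, map_sub, map_smul, iota_sr]

theorem rep_phi (v : W') (c : J → ℤ) : rep cs h (S.phi cs' h' v) (iota β c) = iota β (rep cs' h' v c) := by
  obtain ⟨ω, rfl⟩ := cs'.wordProd_surjective v
  induction ω generalizing c with
  | nil => rw [wordProd_nil, map_one, map_one, map_one]; rfl
  | cons j ω ih =>
    rw [wordProd_cons, map_mul, rep_mul_apply, ih, S.phi_simple, S.rep_simple_iota cs' h', rep_mul_apply]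

theorem iota_injective : Function.Injective (iota β) := by
  rw [injective_iff_map_eq_zero]
  exact S.indep

theorem phi_injective : Function.Injective (S.phi cs' h') := by
  rw [injective_iff_map_eq_one]
  intro v hv
  refine eq_one_of_fix cs' h' v fun j => ?_
  apply S.iota_injective
  have := S.rep_phi cs' h' v (Pi.single j 1)
  rw [hv, map_one, Module.End.one_apply] at this
  exact this.symm

include cs' h' in
theorem finite [Finite W] : Finite W' := Finite.of_injective _ (S.phi_injective cs' h')

theorem isRoot_beta (j : J) : IsRoot cs h (β j) := ⟨w j, i j, S.eq j⟩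

variable {cs' h'} in
theorem isRoot_iota {c : J → ℤ} (hc : IsRoot cs' h' c) : IsRoot cs h (iota β c) := by
  obtain ⟨v, j, rfl⟩ := hc
  rw [← S.rep_phi cs' h', iota_sr]
  exact (S.isRoot_beta j).act _

/-- If the `β j` form a base of the subsystem then every root in the lattice spanned by them comes from `W'`. -/
theorem isRoot_of_iota [Finite W] (hbase : ∀ c, IsRoot cs h (iota β c) → 0 ≤ c ∨ c ≤ 0) {c : J → ℤ}
    (hc : IsRoot cs h (iota β c)) : IsRoot cs' h' c := by
  have := Fintype.ofFinite W
  -- reduction to `0 ≤ c`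
  have main : ∀ N : ℕ, ∀ c : J → ℤ, (ht c).toNat = N → 0 ≤ c → IsRoot cs h (iota β c) → IsRoot cs' h' c := by
    intro N
    induction N using Nat.strong_induction_on with
    | _ N ih =>
    intro c hN h0 hc
    have hform : 0 < form cs h (iota β c) (iota β c) := form_pos cs h hc.ne_zero
    have hsum : form cs h (iota β c) (iota β c) = ∑ j, c j * form cs h (iota β c) (β j) := by
      conv_lhs => rhs; rw [iota_apply]
      have : ∀ (s : Finset J), form cs h (iota β c) (∑ j ∈ s, c j • β j) =
          ∑ j ∈ s, c j * form cs h (iota β c) (β j) := by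
        intro s
        classical
        induction s using Finset.induction_on with
        | empty => rw [Finset.sum_empty, Finset.sum_empty, form_zero_right]
        | insert a s ha ih => rw [Finset.sum_insert ha, Finset.sum_insert ha, form_add_right, form_smul_right, ih]
      exact this _
    rw [hsum] at hform
    obtain ⟨j, -, hj⟩ := Finset.exists_lt_of_sum_lt (f := fun _ => (0 : ℤ)) (by simpa using hform)
    have hcj : 0 < c j := by
      by_contra hcon
      have h1 : c j = 0 := le_antisymm (not_lt.1 hcon) (h0 j)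
      rw [h1, zero_mul] at hj
      exact lt_irrefl _ hj
    have hfj : 0 < form cs h (iota β c) (β j) := by
      by_contra hcon
      exact absurd hj (not_lt.2 (mul_nonpos_of_nonneg_of_nonpos hcj.le (not_lt.1 hcon)))
    have hp : 0 < pairing A' j c := by
      rw [← S.fn_iota, fn_apply, ← form_sr_pos_iff cs h]
      rw [S.eq, ← inv_inv (w j), ← form_rep_left cs h] at hfj
      exact hfj
    by_cases hk : ∀ k, k ≠ j → c k = 0
    · have hcs : c = c j • sr j := by
        funext k
        by_cases hkj : k = j
        · subst hkj; rw [Pi.smul_apply, sr_self, smul_eq_mul, mul_one]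
        · rw [Pi.smul_apply, sr_ne hkj, smul_zero, hk k hkj]
      have h1 : iota β c = c j • β j := by
        conv_lhs => rw [hcs]
        rw [map_smul, iota_sr]
      have h2 := isUnit_of_smul cs h hc _ h1
      rcases Int.isUnit_iff.1 h2 with h3 | h3
      · rw [hcs, h3, one_smul]; exact isRoot_sr cs' h' j
      · omega
    · push Not at hk
      obtain ⟨k, hkj, hk0⟩ := hk
      set c' : J → ℤ := rep cs' h' (cs'.simple j) c with hc'
      have hroot : IsRoot cs h (iota β c') := by
        rw [hc', ← S.rep_simple_iota cs' h']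
        exact hc.act _
      have hc'k : c' k = c k := by rw [hc', rep_simple_apply cs' h' j c k hkj]
      have h0' : 0 ≤ c' := by
        rcases hbase c' hroot with h1 | h1
        · exact h1
        · exfalso
          have h2 := h1 k
          rw [hc'k] at h2
          have h3 : c k = 0 := le_antisymm h2 (h0 k)
          exact hk0 h3
      have hht : ht c' = ht c - pairing A' j c := by rw [hc', ht_simple]
      have hpos : 0 ≤ ht c' := Finset.sum_nonneg fun m _ => h0' m
      have hr := ih (ht c').toNat (by omega) c' rfl h0' hroot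
      have h1 : c = rep cs' h' (cs'.simple j) c' := by
        rw [hc', ← rep_mul_apply, simple_mul_simple_self, map_one, Module.End.one_apply]
      rw [h1]
      exact hr.act _
  rcases hbase c hc with h0 | h0
  · exact main _ c rfl h0 hc
  · have h1 : IsRoot cs' h' (-c) := main _ (-c) rfl (neg_nonneg.2 h0) (by rw [map_neg]; exact hc.neg)
    have := h1.neg
    rwa [neg_neg] at this

end SubSys

end Cfsg.Agent.Nodes.SubComb
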