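import Mathlib
import Cfsg.Agent.Nodes.RGDLib
import Cfsg.Agent.Nodes.SubComb

/-!
Root group data of closed subsystems (project CIT, charts, (Ch8)).

* `rgd_sub` : the root group datum of a subsystem `β : J → roots` (commutator relations as a hypothesis);
* `comm_of_base` : the commutator relations when every root in the rational span of the `β j` is an integral
  combination with coefficients of one sign; `comm_of_int` : the same for root data with integral commutator
  relations, where only the roots in the lattice spanned by the `β j` matter;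
* `leviMatrix`, `levi_subSys`, `levi_base`, `rgd_levi` : standard Levi subsystems.
-/

set_option autoImplicit false
set_option linter.unusedSectionVars false

namespace Cfsg.Agent.Nodes.Sub

open CoxeterSystem Cfsg.Agent.ChevalleyStructure.CoxeterGeom Cfsg.Agent.Tits.Roots Cfsg.Agent.Tits.Core
  Cfsg.Agent.Tits.RootComb Cfsg.Agent.Nodes.Comb Cfsg.Agent.Nodes.Reps Cfsg.Agent.Nodes.BNOf
  Cfsg.Agent.Nodes.RGDLib Cfsg.Agent.Nodes.SubComb
open scoped commutatorElement

variable {I W J W' Y : Type*} [Fintype I] [DecidableEq I] [Group W] {M : CoxeterMatrix I}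
  {cs : CoxeterSystem M W} {A : I → I → ℤ} {h : IsCartan M A}
  [Fintype J] [DecidableEq J] [Group W'] {M' : CoxeterMatrix J} {cs' : CoxeterSystem M' W'} {A' : J → J → ℤ}
  {h' : IsCartan M' A'} [Group Y] {p : ℕ} {T : Subgroup Y} {n : I → Y} {X : (I → ℤ) → Subgroup Y}
  {β : J → I → ℤ} {w : J → W} {i : J → I}

/-- `g n g⁻¹` represents the reflection. -/
theorem rp_rfl' {hN : NSys M T n} {v : W} {g : Y} (hg : Rp cs hN v g) (k : I) :
    Rp cs hN (rfl' cs v k) (g * n k * g⁻¹) := (hg.mul (rp_simple cs hN k)).mul hg.inv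

theorem nsys_sub (hN : NSys M T n) (S : SubSys cs h A' β w i) (h' : IsCartan M' A') {g : J → Y}
    (hg : ∀ j, Rp cs hN (w j) (g j)) : NSys M' T (fun j => g j * n (i j) * (g j)⁻¹) := by
  refine ⟨fun j => (rp_rfl' (hg j) (i j)).mem_normalizer, fun j k => ?_⟩
  have h1 : Rp cs hN ((rfl' cs (w j) (i j) * rfl' cs (w k) (i k)) ^ M' j k)
      ((g j * n (i j) * (g j)⁻¹ * (g k * n (i k) * (g k)⁻¹)) ^ M' j k) := by
    have h2 := (rp_rfl' (hg j) (i j)).mul (rp_rfl' (hg k) (i k))
    generalize M' j k = m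
    induction m with
    | zero => rw [pow_zero, pow_zero]; exact rp_one
    | succ m ih => rw [pow_succ, pow_succ]; exact ih.mul h2
  rw [S.liftable h' j k] at h1
  exact h1.mem_of_one

/-- **The root group datum of a subsystem.** -/
theorem rgd_sub [Finite W] (R : RGD cs h p T n X) (S : SubSys cs h A' β w i)
    (hcomm : ∀ c d, IsRoot cs' h' c → IsRoot cs' h' d → c ≠ d → c ≠ -d → ∀ a ∈ X (iota β c),
      ∀ b ∈ X (iota β d), ⁅a, b⁆ ∈ btw cs' h' (fun e => X (iota β e)) c d)
    {g : J → Y} (hg : ∀ j, Rp cs R.nsys (w j) (g j)) :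
    RGD cs' h' p T (fun j => g j * n (i j) * (g j)⁻¹) (fun c => X (iota β c)) where
  nsys := nsys_sub R.nsys S h' hg
  conj j c hc := by
    rw [R.conj_rp (rp_rfl' (hg j) (i j)) (S.isRoot_iota hc), S.rep_simple_iota cs' h']
  tor c hc := R.tor _ (S.isRoot_iota hc)
  comm := hcomm
  rk1 j u hu hne := by
    have e1 : iota β (-sr j) = - β j := by rw [map_neg, iota_sr]
    have e2 : iota β (sr j) = β j := iota_sr β j
    rw [e1] at hu
    rw [e2]
    have h1 : (g j)⁻¹ * u * g j ∈ X (-sr (i j)) := by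
      have := R.conj_mem' (hg j) (S.isRoot_beta j).neg hu
      rwa [map_neg, S.eq, rep_inv_apply] at this
    have h2 : (g j)⁻¹ * u * g j ≠ 1 := by
      intro h3
      apply hne
      have : u = g j * ((g j)⁻¹ * u * g j) * (g j)⁻¹ := by group
      rw [this, h3]; group
    obtain ⟨a, ha, t, ht, b, hb, e⟩ := R.rk1 (i j) _ h1 h2
    have ha' : g j * a * (g j)⁻¹ ∈ X (β j) := by
      rw [S.eq]; exact R.conj_mem (hg j) (isRoot_sr cs h _) ha
    have hb' : g j * b * (g j)⁻¹ ∈ X (β j) := by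
      rw [S.eq]; exact R.conj_mem (hg j) (isRoot_sr cs h _) hb
    have ht' : g j * t * (g j)⁻¹ ∈ T := by
      have h3 := mem_normalizer_iff_cj.1 (hg j).mem_normalizer
      have h4 : g j * t * (g j)⁻¹ ∈ cj (g j) T := conj_mem_cj.2 ht
      rwa [h3] at h4
    refine ⟨_, ha', _, ht', _, hb', ?_⟩
    have : u = g j * ((g j)⁻¹ * u * g j) * (g j)⁻¹ := by group
    rw [this, e]
    group
  pgrp j := R.pgrp' (S.isRoot_iota (isRoot_sr cs' h' j))
  notp j hp := by
    apply R.notp (i j)
    have e1 : iota β (-sr j) = - β j := by rw [map_neg, iota_sr]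
    have e2 : iota β (sr j) = β j := iota_sr β j
    rw [e1, e2] at hp
    have h1 : cj (g j) (X (sr (i j)) ⊔ X (-sr (i j))) = X (β j) ⊔ X (-β j) := by
      rw [cj_sup, R.conj_rp (hg j) (isRoot_sr cs h _), R.conj_rp (hg j) (isRoot_sr cs h _).neg, map_neg, S.eq]
    rw [← h1] at hp
    exact hp.of_equiv ((X (sr (i j)) ⊔ X (-sr (i j))).equivMapOfInjective (MulAut.conj (g j)).toMonoidHom
      (MulAut.conj (g j)).injective).symm
  tcop := R.tcop

/-- Commutator relations of a subsystem, from a base of the rational closure. -/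
theorem comm_of_base [Finite W] (R : RGD cs h p T n X) (S : SubSys cs h A' β w i)
    (hbase : ∀ z, IsRoot cs h z → ∀ m : ℤ, 0 < m → ∀ c, m • z = iota β c → ∃ d, z = iota β d ∧ (0 ≤ d ∨ d ≤ 0)) :
    ∀ c d, IsRoot cs' h' c → IsRoot cs' h' d → c ≠ d → c ≠ -d → ∀ a ∈ X (iota β c),
      ∀ b ∈ X (iota β d), ⁅a, b⁆ ∈ btw cs' h' (fun e => X (iota β e)) c d := by
  intro c d hc hd hcd hcd' a ha b hb
  have h1 := R.comm _ _ (S.isRoot_iota hc) (S.isRoot_iota hd) (fun h0 => hcd (S.iota_injective h0))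
    (fun h0 => hcd' (S.iota_injective (by rw [h0, map_neg]))) a ha b hb
  refine (?_ : btw cs h X (iota β c) (iota β d) ≤ _) h1
  unfold Reps.btw
  refine iSup_le ?_
  rintro ⟨z, hz, m, x, y, hm, hx, hy, e⟩
  have e' : m • z = iota β (x • c + y • d) := by rw [e, map_add, map_smul, map_smul]
  obtain ⟨f, hf, -⟩ := hbase z hz m hm _ e'
  have hb' : ∀ c, IsRoot cs h (iota β c) → 0 ≤ c ∨ c ≤ 0 := by
    intro c hc
    obtain ⟨d, hd, hs⟩ := hbase _ hc 1 one_pos c (one_smul _ _)
    rwa [S.iota_injective hd]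
  have hfr : IsRoot cs' h' f := S.isRoot_of_iota cs' h' hb' (hf ▸ hz)
  have e2 : m • f = x • c + y • d := S.iota_injective (by rw [map_smul, ← hf, e'])
  change X z ≤ _
  rw [hf]
  exact le_iSup (fun e : {e : J → ℤ // Btwn cs' h' c d e} => X (iota β e.1))
    ⟨f, hfr, m, x, y, hm, hx, hy, e2⟩

/-- Commutator relations of a subsystem, from integral commutator relations. -/
theorem comm_of_int [Finite W] (S : SubSys cs h A' β w i)
    (hint : ∀ x y, IsRoot cs h x → IsRoot cs h y → x ≠ y → x ≠ -y → ∀ a ∈ X x, ∀ b ∈ X y,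
      ⁅a, b⁆ ∈ ⨆ z : {z : I → ℤ // IsRoot cs h z ∧ ∃ a b : ℤ, 0 < a ∧ 0 < b ∧ z = a • x + b • y}, X z.1)
    (hbase : ∀ c, IsRoot cs h (iota β c) → 0 ≤ c ∨ c ≤ 0) :
    ∀ c d, IsRoot cs' h' c → IsRoot cs' h' d → c ≠ d → c ≠ -d → ∀ a ∈ X (iota β c),
      ∀ b ∈ X (iota β d), ⁅a, b⁆ ∈ btw cs' h' (fun e => X (iota β e)) c d := by
  intro c d hc hd hcd hcd' a ha b hb
  have h1 := hint _ _ (S.isRoot_iota hc) (S.isRoot_iota hd) (fun h0 => hcd (S.iota_injective h0))
    (fun h0 => hcd' (S.iota_injective (by rw [h0, map_neg]))) a ha b hb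
  refine (?_ : _ ≤ btw cs' h' (fun e => X (iota β e)) c d) h1
  refine iSup_le ?_
  rintro ⟨z, hz, x, y, hx, hy, e⟩
  have e' : z = iota β (x • c + y • d) := by rw [e, map_add, map_smul, map_smul]
  have hfr : IsRoot cs' h' (x • c + y • d) := S.isRoot_of_iota cs' h' hbase (e' ▸ hz)
  change X z ≤ _
  rw [e']
  exact le_iSup (fun e : {e : J → ℤ // Btwn cs' h' c d e} => X (iota β e.1))
    ⟨_, Btwn.of_int hfr hx hy rfl⟩

/-! ### Standard Levi subsystems -/

/-- The Coxeter matrix of a subdiagram. -/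
def leviMatrix {J I : Type*} (f : J ↪ I) (M : CoxeterMatrix I) : CoxeterMatrix J where
  M := Matrix.of fun j k => M (f j) (f k)
  isSymm := by
    ext j k
    exact M.symmetric (f k) (f j)
  diagonal j := M.diagonal (f j)
  off_diagonal j k hjk := M.off_diagonal (f j) (f k) (fun h0 => hjk (f.injective h0))

theorem leviMatrix_apply {J I : Type*} (f : J ↪ I) (M : CoxeterMatrix I) (j k : J) :
    leviMatrix f M j k = M (f j) (f k) := rfl

theorem levi_isCartan {J I : Type*} (f : J ↪ I) {M : CoxeterMatrix I} {A : I → I → ℤ} (h : IsCartan M A) :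
    IsCartan (leviMatrix f M) (fun j k => A (f j) (f k)) :=
  ⟨fun j => h.diag (f j), fun j k hjk => h.rel (f j) (f k) (fun h0 => hjk (f.injective h0))⟩

theorem iota_levi_apply (f : J ↪ I) (c : J → ℤ) (j : J) : iota (fun j => sr (f j)) c (f j) = c j := by
  rw [iota_apply, Finset.sum_apply, Finset.sum_eq_single j]
  · rw [Pi.smul_apply, sr_self, smul_eq_mul, mul_one]
  · intro k _ hk
    rw [Pi.smul_apply, sr_ne (fun h0 => hk (f.injective h0).symm), smul_zero]
  · intro hj; exact absurd (Finset.mem_univ j) hj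

theorem iota_levi_apply_ne (f : J ↪ I) (c : J → ℤ) {k : I} (hk : ∀ j, f j ≠ k) :
    iota (fun j => sr (f j)) c k = 0 := by
  rw [iota_apply, Finset.sum_apply]
  refine Finset.sum_eq_zero fun j _ => ?_
  rw [Pi.smul_apply, sr_ne (hk j).symm, smul_zero]

/-- A vector supported on `J` is in the image of `iota`. -/
theorem eq_iota_levi (f : J ↪ I) {z : I → ℤ} (hz : ∀ k, (∀ j, f j ≠ k) → z k = 0) :
    z = iota (fun j => sr (f j)) (fun j => z (f j)) := by
  funext k
  by_cases hk : ∃ j, f j = k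
  · obtain ⟨j, rfl⟩ := hk
    rw [iota_levi_apply]
  · push Not at hk
    rw [iota_levi_apply_ne f _ hk, hz k hk]

theorem levi_subSys (f : J ↪ I) : SubSys cs h (fun j k => A (f j) (f k)) (fun j => sr (f j)) (fun _ => 1) f where
  eq j := by rw [map_one, Module.End.one_apply]
  cartan j k := by
    rw [inv_one, map_one, Module.End.one_apply, sr, pairing_single, mul_one]
  indep c hc := by
    funext j
    rw [← iota_levi_apply f c j, hc]
    rfl

theorem levi_base (f : J ↪ I) : ∀ z, IsRoot cs h z → ∀ m : ℤ, 0 < m → ∀ c,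
    m • z = iota (fun j => sr (f j)) c → ∃ d, z = iota (fun j => sr (f j)) d ∧ (0 ≤ d ∨ d ≤ 0) := by
  intro z hz m hm c e
  have hs : ∀ k, (∀ j, f j ≠ k) → z k = 0 := by
    intro k hk
    have h1 := congrFun e k
    rw [iota_levi_apply_ne f c hk, Pi.smul_apply, smul_eq_mul] at h1
    rcases mul_eq_zero.1 h1 with h2 | h2
    · omega
    · exact h2
  refine ⟨_, eq_iota_levi f hs, ?_⟩
  rcases hz.pos_or_neg with h1 | h1
  · exact Or.inl fun j => h1 (f j)
  · exact Or.inr fun j => h1 (f j)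

/-- **The root group datum of a standard Levi subsystem.** -/
theorem rgd_levi [Finite W] (R : RGD cs h p T n X) (f : J ↪ I) (cs' : CoxeterSystem (leviMatrix f M) W') :
    RGD cs' (levi_isCartan f h) p T (fun j => n (f j)) (fun c => X (iota (fun j => sr (f j)) c)) := by
  have h1 := rgd_sub (cs' := cs') (h' := levi_isCartan f h) R (levi_subSys f)
    (comm_of_base R (levi_subSys f) (levi_base f)) (g := fun _ => 1) (fun _ => rp_one)
  simpa only [one_mul, inv_one, mul_one] using h1

end Cfsg.Agent.Nodes.Sub
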