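import Mathlib
import Cfsg.Agent.Nodes.ClsNorm
import Cfsg.Agent.Nodes.Sub

/-!
Classical root groups of subsystems (project CIT, chart library).

* `form_iota_pos` ... : the sign of the form is preserved by `iota`;
* `cls_sub` : classical data of a subsystem; `cls_levi` : standard Levi subsystems;
* `GG_levi` : the group of a standard Levi subsystem is `LJ`.
-/

set_option autoImplicit false
set_option linter.unusedSectionVars false

namespace Cfsg.Agent.Nodes.ClsSub

open CoxeterSystem Cfsg.Agent.ChevalleyStructure.CoxeterGeom Cfsg.Agent.Tits.Roots Cfsg.Agent.Tits.Core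
  Cfsg.Agent.Tits.RootComb Cfsg.Agent.Tits.Exchange Cfsg.Agent.Nodes.Comb Cfsg.Agent.Nodes.Reps
  Cfsg.Agent.Nodes.BNOf Cfsg.Agent.Nodes.RGDLib Cfsg.Agent.Nodes.Chart Cfsg.Agent.Nodes.StabComb
  Cfsg.Agent.Nodes.Bruhat Cfsg.Agent.Nodes.OppDec Cfsg.Agent.Nodes.LeviDec Cfsg.Agent.Nodes.ClsNorm
  Cfsg.Agent.Nodes.SubComb Cfsg.Agent.Nodes.Sub
open scoped commutatorElement

variable {I W J W' Y : Type*} [Fintype I] [DecidableEq I] [Group W] [Fintype W] {M : CoxeterMatrix I}
  {cs : CoxeterSystem M W} {A : I → I → ℤ} {h : IsCartan M A}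
  [Fintype J] [DecidableEq J] [Group W'] [Fintype W'] {M' : CoxeterMatrix J} {cs' : CoxeterSystem M' W'}
  {A' : J → J → ℤ} {h' : IsCartan M' A'} [Group Y] {p : ℕ} {T : Subgroup Y} {n : I → Y}
  {X : (I → ℤ) → Subgroup Y} {R : Set (I → ℤ)} {Z : (I → ℤ) → Subgroup Y} {z : (I → ℤ) → Y}
  {β : J → I → ℤ} {w : J → W} {i : J → I}

/-! ### The sign of the form -/

/-- `(ι c, ι d) > 0 ↔ (c, d) > 0` for a root `d`. -/
theorem form_iota_pos_iff (S : SubSys cs h A' β w i) (c : J → ℤ) {d : J → ℤ} (hd : IsRoot cs' h' d) :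
    0 < form cs h (iota β c) (iota β d) ↔ 0 < form cs' h' c d := by
  obtain ⟨v, j, rfl⟩ := hd
  have e1 : form cs' h' c (rep cs' h' v (sr j)) = form cs' h' (rep cs' h' v⁻¹ c) (sr j) := by
    conv_rhs => rw [form_rep_left, inv_inv]
  have e2 : form cs h (iota β c) (iota β (rep cs' h' v (sr j))) =
      form cs h (rep cs h (w j)⁻¹ (iota β (rep cs' h' v⁻¹ c))) (sr (i j)) := by
    rw [form_rep_left, inv_inv, ← S.eq, ← iota_sr β j, ← S.rep_phi cs' h' v⁻¹ c, form_rep_left,
      ← map_inv, inv_inv, S.rep_phi cs' h' v]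
  rw [e1, e2, form_sr_pos_iff, form_sr_pos_iff, ← fn_apply, S.fn_iota]

theorem form_iota_neg_iff (S : SubSys cs h A' β w i) (c : J → ℤ) {d : J → ℤ} (hd : IsRoot cs' h' d) :
    form cs h (iota β c) (iota β d) < 0 ↔ form cs' h' c d < 0 := by
  have h1 := form_iota_pos_iff (cs' := cs') (h' := h') S (-c) hd
  rw [map_neg, form_neg_left, form_neg_left, Left.neg_pos_iff, Left.neg_pos_iff] at h1
  exact h1

theorem form_iota_nonneg_iff (S : SubSys cs h A' β w i) (c : J → ℤ) {d : J → ℤ} (hd : IsRoot cs' h' d) :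
    0 ≤ form cs h (iota β c) (iota β d) ↔ 0 ≤ form cs' h' c d := by
  rw [← not_lt, form_iota_neg_iff S c hd, not_lt]

theorem form_iota_eq_zero_iff (S : SubSys cs h A' β w i) (c : J → ℤ) {d : J → ℤ} (hd : IsRoot cs' h' d) :
    form cs h (iota β c) (iota β d) = 0 ↔ form cs' h' c d = 0 := by
  have h1 := form_iota_pos_iff (cs' := cs') (h' := h') S c hd
  have h2 := form_iota_neg_iff (cs' := cs') (h' := h') S c hd
  omega

/-! ### Subsystems -/

/-- Classical root groups of a subsystem. -/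
theorem cls_sub (C : Cls cs h p T n X R Z z) (S : SubSys cs h A' β w i) {g : J → Y}
    (hg : ∀ j, Rp cs C.rgd.nsys (w j) (g j))
    (hR : RGD cs' h' p T (fun j => g j * n (i j) * (g j)⁻¹) (fun c => X (iota β c))) :
    Cls cs' h' p T (fun j => g j * n (i j) * (g j)⁻¹) (fun c => X (iota β c))
      {c | IsRoot cs' h' c ∧ iota β c ∈ R} (fun c => Z (iota β c)) (fun c => z (iota β c)) where
  rgd := hR
  root r hr := hr.1
  act r hr v := ⟨hr.1.act v, by rw [← S.rep_phi cs' h']; exact C.act _ hr.2 _⟩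
  le r hr := C.le _ hr.2
  ne_bot r hr := C.ne_bot _ hr.2
  conj j r hr := by
    rw [conj_Z C (rp_rfl' (hg j) (i j)) hr.2, S.rep_simple_iota cs' h']
  tor r hr := C.tor _ hr.2
  cent r hr y hy h0 := C.cent _ hr.2 _ (S.isRoot_iota hy) ((form_iota_nonneg_iff S y hr.1).2 h0)
  notp r hr := by rw [map_neg]; exact C.notp _ hr.2
  z_mem r hr := by rw [map_neg]; exact C.z_mem _ hr.2
  z_torus r hr := C.z_torus _ hr.2
  z_T r hr := C.z_T _ hr.2
  z_sq r hr := C.z_sq _ hr.2
  z_conj j r hr := by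
    rw [conj_z C (rp_rfl' (hg j) (i j)) hr.2, S.rep_simple_iota cs' h']
  z_neg r hr := by rw [map_neg]; exact C.z_neg _ hr.2
  z_cent r hr := C.z_cent _ hr.2
  z_inv r hr y hy hne hne' hf := by
    refine C.z_inv _ hr.2 _ (S.isRoot_iota hy) (fun h0 => hne (S.iota_injective h0))
      (fun h0 => hne' (S.iota_injective (by rw [h0, map_neg]))) ?_
    rw [Ne, form_iota_eq_zero_iff S y hr.1]
    exact hf
  z_inv_self r hr := C.z_inv_self _ hr.2

/-- Classical root groups of a standard Levi subsystem. -/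
theorem cls_levi (C : Cls cs h p T n X R Z z) (f : J ↪ I) (cs' : CoxeterSystem (leviMatrix f M) W') :
    Cls cs' (levi_isCartan f h) p T (fun j => n (f j)) (fun c => X (iota (fun j => sr (f j)) c))
      {c | IsRoot cs' (levi_isCartan f h) c ∧ iota (fun j => sr (f j)) c ∈ R}
      (fun c => Z (iota (fun j => sr (f j)) c)) (fun c => z (iota (fun j => sr (f j)) c)) := by
  have h1 := cls_sub (cs' := cs') (h' := levi_isCartan f h) C (levi_subSys f) (g := fun _ => 1)
    (fun _ => rp_one) (by simpa only [one_mul, inv_one, mul_one] using rgd_levi C.rgd f cs')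
  simpa only [one_mul, inv_one, mul_one] using h1

/-- The roots of a standard Levi subsystem. -/
theorem mem_RootsJ_range_iff (f : J ↪ I) (cs' : CoxeterSystem (leviMatrix f M) W') {x : I → ℤ} :
    x ∈ RootsJ cs h (Set.range f) ↔ ∃ c, IsRoot cs' (levi_isCartan f h) c ∧ x = iota (fun j => sr (f j)) c := by
  constructor
  · rintro ⟨hx, h0⟩
    have e := eq_iota_levi f (z := x) (fun k hk => h0 k (by rintro ⟨j, hj⟩; exact hk j hj))
    refine ⟨fun j => x (f j), ?_, e⟩
    refine (levi_subSys (cs := cs) (h := h) f).isRoot_of_iota cs' (levi_isCartan f h) (fun c hc => ?_)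
      (by rw [← e]; exact hx)
    obtain ⟨d, hd, h1⟩ := levi_base (cs := cs) (h := h) f _ hc 1 one_pos c (one_smul _ _)
    have : c = d := (levi_subSys (cs := cs) (h := h) f).iota_injective hd
    rw [this]; exact h1
  · rintro ⟨c, hc, rfl⟩
    exact ⟨(levi_subSys f).isRoot_iota hc, fun k hk => iota_levi_apply_ne f c fun j hj => hk ⟨j, hj⟩⟩

omit [Fintype W] [Fintype W'] in
theorem Sup_eq_of_forall {X : (I → ℤ) → Subgroup Y} {X' : (J → ℤ) → Subgroup Y} {S : Set (I → ℤ)}
    {S' : Set (J → ℤ)} (h1 : ∀ x ∈ S, ∃ c ∈ S', X x = X' c) (h2 : ∀ c ∈ S', ∃ x ∈ S, X x = X' c) :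
    RGD.Sup X S = RGD.Sup X' S' := by
  apply le_antisymm
  · refine RGD.Sup_le fun x hx => ?_
    obtain ⟨c, hc, e⟩ := h1 x hx
    rw [e]; exact RGD.le_Sup hc
  · refine RGD.Sup_le fun c hc => ?_
    obtain ⟨x, hx, e⟩ := h2 c hc
    rw [← e]; exact RGD.le_Sup hx

/-- The group of a standard Levi subsystem. -/
theorem GG_levi (f : J ↪ I) (cs' : CoxeterSystem (leviMatrix f M) W') (T : Subgroup Y)
    (X : (I → ℤ) → Subgroup Y) :
    GG cs' (levi_isCartan f h) T (fun c => X (iota (fun j => sr (f j)) c)) = LJ cs h T X (Set.range f) := by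
  unfold GG LJ
  congr 1
  symm
  refine Sup_eq_of_forall (fun x hx => ?_) (fun c hc => ?_)
  · obtain ⟨c, hc, rfl⟩ := (mem_RootsJ_range_iff f cs').1 hx
    exact ⟨c, hc, rfl⟩
  · exact ⟨_, (mem_RootsJ_range_iff f cs').2 ⟨c, hc, rfl⟩, rfl⟩

end Cfsg.Agent.Nodes.ClsSub
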