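import Mathlib
import Cfsg.Agent.Nodes.BNOf

/-!
Two non-opposite roots can be made positive simultaneously (project CIT, charts).

* `prop_of_form` : roots with vanishing Gram determinant are equal up to sign;
* `exists_pos_pair` : `x ≠ -y` ⇒ some `w` makes both positive;
* `isPGroup_pair` : the group generated by `X x`, `X y` and everything between is a `p`-group.
-/

set_option autoImplicit false
set_option linter.unusedSectionVars false

namespace Cfsg.Agent.Nodes.PosPair

open CoxeterSystem Cfsg.Agent.ChevalleyStructure.CoxeterGeom Cfsg.Agent.Tits.Roots Cfsg.Agent.Tits.Core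
  Cfsg.Agent.Tits.RootComb Cfsg.Agent.Nodes.Comb Cfsg.Agent.Nodes.Reps Cfsg.Agent.Nodes.BNOf
open scoped commutatorElement

variable {I W : Type*} [Fintype I] [DecidableEq I] [Group W] {M : CoxeterMatrix I}
  (cs : CoxeterSystem M W) {A : I → I → ℤ} (h : IsCartan M A)

/-- Proportional roots are equal up to sign. -/
theorem eq_or_eq_neg_of_smul {x y : I → ℤ} (hx : IsRoot cs h x) (hy : IsRoot cs h y) {a b : ℤ} (ha : a ≠ 0)
    (he : a • x = b • y) : x = y ∨ x = -y := by
  obtain ⟨v, i, rfl⟩ := hx
  have hyr : IsRoot cs h (rep cs h v⁻¹ y) := hy.act _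
  have h3 : a • sr i = b • rep cs h v⁻¹ y := by
    have h4 := congrArg (rep cs h v⁻¹) he
    rwa [map_smul, map_smul, rep_inv_apply] at h4
  have hb : b ≠ 0 := by
    rintro rfl
    rw [zero_smul] at h3
    have := congrFun h3 i
    rw [Pi.smul_apply, sr_self, smul_eq_mul, mul_one, Pi.zero_apply] at this
    exact ha this
  have hsup : ∀ k, k ≠ i → rep cs h v⁻¹ y k = 0 := by
    intro k hk
    have := congrFun h3 k
    rw [Pi.smul_apply, Pi.smul_apply, sr_ne hk, smul_zero, smul_eq_mul] at this
    exact (mul_eq_zero.1 this.symm).resolve_left hb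
  rcases hyr.pos_or_neg with h5 | h5
  · left
    have h6 := hyr.eq_sr h5 i hsup
    rw [← h6, rep_apply_inv]
  · right
    have h6 := hyr.neg.eq_sr (neg_nonneg.2 h5) i (fun k hk => by rw [Pi.neg_apply, hsup k hk, neg_zero])
    rw [← h6, map_neg, rep_apply_inv]

/-- Strict Cauchy-Schwarz inequality for roots. -/
theorem gram_pos [Fintype W] {x y : I → ℤ} (hx : IsRoot cs h x) (hy : IsRoot cs h y) (hxy : x ≠ y) (hxy' : x ≠ -y) :
    0 < form cs h x x * form cs h y y - form cs h x y * form cs h x y := by
  have hyy := form_pos cs h hy.ne_zero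
  have h1 : form cs h (form cs h y y • x - form cs h x y • y) (form cs h y y • x - form cs h x y • y)
      = form cs h y y * (form cs h x x * form cs h y y - form cs h x y * form cs h x y) := by
    rw [form_sub_left, form_sub_right, form_sub_right]
    simp only [form_smul_left, form_smul_right]
    rw [form_comm cs h y x]
    ring
  have h2 : form cs h y y • x - form cs h x y • y ≠ 0 := by
    intro h0
    rcases eq_or_eq_neg_of_smul cs h hx hy hyy.ne' (sub_eq_zero.1 h0) with h3 | h3
    · exact hxy h3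
    · exact hxy' h3
  have h3 := form_pos cs h h2
  rw [h1] at h3
  exact (mul_pos_iff_of_pos_left hyy).1 h3

/-- Two non-opposite roots can be made positive simultaneously. -/
theorem exists_pos_pair [Finite W] {x y : I → ℤ} (hx : IsRoot cs h x) (hy : IsRoot cs h y) (hxy : x ≠ -y) :
    ∃ w : W, 0 ≤ rep cs h w x ∧ 0 ≤ rep cs h w y := by
  have := Fintype.ofFinite W
  -- it is enough to find `v` with `(v, x) > 0` and `(v, y) > 0`
  have key : ∀ v : I → ℤ, 0 < form cs h v x → 0 < form cs h v y →
      ∃ w : W, 0 ≤ rep cs h w x ∧ 0 ≤ rep cs h w y := by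
    intro v h1 h2
    obtain ⟨w, hw⟩ := exists_dom_rep cs h v
    have hpos : ∀ z, IsRoot cs h z → 0 < form cs h v z → 0 ≤ rep cs h w z := by
      intro z hz hvz
      rcases (hz.act w).pos_or_neg with h3 | h3
      · exact h3
      · exfalso
        have h4 := form_nonneg_of_dom cs h hw (neg_nonneg.2 h3)
        rw [form_neg_right, form_rep] at h4
        linarith
    exact ⟨w, hpos x hx h1, hpos y hy h2⟩
  by_cases hc : 0 ≤ form cs h x y
  · have hxx := form_pos cs h hx.ne_zero
    have hyy := form_pos cs h hy.ne_zero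
    refine key (x + y) ?_ ?_
    · rw [form_add_left, form_comm cs h y x]; linarith
    · rw [form_add_left]; linarith
  · have hne : x ≠ y := by
      rintro rfl
      exact hc (form_nonneg cs h x)
    have hg := gram_pos cs h hx hy hne hxy
    refine key ((form cs h y y - form cs h x y) • x + (form cs h x x - form cs h x y) • y) ?_ ?_
    · rw [form_add_left, form_smul_left, form_smul_left, form_comm cs h y x]
      nlinarith
    · rw [form_add_left, form_smul_left, form_smul_left]
      nlinarith

variable {cs h} {Y : Type*} [Group Y] {p : ℕ} {T : Subgroup Y} {n : I → Y} {X : (I → ℤ) → Subgroup Y}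

/-- The root groups of a set of roots which some `w` makes positive generate a `p`-group. -/
theorem isPGroup_of_rep [Finite W] (R : RGD cs h p T n X) (w : W) {S : Set (I → ℤ)}
    (hS : ∀ x ∈ S, IsRoot cs h x ∧ 0 ≤ rep cs h w x) : IsPGroup p ↥(RGD.Sup X S) := by
  obtain ⟨g, hg⟩ := exists_rp cs R.nsys w
  have h1 : cj g (RGD.Sup X S) ≤ RGD.Sup X (RGD.Pos cs h) := by
    rw [RGD.cj_Sup]
    refine iSup_le ?_
    rintro ⟨x, hx⟩
    rw [R.conj_rp hg (hS x hx).1]
    exact RGD.le_Sup (S := RGD.Pos cs h) ⟨(hS x hx).1.act w, (hS x hx).2⟩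
  exact (R.isPGroup_Upos.to_le h1).of_equiv ((RGD.Sup X S).equivMapOfInjective (MulAut.conj g).toMonoidHom
    (MulAut.conj g).injective).symm

/-- `⟨X x, X y⟩` and everything between is a `p`-group for `x ≠ -y`. -/
theorem isPGroup_pair [Finite W] (R : RGD cs h p T n X) {x y : I → ℤ} (hx : IsRoot cs h x) (hy : IsRoot cs h y)
    (hxy : x ≠ -y) : IsPGroup p ↥(X x ⊔ X y ⊔ btw cs h X x y) := by
  obtain ⟨w, h1, h2⟩ := exists_pos_pair cs h hx hy hxy
  have h3 := isPGroup_of_rep R w (S := {z | z = x ∨ z = y ∨ Btwn cs h x y z}) (by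
    rintro z (rfl | rfl | hz)
    · exact ⟨hx, h1⟩
    · exact ⟨hy, h2⟩
    · exact ⟨hz.1, RGD.nonneg_of_btwn h1 h2 (hz.act w)⟩)
  refine h3.to_le (sup_le (sup_le (RGD.le_Sup (Or.inl rfl)) (RGD.le_Sup (Or.inr (Or.inl rfl)))) ?_)
  unfold Reps.btw
  exact iSup_le fun z => RGD.le_Sup (Or.inr (Or.inr z.2))

end Cfsg.Agent.Nodes.PosPair
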