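import Mathlib
import Cfsg.Agent.Nodes.ClsSub
import Cfsg.Agent.Nodes.PosPair

/-!
The frame lemma (project CIT, chart library).

* `exists_pair` : two conjugates of classical root groups are simultaneously conjugate to `Z r`, `Z s`, `r` dominant;
* `exists_opp` : if they do not generate a `p`-group then `s = -r`;
* `frame` : a family of pairwise commuting opposite pairs is conjugate to `(Z (r i), Z (-r i))`, `r i` pairwise
  orthogonal.
-/

set_option autoImplicit false
set_option linter.unusedSectionVars false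

namespace Cfsg.Agent.Nodes.Frame

open CoxeterSystem Cfsg.Agent.ChevalleyStructure.CoxeterGeom Cfsg.Agent.Tits.Roots Cfsg.Agent.Tits.Core
  Cfsg.Agent.Tits.RootComb Cfsg.Agent.Tits.Exchange Cfsg.Agent.Nodes.Comb Cfsg.Agent.Nodes.Reps
  Cfsg.Agent.Nodes.BNOf Cfsg.Agent.Nodes.RGDLib Cfsg.Agent.Nodes.Chart Cfsg.Agent.Nodes.StabComb
  Cfsg.Agent.Nodes.Bruhat Cfsg.Agent.Nodes.OppDec Cfsg.Agent.Nodes.LeviDec Cfsg.Agent.Nodes.ClsNorm
  Cfsg.Agent.Nodes.SubComb Cfsg.Agent.Nodes.Sub Cfsg.Agent.Nodes.ClsSub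
open scoped commutatorElement

section Pair

variable {I W Y : Type*} [Fintype I] [DecidableEq I] [Group W] [Fintype W] [Group Y] {M : CoxeterMatrix I}
  {cs : CoxeterSystem M W} {A : I → I → ℤ} {h : IsCartan M A} {p : ℕ} {T : Subgroup Y} {n : I → Y}
  {X : (I → ℤ) → Subgroup Y} {R : Set (I → ℤ)} {Z : (I → ℤ) → Subgroup Y} {z : (I → ℤ) → Y}

/-- `K` is conjugate under `GG` to a classical root group. -/
def IsCls (cs : CoxeterSystem M W) (h : IsCartan M A) (T : Subgroup Y) (X : (I → ℤ) → Subgroup Y)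
    (R : Set (I → ℤ)) (Z : (I → ℤ) → Subgroup Y) (K : Subgroup Y) : Prop :=
  ∃ r ∈ R, ∃ g ∈ GG cs h T X, K = cj g (Z r)

theorem IsCls.cj {K : Subgroup Y} (hK : IsCls cs h T X R Z K) {g : Y} (hg : g ∈ GG cs h T X) :
    IsCls cs h T X R Z (cj g K) := by
  obtain ⟨r, hr, g', hg', rfl⟩ := hK
  exact ⟨r, hr, g * g', mul_mem hg hg', by rw [cj_mul]⟩

variable (C : Cls cs h p T n X R Z z)

include C

/-- A classical root group is conjugate to one with dominant root. -/
theorem IsCls.dominant {K : Subgroup Y} (hK : IsCls cs h T X R Z K) :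
    ∃ r ∈ R, Dom A r ∧ ∃ g ∈ GG cs h T X, K = Reps.cj g (Z r) := by
  obtain ⟨r, hr, g, hg, rfl⟩ := hK
  obtain ⟨w, hw⟩ := exists_dominant (cs := cs) (h := h) r
  obtain ⟨k, hk⟩ := exists_rp cs C.rgd.nsys w
  refine ⟨_, C.act r hr w, hw, g * k⁻¹, mul_mem hg (inv_mem (NN_le_GG C.rgd ⟨_, hk⟩)), ?_⟩
  rw [cj_mul, ← conj_Z C hk hr, cj_inv_cj]

/-- **Two conjugates of classical root groups are simultaneously conjugate to `Z r`, `Z s`**, `r` dominant. -/
theorem exists_pair {K L : Subgroup Y} (hK : IsCls cs h T X R Z K) (hL : IsCls cs h T X R Z L) :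
    ∃ r ∈ R, Dom A r ∧ ∃ s ∈ R, ∃ g ∈ GG cs h T X, K = cj g (Z r) ∧ L = cj g (Z s) := by
  obtain ⟨r, hr, hd, g, hg, rfl⟩ := hK.dominant C
  obtain ⟨r', hr', hd', g', hg', rfl⟩ := hL.dominant C
  obtain ⟨w, b₁, hb₁, k, hk, b₂, hb₂, e⟩ := (mem_GG C.rgd).1 (mul_mem (inv_mem hg) hg')
  refine ⟨r, hr, hd, rep cs h w r', C.act r' hr' w, g * b₁, mul_mem hg (B_le_GG hb₁), ?_, ?_⟩
  · rw [cj_mul, mem_normalizer_iff_cj.1 (B_le_normalizer C hr hd hb₁)]
  · have h1 : g' = g * b₁ * k * b₂ := by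
      have : g' = g * (g⁻¹ * g') := by group
      rw [this, e]; group
    rw [h1, cj_mul, mem_normalizer_iff_cj.1 (B_le_normalizer C hr' hd' hb₂), cj_mul, conj_Z C hk hr']

/-- Two classical root groups which are not opposite generate a `p`-group. -/
theorem isPGroup_of_ne {r s : I → ℤ} (hr : r ∈ R) (hs : s ∈ R) (hrs : r ≠ -s) : IsPGroup p ↥(Z r ⊔ Z s) := by
  refine (PosPair.isPGroup_pair C.rgd (C.root r hr) (C.root s hs) hrs).to_le ?_
  refine le_trans ?_ le_sup_left
  exact sup_le_sup (C.le r hr) (C.le s hs)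

/-- Opposite pairs are conjugate to `(Z r, Z (-r))`, `r` dominant. -/
theorem exists_opp {K L : Subgroup Y} (hK : IsCls cs h T X R Z K) (hL : IsCls cs h T X R Z L)
    (hnp : ¬ IsPGroup p ↥(K ⊔ L)) :
    ∃ r ∈ R, Dom A r ∧ ∃ g ∈ GG cs h T X, K = cj g (Z r) ∧ L = cj g (Z (-r)) := by
  obtain ⟨r, hr, hd, s, hs, g, hg, rfl, rfl⟩ := exists_pair C hK hL
  have h1 : s = -r := by
    by_contra hne
    apply hnp
    rw [← cj_sup]
    exact (isPGroup_of_ne C hr hs (fun h0 => hne (by rw [h0, neg_neg]))).map _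
  exact ⟨r, hr, hd, g, hg, rfl, by rw [h1]⟩

/-- A subgroup of `GG` centralising `Z r` and `Z (-r)` lies in the Levi subgroup. -/
theorem le_LJ_of_centralizes {r : I → ℤ} (hr : r ∈ R) (hd : Dom A r) {K : Subgroup Y} (hK : K ≤ GG cs h T X)
    (h1 : ∀ a ∈ K, ∀ b ∈ Z r, a * b = b * a) (h2 : ∀ a ∈ K, ∀ b ∈ Z (-r), a * b = b * a) :
    K ≤ LJ cs h T X (orth cs h r) := by
  intro a ha
  refine mem_LJ_of_normalizes C hr hd (hK ha) (centralizer_le_normalizer' _ ?_) (centralizer_le_normalizer' _ ?_)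
  · rw [Subgroup.mem_centralizer_iff]; exact fun b hb => (h1 a ha b hb).symm
  · rw [Subgroup.mem_centralizer_iff]; exact fun b hb => (h2 a ha b hb).symm

theorem IsCls.le_GG {K : Subgroup Y} (hK : IsCls cs h T X R Z K) : K ≤ GG cs h T X := by
  obtain ⟨r, hr, g, hg, rfl⟩ := hK
  intro x hx
  rw [mem_cj] at hx
  have h1 : x = g * (g⁻¹ * x * g) * g⁻¹ := by group
  rw [h1]
  exact mul_mem (mul_mem hg (X_le_GG (C.root r hr) (C.le r hr hx))) (inv_mem hg)

end Pair

universe u v in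
/-- **The frame lemma.** -/
theorem frame (m : ℕ) : ∀ {I W : Type u} {Y : Type v} [Fintype I] [DecidableEq I] [Group W] [Fintype W] [Group Y]
    {M : CoxeterMatrix I} {cs : CoxeterSystem M W} {A : I → I → ℤ} {h : IsCartan M A} {p : ℕ} {T : Subgroup Y}
    {n : I → Y} {X : (I → ℤ) → Subgroup Y} {R : Set (I → ℤ)} {Z : (I → ℤ) → Subgroup Y} {z : (I → ℤ) → Y}
    (_ : Cls cs h p T n X R Z z) (K L : Fin m → Subgroup Y) (_ : ∀ i, IsCls cs h T X R Z (K i))
    (_ : ∀ i, IsCls cs h T X R Z (L i)) (_ : ∀ i, ¬ IsPGroup p ↥(K i ⊔ L i))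
    (_ : ∀ i j, i ≠ j → ∀ a ∈ K i ⊔ L i, ∀ b ∈ K j ⊔ L j, a * b = b * a),
    ∃ g ∈ GG cs h T X, ∃ r : Fin m → I → ℤ, (∀ i, r i ∈ R) ∧ (∀ i, cj g (K i) = Z (r i)) ∧
      (∀ i, cj g (L i) = Z (-r i)) ∧ ∀ i j, i ≠ j → form cs h (r i) (r j) = 0 := by
  induction m with
  | zero =>
    intro I W Y _ _ _ _ _ M cs A h p T n X R Z z C K L _ _ _ _
    exact ⟨1, one_mem _, fun i => i.elim0, fun i => i.elim0, fun i => i.elim0, fun i => i.elim0,
      fun i => i.elim0⟩
  | succ m ih =>
    intro I W Y _ _ _ _ _ M cs A h p T n X R Z z C K L hK hL hnp hcomm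
    obtain ⟨r, hr, hd, g, hg, e1, e2⟩ := exists_opp C (hK 0) (hL 0) (hnp 0)
    -- move the first pair into position
    set J : Set I := orth cs h r with hJ
    have : DecidablePred (· ∈ J) := Classical.decPred _
    let f : J ↪ I := Function.Embedding.subtype _
    have hfr : Set.range f = J := Subtype.range_coe
    let cs' : CoxeterSystem (leviMatrix f M) (leviMatrix f M).Group := (leviMatrix f M).toCoxeterSystem
    have hfin : Finite (leviMatrix f M).Group :=
      (levi_subSys (cs := cs) (h := h) f).finite cs' (levi_isCartan f h)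
    let _ : Fintype (leviMatrix f M).Group := Fintype.ofFinite _
    have C' := cls_levi C f cs'
    set β : J → I → ℤ := fun j => sr (f j) with hβ
    have hGG : GG cs' (levi_isCartan f h) T (fun c => X (iota β c)) = LJ cs h T X J := by
      rw [GG_levi (cs := cs) (h := h) f cs' T X, hfr]
    have hLJ := LJ_le_normalizer C hr hd
    -- the other members
    have hginv : g⁻¹ ∈ GG cs h T X := inv_mem hg
    have key : ∀ (P : Subgroup Y), IsCls cs h T X R Z P → (∀ a ∈ P, ∀ b ∈ K 0 ⊔ L 0, a * b = b * a) →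
        IsCls cs' (levi_isCartan f h) T (fun c => X (iota β c))
          {c | IsRoot cs' (levi_isCartan f h) c ∧ iota β c ∈ R} (fun c => Z (iota β c)) (cj g⁻¹ P) := by
      intro P hP hc
      have hP' := hP.cj hginv
      have hcen : ∀ a ∈ cj g⁻¹ P, ∀ b, b ∈ cj g⁻¹ (K 0) ∨ b ∈ cj g⁻¹ (L 0) → a * b = b * a := by
        intro a ha b hb
        have ha' : g * a * g⁻¹ ∈ P := by
          rw [mem_cj, inv_inv] at ha; exact ha
        have hb' : g * b * g⁻¹ ∈ K 0 ⊔ L 0 := by
          rcases hb with hb | hb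
          · rw [mem_cj, inv_inv] at hb; exact (le_sup_left : K 0 ≤ K 0 ⊔ L 0) hb
          · rw [mem_cj, inv_inv] at hb; exact (le_sup_right : L 0 ≤ K 0 ⊔ L 0) hb
        have h1 := hc _ ha' _ hb'
        have h2 : g * (a * b) * g⁻¹ = g * (b * a) * g⁻¹ := by
          calc g * (a * b) * g⁻¹ = (g * a * g⁻¹) * (g * b * g⁻¹) := by group
            _ = (g * b * g⁻¹) * (g * a * g⁻¹) := h1
            _ = g * (b * a) * g⁻¹ := by group
        exact mul_left_cancel (mul_right_cancel h2)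
      rw [e1, e2, cj_inv_cj, cj_inv_cj] at hcen
      have hle : cj g⁻¹ P ≤ LJ cs h T X J := le_LJ_of_centralizes C hr hd (hP'.le_GG C)
        (fun a ha b hb => hcen a ha b (Or.inl hb)) (fun a ha b hb => hcen a ha b (Or.inr hb))
      obtain ⟨r', hr', g', hg', e'⟩ := hP'
      obtain ⟨w, hw, l, hl, el⟩ := exists_levi_conj C hle hr' hg' e'
      obtain ⟨c, hc', ec⟩ := (mem_RootsJ_range_iff f cs').1 (by rw [hfr]; exact hw)
      exact ⟨c, ⟨hc', by rw [← ec]; exact C.act _ hr' _⟩, l, by rw [hGG]; exact hl, by rw [el, ec]⟩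
    obtain ⟨l, hl, s, hs, hsK, hsL, hso⟩ := ih C' (fun i => cj g⁻¹ (K i.succ)) (fun i => cj g⁻¹ (L i.succ))
      (fun i => key _ (hK i.succ) fun a ha b hb => hcomm i.succ 0 (Fin.succ_ne_zero i) a
        ((le_sup_left : K i.succ ≤ _) ha) b hb)
      (fun i => key _ (hL i.succ) fun a ha b hb => hcomm i.succ 0 (Fin.succ_ne_zero i) a
        ((le_sup_right : L i.succ ≤ _) ha) b hb)
      (fun i hp => hnp i.succ (by
        rw [← cj_sup] at hp
        exact hp.of_equiv ((K i.succ ⊔ L i.succ).equivMapOfInjective (MulAut.conj g⁻¹).toMonoidHom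
          (MulAut.conj g⁻¹).injective).symm))
      (fun i j hij a ha b hb => by
        rw [← cj_sup, mem_cj, inv_inv] at ha hb
        have h1 := hcomm i.succ j.succ (fun h0 => hij (Fin.succ_injective _ h0)) _ ha _ hb
        have h2 : g * (a * b) * g⁻¹ = g * (b * a) * g⁻¹ := by
          calc g * (a * b) * g⁻¹ = (g * a * g⁻¹) * (g * b * g⁻¹) := by group
            _ = (g * b * g⁻¹) * (g * a * g⁻¹) := h1
            _ = g * (b * a) * g⁻¹ := by group
        exact mul_left_cancel (mul_right_cancel h2))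
    rw [hGG] at hl
    have hlN := hLJ hl
    have hroot : ∀ i, iota β (s i) ∈ RootsJ cs h J := fun i => by
      have := (mem_RootsJ_range_iff (cs := cs) (h := h) f cs').2 ⟨s i, (hs i).1, rfl⟩
      rwa [hfr] at this
    have horth : ∀ i, form cs h (iota β (s i)) r = 0 := fun i =>
      (mem_RootsJ_orth_iff hd (hroot i).1).1 (hroot i)
    refine ⟨l * g⁻¹, mul_mem (LJ_le_GG hl) hginv, Fin.cons r (fun i => iota β (s i)), ?_, ?_, ?_, ?_⟩
    · intro i
      refine Fin.cases ?_ (fun i => ?_) i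
      · exact hr
      · exact (hs i).2
    · intro i
      refine Fin.cases ?_ (fun i => ?_) i
      · rw [Fin.cons_zero, cj_mul, e1, cj_inv_cj]
        exact mem_normalizer_iff_cj.1 hlN.1
      · rw [Fin.cons_succ, cj_mul]
        exact hsK i
    · intro i
      refine Fin.cases ?_ (fun i => ?_) i
      · rw [Fin.cons_zero, cj_mul, e2, cj_inv_cj]
        exact mem_normalizer_iff_cj.1 hlN.2
      · rw [Fin.cons_succ, cj_mul]
        have := hsL i
        rw [map_neg] at this
        exact this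
    · intro i j
      refine Fin.cases ?_ (fun i => ?_) i <;> refine Fin.cases ?_ (fun j => ?_) j
      · intro h0; exact absurd rfl h0
      · intro _
        rw [Fin.cons_zero, Fin.cons_succ, form_comm]
        exact horth j
      · intro _
        rw [Fin.cons_zero, Fin.cons_succ]
        exact horth i
      · intro hij
        rw [Fin.cons_succ, Fin.cons_succ, hβ, form_iota_eq_zero_iff (cs' := cs') (h' := levi_isCartan f h)
          (levi_subSys f) _ (hs j).1]
        exact hso i j fun h0 => hij (by rw [h0])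

end Cfsg.Agent.Nodes.Frame
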