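import Mathlib
import Cfsg.Agent.Nodes.LeviDec

/-!
The normal form of the elements of a group with root group data, centralisers of subsets of the torus, Sylow
subgroups (project CIT, chart library).

`NW cs h w` : the positive roots made negative by `w`.
* `exists_PW_NW` : `U = Sup X (PW w) · Sup X (NW w)`;
* `exists_normal_form`, `normal_form_unique` : `g = u k v`, `u ∈ U`, `k` over `w`, `v ∈ Sup X (NW w)`;
* `centralizer_U` : for `S ⊆ T` the centraliser of `S` in `U` is the join of the `C_{X x}(S)`, `x > 0`;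
* `centralizer_form` : an element of `GG` centralising `S ⊆ T` is `u k v` with `u`, `k`, `v` centralising `S`;
* `card`...: `isSylow` : `U` is a maximal `p`-subgroup of `GG`.
-/

set_option autoImplicit false
set_option linter.unusedSectionVars false

namespace Cfsg.Agent.Nodes.NormalForm

open CoxeterSystem Cfsg.Agent.ChevalleyStructure.CoxeterGeom Cfsg.Agent.Tits.Roots Cfsg.Agent.Tits.Core
  Cfsg.Agent.Tits.Exchange Cfsg.Agent.Nodes.Reps Cfsg.Agent.Nodes.BNOf Cfsg.Agent.Nodes.StabComb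
  Cfsg.Agent.Nodes.Bruhat Cfsg.Agent.Nodes.OppDec Cfsg.Agent.Nodes.LeviDec
open scoped commutatorElement

variable {I W Y : Type*} [Fintype I] [DecidableEq I] [Group W] [Group Y] {M : CoxeterMatrix I}
  {cs : CoxeterSystem M W} {A : I → I → ℤ} {h : IsCartan M A} {p : ℕ} {T : Subgroup Y} {n : I → Y}
  {X : (I → ℤ) → Subgroup Y}

/-- the positive roots made negative by `w` -/
def NW (cs : CoxeterSystem M W) (h : IsCartan M A) (w : W) : Set (I → ℤ) :=
  {x | IsRoot cs h x ∧ 0 ≤ x ∧ rep cs h w x ≤ 0}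

variable (R : RGD cs h p T n X)

include R

/-- `U = Sup X (PW w) · Sup X (NW w)` -/
theorem exists_PW_NW [Finite W] : ∀ (w : W) {a : Y}, a ∈ RGD.Sup X (RGD.Pos cs h) →
    ∃ b ∈ RGD.Sup X (PW cs h w), ∃ c ∈ RGD.Sup X (NW cs h w), a = b * c := by
  intro w
  induction hn : cs.length w using Nat.strong_induction_on generalizing w with
  | _ N ih =>
  intro a ha
  by_cases hw1 : w = 1
  · subst hw1
    rw [PW_one_eq]
    exact ⟨a, ha, 1, one_mem _, (mul_one a).symm⟩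
  obtain ⟨i, hi⟩ := cs.exists_rightDescent_of_ne_one hw1
  have hi' : cs.length (w * cs.simple i) < cs.length w := hi
  set w' := w * cs.simple i with hw'
  have hww : w' * cs.simple i = w := by rw [hw', mul_assoc, simple_mul_simple_self, mul_one]
  have hpos : 0 ≤ rep cs h w' (sr i) := (lt_iff' cs h w' i).1 (by rw [hww]; omega)
  have hws : ∀ x : I → ℤ, rep cs h w (rep cs h (cs.simple i) x) = rep cs h w' x := by
    intro x; rw [← rep_mul_apply]
  have hws' : ∀ x : I → ℤ, rep cs h w' (rep cs h (cs.simple i) x) = rep cs h w x := by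
    intro x; rw [← rep_mul_apply, hww]
  have hneg : rep cs h w (sr i) ≤ 0 := by
    have h1 := hws' (sr i)
    rw [rep_simple_sr, map_neg] at h1
    rw [← h1]
    exact neg_nonpos.2 hpos
  -- `a = r u`
  obtain ⟨r, hr, u, hu, rfl⟩ := exists_mul R (S := RGD.Pos cs h) (i := i) (fun x hx => hx)
    ⟨isRoot_sr cs h i, sr_nonneg i⟩ (fun y hy _ z hz => ⟨hz.1, btwn_nonneg hz (sr_nonneg i) hy.2⟩) ha
  have hrs : n i * r * (n i)⁻¹ ∈ RGD.Sup X (RGD.PosNe cs h i) := by
    refine conj_mem_Sup R (rp_simple cs R.nsys i) (fun x hx => hx.1.1) (fun x hx => ?_) hr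
    refine ⟨hx.1.1.act _, hx.1.1.simple_nonneg hx.1.2 i hx.2, fun h1 => ?_⟩
    have h2 : x = rep cs h (cs.simple i) (sr i) := by
      rw [← h1, ← rep_mul_apply, simple_mul_simple_self, map_one, Module.End.one_apply]
    rw [rep_simple_sr] at h2
    have h3 := hx.1.2 i
    rw [h2, Pi.neg_apply, sr_self] at h3
    exact absurd h3 (by simp)
  have hrs' : n i * r * (n i)⁻¹ ∈ RGD.Sup X (RGD.Pos cs h) :=
    RGD.Sup_mono (S := RGD.PosNe cs h i) (S' := RGD.Pos cs h) (fun x hx => ⟨hx.1, hx.2.1⟩) hrs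
  obtain ⟨b, hb, c, hc, e⟩ := ih (cs.length w') (by omega) w' rfl hrs'
  obtain ⟨b', hb', u', hu', rfl⟩ := exists_mul_PW R hpos hb
  -- `u' = 1`
  have hcN : c ∈ RGD.Sup X (RGD.PosNe cs h i) := by
    refine RGD.Sup_mono (S := NW cs h w') (S' := RGD.PosNe cs h i) (fun x hx => ⟨hx.1, hx.2.1, ?_⟩) hc
    rintro rfl
    exact ((isRoot_sr cs h i).act w').not_pos_neg hpos hx.2.2
  have hbN : b' ∈ RGD.Sup X (RGD.PosNe cs h i) :=
    RGD.Sup_mono (S := PW cs h w' \ {sr i}) (S' := RGD.PosNe cs h i) (fun x hx => ⟨hx.1.1, hx.1.2.1, hx.2⟩) hb'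
  have hu1 : u' = 1 := by
    refine eq_one_of_mem_PosNe R hu' ?_
    have : u' = b'⁻¹ * (n i * r * (n i)⁻¹) * c⁻¹ := by rw [e]; group
    rw [this]
    exact mul_mem (mul_mem (inv_mem hbN) hrs) (inv_mem hcN)
  subst hu1
  rw [mul_one] at e
  refine ⟨(n i)⁻¹ * b' * n i, ?_, ((n i)⁻¹ * c * n i) * u, mul_mem ?_ ?_, ?_⟩
  · refine conj_mem_Sup' R (rp_simple cs R.nsys i) (fun x hx => hx.1.1) (fun x hx => ?_) hb'
    rw [inv_simple]
    exact ⟨hx.1.1.act _, hx.1.1.simple_nonneg hx.1.2.1 i hx.2, by rw [hws]; exact hx.1.2.2⟩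
  · refine conj_mem_Sup' R (rp_simple cs R.nsys i) (fun x hx => hx.1) (fun x hx => ?_) hc
    rw [inv_simple]
    refine ⟨hx.1.act _, hx.1.simple_nonneg hx.2.1 i ?_, by rw [hws]; exact hx.2.2⟩
    rintro rfl
    exact ((isRoot_sr cs h i).act w').not_pos_neg hpos hx.2.2
  · exact RGD.le_Sup (S := NW cs h w) ⟨isRoot_sr cs h i, sr_nonneg i, hneg⟩ hu
  · have h1 : r = (n i)⁻¹ * (n i * r * (n i)⁻¹) * n i := by group
    conv_lhs => rw [h1, e]
    group

/-- existence of the normal form -/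
theorem exists_normal_form [Finite W] {w : W} {g : Y} (hg : Cell R.nsys cs h X w g) :
    ∃ u ∈ RGD.Sup X (RGD.Pos cs h), ∃ k, Rp cs R.nsys w k ∧ ∃ v ∈ RGD.Sup X (NW cs h w), g = u * k * v := by
  obtain ⟨b₁, hb₁, k, hk, b₂, hb₂, rfl⟩ := hg
  obtain ⟨t, ht, a, ha, rfl⟩ := R.mem_B.1 hb₂
  obtain ⟨b, hb, c, hc, rfl⟩ := exists_PW_NW R w ha
  have hkt : Rp cs R.nsys w (k * t) := hk.mul_mem_right ht
  have h1 : (k * t) * b * (k * t)⁻¹ ∈ RGD.Sup X (RGD.Pos cs h) :=
    conj_mem_Sup R hkt (S' := RGD.Pos cs h) (fun x hx => hx.1) (fun x hx => ⟨hx.1.act _, hx.2.2⟩) hb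
  obtain ⟨t', ht', a', ha', rfl⟩ := R.mem_B.1 hb₁
  have h2 : t' * a' * t'⁻¹ ∈ RGD.Sup X (RGD.Pos cs h) :=
    (Subgroup.mem_normalizer_iff.1 (R.T_le_normalizer_U ht') a').1 ha'
  have h3 : t' * ((k * t) * b * (k * t)⁻¹) * t'⁻¹ ∈ RGD.Sup X (RGD.Pos cs h) :=
    (Subgroup.mem_normalizer_iff.1 (R.T_le_normalizer_U ht') _).1 h1
  refine ⟨_, mul_mem h2 h3, t' * (k * t), ?_, c, hc, by group⟩
  have := (rp_of_mem (cs := cs) (hN := R.nsys) ht').mul hkt
  rwa [one_mul] at this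

/-- uniqueness of the normal form -/
theorem normal_form_unique [Finite W] {w : W} {u u' k k' v v' : Y} (hu : u ∈ RGD.Sup X (RGD.Pos cs h))
    (hu' : u' ∈ RGD.Sup X (RGD.Pos cs h)) (hk : Rp cs R.nsys w k) (hk' : Rp cs R.nsys w k')
    (hv : v ∈ RGD.Sup X (NW cs h w)) (hv' : v' ∈ RGD.Sup X (NW cs h w)) (e : u * k * v = u' * k' * v') :
    u = u' ∧ k = k' ∧ v = v' := by
  have hkk : k * k'⁻¹ ∈ T := by
    have := hk.mul hk'.inv
    rw [mul_inv_cancel] at this
    exact this.mem_of_one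
  have h1 : k' * (v' * v⁻¹) * k'⁻¹ = u'⁻¹ * u * (k * k'⁻¹) := by
    have : v' = k'⁻¹ * u'⁻¹ * (u' * k' * v') := by group
    rw [this, ← e]
    group
  have h2 : k' * (v' * v⁻¹) * k'⁻¹ ∈ UN cs h X :=
    conj_mem_Sup R hk' (S' := Neg cs h) (fun x hx => hx.1) (fun x hx => ⟨hx.1.act _, hx.2.2⟩) (mul_mem hv' (inv_mem hv))
  have h3 : k' * (v' * v⁻¹) * k'⁻¹ ∈ RGD.B cs h T X := by
    rw [h1]
    exact mul_mem (RGD.U_le_B (mul_mem (inv_mem hu') hu)) (RGD.T_le_B hkk)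
  have h4 := eq_one_of_mem_UN_of_mem_B R h2 h3
  have h5 : v' * v⁻¹ = 1 := by
    have : v' * v⁻¹ = k'⁻¹ * (k' * (v' * v⁻¹) * k'⁻¹) * k' := by group
    rw [this, h4]; group
  have h6 : v = v' := (mul_inv_eq_one.1 h5).symm
  rw [h4] at h1
  have h7 : u'⁻¹ * u ∈ RGD.Sup X (RGD.Pos cs h) ⊓ T := by
    rw [Subgroup.mem_inf]
    refine ⟨mul_mem (inv_mem hu') hu, ?_⟩
    have : u'⁻¹ * u = (k * k'⁻¹)⁻¹ := by
      rw [eq_inv_iff_mul_eq_one]; exact h1.symm
    rw [this]; exact inv_mem hkk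
  rw [U_inf_T R, Subgroup.mem_bot] at h7
  have h8 : u = u' := (inv_mul_eq_one.1 h7).symm
  refine ⟨h8, ?_, h6⟩
  rw [h8, h6] at e
  exact mul_left_cancel (mul_right_cancel e)

/-- centralisers of subsets of the torus in `Sup X (PW w)` -/
theorem centralizer_PW [Finite W] : ∀ (w : W) {S : Set Y}, S ⊆ T → ∀ {a : Y}, a ∈ RGD.Sup X (PW cs h w) →
    a ∈ Subgroup.centralizer S → a ∈ RGD.Sup (fun x => X x ⊓ Subgroup.centralizer S) (PW cs h w) := by
  intro w
  induction hn : cs.length (w0 cs) - cs.length w using Nat.strong_induction_on generalizing w with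
  | _ N ih =>
  intro S hS a ha hc
  by_cases hw0 : w = w0 cs
  · subst hw0
    rw [PW_w0, Sup_empty, Subgroup.mem_bot] at ha
    rw [ha]; exact one_mem _
  -- a simple root in `PW w`
  obtain ⟨i, hi⟩ : ∃ i, cs.length w < cs.length (w * cs.simple i) := by
    by_contra hcon
    push Not at hcon
    apply hw0
    have h1 : w * w0 cs = 1 := by
      refine eq_one_of_nonneg cs h _ fun j => ?_
      change 0 ≤ rep cs h (w * w0 cs) (sr j)
      rw [rep_mul_apply]
      have h2 : 0 ≤ rep cs h w (-rep cs h (w0 cs) (sr j)) → 0 ≤ rep cs h w (rep cs h (w0 cs) (sr j)) ∨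
          True := fun _ => Or.inr trivial
      -- `w` makes every positive root negative
      have h3 : ∀ x, IsRoot cs h x → 0 ≤ x → rep cs h w x ≤ 0 := by
        intro x hx h0
        have h4 : ∀ j, rep cs h w (sr j) ≤ 0 := fun j =>
          nonpos_of_lt cs h w j (lt_of_le_of_ne (hcon j) (cs.length_mul_simple_ne w j))
        have h5 : x = ∑ k, x k • sr k := by
          funext k
          rw [Finset.sum_apply, Finset.sum_eq_single k (fun b _ hb => by
            rw [Pi.smul_apply, sr_ne hb.symm, smul_zero]) (by simp), Pi.smul_apply, sr_self, smul_eq_mul,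
            mul_one]
        rw [h5, map_sum]
        refine Finset.sum_nonpos fun k _ => ?_
        rw [map_smul]
        exact smul_nonpos_of_nonneg_of_nonpos (h0 k) (h4 k)
      have h6 := h3 (-rep cs h (w0 cs) (sr j)) ((isRoot_sr cs h j).act _).neg
        (neg_nonneg.2 (rep_w0_nonpos (isRoot_sr cs h j) (sr_nonneg j)))
      rw [map_neg] at h6
      exact neg_nonpos.1 h6
    have h2 : w = (w0 cs)⁻¹ := eq_inv_of_mul_eq_one_left h1
    rw [h2, w0_inv]
  have hpos : 0 ≤ rep cs h w (sr i) := (lt_iff' cs h w i).1 hi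
  obtain ⟨r, hr, u, hu, rfl⟩ := exists_mul_PW R hpos ha
  -- both factors centralise `S`
  have hsplit : ∀ s ∈ S, s * r * s⁻¹ = r ∧ s * u * s⁻¹ = u := by
    intro s hs
    have hsT : s ∈ T := hS hs
    have h1 : s * (r * u) = r * u * s := Subgroup.mem_centralizer_iff.1 hc s hs
    have h2 : s * r * s⁻¹ ∈ RGD.Sup X (PW cs h w \ {sr i}) :=
      (Subgroup.mem_normalizer_iff.1 (R.T_le_normalizer (S := PW cs h w \ {sr i}) (fun x hx => hx.1.1) hsT) r).1 hr
    have h3 : s * u * s⁻¹ ∈ X (sr i) := by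
      rw [← R.tor _ (isRoot_sr cs h i) s hsT]; exact conj_mem_cj.2 hu
    have h4 : r⁻¹ * (s * r * s⁻¹) = u * (s * u * s⁻¹)⁻¹ := by
      have h5 : (s * r * s⁻¹) * (s * u * s⁻¹) = r * u := by
        have : (s * r * s⁻¹) * (s * u * s⁻¹) = s * (r * u) * s⁻¹ := by group
        rw [this, h1]; group
      rw [eq_mul_inv_iff_mul_eq, mul_assoc, h5]; group
    have hmono : RGD.Sup X (PW cs h w \ {sr i}) ≤ RGD.Sup X (RGD.PosNe cs h i) :=
      RGD.Sup_mono fun x hx => ⟨hx.1.1, hx.1.2.1, hx.2⟩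
    have h5 : u * (s * u * s⁻¹)⁻¹ = 1 := by
      refine eq_one_of_mem_PosNe R (mul_mem hu (inv_mem h3)) ?_
      rw [← h4]
      exact hmono (mul_mem (inv_mem hr) h2)
    rw [h5] at h4
    exact ⟨(inv_mul_eq_one.1 h4).symm, (mul_inv_eq_one.1 h5).symm⟩
  have hrc : r ∈ Subgroup.centralizer S := Subgroup.mem_centralizer_iff.2 fun s hs =>
    mul_inv_eq_iff_eq_mul.1 (hsplit s hs).1
  have huc : u ∈ Subgroup.centralizer S := Subgroup.mem_centralizer_iff.2 fun s hs =>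
    mul_inv_eq_iff_eq_mul.1 (hsplit s hs).2
  refine mul_mem ?_ (RGD.le_Sup (X := fun x => X x ⊓ Subgroup.centralizer S) (S := PW cs h w)
    ⟨isRoot_sr cs h i, sr_nonneg i, hpos⟩ ⟨hu, huc⟩)
  -- the part `r`
  set w' := w * cs.simple i with hw'
  have hlen : cs.length (w0 cs) - cs.length w' < N := by
    have h1 := length_le_w0 cs w'
    omega
  have hS' : (fun s => (n i)⁻¹ * s * n i) '' S ⊆ T := by
    rintro _ ⟨s, hs, rfl⟩
    have h1 := cj_T R (rp_simple cs R.nsys i).inv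
    have h2 : (n i)⁻¹ * s * (n i)⁻¹⁻¹ ∈ cj (n i)⁻¹ T := conj_mem_cj.2 (hS hs)
    rwa [h1, inv_inv] at h2
  have hws : ∀ x : I → ℤ, rep cs h w' (rep cs h (cs.simple i) x) = rep cs h w x := by
    intro x
    rw [← rep_mul_apply, hw', mul_assoc, simple_mul_simple_self, mul_one]
  have h1 : (n i)⁻¹ * r * n i ∈ RGD.Sup X (PW cs h w') := by
    refine conj_mem_Sup' R (rp_simple cs R.nsys i) (fun x hx => hx.1.1) (fun x hx => ?_) hr
    rw [inv_simple]
    exact ⟨hx.1.1.act _, hx.1.1.simple_nonneg hx.1.2.1 i hx.2, by rw [hws]; exact hx.1.2.2⟩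
  have h2 : (n i)⁻¹ * r * n i ∈ Subgroup.centralizer ((fun s => (n i)⁻¹ * s * n i) '' S) := by
    rw [Subgroup.mem_centralizer_iff]
    rintro _ ⟨s, hs, rfl⟩
    have h3 := Subgroup.mem_centralizer_iff.1 hrc s hs
    have e1 : (n i)⁻¹ * s * n i * ((n i)⁻¹ * r * n i) = (n i)⁻¹ * (s * r) * n i := by group
    have e2 : (n i)⁻¹ * r * n i * ((n i)⁻¹ * s * n i) = (n i)⁻¹ * (r * s) * n i := by group
    rw [e1, e2, h3]
  have h3 := ih _ hlen w' rfl hS' h1 h2
  have h4 : cj (n i) (RGD.Sup (fun x => X x ⊓ Subgroup.centralizer ((fun s => (n i)⁻¹ * s * n i) '' S))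
      (PW cs h w')) ≤ RGD.Sup (fun x => X x ⊓ Subgroup.centralizer S) (PW cs h w) := by
    rw [RGD.cj_Sup]
    refine iSup_le ?_
    rintro ⟨x, hx⟩
    have hx' : rep cs h (cs.simple i) x ∈ PW cs h w := by
      have hne : x ≠ sr i := by
        rintro rfl
        have h5 := hx.2.2
        rw [hw', rep_mul_apply, rep_simple_sr, map_neg] at h5
        exact ((isRoot_sr cs h i).act w).not_pos_neg hpos (neg_nonneg.1 h5)
      exact ⟨hx.1.act _, hx.1.simple_nonneg hx.2.1 i hne, by rw [← rep_mul_apply]; exact hx.2.2⟩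
    refine le_trans ?_ (RGD.le_Sup (X := fun x => X x ⊓ Subgroup.centralizer S) hx')
    intro y hy
    rw [mem_cj, Subgroup.mem_inf] at hy
    rw [Subgroup.mem_inf]
    refine ⟨?_, ?_⟩
    · have h5 := R.conj_mem (rp_simple cs R.nsys i) hx.1 hy.1
      have e1 : n i * ((n i)⁻¹ * y * n i) * (n i)⁻¹ = y := by group
      rwa [e1] at h5
    · rw [Subgroup.mem_centralizer_iff]
      intro s hs
      have h5 := Subgroup.mem_centralizer_iff.1 hy.2 _ ⟨s, hs, rfl⟩
      have e1 : s * y = n i * ((n i)⁻¹ * s * n i * ((n i)⁻¹ * y * n i)) * (n i)⁻¹ := by group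
      have e2 : y * s = n i * ((n i)⁻¹ * y * n i * ((n i)⁻¹ * s * n i)) * (n i)⁻¹ := by group
      rw [e1, e2]
      congr 2
  have h5 := h4 (conj_mem_cj.2 h3)
  have e1 : n i * ((n i)⁻¹ * r * n i) * (n i)⁻¹ = r := by group
  rwa [e1] at h5

/-- **`C_U(S)` is generated by the `C_{X x}(S)`**, `S ⊆ T` -/
theorem centralizer_U [Finite W] {S : Set Y} (hS : S ⊆ T) :
    RGD.Sup X (RGD.Pos cs h) ⊓ Subgroup.centralizer S =
      RGD.Sup (fun x => X x ⊓ Subgroup.centralizer S) (RGD.Pos cs h) := by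
  apply le_antisymm
  · rintro a ⟨ha, hc⟩
    rw [← PW_one_eq]
    rw [SetLike.mem_coe, ← PW_one_eq] at ha
    exact centralizer_PW R 1 hS ha hc
  · refine RGD.Sup_le fun x hx => inf_le_inf_right _ (RGD.le_Sup hx)

/-- the normal form of an element centralising a subset of the torus -/
theorem centralizer_form [Finite W] {S : Set Y} (hS : S ⊆ T) {w : W} {u k v : Y}
    (hu : u ∈ RGD.Sup X (RGD.Pos cs h)) (hk : Rp cs R.nsys w k) (hv : v ∈ RGD.Sup X (NW cs h w))
    (hc : u * k * v ∈ Subgroup.centralizer S) :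
    u ∈ Subgroup.centralizer S ∧ k ∈ Subgroup.centralizer S ∧ v ∈ Subgroup.centralizer S := by
  have key : ∀ s ∈ S, s * u * s⁻¹ = u ∧ s * k * s⁻¹ = k ∧ s * v * s⁻¹ = v := by
    intro s hs
    have hsT := hS hs
    have h1 : s * (u * k * v) = u * k * v * s := Subgroup.mem_centralizer_iff.1 hc s hs
    refine normal_form_unique R ((Subgroup.mem_normalizer_iff.1 (R.T_le_normalizer_U hsT) u).1 hu) hu ?_ hk
      ((Subgroup.mem_normalizer_iff.1 (R.T_le_normalizer (S := NW cs h w) (fun x hx => hx.1) hsT) v).1 hv) hv ?_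
    · have h2 := (rp_of_mem (cs := cs) (hN := R.nsys) hsT).mul (hk.mul_mem_right (inv_mem hsT))
      rw [one_mul] at h2
      rw [mul_assoc]; exact h2
    · have e : s * u * s⁻¹ * (s * k * s⁻¹) * (s * v * s⁻¹) = s * (u * k * v) * s⁻¹ := by group
      rw [e, h1]; group
  exact ⟨Subgroup.mem_centralizer_iff.2 fun s hs => mul_inv_eq_iff_eq_mul.1 (key s hs).1,
    Subgroup.mem_centralizer_iff.2 fun s hs => mul_inv_eq_iff_eq_mul.1 (key s hs).2.1,
    Subgroup.mem_centralizer_iff.2 fun s hs => mul_inv_eq_iff_eq_mul.1 (key s hs).2.2⟩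

/-- **the centraliser in `GG` of a subset of the torus** -/
theorem mem_centralizer [Finite W] {S : Set Y} (hS : S ⊆ T) {g : Y} (hg : g ∈ GG cs h T X)
    (hc : g ∈ Subgroup.centralizer S) :
    ∃ u ∈ RGD.Sup (fun x => X x ⊓ Subgroup.centralizer S) (RGD.Pos cs h),
      ∃ w k, Rp cs R.nsys w k ∧ k ∈ Subgroup.centralizer S ∧
      ∃ v ∈ RGD.Sup (fun x => X x ⊓ Subgroup.centralizer S) (RGD.Pos cs h), g = u * k * v := by
  obtain ⟨w, hw⟩ := (mem_GG R).1 hg
  obtain ⟨u, hu, k, hk, v, hv, rfl⟩ := exists_normal_form R hw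
  obtain ⟨h1, h2, h3⟩ := centralizer_form R hS hu hk hv hc
  have hv' : v ∈ RGD.Sup X (RGD.Pos cs h) := RGD.Sup_mono (S := NW cs h w) (S' := RGD.Pos cs h) (fun x hx => ⟨hx.1, hx.2.1⟩) hv
  refine ⟨u, ?_, w, k, hk, h2, v, ?_, rfl⟩
  · rw [← centralizer_U R hS]; exact ⟨hu, h1⟩
  · rw [← centralizer_U R hS]; exact ⟨hv', h3⟩

/-- `N_GG(U) = B` -/
theorem normalizer_U [Finite W] :
    Subgroup.normalizer (RGD.Sup X (RGD.Pos cs h) : Set Y) ⊓ GG cs h T X = RGD.B cs h T X := by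
  have hB := R.B_le_normalizer_U
  rw [inf_eq_PJ R hB]
  have hJ : {i | n i ∈ Subgroup.normalizer (RGD.Sup X (RGD.Pos cs h) : Set Y)} = ∅ := by
    rw [Set.eq_empty_iff_forall_notMem]
    intro i hi
    obtain ⟨u, hu, hu1⟩ := exists_ne_one R i
    apply hu1
    refine eq_one_of_conj_mem_B R hu (rp_simple cs R.nsys i) (RGD.U_le_B ?_)
    exact (Subgroup.mem_normalizer_iff.1 hi u).1 (RGD.le_Sup (S := RGD.Pos cs h) ⟨isRoot_sr cs h i, sr_nonneg i⟩ hu)
  rw [hJ]
  apply le_antisymm _ B_le_PJ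
  intro g hg
  obtain ⟨w, hw, hc⟩ := (mem_PJ_iff_cell R).1 hg
  have hw1 : w = 1 := by
    unfold WJ at hw
    rwa [Set.image_empty, Subgroup.closure_empty, Subgroup.mem_bot] at hw
  subst hw1
  exact hc.mem_of_one

/-- **`U` is a maximal `p`-subgroup of `GG`** -/
theorem eq_U_of_isPGroup [Finite W] [Finite Y] [Fact p.Prime] {P : Subgroup Y} (hP : IsPGroup p P)
    (hU : RGD.Sup X (RGD.Pos cs h) ≤ P) (hG : P ≤ GG cs h T X) : P = RGD.Sup X (RGD.Pos cs h) := by
  by_contra hne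
  have hlt : RGD.Sup X (RGD.Pos cs h) < P := lt_of_le_of_ne hU (Ne.symm hne)
  -- in the `p`-group `P` normalisers grow
  have hnil : Group.IsNilpotent P := hP.isNilpotent
  have h1 : (RGD.Sup X (RGD.Pos cs h)).subgroupOf P < ⊤ := by
    rw [lt_top_iff_ne_top]
    intro h2
    rw [Subgroup.subgroupOf_eq_top] at h2
    exact absurd (lt_of_lt_of_le hlt h2) (lt_irrefl _)
  have h2 := (Group.normalizerCondition_of_isNilpotent (h := hnil)) _ h1
  obtain ⟨y, hy, hyU⟩ := SetLike.exists_of_lt h2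
  have h3 : (y : Y) ∈ RGD.B cs h T X := by
    rw [← normalizer_U R, Subgroup.mem_inf]
    refine ⟨?_, hG y.2⟩
    rw [Subgroup.mem_normalizer_iff]
    intro x
    have h4 := Subgroup.mem_normalizer_iff.1 hy
    constructor
    · intro hx
      have := (h4 ⟨x, hU hx⟩).1 (Subgroup.mem_subgroupOf.2 hx)
      exact Subgroup.mem_subgroupOf.1 this
    · intro hx
      have hxP : x ∈ P := by
        have h5 : (y : Y)⁻¹ * ((y : Y) * x * (y : Y)⁻¹) * (y : Y) ∈ P :=
          mul_mem (mul_mem (inv_mem y.2) (hU hx)) y.2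
        have e : (y : Y)⁻¹ * ((y : Y) * x * (y : Y)⁻¹) * (y : Y) = x := by group
        rwa [e] at h5
      exact Subgroup.mem_subgroupOf.1 ((h4 ⟨x, hxP⟩).2 (Subgroup.mem_subgroupOf.2 hx))
  obtain ⟨m, hm⟩ := hP y
  have h5 : (y : Y) ^ p ^ m = 1 := by simpa using congrArg Subtype.val hm
  exact hyU (Subgroup.mem_subgroupOf.2 (R.mem_U_of_mem_B h3 h5))

end Cfsg.Agent.Nodes.NormalForm
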