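import Mathlib
import Cfsg.Agent.Nodes.Frame
import Cfsg.Agent.Nodes.NormalForm
import Cfsg.Agent.Cit.LemmaUQ
import Cfsg.Agent.Cit.ParabSL2Opp

/-!
# Local facts on charts (project CIT, providers of frames)

`C : Cls cs h p T n X R Z z`, `r ∈ R`, `VV r` = the join of the root groups `X y`, `(y, r) > 0`.

* `exists_dom` : the root `r` is conjugate to a dominant one, with all its groups;
* `comm_mem_VV` : `[N_GG(Z r), z r] ≤ VV r`; `VV_inf` : `VV r ⊓ C(z r) = Z r`; `isPGroup_VV`;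
  `commutator_VV_le` : `⁅VV r, VV r⁆ ≤ Z r`;
* `card_Z` : `Z r` is a Sylow `p`-subgroup of `⟨Z r, Z (-r)⟩ ≅ SL(2, F)`;
* `exists_pair_conj` : opposite Sylow `p`-subgroups of a conjugate of `⟨Z r, Z (-r)⟩` are simultaneously conjugate
  to `Z r`, `Z (-r)`;
* `local_isPGroup`, `local_commutator` : the local lemma.
-/

set_option autoImplicit false
set_option linter.unusedSectionVars false

namespace Cfsg.Agent.Nodes.ChartLoc

open CoxeterSystem Cfsg.Agent.ChevalleyStructure.CoxeterGeom Cfsg.Agent.Tits.Roots Cfsg.Agent.Tits.Core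
  Cfsg.Agent.Tits.RootComb Cfsg.Agent.Tits.Exchange Cfsg.Agent.Nodes.Comb Cfsg.Agent.Nodes.Reps
  Cfsg.Agent.Nodes.BNOf Cfsg.Agent.Nodes.RGDLib Cfsg.Agent.Nodes.Chart Cfsg.Agent.Nodes.StabComb
  Cfsg.Agent.Nodes.Bruhat Cfsg.Agent.Nodes.OppDec Cfsg.Agent.Nodes.LeviDec Cfsg.Agent.Nodes.ClsNorm
  Cfsg.Agent.Nodes.Frame
open scoped commutatorElement

/-! ### An abstract lemma -/

section Abs

variable {G : Type*} [Group G]

/-- If the fixed points of an involution `z` on a `p`-group `V` are contained in a group `Z` centralising `V` then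
`⁅V, V⁆ ≤ Z`. -/
theorem commutator_le_of_fix [Finite G] {p : ℕ} [Fact p.Prime] {V Z : Subgroup G} {z : G} (hV : IsPGroup p V)
    (hodd : Odd (Nat.card V)) (hz : z * z = 1) (hzV : z ∈ Subgroup.normalizer (V : Set G))
    (hfix : ∀ v ∈ V, v * z = z * v → v ∈ Z) (hcen : ∀ c ∈ Z, ∀ v ∈ V, c * v = v * c) : ⁅V, V⁆ ≤ Z := by
  have hzz : Subgroup.zpowers z ≤ Subgroup.normalizer (V : Set G) := Subgroup.zpowers_le.2 hzV
  set D : Subgroup G := ⁅V, Subgroup.zpowers z⁆ with hD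
  have hDV : D ≤ V := Lib.CoprimeCommutator.commutator_le_left hzz
  have hcop : (Nat.card (Subgroup.zpowers z)).Coprime (Nat.card V) := by
    have h1 : Nat.card (Subgroup.zpowers z) ∣ 2 := by
      rw [Nat.card_zpowers]
      exact orderOf_dvd_of_pow_eq_one (by rw [pow_two, hz])
    exact Nat.Coprime.coprime_dvd_left h1 (Nat.coprime_two_left.2 hodd)
  have hDD : ⁅D, Subgroup.zpowers z⁆ = D := Lib.CoprimeCommutator.commutator_commutator_eq _ _ hzz hcop
  have hzD : z ∈ Subgroup.normalizer (D : Set G) :=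
    Cit.Weights.normalizer_commutator hzV (Subgroup.le_normalizer (Subgroup.mem_zpowers z))
  have hDodd : Odd (Nat.card D) := Cit.Weights.card_odd_of_le hodd hDV
  have hDp : IsPGroup p D := hV.to_le hDV
  -- `V = D C_V(z)`
  have hdec : ∀ v ∈ V, ∃ d ∈ D, ∃ c ∈ V, c ∈ Z ∧ v = d * c := by
    intro v hv
    have h1 : z * v * z⁻¹ * v⁻¹ ∈ D := by
      have h2 : ⁅v, z⁆ ∈ D := Subgroup.commutator_mem_commutator hv (Subgroup.mem_zpowers z)
      have h3 := D.inv_mem h2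
      rwa [commutatorElement_inv, commutatorElement_def] at h3
    obtain ⟨n, hn, hc⟩ := Cit.Weights.exists_commute hDodd hz
      (fun x hx => Cit.Weights.conj_mem_of_normalizer hzD hx) h1
    have hnv : n * v ∈ V := V.mul_mem (hDV hn) hv
    exact ⟨n⁻¹, D.inv_mem hn, n * v, hnv, hfix _ hnv hc.eq, by group⟩
  -- `⁅V, V⁆ = ⁅D, D⁆`
  have hVD : ⁅V, V⁆ ≤ ⁅D, D⁆ := by
    rw [Subgroup.commutator_le]
    intro a ha b hb
    obtain ⟨d, hd, c, hc, hcZ, rfl⟩ := hdec a ha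
    obtain ⟨d', hd', c', hc', hcZ', rfl⟩ := hdec b hb
    have e1 := hcen c hcZ _ hb
    have e2 := hcen c' hcZ' _ (hDV hd)
    have h1 : ⁅d * c, d' * c'⁆ = ⁅d, d'⁆ := by
      simp only [commutatorElement_def]
      calc d * c * (d' * c') * (d * c)⁻¹ * (d' * c')⁻¹
          = d * (c * (d' * c')) * c⁻¹ * d⁻¹ * (d' * c')⁻¹ := by group
        _ = d * ((d' * c') * c) * c⁻¹ * d⁻¹ * (d' * c')⁻¹ := by rw [e1]
        _ = d * d' * (c' * d⁻¹) * c'⁻¹ * d'⁻¹ := by group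
        _ = d * d' * (d⁻¹ * c') * c'⁻¹ * d'⁻¹ := by
            have e3 : c' * d⁻¹ = d⁻¹ * c' := hcen c' hcZ' _ (V.inv_mem (hDV hd))
            rw [e3]
        _ = d * d' * d⁻¹ * d'⁻¹ := by group
    rw [h1]
    exact Subgroup.commutator_mem_commutator hd hd'
  refine hVD.trans ?_
  have hD'D : ⁅D, D⁆ ≤ D := Subgroup.commutator_le_self D
  have hact : Cit.Weights.Act D ⁅D, D⁆ z :=
    Cit.Weights.Act.of_normalizer hz hzD (Cit.Weights.normalizer_commutator hzD hzD)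
  have hinv := Cit.Weights.inverts_of_commutator (Cit.Weights.Sec.self D) hact hDD
  have hC : ⁅⁅D, D⁆, D⁆ ≤ ⁅D, D⁆ := Subgroup.commutator_mono hD'D le_rfl
  have h1 : ⁅D, D⁆ ≤ (Z ⊓ D) ⊔ ⁅⁅D, D⁆, D⁆ := by
    intro x hx
    have h2 := Cit.Weights.fix_commutator hact hinv x hx
    obtain ⟨n, hn, hc⟩ := Cit.Weights.exists_commute (Cit.Weights.card_odd_of_le hDodd (hC.trans hD'D)) hz
      (fun x hx => Cit.Weights.conj_mem_of_normalizer
        (Cit.Weights.normalizer_commutator (Cit.Weights.normalizer_commutator hzD hzD) hzD) hx) h2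
    have hnx : n * x ∈ D := D.mul_mem (hD'D (hC hn)) (hD'D hx)
    have h3 : x = n⁻¹ * (n * x) := by group
    rw [h3]
    exact mul_mem ((le_sup_right : ⁅⁅D, D⁆, D⁆ ≤ _) (inv_mem hn))
      ((le_sup_left : Z ⊓ D ≤ _) ⟨hfix _ (hDV hnx) hc.eq, hnx⟩)
  refine (Cit.Weights.le_of_le_sup_commutator hDp inf_le_right hD'D ?_ h1).trans inf_le_left
  rintro q hq x ⟨hx1, hx2⟩
  have h3 : q * x * q⁻¹ = x := by rw [← hcen x hx1 q (hDV hq)]; group
  rw [h3]; exact ⟨hx1, hx2⟩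

/-- A `p`-subgroup of `K ≅ SL(2, F)` lies in a conjugate of the unitriangular group. -/
theorem exists_root_ge {F : Type*} [Field F] [Fintype F] {K : Subgroup G} {p : ℕ} [Fact p.Prime] [CharP F p]
    (e : Matrix.SpecialLinearGroup (Fin 2) F ≃* K) {S : Subgroup G} (hS : S ≤ K) (hp : IsPGroup p S) :
    ∃ e' : Matrix.SpecialLinearGroup (Fin 2) F ≃* K, S ≤ Cit.ParabSL2.root e' := by
  have : Finite K := Finite.of_equiv _ e.toEquiv
  obtain ⟨P, hP⟩ : ∃ P : Sylow p K, (P : Subgroup K) = (Lib.AutSL2.upG F).map e.toMonoidHom := by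
    refine ⟨(Lib.AutSL2.sylU F p).mapSurjective (f := e.toMonoidHom) e.surjective, ?_⟩
    rfl
  have hSp : IsPGroup p (S.subgroupOf K) := hp.of_equiv (Subgroup.subgroupOfEquivOfLe hS).symm
  obtain ⟨Q, hQ⟩ := hSp.exists_le_sylow
  obtain ⟨k, hk⟩ := MulAction.exists_smul_eq K P Q
  refine ⟨e.trans (MulAut.conj k), ?_⟩
  intro x hx
  have h1 : (⟨x, hS hx⟩ : K) ∈ (Q : Subgroup K) := hQ (Subgroup.mem_subgroupOf.2 hx)
  rw [← hk, Sylow.coe_subgroup_smul, hP, Subgroup.mem_pointwise_smul_iff_inv_smul_mem] at h1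
  obtain ⟨_, ⟨b, rfl⟩, hb⟩ := h1
  refine Cit.ParabSL2.mem_root.2 ⟨b, ?_⟩
  have h2 : e.toMonoidHom (Lib.SL2Mat.up b) = k⁻¹ * ⟨x, hS hx⟩ * k := by
    rw [hb]
    simp [MulAut.smul_def, mul_assoc]
  have h3 : (e.trans (MulAut.conj k)) (Lib.SL2Mat.up b) = ⟨x, hS hx⟩ := by
    change k * e.toMonoidHom (Lib.SL2Mat.up b) * k⁻¹ = ⟨x, hS hx⟩
    rw [h2]; group
  exact congrArg Subtype.val h3

theorem isPGroup_root {F : Type*} [Field F] [Fintype F] {K : Subgroup G} {p : ℕ} [Fact p.Prime] [CharP F p]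
    (e : Matrix.SpecialLinearGroup (Fin 2) F ≃* K) : IsPGroup p ↥(Cit.ParabSL2.root e) := by
  obtain ⟨m, -, hm⟩ := FiniteField.card F p
  refine IsPGroup.of_card (n := (m : ℕ)) ?_
  rw [Cit.ParabSL2.card_root, hm]

/-- A group `D = ⁅D, z⁆` which is a `p`-group modulo a subgroup centralised by `D` and `z` is a `p`-group. -/
theorem isPGroup_of_comm [Finite G] {p : ℕ} [Fact p.Prime] {Y : Type*} [Group Y] {D : Subgroup G} {z : G}
    (hz : z * z = 1) (hzD : z ∈ Subgroup.normalizer (D : Set G)) (hDz : ⁅D, Subgroup.zpowers z⁆ = D)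
    (f : D →* Y) (hf : IsPGroup p f.range) (hker : ∀ d : D, f d = 1 → (∀ d' : D, d * d' = d' * d) ∧
      (d : G) * z = z * d) : IsPGroup p D := by
  have hfin : Finite ↥f.range := Finite.of_surjective _ f.rangeRestrict_surjective
  have hnil : Group.IsNilpotent ↥f.range := hf.isNilpotent
  have hnilD : Group.IsNilpotent ↥D := by
    refine Subgroup.isNilpotent_of_ker_le_center f.rangeRestrict ?_
    intro d hd
    rw [Subgroup.mem_center_iff]
    intro d'
    have h1 : f d = 1 := by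
      rw [MonoidHom.mem_ker] at hd
      exact congrArg Subtype.val hd
    exact ((hker d h1).1 d').symm
  let S : Sylow p ↥D := default
  have hSn : (S : Subgroup ↥D).Normal := by
    have := (Group.isNilpotent_of_finite_tfae (G := ↥D)).out 0 3
    exact this.1 hnilD p inferInstance S
  -- every `p`-element lies in `S`
  have hpS : ∀ d : D, (∃ k : ℕ, d ^ p ^ k = 1) → d ∈ (S : Subgroup ↥D) := by
    rintro d ⟨k, hk⟩
    have h1 : IsPGroup p ↥(Subgroup.zpowers d) := by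
      rintro ⟨_, m, rfl⟩
      refine ⟨k, Subtype.ext ?_⟩
      rw [SubgroupClass.coe_pow, OneMemClass.coe_one]
      change (d ^ m) ^ p ^ k = 1
      rw [← zpow_natCast, zpow_comm, zpow_natCast, hk, one_zpow]
    have h2 : IsPGroup p ↥(Subgroup.zpowers d ⊔ (S : Subgroup ↥D)) :=
      IsPGroup.to_sup_of_normal_right h1 S.isPGroup'
    have h3 := S.is_maximal' h2 le_sup_right
    rw [← h3]
    exact (le_sup_left : Subgroup.zpowers d ≤ _) (Subgroup.mem_zpowers d)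
  -- decomposition
  have hdec : ∀ d : D, ∃ s ∈ (S : Subgroup ↥D), ∃ c : D, f c = 1 ∧ d = s * c := by
    intro d
    obtain ⟨k, hk⟩ := hf ⟨f d, d, rfl⟩
    have hk' : f (d ^ p ^ k) = 1 := by
      rw [map_pow]
      have := congrArg Subtype.val hk
      simpa using this
    -- the order of `d` is `p ^ a * m`
    obtain ⟨a, m, hm, hord⟩ := Nat.exists_eq_pow_mul_and_not_dvd (orderOf_pos d).ne' p (Fact.out : p.Prime).ne_one
    have hcop : (p ^ max a k).Coprime m := Nat.Coprime.pow_left _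
      ((Nat.Prime.coprime_iff_not_dvd Fact.out).2 hm)
    have hd1 : d ^ (p ^ max a k * m) = 1 := by
      refine orderOf_dvd_iff_pow_eq_one.1 ?_
      rw [hord]
      exact Nat.mul_dvd_mul_right (pow_dvd_pow p (le_max_left a k)) m
    have hb := Nat.gcd_eq_gcd_ab (p ^ max a k) m
    rw [hcop.gcd_eq_one] at hb
    refine ⟨d ^ ((m : ℤ) * Nat.gcdB (p ^ max a k) m), ?_, d ^ (((p ^ max a k : ℕ) : ℤ) * Nat.gcdA (p ^ max a k) m), ?_, ?_⟩
    · refine hpS _ ⟨max a k, ?_⟩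
      rw [← zpow_natCast, ← zpow_mul]
      have e1 : (m : ℤ) * Nat.gcdB (p ^ max a k) m * ((p ^ max a k : ℕ) : ℤ) =
          ((p ^ max a k * m : ℕ) : ℤ) * Nat.gcdB (p ^ max a k) m := by
        push_cast; ring
      rw [e1, zpow_mul, zpow_natCast, hd1, one_zpow]
    · rw [zpow_mul, zpow_natCast, map_zpow]
      have e1 : p ^ max a k = p ^ k * p ^ (max a k - k) := by
        rw [← pow_add]; congr 1; omega
      rw [e1, pow_mul, map_pow, hk', one_pow, one_zpow]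
    · rw [← zpow_add]
      have e1 : (m : ℤ) * Nat.gcdB (p ^ max a k) m + ((p ^ max a k : ℕ) : ℤ) * Nat.gcdA (p ^ max a k) m = 1 := by
        push_cast at hb ⊢
        linarith
      rw [e1, zpow_one]
  -- `D = ⁅D, z⁆ ≤ S`
  have hle : D ≤ (S : Subgroup ↥D).map D.subtype := by
    conv_lhs => rw [← hDz]
    rw [Subgroup.commutator_le]
    intro d hd y hy
    rcases Cit.Parab.mem_zpowers_of_sq hz hy with rfl | rfl
    · rw [commutatorElement_one_right]; exact one_mem _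
    obtain ⟨s, hs, c, hc, he⟩ := hdec ⟨d, hd⟩
    have hcz := (hker c hc).2
    have he' : d = s * c := congrArg Subtype.val he
    have h1 : ⁅d, y⁆ = (s : G) * (y * (s : G)⁻¹ * y⁻¹) := by
      rw [he', commutatorElement_def]
      calc (s : G) * c * y * ((s : G) * c)⁻¹ * y⁻¹ = s * (c * y) * (c : G)⁻¹ * (s : G)⁻¹ * y⁻¹ := by group
        _ = s * (y * c) * (c : G)⁻¹ * (s : G)⁻¹ * y⁻¹ := by rw [hcz]
        _ = s * (y * (s : G)⁻¹ * y⁻¹) := by group
    have h2 : y * (s : G)⁻¹ * y⁻¹ ∈ D := Cit.Weights.conj_mem_of_normalizer hzD (D.inv_mem s.2)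
    have h3 : (⟨y * (s : G)⁻¹ * y⁻¹, h2⟩ : D) ∈ (S : Subgroup ↥D) := by
      obtain ⟨k, hk⟩ := S.isPGroup' ⟨s, hs⟩
      have hk' : (s : G) ^ p ^ k = 1 := by
        have := congrArg (fun x : ↥(S : Subgroup ↥D) => ((x : D) : G)) hk
        simpa using this
      refine hpS _ ⟨k, Subtype.ext ?_⟩
      rw [SubgroupClass.coe_pow]
      change (y * (s : G)⁻¹ * y⁻¹) ^ p ^ k = 1
      rw [conj_pow, inv_pow, hk', inv_one, mul_one, mul_inv_cancel]
    rw [h1]
    exact ⟨s * ⟨_, h2⟩, mul_mem hs h3, rfl⟩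
  have h1 : IsPGroup p ↥((S : Subgroup ↥D).map D.subtype) := S.isPGroup'.map _
  exact h1.to_le hle

end Abs

/-! ### The radical `VV r` -/

variable {I W Y : Type*} [Fintype I] [DecidableEq I] [Group W] [Fintype W] [Group Y] {M : CoxeterMatrix I}
  {cs : CoxeterSystem M W} {A : I → I → ℤ} {h : IsCartan M A} {p : ℕ} {T : Subgroup Y} {n : I → Y}
  {X : (I → ℤ) → Subgroup Y} {R : Set (I → ℤ)} {Z : (I → ℤ) → Subgroup Y} {z : (I → ℤ) → Y}

/-- the join of the root groups `X y`, `(y, r) > 0` -/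
def VV (cs : CoxeterSystem M W) (h : IsCartan M A) (X : (I → ℤ) → Subgroup Y) (r : I → ℤ) : Subgroup Y :=
  RGD.Sup X {y | IsRoot cs h y ∧ 0 < form cs h y r}

theorem VV_eq_VJ {r : I → ℤ} (hd : Dom A r) : VV cs h X r = VJ cs h X (orth cs h r) := by
  unfold VV VJ
  congr 1
  ext y
  constructor
  · rintro ⟨hy, h1⟩
    exact (mem_NotJ_orth_iff hd hy).2 h1
  · intro hy
    exact ⟨hy.1, (mem_NotJ_orth_iff hd hy.1).1 hy⟩

variable (C : Cls cs h p T n X R Z z)

include C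

theorem cj_VV {w : W} {k : Y} (hk : Rp cs C.rgd.nsys w k) (r : I → ℤ) :
    cj k (VV cs h X r) = VV cs h X (rep cs h w r) := by
  have key : ∀ {w : W} {k : Y} (hk : Rp cs C.rgd.nsys w k) (r : I → ℤ),
      cj k (VV cs h X r) ≤ VV cs h X (rep cs h w r) := by
    intro w k hk r
    unfold VV
    rw [RGD.cj_Sup]
    refine iSup_le ?_
    rintro ⟨y, hy⟩
    change cj k (X y) ≤ _
    rw [C.rgd.conj_rp hk hy.1]
    exact RGD.le_Sup (S := {y | IsRoot cs h y ∧ 0 < form cs h y (rep cs h w r)})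
      ⟨hy.1.act w, by rw [form_rep]; exact hy.2⟩
  apply le_antisymm (key hk r)
  have h1 := cj_mono k (key hk.inv (rep cs h w r))
  rwa [cj_cj_inv, rep_inv_apply] at h1

/-- The root `r` is conjugate to a dominant one. -/
theorem exists_dom {r : I → ℤ} (hr : r ∈ R) : ∃ k ∈ GG cs h T X, ∃ s ∈ R, Dom A s ∧ cj k (Z r) = Z s ∧
    cj k (Z (-r)) = Z (-s) ∧ k * z r * k⁻¹ = z s ∧ cj k (VV cs h X r) = VV cs h X s := by
  obtain ⟨w, hw⟩ := exists_dominant (cs := cs) (h := h) r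
  obtain ⟨k, hk⟩ := exists_rp cs C.rgd.nsys w
  refine ⟨k, NN_le_GG C.rgd ⟨_, hk⟩, _, C.act r hr w, hw, conj_Z C hk hr, ?_, conj_z C hk hr, cj_VV C hk r⟩
  rw [conj_Z C hk (neg_mem C hr), map_neg]

theorem VV_le_GG (r : I → ℤ) : VV cs h X r ≤ GG cs h T X := RGD.Sup_le fun _ hy => X_le_GG hy.1

theorem Z_le_VV {r : I → ℤ} (hr : r ∈ R) : Z r ≤ VV cs h X r :=
  (C.le r hr).trans (RGD.le_Sup (S := {y | IsRoot cs h y ∧ 0 < form cs h y r})
    ⟨C.root r hr, form_pos cs h (C.root r hr).ne_zero⟩)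

/-- `[N_GG(Z r), z r] ≤ VV r`. -/
theorem comm_mem_VV {r : I → ℤ} (hr : r ∈ R) {g : Y} (hg : g ∈ GG cs h T X)
    (hN : g ∈ Subgroup.normalizer (Z r : Set Y)) : g * z r * g⁻¹ * (z r)⁻¹ ∈ VV cs h X r := by
  obtain ⟨k, hk, s, hs, hd, e1, -, e2, e3⟩ := exists_dom C hr
  have h1 : k * g * k⁻¹ ∈ Subgroup.normalizer (Z s : Set Y) := by
    rw [mem_normalizer_iff_cj] at hN ⊢
    rw [← e1, ← cj_mul]
    have h2 : k * g * k⁻¹ * k = k * g := by group
    rw [h2, cj_mul, hN]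
  have h2 := comm_mem_VJ C hs hd (mul_mem (mul_mem hk hg) (inv_mem hk)) h1
  rw [← VV_eq_VJ hd, ← e3, mem_cj, ← e2] at h2
  have h3 : k⁻¹ * (k * g * k⁻¹ * (k * z r * k⁻¹) * (k * g * k⁻¹)⁻¹ * (k * z r * k⁻¹)⁻¹) * k =
      g * z r * g⁻¹ * (z r)⁻¹ := by group
  rwa [h3] at h2

theorem isPGroup_VV (r : I → ℤ) : IsPGroup p ↥(VV cs h X r) := by
  obtain ⟨w, hw⟩ := exists_dominant (cs := cs) (h := h) r
  obtain ⟨k, hk⟩ := exists_rp cs C.rgd.nsys w
  have h1 : IsPGroup p ↥(cj k (VV cs h X r)) := by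
    rw [cj_VV C hk, VV_eq_VJ hw]
    exact C.rgd.isPGroup_Upos.to_le (VJ_le_U _)
  exact h1.of_equiv ((VV cs h X r).equivMapOfInjective (MulAut.conj k).toMonoidHom
    (MulAut.conj k).injective).symm

/-- `Z r` is central in `VV r` -/
theorem VV_comm {r : I → ℤ} (hr : r ∈ R) {c v : Y} (hc : c ∈ Z r) (hv : v ∈ VV cs h X r) : c * v = v * c := by
  have h1 : VV cs h X r ≤ Subgroup.centralizer (Z r : Set Y) :=
    RGD.Sup_le fun y hy => X_le_centralizer C hr hy.1 hy.2.le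
  exact Subgroup.mem_centralizer_iff.1 (h1 hv) c hc

theorem z_mem_normalizer_VV {r : I → ℤ} (hr : r ∈ R) : z r ∈ Subgroup.normalizer (VV cs h X r : Set Y) :=
  C.rgd.T_le_normalizer (fun _ hy => hy.1) (C.z_torus r hr)

variable (hp2 : p ≠ 2)

include hp2

theorem odd_of_mem_X [Fact p.Prime] {y : I → ℤ} (hy : IsRoot cs h y) {a : Y} (ha : a ∈ X y) : Odd (orderOf a) := by
  obtain ⟨k, hk⟩ := C.rgd.pgrp' hy ⟨a, ha⟩
  have hk' : a ^ p ^ k = 1 := by
    have := congrArg Subtype.val hk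
    simpa using this
  exact (((Fact.out : p.Prime).odd_of_ne_two hp2).pow (n := k)).of_dvd_nat (orderOf_dvd_of_pow_eq_one hk')

theorem mem_of_odd_sq {a : Y} {S : Subgroup Y} (ha : Odd (orderOf a)) (h2 : a * a ∈ S) : a ∈ S := by
  obtain ⟨k, hk⟩ := ha
  have h5 : (a * a) ^ (k + 1) = a := by
    have : (a * a) ^ (k + 1) = a ^ orderOf a * a := by
      rw [hk, ← pow_two, ← pow_mul, ← pow_succ]
      congr 1
    rw [this, pow_orderOf_eq_one, one_mul]
  rw [← h5]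
  exact pow_mem h2 _

/-- **`C_{VV r}(z r) = Z r`** -/
theorem mem_Z_of_commute [Fact p.Prime] {r : I → ℤ} (hr : r ∈ R) {v : Y} (hv : v ∈ VV cs h X r)
    (hvz : v * z r = z r * v) : v ∈ Z r := by
  -- the dominant case
  have key : ∀ s ∈ R, Dom A s → ∀ v ∈ VV cs h X s, v * z s = z s * v → v ∈ Z s := by
    intro s hs hd v hv hvz
    rw [VV_eq_VJ hd] at hv
    have h1 : v ∈ RGD.Sup (fun x => X x ⊓ Subgroup.centralizer {z s}) (RGD.Pos cs h) := by
      rw [← NormalForm.centralizer_U C.rgd (S := {z s}) (by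
        rintro _ rfl
        exact C.z_torus s hs)]
      exact ⟨VJ_le_U _ hv, Subgroup.mem_centralizer_singleton_iff.2 hvz⟩
    have hUZ : UJ cs h X (orth cs h s) ≤ Subgroup.normalizer (Z s : Set Y) := by
      refine RGD.Sup_le fun x hx => ?_
      refine (X_le_centralizer C hs (PosJ_subset _ hx).1 ?_).trans (centralizer_le_normalizer' _)
      exact ((mem_RootsJ_orth_iff hd (PosJ_subset _ hx).1).1 (PosJ_subset _ hx)).ge
    have h2 : RGD.Sup (fun x => X x ⊓ Subgroup.centralizer {z s}) (RGD.Pos cs h) ≤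
        UJ cs h X (orth cs h s) ⊔ Z s := by
      refine RGD.Sup_le fun x hx a ha => ?_
      obtain ⟨ha1, ha2⟩ := ha
      replace ha2 := Subgroup.mem_centralizer_singleton_iff.1 ha2
      have haodd := odd_of_mem_X C hp2 hx.1 ha1
      rcases mem_PosJ_or_NotJ (orth cs h s) hx.1 hx.2 with h3 | h3
      · exact (le_sup_left : UJ cs h X (orth cs h s) ≤ _) (RGD.le_Sup h3 ha1)
      · have h4 := (mem_NotJ_orth_iff hd hx.1).1 h3
        refine (le_sup_right : Z s ≤ _) ?_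
        have e1 : z s * a * z s = a := by
          calc z s * a * z s = a * (z s * z s) := by rw [← ha2]; group
            _ = a := by rw [C.z_sq s hs, mul_one]
        by_cases hxs : x = s
        · subst hxs
          have h5 := C.z_inv_self x hs a ha1
          rw [e1] at h5
          exact mem_of_odd_sq C hp2 haodd h5
        · have h5 : x ≠ -s := by
            rintro rfl
            rw [form_neg_left] at h4
            have := form_nonneg cs h s
            omega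
          have h6 := C.z_inv s hs x hx.1 hxs h5 h4.ne' a ha1
          rw [e1] at h6
          refine mem_of_odd_sq C hp2 haodd ?_
          have h7 : a * a = 1 := by
            calc a * a = a * a⁻¹ := by rw [← h6]
              _ = 1 := mul_inv_cancel a
          rw [h7]; exact one_mem _
    have h3 : v ∈ ((UJ cs h X (orth cs h s) ⊔ Z s : Subgroup Y) : Set Y) := h2 h1
    rw [Subgroup.coe_mul_of_left_le_normalizer_right _ _ hUZ, Set.mem_mul] at h3
    obtain ⟨u, hu, c, hc, rfl⟩ := h3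
    have h4 : c ∈ VJ cs h X (orth cs h s) := by
      rw [← VV_eq_VJ hd]
      exact Z_le_VV C hs hc
    have h5 : u ∈ VJ cs h X (orth cs h s) := by
      have : u = u * c * c⁻¹ := by group
      rw [this]
      exact mul_mem hv (inv_mem h4)
    have h6 : u = 1 := by
      have h7 : u ∈ UJ cs h X (orth cs h s) ⊓ VJ cs h X (orth cs h s) := ⟨hu, h5⟩
      rwa [UJ_inf_VJ C.rgd, Subgroup.mem_bot] at h7
    rw [h6, one_mul]
    exact hc
  obtain ⟨k, hk, s, hs, hd, e1, -, e2, e3⟩ := exists_dom C hr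
  have h1 : k * v * k⁻¹ ∈ VV cs h X s := by rw [← e3]; exact conj_mem_cj.2 hv
  have h2 := key s hs hd _ h1 (by
    rw [← e2]
    calc k * v * k⁻¹ * (k * z r * k⁻¹) = k * (v * z r) * k⁻¹ := by group
      _ = k * (z r * v) * k⁻¹ := by rw [hvz]
      _ = k * z r * k⁻¹ * (k * v * k⁻¹) := by group)
  rw [← e1] at h2
  exact conj_mem_cj.1 h2

theorem odd_card_VV [Fact p.Prime] [Finite Y] (r : I → ℤ) : Odd (Nat.card (VV cs h X r)) := by
  obtain ⟨k, hk⟩ := (IsPGroup.iff_card).mp (isPGroup_VV C r)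
  rw [hk]
  exact ((Fact.out : p.Prime).odd_of_ne_two hp2).pow

/-- **`⁅VV r, VV r⁆ ≤ Z r`** -/
theorem commutator_VV_le [Fact p.Prime] [Finite Y] {r : I → ℤ} (hr : r ∈ R) :
    ⁅VV cs h X r, VV cs h X r⁆ ≤ Z r :=
  commutator_le_of_fix (isPGroup_VV C r) (odd_card_VV C hp2 r) (C.z_sq r hr) (z_mem_normalizer_VV C hr)
    (fun _ hv hvz => mem_Z_of_commute C hp2 hr hv hvz) fun _ hc _ hv => VV_comm C hr hc hv


/-! ### `Z r` is a Sylow subgroup of `⟨Z r, Z (-r)⟩` -/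

section SL

variable {F : Type*} [Field F] [Fintype F]

omit hp2 in
theorem cls_commute_z {r : I → ℤ} (hr : r ∈ R) {a : Y} (ha : a ∈ Z r ⊔ Z (-r)) : a * z r = z r * a := by
  have h1 : Z r ⊔ Z (-r) ≤ Subgroup.centralizer {z r} := by
    refine sup_le (fun b hb => ?_) (fun b hb => ?_)
    · rw [Subgroup.mem_centralizer_singleton_iff]
      exact (C.z_cent r hr b hb).symm
    · rw [Subgroup.mem_centralizer_singleton_iff]
      have := C.z_cent (-r) (neg_mem C hr) b hb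
      rw [C.z_neg r hr] at this
      exact this.symm
  exact Subgroup.mem_centralizer_singleton_iff.1 (h1 ha)

omit hp2 in
theorem sup_le_GG {r : I → ℤ} (hr : r ∈ R) : Z r ⊔ Z (-r) ≤ GG cs h T X :=
  sup_le ((C.le r hr).trans (X_le_GG (C.root r hr))) ((C.le _ (neg_mem C hr)).trans (X_le_GG (C.root _ (neg_mem C hr))))

/-- **`Z r` is a Sylow `p`-subgroup of `⟨Z r, Z (-r)⟩ ≅ SL(2, F)`.** -/
theorem card_Z [Fact p.Prime] [Finite Y] [CharP F p] {r : I → ℤ} (hr : r ∈ R)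
    (e : Matrix.SpecialLinearGroup (Fin 2) F ≃* ↥(Z r ⊔ Z (-r))) : Nat.card (Z r) = Fintype.card F := by
  -- the dominant case
  have key : ∀ s ∈ R, Dom A s → ∀ _ : Matrix.SpecialLinearGroup (Fin 2) F ≃* ↥(Z s ⊔ Z (-s)),
      Nat.card (Z s) = Fintype.card F := by
    intro s hs hd e
    have hZp : IsPGroup p ↥(Z s) := (C.rgd.pgrp' (C.root s hs)).to_le (C.le s hs)
    have hZp' : IsPGroup p ↥(Z (-s)) := (C.rgd.pgrp' (C.root _ (neg_mem C hs))).to_le (C.le _ (neg_mem C hs))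
    obtain ⟨e₁, h1⟩ := exists_root_ge e (le_sup_left : Z s ≤ Z s ⊔ Z (-s)) hZp
    obtain ⟨e₂, h2⟩ := exists_root_ge e (le_sup_right : Z (-s) ≤ Z s ⊔ Z (-s)) hZp'
    have hne : Cit.ParabSL2.root e₂ ≠ Cit.ParabSL2.root e₁ := by
      intro h3
      refine C.notp s hs ((isPGroup_root e₁).to_le (sup_le h1 ?_))
      rw [← h3]; exact h2
    have hle : Cit.ParabSL2.root e₁ ≤ Z s := by
      intro a ha
      have haK := Cit.ParabSL2.root_le e₁ ha
      have haG : a ∈ GG cs h T X := sup_le_GG C hs haK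
      have hac : ∀ b ∈ Z s, b * a = a * b := by
        intro b hb
        obtain ⟨x, rfl⟩ := Cit.ParabSL2.mem_root.1 ha
        obtain ⟨y, rfl⟩ := Cit.ParabSL2.mem_root.1 (h1 hb)
        rw [← Subgroup.coe_mul, ← map_mul, ← Subgroup.coe_mul, ← map_mul, Lib.SL2Mat.up_mul,
          Lib.SL2Mat.up_mul, add_comm]
      have haN : a ∈ Subgroup.normalizer (Z s : Set Y) :=
        centralizer_le_normalizer' _ (Subgroup.mem_centralizer_iff.2 hac)
      have haP : a ∈ PJ cs h T X (orth cs h s) := by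
        rw [← normalizer_inf_GG C hs hd]; exact ⟨haN, haG⟩
      obtain ⟨l, hl, v, hv, e3⟩ := (mem_PJ C.rgd).1 haP
      have haz := cls_commute_z C hs haK
      have hlz := z_comm_LJ C hs hd hl
      have hvz : v * z s = z s * v := by
        have h4 : v = l⁻¹ * a := by rw [e3]; group
        rw [h4]
        calc l⁻¹ * a * z s = l⁻¹ * (z s * a) := by rw [mul_assoc, haz]
          _ = l⁻¹ * (z s * l) * l⁻¹ * a := by group
          _ = l⁻¹ * (l * z s) * l⁻¹ * a := by rw [hlz]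
          _ = z s * (l⁻¹ * a) := by group
      have hvZ : v ∈ Z s := mem_Z_of_commute C hp2 hs (by rw [VV_eq_VJ hd]; exact hv) hvz
      have hlr : l ∈ Cit.ParabSL2.root e₁ := by
        have h4 : l = a * v⁻¹ := by rw [e3]; group
        rw [h4]
        exact mul_mem ha (inv_mem (h1 hvZ))
      have hlN := (LJ_le_normalizer C hs hd hl).2
      have hl1 : l = 1 := by
        refine Cit.ParabSL2.eq_one_of_cj_eq e₁ (Cit.ParabSL2.root_le e₁) (Cit.ParabSL2.card_root e₁)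
          (Cit.ParabSL2.root_le e₂) (Cit.ParabSL2.card_root e₂) hne hlr ?_
        by_contra h4
        have hlK : l ∈ Z s ⊔ Z (-s) := Cit.ParabSL2.root_le e₁ hlr
        have h5 : Cit.ParabSL2.root e₂ ⊓ Cit.cj l (Cit.ParabSL2.root e₂) = ⊥ := by
          refine Cit.ParabSL2.inf_eq e₂ (Cit.ParabSL2.root_le e₂) (Cit.ParabSL2.card_root e₂) ?_ ?_ h4
          · have h6 := Cit.cj_mono l (Cit.ParabSL2.root_le e₂)
            rwa [Cit.Parab.cj_eq_of_mem hlK] at h6
          · rw [Cit.card_cj, Cit.ParabSL2.card_root]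
        apply C.ne_bot (-s) (neg_mem C hs)
        rw [eq_bot_iff, ← h5]
        refine le_inf h2 ?_
        have h6 : cj l (Z (-s)) = Z (-s) := mem_normalizer_iff_cj.1 hlN
        calc Z (-s) = cj l (Z (-s)) := h6.symm
          _ ≤ Cit.cj l (Cit.ParabSL2.root e₂) := Cit.cj_mono l h2
      rw [e3, hl1, one_mul]
      exact hvZ
    rw [le_antisymm h1 hle, Cit.ParabSL2.card_root]
  obtain ⟨k, hk, s, hs, hd, e1, e2, -, -⟩ := exists_dom C hr
  have h1 : Cit.cj k (Z r ⊔ Z (-r)) = Z s ⊔ Z (-s) := by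
    rw [Cit.cj_sup]
    exact congrArg₂ (· ⊔ ·) e1 e2
  have h2 := key s hs hd ((e.trans (Cit.cjEquiv k _)).trans (MulEquiv.subgroupCongr h1))
  rw [← h2, ← e1]
  exact (Cit.card_cj k (Z r)).symm

omit hp2 in
omit [Fintype F] in
theorem exists_gg {r : I → ℤ} (hr : r ∈ R) {g k : Y} (hg : g ∈ GG cs h T X)
    (hk : k ∈ Cit.cj g (Z r ⊔ Z (-r))) : k ∈ GG cs h T X := by
  rw [Cit.mem_cj] at hk
  have h1 : k = g * (g⁻¹ * k * g) * g⁻¹ := by group
  rw [h1]
  exact mul_mem (mul_mem hg (sup_le_GG C hr hk)) (inv_mem hg)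

/-- Opposite Sylow `p`-subgroups of a conjugate of `⟨Z r, Z (-r)⟩` are simultaneously conjugate to `Z r`, `Z (-r)`. -/
theorem exists_pair_conj [Fact p.Prime] [Finite Y] [CharP F p] {r : I → ℤ} (hr : r ∈ R) {g : Y}
    (hg : g ∈ GG cs h T X) {K : Subgroup Y} (hK : K = Cit.cj g (Z r ⊔ Z (-r)))
    (e : Matrix.SpecialLinearGroup (Fin 2) F ≃* ↥K) {P Q : Subgroup Y} (hP : P ≤ K)
    (hPc : Nat.card P = Fintype.card F) (hQ : Q ≤ K) (hQc : Nat.card Q = Fintype.card F) (hne : Q ≠ P) :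
    ∃ k ∈ GG cs h T X, P = Cit.cj k (Z r) ∧ Q = Cit.cj k (Z (-r)) := by
  have e' : Matrix.SpecialLinearGroup (Fin 2) F ≃* ↥(Z r ⊔ Z (-r)) :=
    (e.trans (MulEquiv.subgroupCongr hK)).trans (Cit.cjEquiv g _).symm
  have hc1 := card_Z C hp2 hr e'
  have hc2 : Nat.card (Z (-r)) = Fintype.card F := by
    have h1 : Z r ⊔ Z (-r) = Z (-r) ⊔ Z (- -r) := by rw [neg_neg, sup_comm]
    exact card_Z C hp2 (neg_mem C hr) (e'.trans (MulEquiv.subgroupCongr h1))
  have hZK : Cit.cj g (Z r) ≤ K := by rw [hK]; exact Cit.cj_mono g le_sup_left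
  have hZK' : Cit.cj g (Z (-r)) ≤ K := by rw [hK]; exact Cit.cj_mono g le_sup_right
  obtain ⟨k, hk, h1⟩ := Cit.ParabSL2.exists_conj e hP hPc hZK (by rw [Cit.card_cj, hc1, hPc])
  have hkG : k ∈ GG cs h T X := exists_gg C hr hg (by rw [← hK]; exact hk)
  have hkK : Cit.cj k K = K := Cit.Parab.cj_eq_of_mem hk
  have h2 : Cit.cj k (Cit.cj g (Z (-r))) ≤ K := by
    have := Cit.cj_mono k hZK'
    rwa [hkK] at this
  have hne' : Cit.cj k (Cit.cj g (Z (-r))) ≠ P := by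
    intro h3
    rw [← h1, Cit.cj_inj, Cit.cj_inj] at h3
    apply C.notp r hr
    rw [h3, sup_idem]
    exact (C.rgd.pgrp' (C.root r hr)).to_le (C.le r hr)
  obtain ⟨x, hx, h3⟩ := Cit.ParabSL2.exists_cj_of_ne e hP hPc h2
    (by rw [Cit.card_cj, Cit.card_cj, hc2]) hne' hQ hQc hne
  have hxG : x ∈ GG cs h T X := exists_gg C hr hg (by rw [← hK]; exact hP hx)
  refine ⟨x * k * g, mul_mem (mul_mem hxG hkG) hg, ?_, ?_⟩
  · rw [Cit.cj_mul, Cit.cj_mul, h1, Cit.Parab.cj_eq_of_mem hx]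
  · rw [Cit.cj_mul, Cit.cj_mul, h3]

end SL

/-! ### The local lemma -/

section Loc

variable {G : Type*} [Group G] [Finite G]

/-- Let `π : L → GG` have central kernel, `X₀ ≤ L` with image `Z r`, `z₀ ∈ L` an involution with image `z r`, and
`D ≤ L` a group centralising `X₀` with `⁅D, z₀⁆ = D`. Then `D` is a `p`-group and `⁅D, D⁆ ≤ X₀ (ker π)`. -/
theorem local_main [Fact p.Prime] [Finite Y] {L : Subgroup G} (π : L →* Y)
    (hker : ∀ a : L, π a = 1 → ∀ l : L, a * l = l * a) (hG : ∀ l, π l ∈ GG cs h T X) {r : I → ℤ} (hr : r ∈ R)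
    {X₀ : Subgroup G} (hX : (X₀.subgroupOf L).map π = Z r) {z₀ : G} (hz : z₀ ∈ L)
    (hz2 : z₀ * z₀ = 1) (hπz : π ⟨z₀, hz⟩ = z r) {D : Subgroup G} (hD : D ≤ L)
    (hDX : ∀ d ∈ D, ∀ x ∈ X₀, d * x = x * d) (hzD : z₀ ∈ Subgroup.normalizer (D : Set G))
    (hDz : ⁅D, Subgroup.zpowers z₀⁆ = D) :
    IsPGroup p D ∧ (∀ d : L, (d : G) ∈ D → π d ∈ VV cs h X r) ∧
      ∀ a ∈ D, ∀ b ∈ D, ∃ x ∈ X₀, ∃ c : L, π c = 1 ∧ ⁅a, b⁆ = x * c := by
  -- the elements of `D` normalise `Z r`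
  have h1 : ∀ d : L, (d : G) ∈ D → π d ∈ Subgroup.normalizer (Z r : Set Y) := by
    intro d hd
    refine centralizer_le_normalizer' _ ?_
    rw [Subgroup.mem_centralizer_iff, ← hX]
    rintro _ ⟨x, hx, rfl⟩
    rw [← map_mul, ← map_mul]
    congr 1
    exact Subtype.ext (hDX d hd x (Subgroup.mem_subgroupOf.1 hx)).symm
  have h2 : ∀ d : L, (d : G) ∈ D → π d ∈ VV cs h X r := by
    have h3 : D ≤ ((VV cs h X r).comap π).map L.subtype := by
      conv_lhs => rw [← hDz]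
      rw [Subgroup.commutator_le]
      intro d hd y hy
      rcases Cit.Parab.mem_zpowers_of_sq hz2 hy with rfl | rfl
      · rw [commutatorElement_one_right]; exact one_mem _
      refine ⟨⁅(⟨d, hD hd⟩ : L), (⟨y, hz⟩ : L)⁆, ?_, rfl⟩
      rw [SetLike.mem_coe, Subgroup.mem_comap, map_commutatorElement, hπz, commutatorElement_def]
      exact comm_mem_VV C hr (hG _) (h1 ⟨d, hD hd⟩ hd)
    intro d hd
    obtain ⟨d', hd', he⟩ := h3 hd
    have : d' = d := Subtype.ext he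
    rw [← this]; exact hd'
  refine ⟨?_, h2, ?_⟩
  · let f : D →* Y := π.comp (Subgroup.inclusion hD)
    refine isPGroup_of_comm hz2 hzD hDz f ?_ ?_
    · refine (isPGroup_VV C r).to_le ?_
      rintro _ ⟨d, rfl⟩
      exact h2 _ d.2
    · intro d hd
      refine ⟨fun d' => Subtype.ext ?_, ?_⟩
      · have h3 := congrArg Subtype.val (hker _ hd (Subgroup.inclusion hD d'))
        exact h3
      · exact congrArg Subtype.val (hker _ hd ⟨z₀, hz⟩)
  · intro a ha b hb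
    have h3 : π ⁅(⟨a, hD ha⟩ : L), (⟨b, hD hb⟩ : L)⁆ ∈ Z r := by
      rw [map_commutatorElement]
      exact commutator_VV_le C hp2 hr
        (Subgroup.commutator_mem_commutator (h2 ⟨a, hD ha⟩ ha) (h2 ⟨b, hD hb⟩ hb))
    rw [← hX] at h3
    obtain ⟨x, hx, he⟩ := h3
    refine ⟨x, Subgroup.mem_subgroupOf.1 hx, x⁻¹ * ⁅(⟨a, hD ha⟩ : L), (⟨b, hD hb⟩ : L)⁆, ?_, ?_⟩
    · rw [map_mul, map_inv, he, inv_mul_cancel]
    · change _ = (x : G) * ((x : G)⁻¹ * ⁅a, b⁆)
      group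

end Loc

end Cfsg.Agent.Nodes.ChartLoc
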