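import Mathlib
import Cfsg.Agent.Nodes.Chart

/-!
Transport of the structures `Cls` and `Chart` (project CIT, charts).

* `cls_map` : the image under a homomorphism, `cls_map_of_injective`, `cls_map_of_ker_le_center`;
* `cls_restrict` : restriction to a subgroup containing the root groups and the `n i`;
* `chart_of_cls` : the chart of a group generated by its root groups.
-/

set_option autoImplicit false
set_option linter.unusedSectionVars false

namespace Cfsg.Agent.Nodes.ClsMap

open CoxeterSystem Cfsg.Agent.ChevalleyStructure.CoxeterGeom Cfsg.Agent.Tits.Roots Cfsg.Agent.Tits.Core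
  Cfsg.Agent.Tits.RootComb Cfsg.Agent.Nodes.Comb Cfsg.Agent.Nodes.Reps Cfsg.Agent.Nodes.BNOf
  Cfsg.Agent.Nodes.RGDLib Cfsg.Agent.Nodes.Chart
open scoped commutatorElement

variable {I W Y Y' : Type*} [Fintype I] [DecidableEq I] [Group W] [Fintype W] [Group Y] [Group Y']
  {M : CoxeterMatrix I} {cs : CoxeterSystem M W} {A : I → I → ℤ} {h : IsCartan M A} {p : ℕ} {T : Subgroup Y}
  {n : I → Y} {X : (I → ℤ) → Subgroup Y} {R : Set (I → ℤ)} {Z : (I → ℤ) → Subgroup Y} {z : (I → ℤ) → Y}

theorem neg_mem (C : Cls cs h p T n X R Z z) {r : I → ℤ} (hr : r ∈ R) : -r ∈ R := by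
  obtain ⟨w, i, rfl⟩ := C.root r hr
  have h1 := C.act _ hr (w * cs.simple i * w⁻¹)
  rwa [rep_mul_apply, rep_inv_apply, rep_mul_apply, rep_simple_sr, map_neg] at h1

theorem isPGroup_Z (C : Cls cs h p T n X R Z z) {r : I → ℤ} (hr : r ∈ R) : IsPGroup p (Z r) :=
  (C.rgd.pgrp' (C.root r hr)).to_le (C.le r hr)

/-- The image of classical root groups. -/
theorem cls_map (C : Cls cs h p T n X R Z z) (f : Y →* Y')
    (hR : RGD cs h p (T.map f) (fun i => f (n i)) (fun x => (X x).map f))
    (hb : ∀ r ∈ R, (Z r).map f ≠ ⊥) (hn : ∀ r ∈ R, ¬ IsPGroup p ↥((Z r ⊔ Z (-r)).map f)) :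
    Cls cs h p (T.map f) (fun i => f (n i)) (fun x => (X x).map f) R (fun x => (Z x).map f)
      (fun x => f (z x)) where
  rgd := hR
  root := C.root
  act := C.act
  le r hr := Subgroup.map_mono (C.le r hr)
  ne_bot := hb
  conj i r hr := by rw [cj_map, C.conj i r hr]
  tor r hr := by
    rintro _ ⟨t, ht, rfl⟩
    rw [cj_map, C.tor r hr t ht]
  cent r hr y hy h0 := by
    rintro _ ⟨a, ha, rfl⟩ _ ⟨b, hb, rfl⟩
    rw [← map_mul, ← map_mul, C.cent r hr y hy h0 a ha b hb]
  notp r hr := by rw [← Subgroup.map_sup]; exact hn r hr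
  z_mem r hr := by
    rw [← Subgroup.map_sup]
    exact Subgroup.mem_map_of_mem f (C.z_mem r hr)
  z_torus r hr := Subgroup.mem_map_of_mem f (C.z_torus r hr)
  z_T r hr := by
    rintro _ ⟨t, ht, rfl⟩
    rw [← map_mul, ← map_mul, C.z_T r hr t ht]
  z_sq r hr := by rw [← map_mul, C.z_sq r hr, map_one]
  z_conj i r hr := by rw [← C.z_conj i r hr, map_mul, map_mul, map_inv]
  z_neg r hr := by rw [C.z_neg r hr]
  z_cent r hr := by
    rintro _ ⟨b, hb, rfl⟩
    rw [← map_mul, ← map_mul, C.z_cent r hr b hb]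
  z_inv r hr y hy h1 h2 h3 := by
    rintro _ ⟨a, ha, rfl⟩
    rw [← map_mul, ← map_mul, C.z_inv r hr y hy h1 h2 h3 a ha, map_inv]
  z_inv_self r hr := by
    rintro _ ⟨a, ha, rfl⟩
    rw [← map_mul, ← map_mul, ← map_mul]
    exact Subgroup.mem_map_of_mem f (C.z_inv_self r hr a ha)

theorem cls_map_of_injective (C : Cls cs h p T n X R Z z) (f : Y →* Y') (hf : Function.Injective f) :
    Cls cs h p (T.map f) (fun i => f (n i)) (fun x => (X x).map f) R (fun x => (Z x).map f)
      (fun x => f (z x)) := by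
  refine cls_map C f (rgd_map_of_injective C.rgd f hf) (fun r hr h0 => C.ne_bot r hr ?_) fun r hr hp =>
    C.notp r hr ?_
  · exact (Subgroup.map_eq_bot_iff_of_injective _ hf).1 h0
  · exact hp.of_equiv ((Z r ⊔ Z (-r)).equivMapOfInjective f hf).symm

theorem cls_map_of_ker_le_center [Finite Y] [Fact p.Prime] (C : Cls cs h p T n X R Z z) (f : Y →* Y')
    (hf : f.ker ≤ Subgroup.center Y) :
    Cls cs h p (T.map f) (fun i => f (n i)) (fun x => (X x).map f) R (fun x => (Z x).map f)
      (fun x => f (z x)) := by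
  have hn : ∀ r ∈ R, ¬ IsPGroup p ↥((Z r ⊔ Z (-r)).map f) := fun r hr hp =>
    C.notp r hr (isPGroup_of_map (isPGroup_Z C hr) (isPGroup_Z C (neg_mem C hr)) f hf hp)
  refine cls_map C f (rgd_map_of_ker_le_center C.rgd f hf) (fun r hr h0 => hn r hr ?_) hn
  rw [Subgroup.map_sup, h0, bot_sup_eq]
  exact (isPGroup_Z C (neg_mem C hr)).map f

/-- Restriction to a subgroup containing all root groups and the `n i`. -/
theorem cls_restrict (C : Cls cs h p T n X R Z z) (K : Subgroup Y) (hX : ∀ x, IsRoot cs h x → X x ≤ K)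
    (hn : ∀ i, n i ∈ K) (z' : (I → ℤ) → K) (hz : ∀ r ∈ R, (z' r : Y) = z r) :
    Cls cs h p (T.subgroupOf K) (fun i => ⟨n i, hn i⟩) (fun x => (X x).subgroupOf K) R
      (fun x => (Z x).subgroupOf K) z' := by
  have hZ : ∀ r ∈ R, Z r ≤ K := fun r hr => (C.le r hr).trans (hX r (C.root r hr))
  exact {
    rgd := rgd_restrict C.rgd K hX hn
    root := C.root
    act := C.act
    le := fun r hr => Subgroup.comap_mono (C.le r hr)
    ne_bot := fun r hr h0 => C.ne_bot r hr (by
      rw [Subgroup.subgroupOf_eq_bot, disjoint_iff, inf_eq_left.2 (hZ r hr)] at h0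
      exact h0)
    conj := fun i r hr => by
      rw [cj_subgroupOf]
      exact congrArg (fun S => Subgroup.subgroupOf S K) (C.conj i r hr)
    tor := fun r hr t ht => by
      rw [cj_subgroupOf]
      exact congrArg (fun S => Subgroup.subgroupOf S K) (C.tor r hr t ht)
    cent := fun r hr y hy h0 a ha b hb => Subtype.ext (C.cent r hr y hy h0 a ha b hb)
    notp := fun r hr hp => by
      apply C.notp r hr
      rw [← Subgroup.subgroupOf_sup (hZ r hr) (hZ _ (neg_mem C hr))] at hp
      exact hp.of_equiv (Subgroup.subgroupOfEquivOfLe (sup_le (hZ r hr) (hZ _ (neg_mem C hr))))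
    z_mem := fun r hr => by
      rw [← Subgroup.subgroupOf_sup (hZ r hr) (hZ _ (neg_mem C hr)), Subgroup.mem_subgroupOf, hz r hr]
      exact C.z_mem r hr
    z_torus := fun r hr => by
      rw [Subgroup.mem_subgroupOf, hz r hr]
      exact C.z_torus r hr
    z_T := fun r hr t ht => Subtype.ext (by
      change (z' r : Y) * t = t * z' r
      rw [hz r hr]
      exact C.z_T r hr t ht)
    z_sq := fun r hr => Subtype.ext (by
      change (z' r : Y) * z' r = 1
      rw [hz r hr, C.z_sq r hr])
    z_conj := fun i r hr => Subtype.ext (by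
      change n i * (z' r : Y) * (n i)⁻¹ = z' _
      rw [hz r hr, hz _ (C.act r hr _)]
      exact C.z_conj i r hr)
    z_neg := fun r hr => Subtype.ext (by rw [hz _ (neg_mem C hr), hz r hr, C.z_neg r hr])
    z_cent := fun r hr b hb => Subtype.ext (by
      change (z' r : Y) * b = b * z' r
      rw [hz r hr]
      exact C.z_cent r hr b hb)
    z_inv := fun r hr y hy h1 h2 h3 a ha => Subtype.ext (by
      change (z' r : Y) * a * z' r = (a : Y)⁻¹
      rw [hz r hr]
      exact C.z_inv r hr y hy h1 h2 h3 a ha)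
    z_inv_self := fun r hr a ha => by
      rw [Subgroup.mem_subgroupOf]
      change (z' r : Y) * a * z' r * a ∈ Z r
      rw [hz r hr]
      exact C.z_inv_self r hr a ha }

end Cfsg.Agent.Nodes.ClsMap
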