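import Mathlib
import Cfsg.Agent.Nodes.SubComb
import Cfsg.Agent.Nodes.PosPair

/-!
Coroot pairings for arbitrary roots (project CIT, charts).

* `cpr cs h x y` : `⟨x, y^∨⟩` for a root `y` (`0` if `y` is not a root); `cpr_eq`, `two_form_cpr`, `cpr_rep`,
  `cpr_self`, `cpr_neg_right`, `rep_rfl'_eq` (the reflection formula); `ell cs h y : (I → ℤ) →+ ℤ`.
-/

set_option autoImplicit false
set_option linter.unusedSectionVars false

namespace Cfsg.Agent.Nodes.Coroot

open CoxeterSystem Cfsg.Agent.ChevalleyStructure.CoxeterGeom Cfsg.Agent.Tits.Roots Cfsg.Agent.Tits.Core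
  Cfsg.Agent.Tits.RootComb Cfsg.Agent.Nodes.Comb Cfsg.Agent.Nodes.SubComb Cfsg.Agent.Nodes.PosPair

variable {I W : Type*} [Fintype I] [DecidableEq I] [Group W] {M : CoxeterMatrix I}
  (cs : CoxeterSystem M W) {A : I → I → ℤ} (h : IsCartan M A)

/-- The pairing `⟨x, y^∨⟩` with the coroot of the root `y`. -/
noncomputable def cpr (x y : I → ℤ) : ℤ := by
  classical
  exact if hy : IsRoot cs h y then
    pairing A (Classical.choose (Classical.choose_spec hy)) (rep cs h (Classical.choose hy)⁻¹ x) else 0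

/-- `2 (x, y) = ⟨x, y^∨⟩ (y, y)`. -/
theorem two_form_cpr [Fintype W] (x : I → ℤ) {y : I → ℤ} (hy : IsRoot cs h y) :
    2 * form cs h x y = cpr cs h x y * form cs h y y := by
  unfold cpr
  rw [dif_pos hy]
  have h1 := Classical.choose_spec (Classical.choose_spec hy)
  set w := Classical.choose hy
  set i := Classical.choose (Classical.choose_spec hy)
  have h2 := two_form cs h i (rep cs h w⁻¹ x)
  have h3 : form cs h x y = form cs h (rep cs h w⁻¹ x) (sr i) := by
    conv_lhs => rw [h1]
    rw [form_rep_left, inv_inv]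
  have h4 : form cs h y y = form cs h (sr i) (sr i) := by
    conv_lhs => rw [h1]
    rw [form_rep]
  rw [h3, h4, h2]

/-- Characterisation of `cpr`. -/
theorem cpr_eq_of_form [Fintype W] {x y : I → ℤ} (hy : IsRoot cs h y) {c : ℤ}
    (hc : 2 * form cs h x y = c * form cs h y y) : cpr cs h x y = c := by
  rw [two_form_cpr cs h x hy] at hc
  exact mul_right_cancel₀ (form_pos cs h hy.ne_zero).ne' hc

theorem cpr_rep_sr [Finite W] (x : I → ℤ) (w : W) (i : I) :
    cpr cs h x (rep cs h w (sr i)) = pairing A i (rep cs h w⁻¹ x) := by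
  have := Fintype.ofFinite W
  apply cpr_eq_of_form cs h ⟨w, i, rfl⟩
  rw [form_rep, ← two_form, form_rep_left, inv_inv]

theorem cpr_sr [Finite W] (x : I → ℤ) (i : I) : cpr cs h x (sr i) = pairing A i x := by
  have := cpr_rep_sr cs h x 1 i
  rwa [map_one, Module.End.one_apply, inv_one, map_one, Module.End.one_apply] at this

theorem cpr_self [Finite W] {x : I → ℤ} (hx : IsRoot cs h x) : cpr cs h x x = 2 := by
  have := Fintype.ofFinite W
  exact cpr_eq_of_form cs h hx rfl

theorem cpr_add [Finite W] (x x' : I → ℤ) {y : I → ℤ} (hy : IsRoot cs h y) :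
    cpr cs h (x + x') y = cpr cs h x y + cpr cs h x' y := by
  have := Fintype.ofFinite W
  apply cpr_eq_of_form cs h hy
  rw [form_add_left, mul_add, two_form_cpr cs h x hy, two_form_cpr cs h x' hy, add_mul]

theorem cpr_smul [Finite W] (m : ℤ) (x : I → ℤ) {y : I → ℤ} (hy : IsRoot cs h y) :
    cpr cs h (m • x) y = m * cpr cs h x y := by
  have := Fintype.ofFinite W
  apply cpr_eq_of_form cs h hy
  rw [form_smul_left, mul_left_comm, two_form_cpr cs h x hy, mul_assoc]

theorem cpr_neg [Finite W] (x : I → ℤ) {y : I → ℤ} (hy : IsRoot cs h y) :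
    cpr cs h (-x) y = -cpr cs h x y := by
  have := cpr_smul cs h (-1) x hy
  rwa [neg_one_smul, neg_one_mul] at this

theorem cpr_neg_right [Finite W] (x : I → ℤ) {y : I → ℤ} (hy : IsRoot cs h y) :
    cpr cs h x (-y) = -cpr cs h x y := by
  have := Fintype.ofFinite W
  apply cpr_eq_of_form cs h hy.neg
  rw [form_neg_right, form_neg_right, form_neg_left, neg_neg, neg_mul, ← two_form_cpr cs h x hy, mul_neg]

theorem cpr_rep [Finite W] (w : W) (x : I → ℤ) {y : I → ℤ} (hy : IsRoot cs h y) :
    cpr cs h (rep cs h w x) (rep cs h w y) = cpr cs h x y := by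
  have := Fintype.ofFinite W
  apply cpr_eq_of_form cs h (hy.act w)
  rw [form_rep, form_rep, two_form_cpr cs h x hy]

/-- The signs of `⟨x, y^∨⟩` and of `(x, y)` agree. -/
theorem cpr_pos_iff [Fintype W] (x : I → ℤ) {y : I → ℤ} (hy : IsRoot cs h y) :
    0 < cpr cs h x y ↔ 0 < form cs h x y := by
  have h1 := two_form_cpr cs h x hy
  have h2 := form_pos cs h hy.ne_zero
  constructor
  · intro h3
    have := mul_pos h3 h2
    linarith
  · intro h3
    by_contra h4
    have := mul_nonpos_of_nonpos_of_nonneg (not_lt.1 h4) h2.le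
    linarith

theorem cpr_zero_iff [Fintype W] (x : I → ℤ) {y : I → ℤ} (hy : IsRoot cs h y) :
    cpr cs h x y = 0 ↔ form cs h x y = 0 := by
  have h1 := two_form_cpr cs h x hy
  have h2 := form_pos cs h hy.ne_zero
  constructor
  · intro h3
    rw [h3, zero_mul] at h1
    linarith
  · intro h3
    rw [h3, mul_zero] at h1
    exact (mul_eq_zero.1 h1.symm).resolve_right h2.ne'

theorem cpr_zero_comm [Finite W] {x y : I → ℤ} (hx : IsRoot cs h x) (hy : IsRoot cs h y) :
    cpr cs h x y = 0 ↔ cpr cs h y x = 0 := by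
  have := Fintype.ofFinite W
  rw [cpr_zero_iff cs h x hy, cpr_zero_iff cs h y hx, form_comm]

/-- The reflection in the root `y = w α_i`. -/
theorem rep_rfl'_eq [Finite W] (w : W) (i : I) (x : I → ℤ) :
    rep cs h (rfl' cs w i) x = x - cpr cs h x (rep cs h w (sr i)) • rep cs h w (sr i) := by
  rw [rep_rfl', rf_apply, fn_apply, cpr_rep_sr]

/-- `s_y x` is a root. -/
theorem isRoot_refl [Finite W] {x y : I → ℤ} (hx : IsRoot cs h x) (hy : IsRoot cs h y) :
    IsRoot cs h (x - cpr cs h x y • y) := by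
  obtain ⟨w, i, rfl⟩ := hy
  rw [← rep_rfl'_eq]
  exact hx.act _

/-- The functional `⟨·, y^∨⟩`. -/
noncomputable def ell [Finite W] {y : I → ℤ} (hy : IsRoot cs h y) : (I → ℤ) →+ ℤ where
  toFun x := cpr cs h x y
  map_zero' := by
    have := cpr_smul cs h 0 0 hy
    rwa [zero_smul, zero_mul] at this
  map_add' x x' := cpr_add cs h x x' hy

theorem ell_apply [Finite W] {y : I → ℤ} (hy : IsRoot cs h y) (x : I → ℤ) : ell cs h hy x = cpr cs h x y := rfl

end Cfsg.Agent.Nodes.Coroot
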