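import Mathlib
import Cfsg.Agent.Nodes.Coroot
import Cfsg.Agent.Nodes.Sub
import Cfsg.Agent.Nodes.ZFam

/-!
Pair data of two arbitrary roots of a root group datum, from their Cartan numbers (project CIT, charts).

* `exists_std` : two non-proportional roots and all roots in their plane are moved into a standard rank two
  subsystem, the first one to a simple root;
* `base_of_cpr` : `⟨y,x^∨⟩ = -a`, `⟨x,y^∨⟩ = -b` with `(a,b) = (1,1), (1,2), (2,1), (1,3), (3,1)` (in the first case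
  without labels `6`) ⇒ `x`, `y` are a base of all roots in the plane;
* `pairData_of_cpr`, `pairData_three`, `pairData_four`, `pairData_four'`, `pairData_two`.
-/

set_option autoImplicit false
set_option linter.unusedSectionVars false

namespace Cfsg.Agent.Nodes.PairOf

open CoxeterSystem Cfsg.Agent.ChevalleyStructure.CoxeterGeom Cfsg.Agent.Tits.Roots Cfsg.Agent.Tits.Core
  Cfsg.Agent.Tits.RootComb Cfsg.Agent.Nodes.Comb Cfsg.Agent.Nodes.Reps Cfsg.Agent.Nodes.BNOf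
  Cfsg.Agent.Nodes.RGDLib Cfsg.Agent.Nodes.SubComb Cfsg.Agent.Nodes.Sub Cfsg.Agent.Nodes.PosPair
  Cfsg.Agent.Nodes.ZFam Cfsg.Agent.Nodes.Coroot
open scoped commutatorElement

variable {I W : Type*} [Fintype I] [DecidableEq I] [Group W] {M : CoxeterMatrix I}
  (cs : CoxeterSystem M W) {A : I → I → ℤ} (h : IsCartan M A)

/-! ### Reduction to a standard rank two subsystem -/

theorem exists_cyc_nat [Finite W] {i j : I} (hij : i ≠ j) {z : I → ℤ} (hz : IsRoot cs h z) (hs : Supp i j z) :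
    ∃ r : ℕ, 1 ≤ r ∧ r < 2 * M i j + 1 ∧ z = cyc cs h i j r := by
  rcases hz.pos_or_neg with h0 | h0
  · obtain ⟨k, hk1, hk2, rfl⟩ := exists_cyc_pos cs h hij hz hs h0
    obtain ⟨k', rfl⟩ := Int.eq_ofNat_of_zero_le (by omega : 0 ≤ k)
    exact ⟨k', by omega, by omega, rfl⟩
  · have hs' : Supp i j (-z) := fun m hmi hmj => by rw [Pi.neg_apply, hs m hmi hmj, neg_zero]
    obtain ⟨k, hk1, hk2, e⟩ := exists_cyc_pos cs h hij hz.neg hs' (neg_nonneg.2 h0)
    obtain ⟨k', rfl⟩ := Int.eq_ofNat_of_zero_le (by omega : 0 ≤ k)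
    refine ⟨k' + M i j, by omega, by omega, ?_⟩
    rw [Nat.cast_add, cyc_add_m cs h hij]
    rw [← e, neg_neg]

theorem exists_std [Finite W] {x y : I → ℤ} (hx : IsRoot cs h x) (hy : IsRoot cs h y) (hne : x ≠ y)
    (hne' : x ≠ -y) : ∃ (w : W) (i j : I), i ≠ j ∧ rep cs h w x = sr i ∧
      (∃ l : ℕ, 1 ≤ l ∧ l < 2 * M i j + 1 ∧ rep cs h w y = cyc cs h i j l) ∧
      ∀ z, IsRoot cs h z → ∀ m : ℤ, 0 < m → ∀ c d : ℤ, m • z = c • x + d • y →
        ∃ r : ℕ, 1 ≤ r ∧ r < 2 * M i j + 1 ∧ rep cs h w z = cyc cs h i j r := by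
  obtain ⟨w, i, j, hij, hsx, hsy⟩ := exists_plane cs h hx hy hne hne'
  obtain ⟨v, hv, k, hk, ek⟩ := exists_of_supp cs h (hx.act w) hsx
  have hux : rep cs h (v⁻¹ * w) x = sr k := by rw [rep_mul_apply, ek, rep_inv_apply]
  have key : ∀ z, Supp i j (rep cs h w z) → Supp i j (rep cs h (v⁻¹ * w) z) := by
    intro z hz
    rw [rep_mul_apply]
    exact supp_rep cs h (inv_mem hv) hz
  have key2 : ∀ z, ∀ m : ℤ, 0 < m → ∀ c d : ℤ, m • z = c • x + d • y → Supp i j (rep cs h w z) := by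
    intro z m hm c d e q hqi hqj
    have h1 := congrFun (congrArg (rep cs h w) e) q
    rw [map_add, map_smul, map_smul, map_smul, Pi.add_apply, Pi.smul_apply, Pi.smul_apply, Pi.smul_apply,
      hsx q hqi hqj, hsy q hqi hqj, smul_zero, smul_zero, add_zero, smul_eq_mul] at h1
    rcases mul_eq_zero.1 h1 with h2 | h2
    · omega
    · exact h2
  rcases hk with rfl | rfl
  · refine ⟨v⁻¹ * w, k, j, hij, hux, exists_cyc_nat cs h hij (hy.act _) (key y hsy), ?_⟩
    intro z hz m hm c d e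
    exact exists_cyc_nat cs h hij (hz.act _) (key z (key2 z m hm c d e))
  · have hsym : ∀ z : I → ℤ, Supp i k z → Supp k i z := fun z hz q hq1 hq2 => hz q hq2 hq1
    refine ⟨v⁻¹ * w, k, i, hij.symm, hux, exists_cyc_nat cs h hij.symm (hy.act _) (hsym _ (key y hsy)), ?_⟩
    intro z hz m hm c d e
    exact exists_cyc_nat cs h hij.symm (hz.act _) (hsym _ (key z (key2 z m hm c d e)))

/-! ### The table -/

/-- The root `r` is a combination of `α_i` and the root `l` with coefficients of one sign. -/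
def Col (a0 b0 : ℤ) (l r : ℕ) : Prop :=
  (0 ≤ (co a0 b0 r).1 - (co a0 b0 r).2 * (co a0 b0 l).2 * (co a0 b0 l).1 ∧
    0 ≤ (co a0 b0 r).2 * (co a0 b0 l).2) ∨
  ((co a0 b0 r).1 - (co a0 b0 r).2 * (co a0 b0 l).2 * (co a0 b0 l).1 ≤ 0 ∧
    (co a0 b0 r).2 * (co a0 b0 l).2 ≤ 0)

instance (a0 b0 : ℤ) (l r : ℕ) : Decidable (Col a0 b0 l r) := by unfold Col; infer_instance

/-- The root `l` and `α_i` have the Cartan numbers `-a`, `-b`. -/
def CNum (a0 b0 a b : ℤ) (l : ℕ) : Prop :=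
  1 ≤ l ∧ co a0 b0 l ≠ (1, 0) ∧ co a0 b0 l ≠ (-1, 0) ∧
    2 * (co a0 b0 l).1 - a0 * (co a0 b0 l).2 = -a ∧
    b * (b0 * ((co a0 b0 l).1 * (co a0 b0 l).1) - a0 * b0 * ((co a0 b0 l).1 * (co a0 b0 l).2) +
      a0 * ((co a0 b0 l).2 * (co a0 b0 l).2)) = a * b0

instance (a0 b0 a b : ℤ) (l : ℕ) : Decidable (CNum a0 b0 a b l) := by unfold CNum; infer_instance

/-- The table for the base property. -/
def Tab2 (m : ℕ) (a0 b0 a b : ℤ) : Prop :=
  ∀ l, l < 2 * m + 1 → CNum a0 b0 a b l →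
    ((co a0 b0 l).2 = 1 ∨ (co a0 b0 l).2 = -1) ∧ ∀ r, r < 2 * m + 1 → Col a0 b0 l r

instance (m : ℕ) (a0 b0 a b : ℤ) : Decidable (Tab2 m a0 b0 a b) := by unfold Tab2; infer_instance

/-- The admissible pairs of Cartan numbers. -/
def Adm (M : CoxeterMatrix I) (a b : ℤ) : Prop :=
  (a = 1 ∧ b = 1 ∧ ∀ i j, M i j ≠ 6) ∨ (a = 1 ∧ b = 2) ∨ (a = 2 ∧ b = 1) ∨ (a = 1 ∧ b = 3) ∨ (a = 3 ∧ b = 1)

omit [Fintype I] [DecidableEq I] in
theorem tab2 {a b : ℤ} (hab : Adm M a b) (h : IsCartan M A) {i j : I} (hij : i ≠ j) :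
    Tab2 (M i j) (-A i j) (-A j i) a b := by
  rcases h.rel i j hij with ⟨h0, h1, h2⟩ | ⟨h0, h1, h2⟩ | ⟨h0, ⟨h1, h2⟩ | ⟨h1, h2⟩⟩ | ⟨h0, ⟨h1, h2⟩ | ⟨h1, h2⟩⟩ <;>
    rw [h0, h1, h2] <;>
    rcases hab with ⟨rfl, rfl, h6⟩ | ⟨rfl, rfl⟩ | ⟨rfl, rfl⟩ | ⟨rfl, rfl⟩ | ⟨rfl, rfl⟩ <;>
    first
    | exact absurd h0 (h6 i j)
    | decide

/-- **Base criterion.** -/
theorem base_of_cpr [Finite W] {x y : I → ℤ} (hx : IsRoot cs h x) (hy : IsRoot cs h y) {a b : ℤ}
    (ha : cpr cs h y x = -a) (hb : cpr cs h x y = -b) (hab : Adm M a b) {z : I → ℤ} (hz : IsRoot cs h z)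
    {m c d : ℤ} (hm : 0 < m) (e : m • z = c • x + d • y) :
    ∃ s t : ℤ, z = s • x + t • y ∧ ((0 ≤ s ∧ 0 ≤ t) ∨ (s ≤ 0 ∧ t ≤ 0)) := by
  have := Fintype.ofFinite W
  have hab0 : 0 < a ∧ 0 < b := by
    rcases hab with ⟨rfl, rfl, -⟩ | ⟨rfl, rfl⟩ | ⟨rfl, rfl⟩ | ⟨rfl, rfl⟩ | ⟨rfl, rfl⟩ <;> decide
  have hne : x ≠ y := by
    rintro rfl
    rw [cpr_self cs h hx] at ha
    omega
  have hne2 : ∀ h0 : x = -y, a = 2 ∧ b = 2 := by
    intro h0
    have h1 := cpr_neg_right cs h y hy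
    rw [← h0, cpr_self cs h hy, ha] at h1
    have h2 := cpr_neg_right cs h x hx
    have h3 : -x = y := by rw [h0, neg_neg]
    rw [h3, hb, cpr_self cs h hx] at h2
    omega
  have hne' : x ≠ -y := by
    intro h0
    obtain ⟨h1, h2⟩ := hne2 h0
    rcases hab with ⟨rfl, rfl, -⟩ | ⟨rfl, rfl⟩ | ⟨rfl, rfl⟩ | ⟨rfl, rfl⟩ | ⟨rfl, rfl⟩ <;> omega
  obtain ⟨w, i, j, hij, hwx, ⟨l, hl1, hl2, hwy⟩, hall⟩ := exists_std cs h hx hy hne hne'
  obtain ⟨r, hr1, hr2, hwz⟩ := hall z hz m hm c d e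
  have hT := tab2 hab h hij l hl2
  have hyi := (cyc_apply cs h hij l).1
  have hyj := (cyc_apply cs h hij l).2
  have hyeq := cyc_eq cs h i j l
  have hzeq := cyc_eq cs h i j r
  -- `y''` is not `± α_i`
  have h1 : co (-A i j) (-A j i) l ≠ (1, 0) := by
    intro h0
    rw [h0] at hyeq
    apply hne
    apply rep_injective_apply cs h w
    rw [hwx, hwy, hyeq]
    module
  have h2 : co (-A i j) (-A j i) l ≠ (-1, 0) := by
    intro h0
    rw [h0] at hyeq
    apply hne'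
    apply rep_injective_apply cs h w
    rw [map_neg, hwx, hwy, hyeq]
    module
  -- the Cartan numbers
  set c' := (co (-A i j) (-A j i) l).1 with hc'
  set d' := (co (-A i j) (-A j i) l).2 with hd'
  have h3 : 2 * c' - (-A i j) * d' = -a := by
    have h4 := cpr_rep cs h w y hx
    rw [ha, hwx, cpr_sr, hwy, hyeq, pairing_add, pairing_smul, pairing_smul, pairing_sr', pairing_sr', h.diag] at h4
    linarith
  have hsym : A i j * form cs h (sr i) (sr i) = A j i * form cs h (sr j) (sr j) := by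
    have h4 := two_form cs h i (sr j)
    have h5 := two_form cs h j (sr i)
    rw [pairing_sr'] at h4 h5
    rw [← h4, ← h5, form_comm]
  have hyy : form cs h y y = c' * c' * form cs h (sr i) (sr i) + A i j * (c' * d') * form cs h (sr i) (sr i) +
      d' * d' * form cs h (sr j) (sr j) := by
    have h4 : form cs h y y = form cs h (cyc cs h i j l) (cyc cs h i j l) := by rw [← hwy, form_rep]
    have h5 := two_form cs h i (sr j)
    rw [pairing_sr'] at h5
    rw [h4, hyeq, form_add_left, form_add_right, form_add_right, form_smul_left, form_smul_right, form_smul_left,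
      form_smul_right, form_smul_left, form_smul_right, form_smul_left, form_smul_right,
      form_comm cs h (sr i) (sr j)]
    linear_combination (c' * d') * h5
  have hxx : form cs h x x = form cs h (sr i) (sr i) := by rw [← hwx, form_rep]
  have hrel : b * form cs h y y = a * form cs h x x := by
    have h4 := two_form_cpr cs h x hy
    have h5 := two_form_cpr cs h y hx
    rw [hb] at h4
    rw [ha, form_comm] at h5
    linarith
  have hFi := form_pos cs h (sr_ne_zero (I := I) i)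
  have h4 : b * ((-A j i) * (c' * c') - (-A i j) * (-A j i) * (c' * d') + (-A i j) * (d' * d')) = a * (-A j i) := by
    have h5 : form cs h (sr i) (sr i) * (b * ((-A j i) * (c' * c') - (-A i j) * (-A j i) * (c' * d') +
        (-A i j) * (d' * d'))) = form cs h (sr i) (sr i) * (a * (-A j i)) := by
      rw [hyy, hxx] at hrel
      linear_combination (-A j i) * hrel + (-(b * d' * d')) * hsym
    exact mul_left_cancel₀ hFi.ne' h5
  obtain ⟨hdd, hrr⟩ := hT ⟨hl1, h1, h2, h3, h4⟩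
  have h6 := hrr r hr2
  refine ⟨_, _, ?_, h6⟩
  apply rep_injective_apply cs h w
  rw [map_add, map_smul, map_smul, hwx, hwy, hwz, hzeq, hyeq]
  have hd2 : d' * d' = 1 := by
    rcases hdd with h7 | h7 <;> rw [h7] <;> norm_num
  rw [← hc', ← hd']
  have e1 : (co (-A i j) (-A j i) r).2 = (co (-A i j) (-A j i) r).2 * (d' * d') := by rw [hd2, mul_one]
  conv_lhs => rw [e1]
  module

/-! ### Rank two diagrams -/

/-- The Coxeter matrix of rank two with label `m`. -/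
def mat2 (m : ℕ) (hm : m ≠ 1) : CoxeterMatrix Bool where
  M := Matrix.of fun s t => if s = t then 1 else m
  isSymm := by
    ext s t
    simp only [Matrix.transpose_apply, Matrix.of_apply]
    by_cases hst : s = t
    · subst hst; rfl
    · rw [if_neg hst, if_neg (Ne.symm hst)]
  diagonal s := by simp
  off_diagonal s t hst := by
    simp only [Matrix.of_apply]
    rw [if_neg hst]
    exact hm

theorem mat2_apply (m : ℕ) (hm : m ≠ 1) : mat2 m hm false true = m := rfl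

/-- The Cartan matrix of rank two. -/
def car2 (a b : ℤ) : Bool → Bool → ℤ
  | false, false => 2
  | true, true => 2
  | false, true => -a
  | true, false => -b

theorem isCartan_car2 {m : ℕ} (hm : m ≠ 1) {a b : ℤ}
    (hab : (m = 2 ∧ a = 0 ∧ b = 0) ∨ (m = 3 ∧ a = 1 ∧ b = 1) ∨ (m = 4 ∧ ((a = 1 ∧ b = 2) ∨ (a = 2 ∧ b = 1))) ∨
      (m = 6 ∧ ((a = 1 ∧ b = 3) ∨ (a = 3 ∧ b = 1)))) : IsCartan (mat2 m hm) (car2 a b) := by
  refine ⟨fun s => by cases s <;> rfl, fun s t hst => ?_⟩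
  have e1 : mat2 m hm false true = m := rfl
  have e2 : mat2 m hm true false = m := rfl
  rcases s with _ | _ <;> rcases t with _ | _
  · exact absurd rfl hst
  · rw [e1]
    rcases hab with ⟨rfl, rfl, rfl⟩ | ⟨rfl, rfl, rfl⟩ | ⟨rfl, ⟨rfl, rfl⟩ | ⟨rfl, rfl⟩⟩ | ⟨rfl, ⟨rfl, rfl⟩ | ⟨rfl, rfl⟩⟩ <;>
      simp [car2]
  · rw [e2]
    rcases hab with ⟨rfl, rfl, rfl⟩ | ⟨rfl, rfl, rfl⟩ | ⟨rfl, ⟨rfl, rfl⟩ | ⟨rfl, rfl⟩⟩ | ⟨rfl, ⟨rfl, rfl⟩ | ⟨rfl, rfl⟩⟩ <;>
      simp [car2]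
  · exact absurd rfl hst

/-- The family of two roots. -/
def two (x y : I → ℤ) : Bool → (I → ℤ)
  | false => x
  | true => y

theorem iota_two (x y : I → ℤ) (c : Bool → ℤ) : iota (two x y) c = c false • x + c true • y := by
  rw [iota_apply, Fintype.sum_bool, add_comm]
  rfl

theorem subSys_two [Finite W] {x y : I → ℤ} (hx : IsRoot cs h x) (hy : IsRoot cs h y) {a b : ℤ}
    (ha : cpr cs h y x = -a) (hb : cpr cs h x y = -b) (hne : x ≠ y) (hne' : x ≠ -y) :
    ∃ w i, SubSys cs h (car2 a b) (two x y) w i := by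
  obtain ⟨wx, ix, ex⟩ := hx
  obtain ⟨wy, iy, ey⟩ := hy
  refine ⟨fun s => bif s then wy else wx, fun s => bif s then iy else ix, ⟨?_, ?_, ?_⟩⟩
  · rintro (_ | _)
    · exact ex
    · exact ey
  · rintro (_ | _) (_ | _)
    · change pairing A ix (rep cs h wx⁻¹ x) = 2
      rw [← cpr_rep_sr, ← ex, cpr_self cs h ⟨wx, ix, ex⟩]
    · change pairing A ix (rep cs h wx⁻¹ y) = -a
      rw [← cpr_rep_sr, ← ex, ha]
    · change pairing A iy (rep cs h wy⁻¹ x) = -b
      rw [← cpr_rep_sr, ← ey, hb]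
    · change pairing A iy (rep cs h wy⁻¹ y) = 2
      rw [← cpr_rep_sr, ← ey, cpr_self cs h ⟨wy, iy, ey⟩]
  · intro c hc
    rw [iota_two] at hc
    have h1 : c false = 0 := by
      by_contra h0
      rcases eq_or_eq_neg_of_smul cs h ⟨wx, ix, ex⟩ ⟨wy, iy, ey⟩ (b := -c true) h0
        (by rw [neg_smul]; exact eq_neg_of_add_eq_zero_left hc) with h2 | h2
      · exact hne h2
      · exact hne' h2
    rw [h1, zero_smul, zero_add] at hc
    have h2 : c true = 0 := by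
      by_contra h0
      exact (show IsRoot cs h y from ⟨wy, iy, ey⟩).ne_zero ((smul_eq_zero.1 hc).resolve_left h0)
    funext s
    cases s
    · exact h1
    · exact h2

variable {cs h} {Y : Type*} [Group Y] {p : ℕ} {T : Subgroup Y} {n : I → Y} {X : (I → ℤ) → Subgroup Y}

/-- The cyclic family of the plane spanned by `x` and `y`. -/
noncomputable def Zf {m : ℕ} (hm : m ≠ 1) {a b : ℤ} (h' : IsCartan (mat2 m hm) (car2 a b))
    (X : (I → ℤ) → Subgroup Y) (x y : I → ℤ) (k : ℤ) : Subgroup Y :=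
  X (iota (two x y) (cyc (mat2 m hm).toCoxeterSystem h' false true k))

theorem Zf_natCast {m : ℕ} (hm : m ≠ 1) {a b : ℤ} (h' : IsCartan (mat2 m hm) (car2 a b))
    (X : (I → ℤ) → Subgroup Y) (x y : I → ℤ) (k : ℕ) :
    Zf hm h' X x y k = X ((co a b k).1 • x + (co a b k).2 • y) := by
  unfold Zf
  rw [cyc_eq, map_add, map_smul, map_smul, iota_sr, iota_sr]
  simp only [two, car2, neg_neg]

/-- **The pair data of two roots from their Cartan numbers.** -/
theorem pairData_of_cpr [Finite W] (R : RGD cs h p T n X) {x y : I → ℤ} (hx : IsRoot cs h x) (hy : IsRoot cs h y)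
    {a b : ℤ} (ha : cpr cs h y x = -a) (hb : cpr cs h x y = -b) (hab : Adm M a b) {m : ℕ} (hm : m ≠ 1)
    (h' : IsCartan (mat2 m hm) (car2 a b)) :
    RootAmalgam.PairData m (X x) (X (-x)) (X y) (X (-y)) (Zf hm h' X x y) := by
  have hab0 : 0 < a ∧ 0 < b ∧ ¬ (a = 2 ∧ b = 2) := by
    rcases hab with ⟨rfl, rfl, -⟩ | ⟨rfl, rfl⟩ | ⟨rfl, rfl⟩ | ⟨rfl, rfl⟩ | ⟨rfl, rfl⟩ <;> decide
  have hne : x ≠ y := by
    rintro rfl
    rw [cpr_self cs h hx] at ha
    omega
  have hne' : x ≠ -y := by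
    intro h0
    have h1 := cpr_neg_right cs h y hy
    rw [← h0, cpr_self cs h hy, ha] at h1
    have h2 := cpr_neg_right cs h x hx
    have h3 : -x = y := by rw [h0, neg_neg]
    rw [h3, hb, cpr_self cs h hx] at h2
    omega
  obtain ⟨w, i, S⟩ := subSys_two cs h hx hy ha hb hne hne'
  have hbase : ∀ z, IsRoot cs h z → ∀ m : ℤ, 0 < m → ∀ c, m • z = iota (two x y) c →
      ∃ d, z = iota (two x y) d ∧ (0 ≤ d ∨ d ≤ 0) := by
    intro z hz m hm c e
    rw [iota_two] at e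
    obtain ⟨s, t, e1, e2⟩ := base_of_cpr cs h hx hy ha hb hab hz hm e
    refine ⟨fun u => bif u then t else s, ?_, ?_⟩
    · rw [iota_two]; exact e1
    · rcases e2 with ⟨h1, h2⟩ | ⟨h1, h2⟩
      · left; rintro (_ | _)
        · exact h1
        · exact h2
      · right; rintro (_ | _)
        · exact h1
        · exact h2
  choose g hg using fun v : W => exists_rp cs R.nsys v
  have hfin : Finite (mat2 m hm).Group := S.finite (mat2 m hm).toCoxeterSystem h'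
  have R' := rgd_sub (cs' := (mat2 m hm).toCoxeterSystem) (h' := h') R S (comm_of_base R S hbase)
    (g := fun j => g (w j)) (fun j => hg (w j))
  have P := pairData R' (show false ≠ true by decide)
  simp only [map_neg, iota_sr] at P
  exact P

/-- Type `A₂`. -/
theorem pairData_three [Finite W] (R : RGD cs h p T n X) (h6 : ∀ i j, M i j ≠ 6) {x y : I → ℤ}
    (hx : IsRoot cs h x) (hy : IsRoot cs h y) (ha : cpr cs h y x = -1) (hb : cpr cs h x y = -1) :
    ∃ Z, RootAmalgam.PairData 3 (X x) (X (-x)) (X y) (X (-y)) Z :=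
  ⟨_, pairData_of_cpr R hx hy ha hb (Or.inl ⟨rfl, rfl, h6⟩) (by decide)
    (isCartan_car2 _ (Or.inr (Or.inl ⟨rfl, rfl, rfl⟩)))⟩

/-- Type `B₂`, `x` long. -/
theorem pairData_four [Finite W] (R : RGD cs h p T n X) {x y : I → ℤ} (hx : IsRoot cs h x) (hy : IsRoot cs h y)
    (ha : cpr cs h y x = -1) (hb : cpr cs h x y = -2) :
    ∃ Z, RootAmalgam.PairData 4 (X x) (X (-x)) (X y) (X (-y)) Z :=
  ⟨_, pairData_of_cpr R hx hy ha hb (Or.inr (Or.inl ⟨rfl, rfl⟩)) (by decide)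
    (isCartan_car2 _ (Or.inr (Or.inr (Or.inl ⟨rfl, Or.inl ⟨rfl, rfl⟩⟩))))⟩

/-- Type `B₂`, `x` short. -/
theorem pairData_four' [Finite W] (R : RGD cs h p T n X) {x y : I → ℤ} (hx : IsRoot cs h x) (hy : IsRoot cs h y)
    (ha : cpr cs h y x = -2) (hb : cpr cs h x y = -1) :
    ∃ Z, RootAmalgam.PairData 4 (X x) (X (-x)) (X y) (X (-y)) Z :=
  ⟨_, pairData_of_cpr R hx hy ha hb (Or.inr (Or.inr (Or.inl ⟨rfl, rfl⟩))) (by decide)
    (isCartan_car2 _ (Or.inr (Or.inr (Or.inl ⟨rfl, Or.inr ⟨rfl, rfl⟩⟩))))⟩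

/-- Type `G₂`, `x` long. -/
theorem pairData_six [Finite W] (R : RGD cs h p T n X) {x y : I → ℤ} (hx : IsRoot cs h x) (hy : IsRoot cs h y)
    (ha : cpr cs h y x = -1) (hb : cpr cs h x y = -3) :
    ∃ Z, RootAmalgam.PairData 6 (X x) (X (-x)) (X y) (X (-y)) Z :=
  ⟨_, pairData_of_cpr R hx hy ha hb (Or.inr (Or.inr (Or.inr (Or.inl ⟨rfl, rfl⟩)))) (by decide)
    (isCartan_car2 _ (Or.inr (Or.inr (Or.inr ⟨rfl, Or.inl ⟨rfl, rfl⟩⟩))))⟩

/-- Type `G₂`, `x` short. -/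
theorem pairData_six' [Finite W] (R : RGD cs h p T n X) {x y : I → ℤ} (hx : IsRoot cs h x) (hy : IsRoot cs h y)
    (ha : cpr cs h y x = -3) (hb : cpr cs h x y = -1) :
    ∃ Z, RootAmalgam.PairData 6 (X x) (X (-x)) (X y) (X (-y)) Z :=
  ⟨_, pairData_of_cpr R hx hy ha hb (Or.inr (Or.inr (Or.inr (Or.inr ⟨rfl, rfl⟩)))) (by decide)
    (isCartan_car2 _ (Or.inr (Or.inr (Or.inr ⟨rfl, Or.inr ⟨rfl, rfl⟩⟩))))⟩

/-- The cyclic family of two orthogonal roots. -/
def Zo (X : (I → ℤ) → Subgroup Y) (x y : I → ℤ) (k : ℤ) : Subgroup Y :=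
  if k % 4 = 0 then X (-y) else if k % 4 = 1 then X x else if k % 4 = 2 then X y else X (-x)

/-- The `μ`-elements for an arbitrary root. -/
theorem exists_mu [Finite W] (R : RGD cs h p T n X) {x : I → ℤ} (hx : IsRoot cs h x) {a : Y} (ha : a ∈ X (-x))
    (hne : a ≠ 1) : ∃ u ∈ X x, ∃ v ∈ X x, ∀ z, IsRoot cs h z → cj (u * a * v) (X z) = X (z - cpr cs h z x • x) := by
  obtain ⟨w, i, rfl⟩ := hx
  obtain ⟨g, hg⟩ := exists_rp cs R.nsys w
  have h1 : g⁻¹ * a * g ∈ X (-sr i) := by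
    have := R.conj_mem' hg (show IsRoot cs h (-rep cs h w (sr i)) from (IsRoot.neg ⟨w, i, rfl⟩)) ha
    rwa [map_neg, rep_inv_apply] at this
  have h2 : g⁻¹ * a * g ≠ 1 := by
    intro h3
    apply hne
    have : a = g * (g⁻¹ * a * g) * g⁻¹ := by group
    rw [this, h3]; group
  obtain ⟨u, hu, t, ht, v, hv, e⟩ := R.rk1 i _ h1 h2
  refine ⟨g * u⁻¹ * g⁻¹, R.conj_mem hg (isRoot_sr cs h i) (inv_mem hu), g * v⁻¹ * g⁻¹,
    R.conj_mem hg (isRoot_sr cs h i) (inv_mem hv), fun z hz => ?_⟩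
  have h3 : g * u⁻¹ * g⁻¹ * a * (g * v⁻¹ * g⁻¹) = g * (t * n i) * g⁻¹ := by
    have : a = g * (g⁻¹ * a * g) * g⁻¹ := by group
    rw [this, e]; group
  have h4 : Rp cs R.nsys (rfl' cs w i) (g * (t * n i) * g⁻¹) := by
    have h5 := (hg.mul ((rp_of_mem (cs := cs) (hN := R.nsys) ht).mul (rp_simple cs R.nsys i))).mul hg.inv
    rwa [one_mul] at h5
  rw [h3, R.conj_rp h4 hz, rep_rfl'_eq]

theorem mem_iff_of_cj {g : Y} {P Q : Subgroup Y} (he : cj g P = Q) (z : Y) : g * z * g⁻¹ ∈ Q ↔ z ∈ P := by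
  rw [← he, conj_mem_cj]

/-- Type `A₁ × A₁`: orthogonal roots with commuting root groups. -/
theorem pairData_two [Finite W] (R : RGD cs h p T n X) {x y : I → ℤ} (hx : IsRoot cs h x) (hy : IsRoot cs h y)
    (ha : cpr cs h y x = 0) (hc : ∀ u ∈ X x, ∀ v ∈ X y, ⁅u, v⁆ = 1) :
    RootAmalgam.PairData 2 (X x) (X (-x)) (X y) (X (-y)) (Zo X x y) := by
  have hb : cpr cs h x y = 0 := (cpr_zero_comm cs h hy hx).1 ha
  have hxx := cpr_self cs h hx
  have hyy := cpr_self cs h hy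
  have f0 : ∀ k : ℤ, k % 4 = 0 → Zo X x y k = X (-y) := fun k hk => by unfold Zo; rw [if_pos hk]
  have f1 : ∀ k : ℤ, k % 4 = 1 → Zo X x y k = X x := fun k hk => by
    unfold Zo; rw [if_neg (by omega), if_pos hk]
  have f2 : ∀ k : ℤ, k % 4 = 2 → Zo X x y k = X y := fun k hk => by
    unfold Zo; rw [if_neg (by omega), if_neg (by omega), if_pos hk]
  have f3 : ∀ k : ℤ, k % 4 = 3 → Zo X x y k = X (-x) := fun k hk => by
    unfold Zo; rw [if_neg (by omega), if_neg (by omega), if_neg (by omega)]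
  have r1 : x - cpr cs h x x • x = -x := by rw [hxx]; module
  have r2 : y - cpr cs h y x • x = y := by rw [ha]; module
  have r3 : -x - cpr cs h (-x) x • x = x := by rw [cpr_neg cs h x hx, hxx]; module
  have r4 : -y - cpr cs h (-y) x • x = -y := by rw [cpr_neg cs h y hx, ha]; module
  have s1 : x - cpr cs h x y • y = x := by rw [hb]; module
  have s2 : y - cpr cs h y y • y = -y := by rw [hyy]; module
  have s3 : -x - cpr cs h (-x) y • y = -x := by rw [cpr_neg cs h x hy, hb]; module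
  have s4 : -y - cpr cs h (-y) y • y = y := by rw [cpr_neg cs h y hy, hyy]; module
  refine ⟨?_, f1 1 (by decide), f2 2 (by decide), f3 (2 + 1) (by decide), f0 0 (by decide), ?_, ?_, ?_⟩
  · intro k
    unfold Zo
    have : (k + 2 * (2 : ℕ)) % 4 = k % 4 := by push_cast; omega
    rw [this]
  · intro k l hk hkl hl u hu v hv
    have hk1 : k = 1 := by push_cast at hl; omega
    have hl2 : l = 2 := by push_cast at hl; omega
    subst hk1 hl2
    rw [f1 1 (by decide)] at hu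
    rw [f2 2 (by decide)] at hv
    rw [hc u hu v hv]
    exact one_mem _
  · intro a ha hne
    obtain ⟨u, hu, v, hv, hmap⟩ := exists_mu R hx ha hne
    refine ⟨u, hu, v, hv, fun k z => ?_⟩
    change u * a * v * z * (u * a * v)⁻¹ ∈ Zo X x y ((2 : ℕ) + 2 - k) ↔ z ∈ Zo X x y k
    push_cast
    have h4 : k % 4 = 0 ∨ k % 4 = 1 ∨ k % 4 = 2 ∨ k % 4 = 3 := by omega
    rcases h4 with h4 | h4 | h4 | h4
    · rw [f0 k h4, f0 _ (by omega)]
      exact mem_iff_of_cj (by rw [hmap _ hy.neg, r4]) z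
    · rw [f1 k h4, f3 _ (by omega)]
      exact mem_iff_of_cj (by rw [hmap _ hx, r1]) z
    · rw [f2 k h4, f2 _ (by omega)]
      exact mem_iff_of_cj (by rw [hmap _ hy, r2]) z
    · rw [f3 k h4, f1 _ (by omega)]
      exact mem_iff_of_cj (by rw [hmap _ hx.neg, r3]) z
  · intro a ha hne
    obtain ⟨u, hu, v, hv, hmap⟩ := exists_mu R hy ha hne
    refine ⟨u, hu, v, hv, fun k z => ?_⟩
    change u * a * v * z * (u * a * v)⁻¹ ∈ Zo X x y ((2 : ℕ) - k) ↔ z ∈ Zo X x y k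
    push_cast
    have h4 : k % 4 = 0 ∨ k % 4 = 1 ∨ k % 4 = 2 ∨ k % 4 = 3 := by omega
    rcases h4 with h4 | h4 | h4 | h4
    · rw [f0 k h4, f2 _ (by omega)]
      exact mem_iff_of_cj (by rw [hmap _ hy.neg, s4]) z
    · rw [f1 k h4, f1 _ (by omega)]
      exact mem_iff_of_cj (by rw [hmap _ hx, s1]) z
    · rw [f2 k h4, f0 _ (by omega)]
      exact mem_iff_of_cj (by rw [hmap _ hy, s2]) z
    · rw [f3 k h4, f3 _ (by omega)]
      exact mem_iff_of_cj (by rw [hmap _ hx.neg, s3]) z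

/-- Orthogonal roots with no root in the open cone have commuting root groups. -/
theorem comm_of_no_btwn (R : RGD cs h p T n X) {x y : I → ℤ} (hx : IsRoot cs h x)
    (hy : IsRoot cs h y) (hne : x ≠ y) (hne' : x ≠ -y) (hno : ∀ z, ¬ Btwn cs h x y z) :
    ∀ u ∈ X x, ∀ v ∈ X y, ⁅u, v⁆ = 1 := by
  intro u hu v hv
  have h1 := R.comm x y hx hy hne hne' u hu v hv
  have h2 : btw cs h X x y = ⊥ := by
    unfold Reps.btw
    rw [iSup_eq_bot]
    rintro ⟨z, hz⟩
    exact absurd hz (hno z)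
  rw [h2] at h1
  exact Subgroup.mem_bot.1 h1

/-! ### Roots between two orthogonal roots -/

/-- The root `r` lies strictly between `α_i` and the root `l` only if it is the sum or half the sum. -/
def Bt (a0 b0 : ℤ) (l r : ℕ) : Prop :=
  0 < (co a0 b0 r).2 * (co a0 b0 l).2 →
  0 < ((co a0 b0 r).1 * (co a0 b0 l).2 - (co a0 b0 r).2 * (co a0 b0 l).1) * (co a0 b0 l).2 →
    ((co a0 b0 r).1 = 1 + (co a0 b0 l).1 ∧ (co a0 b0 r).2 = (co a0 b0 l).2) ∨
      (2 * (co a0 b0 r).1 = 1 + (co a0 b0 l).1 ∧ 2 * (co a0 b0 r).2 = (co a0 b0 l).2)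

instance (a0 b0 : ℤ) (l r : ℕ) : Decidable (Bt a0 b0 l r) := by unfold Bt; infer_instance

/-- The root `l` is orthogonal to `α_i`. -/
def ONum (a0 b0 : ℤ) (l : ℕ) : Prop :=
  1 ≤ l ∧ co a0 b0 l ≠ (1, 0) ∧ co a0 b0 l ≠ (-1, 0) ∧ 2 * (co a0 b0 l).1 - a0 * (co a0 b0 l).2 = 0

instance (a0 b0 : ℤ) (l : ℕ) : Decidable (ONum a0 b0 l) := by unfold ONum; infer_instance

/-- The table for orthogonal roots. -/
def Tab3 (m : ℕ) (a0 b0 : ℤ) : Prop :=
  ∀ l, l < 2 * m + 1 → ONum a0 b0 l → ∀ r, r < 2 * m + 1 → Bt a0 b0 l r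

instance (m : ℕ) (a0 b0 : ℤ) : Decidable (Tab3 m a0 b0) := by unfold Tab3; infer_instance

/-- The same for labels `2`, `3`: nothing is between. -/
def Tab4 (m : ℕ) (a0 b0 : ℤ) : Prop :=
  ∀ l, l < 2 * m + 1 → ONum a0 b0 l → ∀ r, r < 2 * m + 1 →
      ¬ (0 < (co a0 b0 r).2 * (co a0 b0 l).2 ∧
        0 < ((co a0 b0 r).1 * (co a0 b0 l).2 - (co a0 b0 r).2 * (co a0 b0 l).1) * (co a0 b0 l).2)

instance (m : ℕ) (a0 b0 : ℤ) : Decidable (Tab4 m a0 b0) := by unfold Tab4; infer_instance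

omit [Fintype I] [DecidableEq I] in
theorem tab3 (h6 : ∀ i j, M i j ≠ 6) (h : IsCartan M A) {i j : I} (hij : i ≠ j) :
    Tab3 (M i j) (-A i j) (-A j i) := by
  rcases h.rel i j hij with ⟨h0, h1, h2⟩ | ⟨h0, h1, h2⟩ | ⟨h0, ⟨h1, h2⟩ | ⟨h1, h2⟩⟩ | ⟨h0, ⟨h1, h2⟩ | ⟨h1, h2⟩⟩ <;>
    first
    | exact absurd h0 (h6 i j)
    | (rw [h0, h1, h2]; decide)

omit [Fintype I] [DecidableEq I] in
theorem tab4 (h4 : ∀ i j, M i j ≠ 4) (h6 : ∀ i j, M i j ≠ 6) (h : IsCartan M A) {i j : I} (hij : i ≠ j) :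
    Tab4 (M i j) (-A i j) (-A j i) := by
  rcases h.rel i j hij with ⟨h0, h1, h2⟩ | ⟨h0, h1, h2⟩ | ⟨h0, ⟨h1, h2⟩ | ⟨h1, h2⟩⟩ | ⟨h0, ⟨h1, h2⟩ | ⟨h1, h2⟩⟩ <;>
    first
    | exact absurd h0 (h6 i j)
    | exact absurd h0 (h4 i j)
    | (rw [h0, h1, h2]; decide)

/-- Data of a root strictly between two orthogonal roots. -/
theorem between_std [Finite W] {x y : I → ℤ} (hx : IsRoot cs h x) (hy : IsRoot cs h y)
    (ha : cpr cs h y x = 0) {z : I → ℤ} (hz : Btwn cs h x y z) :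
    ∃ (w : W) (i j : I) (l r : ℕ), i ≠ j ∧ rep cs h w x = sr i ∧ rep cs h w y = cyc cs h i j l ∧
      rep cs h w z = cyc cs h i j r ∧ l < 2 * M i j + 1 ∧ r < 2 * M i j + 1 ∧ 1 ≤ l ∧
      co (-A i j) (-A j i) l ≠ (1, 0) ∧ co (-A i j) (-A j i) l ≠ (-1, 0) ∧
      2 * (co (-A i j) (-A j i) l).1 - (-A i j) * (co (-A i j) (-A j i) l).2 = 0 ∧
      0 < (co (-A i j) (-A j i) r).2 * (co (-A i j) (-A j i) l).2 ∧
      0 < ((co (-A i j) (-A j i) r).1 * (co (-A i j) (-A j i) l).2 -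
        (co (-A i j) (-A j i) r).2 * (co (-A i j) (-A j i) l).1) * (co (-A i j) (-A j i) l).2 := by
  have hne : x ≠ y := by
    rintro rfl
    rw [cpr_self cs h hx] at ha
    omega
  have hne' : x ≠ -y := by
    intro h0
    have h1 := cpr_neg_right cs h y hy
    rw [← h0, cpr_self cs h hy, ha] at h1
    omega
  obtain ⟨w, i, j, hij, hwx, ⟨l, hl1, hl2, hwy⟩, hall⟩ := exists_std cs h hx hy hne hne'
  obtain ⟨hzr, m, c, d, hm, hc, hd, e⟩ := hz
  obtain ⟨r, hr1, hr2, hwz⟩ := hall z hzr m hm c d e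
  have hyi := (cyc_apply cs h hij l).1
  have hyj := (cyc_apply cs h hij l).2
  have hzi := (cyc_apply cs h hij r).1
  have hzj := (cyc_apply cs h hij r).2
  have hyeq := cyc_eq cs h i j l
  set c' := (co (-A i j) (-A j i) l).1 with hc'
  set d' := (co (-A i j) (-A j i) l).2 with hd'
  set e' := (co (-A i j) (-A j i) r).1 with he'
  set f' := (co (-A i j) (-A j i) r).2 with hf'
  have h1 : co (-A i j) (-A j i) l ≠ (1, 0) := by
    intro h0
    have e1 : c' = 1 := by rw [hc', h0]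
    have e2 : d' = 0 := by rw [hd', h0]
    apply hne
    apply rep_injective_apply cs h w
    rw [hwx, hwy, hyeq, e1, e2]
    module
  have h2 : co (-A i j) (-A j i) l ≠ (-1, 0) := by
    intro h0
    have e1 : c' = -1 := by rw [hc', h0]
    have e2 : d' = 0 := by rw [hd', h0]
    apply hne'
    apply rep_injective_apply cs h w
    rw [map_neg, hwx, hwy, hyeq, e1, e2]
    module
  have h3 : 2 * c' - (-A i j) * d' = 0 := by
    have h4 := cpr_rep cs h w y hx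
    rw [ha, hwx, cpr_sr, hwy, hyeq, pairing_add, pairing_smul, pairing_smul, pairing_sr', pairing_sr', h.diag] at h4
    linarith
  -- coordinates of the relation
  have he2 := congrArg (rep cs h w) e
  rw [map_add, map_smul, map_smul, map_smul, hwx, hwy, hwz] at he2
  have ei := congrFun he2 i
  have ej := congrFun he2 j
  simp only [Pi.add_apply, Pi.smul_apply, smul_eq_mul, hyi, hyj, hzi, hzj, sr_self, sr_ne hij.symm] at ei ej
  have hd0 : d' ≠ 0 := by
    intro h0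
    rw [h0, mul_zero, sub_zero] at h3
    have hc0 : c' = 0 := by omega
    have h5 : rep cs h w y = 0 := by rw [hwy, hyeq, h0, hc0]; module
    exact (hy.act w).ne_zero h5
  have hdd : 0 < d' * d' := mul_self_pos.2 hd0
  refine ⟨w, i, j, l, r, hij, hwx, hwy, hwz, hl2, hr2, hl1, h1, h2, h3, ?_, ?_⟩
  · have h5 : m * (f' * d') = d * (d' * d') := by linear_combination d' * ej
    have h6 : 0 < m * (f' * d') := by rw [h5]; exact mul_pos hd hdd
    exact (mul_pos_iff_of_pos_left hm).1 h6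
  · have h5 : m * ((e' * d' - f' * c') * d') = c * (d' * d') := by
      linear_combination (d' * d') * ei - (c' * d') * ej
    have h6 : 0 < m * ((e' * d' - f' * c') * d') := by rw [h5]; exact mul_pos hc hdd
    exact (mul_pos_iff_of_pos_left hm).1 h6

/-- A root strictly between two orthogonal roots `x`, `y` is `x + y` or `(x + y) / 2` (no label `6`). -/
theorem eq_of_btwn_of_orth [Finite W] (h6 : ∀ i j, M i j ≠ 6) {x y : I → ℤ} (hx : IsRoot cs h x)
    (hy : IsRoot cs h y) (ha : cpr cs h y x = 0) {z : I → ℤ} (hz : Btwn cs h x y z) :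
    z = x + y ∨ (2 : ℤ) • z = x + y := by
  obtain ⟨w, i, j, l, r, hij, hwx, hwy, hwz, hl2, hr2, hl1, h1, h2, h3, h4, h5⟩ := between_std hx hy ha hz
  have hyeq := cyc_eq cs h i j l
  have hzeq := cyc_eq cs h i j r
  rcases tab3 h6 h hij l hl2 ⟨hl1, h1, h2, h3⟩ r hr2 h4 h5 with ⟨e1, e2⟩ | ⟨e1, e2⟩
  · left
    apply rep_injective_apply cs h w
    rw [map_add, hwx, hwy, hwz, hyeq, hzeq, e1, e2]
    module
  · right
    apply rep_injective_apply cs h w
    rw [map_add, map_smul, hwx, hwy, hwz, hyeq, hzeq, smul_add, smul_smul, smul_smul, e1, e2]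
    module

/-- No root is strictly between two orthogonal roots of a simply laced system. -/
theorem not_btwn_of_orth [Finite W] (h4 : ∀ i j, M i j ≠ 4) (h6 : ∀ i j, M i j ≠ 6) {x y : I → ℤ}
    (hx : IsRoot cs h x) (hy : IsRoot cs h y) (ha : cpr cs h y x = 0) (z : I → ℤ) : ¬ Btwn cs h x y z := by
  intro hz
  obtain ⟨w, i, j, l, r, hij, hwx, hwy, hwz, hl2, hr2, hl1, h1, h2, h3, h5, h7⟩ := between_std hx hy ha hz
  exact tab4 h4 h6 h hij l hl2 ⟨hl1, h1, h2, h3⟩ r hr2 ⟨h5, h7⟩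

/-- Orthogonal roots in a system without label `6`: the root groups commute if neither `x + y` nor
`(x + y) / 2` is a root. -/
theorem comm_of_orth [Finite W] (R : RGD cs h p T n X) (h6 : ∀ i j, M i j ≠ 6) {x y : I → ℤ} (hx : IsRoot cs h x)
    (hy : IsRoot cs h y) (ha : cpr cs h y x = 0) (h1 : ¬ IsRoot cs h (x + y))
    (h2 : ∀ z, IsRoot cs h z → (2 : ℤ) • z ≠ x + y) : ∀ u ∈ X x, ∀ v ∈ X y, ⁅u, v⁆ = 1 := by
  have hne : x ≠ y := by
    rintro rfl
    rw [cpr_self cs h hx] at ha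
    omega
  have hne' : x ≠ -y := by
    intro h0
    have h1 := cpr_neg_right cs h y hy
    rw [← h0, cpr_self cs h hy, ha] at h1
    omega
  refine comm_of_no_btwn R hx hy hne hne' fun z hz => ?_
  rcases eq_of_btwn_of_orth h6 hx hy ha hz with h3 | h3
  · exact h1 (h3 ▸ hz.1)
  · exact h2 z hz.1 h3

/-- Orthogonal roots in a simply laced system. -/
theorem comm_of_orth' [Finite W] (R : RGD cs h p T n X) (h4 : ∀ i j, M i j ≠ 4) (h6 : ∀ i j, M i j ≠ 6)
    {x y : I → ℤ} (hx : IsRoot cs h x) (hy : IsRoot cs h y) (ha : cpr cs h y x = 0) :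
    ∀ u ∈ X x, ∀ v ∈ X y, ⁅u, v⁆ = 1 := by
  have hne : x ≠ y := by
    rintro rfl
    rw [cpr_self cs h hx] at ha
    omega
  have hne' : x ≠ -y := by
    intro h0
    have h1 := cpr_neg_right cs h y hy
    rw [← h0, cpr_self cs h hy, ha] at h1
    omega
  exact comm_of_no_btwn R hx hy hne hne' (not_btwn_of_orth h4 h6 hx hy ha)

end Cfsg.Agent.Nodes.PairOf
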