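import Mathlib
import Cfsg.Prelude.Def_LieExceptional
import Cfsg.Agent.Nodes.Relations
/-!
NODES ⟹ BN-PAIR, part 5. The positive root groups generate a `p`-group, and `(B, N)` is a (B,N)-pair of
type `cs`.
-/

set_option autoImplicit false
set_option linter.unusedSectionVars false

namespace Cfsg.Agent.Nodes

open CoxeterSystem Cfsg.Agent.ChevalleyStructure.CoxeterGeom Cfsg.Agent.Tits.Roots
open Cfsg.Agent.Tits.Exchange Cfsg.Agent.Tits.Core
open scoped commutatorElement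

variable {I W : Type*} [Fintype I] [DecidableEq I] [Group W] {M : CoxeterMatrix I}
  {cs : CoxeterSystem M W} {A : I → I → ℤ} {h : IsCartan M A}

theorem finite_roots (cs : CoxeterSystem M W) (h : IsCartan M A) [Finite W] :
    {z | IsRoot cs h z}.Finite := by
  have h1 : {z | IsRoot cs h z} = Set.range (fun q : W × I => rep cs h q.1 (sr q.2)) := by
    ext z
    constructor
    · rintro ⟨w, i, rfl⟩; exact ⟨(w, i), rfl⟩
    · rintro ⟨⟨w, i⟩, rfl⟩; exact ⟨w, i, rfl⟩
  rw [h1]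
  exact Set.finite_range _

theorem simple_injective (cs : CoxeterSystem M W) (h : IsCartan M A) {i j : I}
    (hij : cs.simple i = cs.simple j) : i = j := by
  by_contra hne
  have h1 : rep cs h (cs.simple j) (sr i) = - sr i := by rw [← hij, rep_simple_sr]
  have h2 := rep_simple_apply cs h j (sr i) i hne
  rw [h1, Pi.neg_apply, sr_self] at h2
  omega

theorem mul_self_of_simple_comm (cs : CoxeterSystem M W) (h : IsCartan M A) {i j : I} (hij : i ≠ j)
    (hM : M i j ≠ 2) : cs.simple i * cs.simple j ≠ cs.simple j * cs.simple i := by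
  intro hc
  have h1 : rep cs h (cs.simple i) (rep cs h (cs.simple j) (sr i)) =
      rep cs h (cs.simple j) (rep cs h (cs.simple i) (sr i)) := by
    rw [← rep_mul_apply, ← rep_mul_apply, hc]
  have h2 := congrFun h1 j
  rw [rep_simple_apply cs h i _ j hij.symm, rep_simple_sr, map_neg, Pi.neg_apply,
    rep_simple_apply_self, sr_ne hij.symm] at h2
  have h3 : pairing A j (sr i) = A j i := by
    rw [show (sr i : I → ℤ) = Pi.single i 1 from rfl, pairing_single, mul_one]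
  rw [h3] at h2
  have h4 := cartan_neg h hij.symm (by rw [M.symmetric]; exact hM)
  omega

namespace Sys

variable {G : Type*} [Group G] (D : Sys cs h G)

theorem isPGroup_XX [Finite W] {p : ℕ} (hU : ∀ i, IsPGroup p (D.U i)) {x : I → ℤ}
    (hx : IsRoot cs h x) : IsPGroup p (D.XX x) := by
  obtain ⟨w, i, rfl⟩ := hx
  obtain ⟨g, -, hg⟩ := D.exists_lift w
  rintro ⟨a, ha⟩
  obtain ⟨k, hk⟩ := hU i ⟨_, (D.mem_XX hg i a).1 ha⟩
  refine ⟨k, Subtype.ext ?_⟩
  have h1 : (g⁻¹ * a * g) ^ p ^ k = 1 := congrArg Subtype.val hk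
  have h2 : (g⁻¹ * a * g) ^ p ^ k = g⁻¹ * a ^ p ^ k * g := by
    have := conj_pow (i := p ^ k) (a := g⁻¹) (b := a)
    rwa [inv_inv] at this
  rw [h2] at h1
  have h3 : a ^ p ^ k = g * (g⁻¹ * a ^ p ^ k * g) * g⁻¹ := by group
  show a ^ p ^ k = 1
  rw [h3, h1]; group

/-- the positive roots made negative by `w⁻¹` -/
def InvSet (cs : CoxeterSystem M W) (h : IsCartan M A) (w : W) : Set (I → ℤ) :=
  {z | IsRoot cs h z ∧ 0 ≤ z ∧ rep cs h w⁻¹ z ≤ 0}

theorem isPGroup_inv [Finite W] {p : ℕ} (hU : ∀ i, IsPGroup p (D.U i)) (m : ℕ) :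
    ∀ w : W, cs.length w = m → IsPGroup p ↥(⨆ z ∈ InvSet cs h w, D.XX z) := by
  induction m with
  | zero =>
    intro w hw
    have hw1 : w = 1 := cs.length_eq_zero_iff.1 hw
    subst hw1
    have hS : InvSet cs h (1 : W) = ∅ := by
      rw [Set.eq_empty_iff_forall_notMem]
      rintro z ⟨hz, h0, h1⟩
      rw [inv_one, map_one, Module.End.one_apply] at h1
      exact hz.ne_zero (le_antisymm h1 h0)
    rw [hS, show (⨆ z ∈ (∅ : Set (I → ℤ)), D.XX z) = ⊥ by simp]
    exact IsPGroup.of_bot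
  | succ m ih =>
    intro w hw
    have hw1 : w ≠ 1 := by
      rintro rfl
      rw [cs.length_one] at hw
      omega
    obtain ⟨i, hi⟩ := cs.exists_leftDescent_of_ne_one hw1
    have hi' : cs.length (cs.simple i * w) < cs.length w := hi
    have hlen : cs.length (cs.simple i * w) = m := by
      rcases cs.length_simple_mul w i with h1 | h1 <;> omega
    set v := cs.simple i * w with hv
    have hwv : w = cs.simple i * v := by rw [hv, ← mul_assoc, simple_mul_simple_self, one_mul]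
    have hinv : cs.length (w⁻¹ * cs.simple i) < cs.length w⁻¹ := by
      have h1 : (w⁻¹ * cs.simple i) = (cs.simple i * w)⁻¹ := by rw [mul_inv_rev, inv_simple]
      rw [h1, cs.length_inv, cs.length_inv]
      exact hi'
    have hneg : rep cs h w⁻¹ (sr i) ≤ 0 := nonpos_of_lt cs h _ i hinv
    set S := InvSet cs h w \ {sr i} with hSdef
    have hSr : ∀ z ∈ S, IsRoot cs h z ∧ 0 ≤ z ∧ z ≠ sr i := fun z hz => ⟨hz.1.1, hz.1.2.1, hz.2⟩
    have hmap : ∀ z ∈ S, rep cs h (cs.simple i) z ∈ InvSet cs h v := by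
      intro z hz
      have h1 := simple_mem (hSr z hz)
      refine ⟨h1.1, h1.2.1, ?_⟩
      rw [← rep_mul_apply]
      have h2 : v⁻¹ * cs.simple i = w⁻¹ := by
        rw [hv, mul_inv_rev, inv_simple, mul_assoc, simple_mul_simple_self, mul_one]
      rw [h2]
      exact hz.1.2.2
    have hK : IsPGroup p ↥(⨆ z ∈ S, D.XX z) := by
      have h1 : D.Lift (cs.simple i) (D.n i)⁻¹ := by
        have := (D.lift_simple i).inv
        rwa [inv_simple] at this
      rintro ⟨a, ha⟩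
      have h2 := D.conj_iSup_mem h1 (S' := InvSet cs h v) (fun z hz => (hSr z hz).1) hmap ha
      obtain ⟨k, hk⟩ := ih v hlen ⟨_, h2⟩
      refine ⟨k, Subtype.ext ?_⟩
      have h3 : ((D.n i)⁻¹ * a * (D.n i)⁻¹⁻¹) ^ p ^ k = 1 := congrArg Subtype.val hk
      rw [conj_pow] at h3
      have h4 : a ^ p ^ k = D.n i * ((D.n i)⁻¹ * a ^ p ^ k * (D.n i)⁻¹⁻¹) * (D.n i)⁻¹ := by group
      show a ^ p ^ k = 1
      rw [h4, h3]; group
    have hsr : sr i ∈ InvSet cs h w := ⟨isRoot_sr cs h i, sr_nonneg i, hneg⟩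
    have heq : (⨆ z ∈ InvSet cs h w, D.XX z) = D.XX (sr i) ⊔ ⨆ z ∈ S, D.XX z := by
      apply le_antisymm
      · refine iSup₂_le fun z hz => ?_
        by_cases hzx : z = sr i
        · rw [hzx]; exact le_sup_left
        · exact le_sup_of_le_right (le_iSup₂_of_le z ⟨hz, hzx⟩ le_rfl)
      · refine sup_le (le_iSup₂_of_le _ hsr le_rfl) (iSup₂_le fun z hz => ?_)
        exact le_iSup₂_of_le z hz.1 le_rfl
    rw [heq]
    have one_dir : ∀ u ∈ D.XX (sr i), (⨆ z ∈ S, D.XX z) ≤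
        (⨆ z ∈ S, D.XX z).comap (MulAut.conj u).toMonoidHom := by
      intro u hu
      refine iSup₂_le fun z hz b hb => ?_
      rw [Subgroup.mem_comap]
      simp only [MulEquiv.coe_toMonoidHom, MulAut.conj_apply]
      obtain ⟨hzr, hz0, hne⟩ := hSr z hz
      have hne2 : sr i ≠ -z := by
        intro h1
        have h2 := congrFun h1 i
        rw [sr_self, Pi.neg_apply] at h2
        have h3 := hz0 i
        simp only [Pi.zero_apply] at h3
        omega
      have h1 := D.comm (isRoot_sr cs h i) hzr hne.symm hne2 hu hb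
      have h2 : (⨆ w' ∈ Cone' cs h (sr i) z, D.XX w') ≤ ⨆ z ∈ S, D.XX z := by
        refine iSup₂_le fun w' hw' => ?_
        have h3 := cone_pos (isRoot_sr cs h i) hzr (sr_nonneg i) hz0 hne.symm hw'
        have h3' : w' ≠ sr i := by
          have hw2 : w' ∈ Cone' cs h z (sr i) := by
            obtain ⟨hr, e, c, d, he', hc, hd, he⟩ := hw'
            exact ⟨hr, e, d, c, he', hd, hc, by rw [he, add_comm]⟩
          exact (cone_pos hzr (isRoot_sr cs h i) hz0 (sr_nonneg i) hne hw2).2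
        refine le_iSup₂_of_le w' ⟨⟨hw'.1, h3.1, ?_⟩, h3'⟩ le_rfl
        obtain ⟨-, e, c, d, he', hc, hd, he⟩ := hw'
        have h5 : e • rep cs h w⁻¹ w' ≤ 0 := by
          rw [← map_smul, he, map_add, map_smul, map_smul]
          intro k
          have h6 := hneg k
          have h7 := hz.1.2.2 k
          simp only [Pi.zero_apply, Pi.add_apply, Pi.smul_apply, smul_eq_mul] at h6 h7 ⊢
          nlinarith
        intro k
        have h6 := h5 k
        simp only [Pi.zero_apply, Pi.smul_apply, smul_eq_mul] at h6 ⊢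
        exact nonpos_of_mul_nonpos_right h6 he'
      have h3 : u * b * u⁻¹ = ⁅u, b⁆ * b := by rw [commutatorElement_def]; group
      rw [h3]
      exact mul_mem (h2 h1) ((le_iSup₂_of_le z hz le_rfl : D.XX z ≤ _) hb)
    refine IsPGroup.to_sup_of_normal_right' (D.isPGroup_XX hU (isRoot_sr cs h i)) hK ?_
    intro u hu
    rw [Subgroup.mem_normalizer_iff]
    intro a
    constructor
    · intro ha
      have := one_dir u hu ha
      simpa using this
    · intro ha
      have := one_dir u⁻¹ (inv_mem hu) ha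
      rw [Subgroup.mem_comap] at this
      simp only [MulEquiv.coe_toMonoidHom, MulAut.conj_apply] at this
      have h2 : u⁻¹ * (u * a * u⁻¹) * u⁻¹⁻¹ = a := by group
      rwa [h2] at this

/-- An element of maximal length makes all positive roots negative. -/
theorem exists_longest (cs : CoxeterSystem M W) (h : IsCartan M A) [Finite W] :
    ∃ w : W, ∀ z, IsRoot cs h z → 0 ≤ z → rep cs h w⁻¹ z ≤ 0 := by
  obtain ⟨w, hw⟩ := Finite.exists_max cs.length
  refine ⟨w, fun z _ h0 => ?_⟩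
  have hneg : ∀ i, rep cs h w⁻¹ (sr i) ≤ 0 := by
    intro i
    refine nonpos_of_lt cs h _ i ?_
    have h1 : (w⁻¹ * cs.simple i) = (cs.simple i * w)⁻¹ := by rw [mul_inv_rev, inv_simple]
    rw [h1, cs.length_inv, cs.length_inv]
    have h2 := hw (cs.simple i * w)
    rcases cs.length_simple_mul w i with h3 | h3 <;> omega
  rw [rep_eq_sum cs h]
  refine Finset.sum_nonpos fun k _ => ?_
  intro j
  have h1 := hneg k j
  have h2 := h0 k
  simp only [Pi.zero_apply, Pi.smul_apply, smul_eq_mul] at h1 h2 ⊢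
  exact mul_nonpos_of_nonneg_of_nonpos h2 h1

/-- The positive root groups generate a `p`-group. -/
theorem isPGroup_UP [Finite W] {p : ℕ} (hU : ∀ i, IsPGroup p (D.U i)) : IsPGroup p ↥D.UP := by
  obtain ⟨w, hw⟩ := exists_longest cs h
  refine (D.isPGroup_inv hU _ w rfl).to_le ?_
  exact iSup₂_le fun z hz => le_iSup₂_of_le z (show z ∈ InvSet cs h w from ⟨hz.1, hz.2, hw z hz.1 hz.2⟩) le_rfl

/-- hypotheses for the (B,N)-pair -/
structure Good : Prop where
  gen : D.B ⊔ D.N = ⊤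
  rank_one : ∀ i, ∀ u ∈ D.U i, (∃ a ∈ D.U i, ∃ t ∈ D.H, D.n i * u * (D.n i)⁻¹ = a * t) ∨
    ∃ a ∈ D.U i, ∃ t ∈ D.H, ∃ b ∈ D.U i, D.n i * u * (D.n i)⁻¹ = a * t * D.n i * b
  moves : ∀ i, ∃ b ∈ D.B, D.n i * b * (D.n i)⁻¹ ∉ D.B

/-- `moves` from a `p`-group argument -/
theorem moves_of_isPGroup [Finite W] [Finite D.H] {p : ℕ} [Fact p.Prime]
    (hU : ∀ i, IsPGroup p (D.U i)) (hH : (Nat.card D.H).Coprime p)
    (hL : ∀ i, ¬ IsPGroup p ↥(D.U i ⊔ (D.U i).map (MulAut.conj (D.n i)).toMonoidHom)) (i : I) :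
    ∃ b ∈ D.B, D.n i * b * (D.n i)⁻¹ ∉ D.B := by
  by_contra hcon
  push Not at hcon
  have hP := D.isPGroup_UP hU
  -- a `p`-element of `B` lies in `UP`
  have key : ∀ b ∈ D.B, ∀ k : ℕ, b ^ p ^ k = 1 → b ∈ D.UP := by
    intro b hb k hk
    obtain ⟨t, ht, u, hu, rfl⟩ := D.mem_B.1 hb
    -- modulo `UP`: `(t u)^m ∈ t^m UP`
    have hpow : ∀ m : ℕ, ∃ v ∈ D.UP, (t * u) ^ m = t ^ m * v := by
      intro m
      induction m with
      | zero => exact ⟨1, one_mem _, by simp⟩
      | succ m ihm =>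
        obtain ⟨v, hv, hm⟩ := ihm
        refine ⟨(t⁻¹ * v * t⁻¹⁻¹) * u, mul_mem (D.H_UP (inv_mem ht) hv) hu, ?_⟩
        rw [pow_succ, hm, pow_succ]
        group
    obtain ⟨v, hv, hv2⟩ := hpow (p ^ k)
    rw [hk] at hv2
    have htv : t ^ p ^ k = v⁻¹ := eq_inv_of_mul_eq_one_left hv2.symm
    obtain ⟨m, hm⟩ := hP ⟨v⁻¹, inv_mem hv⟩
    have hm' : (v⁻¹) ^ p ^ m = 1 := congrArg Subtype.val hm
    have ht1 : t ^ p ^ (k + m) = 1 := by rw [pow_add, pow_mul, htv, hm']
    have ht2 : t ^ Nat.card D.H = 1 := by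
      have := pow_card_eq_one' (G := D.H) (x := ⟨t, ht⟩)
      exact congrArg Subtype.val this
    have ht3 : orderOf t = 1 := by
      have h1 := orderOf_dvd_of_pow_eq_one ht1
      have h2 := orderOf_dvd_of_pow_eq_one ht2
      exact Nat.eq_one_of_dvd_coprimes (hH.pow_right (k + m)) h2 h1
    have ht4 : t = 1 := orderOf_eq_one_iff.1 ht3
    rw [ht4, one_mul]
    exact hu
  apply hL i
  refine hP.to_le (sup_le (D.U_le_UP i) ?_)
  rintro _ ⟨u, hu, rfl⟩
  obtain ⟨k, hk⟩ := hU i ⟨u, hu⟩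
  have hk' : u ^ p ^ k = 1 := congrArg Subtype.val hk
  simp only [MulEquiv.coe_toMonoidHom, MulAut.conj_apply]
  refine key _ (hcon u (D.U_le_B i hu)) k ?_
  rw [conj_pow, hk']
  group

variable {D} (hD : D.Good)

include hD

/-- `s B w ⊆ B s w B` when `ℓ(s w) > ℓ(w)`. -/
theorem step_pos [Finite W] (i : I) {w : W} {g : G} (hg : D.Lift w g)
    (hlt : cs.length w < cs.length (cs.simple i * w)) {b : G} (hb : b ∈ D.B) :
    ∃ b1 ∈ D.B, ∃ b2 ∈ D.B, D.n i * b * g = b1 * (D.n i * g) * b2 := by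
  obtain ⟨r, hr, t, ht, u, hu, rfl⟩ := D.exists_rtu i hb
  refine ⟨(D.n i * r * (D.n i)⁻¹) * (D.n i * t * (D.n i)⁻¹),
    mul_mem (D.R_le_B i (D.n_R i hr)) (D.H_le_B ((D.nH i t).2 ht)), g⁻¹ * u * g, ?_, by group⟩
  have hpos : 0 ≤ rep cs h w⁻¹ (sr i) := by
    refine (lt_iff' cs h w⁻¹ i).1 ?_
    rw [← cs.length_inv w, ← cs.length_inv (cs.simple i * w), mul_inv_rev, inv_simple] at hlt
    exact hlt
  have h1 : g⁻¹ * u * g⁻¹⁻¹ ∈ D.XX (rep cs h w⁻¹ (sr i)) := by
    rw [D.XX_lift hg.inv (isRoot_sr cs h i), D.XX_sr]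
    exact hu
  rw [inv_inv] at h1
  exact D.UP_le_B (D.XX_le_UP ((isRoot_sr cs h i).act _) hpos h1)

/-- `B s B w ⊆ B w B ∪ B s w B`. -/
theorem step [Finite W] (i : I) {w : W} {g : G} (hg : D.Lift w g) {b : G} (hb : b ∈ D.B) :
    (∃ b1 ∈ D.B, ∃ b2 ∈ D.B, D.n i * b * g = b1 * (D.n i * g) * b2) ∨
      ∃ b1 ∈ D.B, ∃ b2 ∈ D.B, D.n i * b * g = b1 * g * b2 := by
  rcases cs.length_simple_mul w i with hlen | hlen
  · exact Or.inl (step_pos hD i hg (by omega) hb)
  · obtain ⟨r, hr, t, ht, u, hu, rfl⟩ := D.exists_rtu i hb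
    -- `n r t u g = (n r n⁻¹)(n t n⁻¹) (n u n⁻¹) (n g)`
    have hb0 : (D.n i * r * (D.n i)⁻¹) * (D.n i * t * (D.n i)⁻¹) ∈ D.B :=
      mul_mem (D.R_le_B i (D.n_R i hr)) (D.H_le_B ((D.nH i t).2 ht))
    have hsplit : D.n i * (r * t * u) * g = ((D.n i * r * (D.n i)⁻¹) * (D.n i * t * (D.n i)⁻¹)) *
        ((D.n i * u * (D.n i)⁻¹) * (D.n i * g)) := by group
    have hg2 : D.Lift (cs.simple i * w) (D.n i * g) := (D.lift_simple i).mul hg
    rcases hD.rank_one i u hu with ⟨a, ha, t', ht', he⟩ | ⟨a, ha, t', ht', c, hc, he⟩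
    · left
      refine ⟨(D.n i * r * (D.n i)⁻¹) * (D.n i * t * (D.n i)⁻¹) * (a * t'),
        mul_mem hb0 (mul_mem (D.U_le_B i ha) (D.H_le_B ht')), 1, one_mem _, ?_⟩
      rw [hsplit, he]
      group
    · right
      obtain ⟨b1, hb1, b2, hb2, h1⟩ := step_pos hD i hg2 (b := c) (by
        rw [← mul_assoc, simple_mul_simple_self, one_mul]; omega) (D.U_le_B i hc)
      -- `n i * n i * g = g * t2`
      have ht2 : g⁻¹ * (D.n i * D.n i) * g ∈ D.H := by
        have h2 : D.Lift w (D.n i * (D.n i * g)) := by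
          have := (D.lift_simple i).mul hg2
          rwa [← mul_assoc, simple_mul_simple_self, one_mul] at this
        have := hg.unique h2
        have h3 : g⁻¹ * (D.n i * (D.n i * g)) = g⁻¹ * (D.n i * D.n i) * g := by group
        rwa [h3] at this
      refine ⟨(D.n i * r * (D.n i)⁻¹) * (D.n i * t * (D.n i)⁻¹) * (a * t') * b1,
        mul_mem (mul_mem hb0 (mul_mem (D.U_le_B i ha) (D.H_le_B ht'))) hb1,
        g⁻¹ * (D.n i * D.n i) * g * b2, mul_mem (D.H_le_B ht2) hb2, ?_⟩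
      rw [hsplit, he]
      have h4 : a * t' * D.n i * c * (D.n i * g) = a * t' * (D.n i * c * (D.n i * g)) := by group
      rw [h4, h1]
      group

/-- `B ∩ N = H`. -/
theorem mem_H_of_mem_B [Finite W] {g : G} (hgB : g ∈ D.B) (hgN : g ∈ D.N) : g ∈ D.H := by
  obtain ⟨w, hw⟩ := D.exists_of_mem_N hgN
  by_cases hw1 : w = 1
  · subst hw1; exact D.lift_one_iff.1 hw
  exfalso
  have hw2 : w⁻¹ ≠ 1 := fun h1 => hw1 (inv_eq_one.1 h1)
  obtain ⟨i, hi⟩ := cs.exists_rightDescent_of_ne_one hw2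
  have hi' : cs.length (cs.simple i * w) < cs.length w := by
    have h1 : cs.length (w⁻¹ * cs.simple i) < cs.length w⁻¹ := hi
    rw [← cs.length_inv (w⁻¹ * cs.simple i), mul_inv_rev, inv_simple, inv_inv,
      cs.length_inv] at h1
    exact h1
  -- g = n i * g'
  set g' := (D.n i)⁻¹ * g with hg'
  have hlift : D.Lift (cs.simple i * w) g' := by
    have := (D.lift_simple i).inv.mul hw
    rwa [inv_simple] at this
  have hkey : ∀ b ∈ D.B, D.n i * b * g' ∈ D.B := by
    intro b hb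
    obtain ⟨b1, hb1, b2, hb2, h1⟩ := step_pos hD i hlift (b := b) (by
      rw [← mul_assoc, simple_mul_simple_self, one_mul]; exact hi') hb
    rw [h1, hg', mul_inv_cancel_left]
    exact mul_mem (mul_mem hb1 hgB) hb2
  obtain ⟨b, hb, hnot⟩ := hD.moves i
  apply hnot
  have h1 := hkey b hb
  have h2 := hkey 1 (one_mem _)
  have h3 : D.n i * b * (D.n i)⁻¹ = (D.n i * b * g') * (D.n i * 1 * g')⁻¹ := by group
  rw [h3]
  exact mul_mem h1 (inv_mem h2)

theorem n_not_mem_B [Finite W] (i : I) : D.n i ∉ D.B := by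
  intro h1
  obtain ⟨b, hb, hnot⟩ := hD.moves i
  exact hnot (mul_mem (mul_mem h1 hb) (inv_mem h1))

/-- The Coxeter group acts faithfully: `1` lifts only `1`. -/
theorem lift_one_ne [Finite W] {w : W} (hw1 : w ≠ 1) (hone : D.Lift w 1) : False := by
  obtain ⟨k, hk⟩ := cs.exists_rightDescent_of_ne_one hw1
  have hneg : rep cs h w (sr k) ≤ 0 := nonpos_of_lt cs h _ k hk
  obtain ⟨b, hb, hnot⟩ := hD.moves k
  apply hnot
  have hXX : ∀ z, IsRoot cs h z → D.XX (rep cs h w z) = D.XX z := by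
    intro z hz
    ext a
    have := D.XX_lift hone hz a
    simpa using this
  obtain ⟨r, hr, t, ht, u, hu, rfl⟩ := D.exists_rtu k hb
  have hu2 : D.n k * u * (D.n k)⁻¹ ∈ D.UP := by
    have h7 : D.n k * u * (D.n k)⁻¹ ∈ D.XX (rep cs h (cs.simple k) (sr k)) := by
      rw [D.XX_lift (D.lift_simple k) (isRoot_sr cs h k), D.XX_sr]; exact hu
    rw [← hXX _ ((isRoot_sr cs h k).act _)] at h7
    refine D.XX_le_UP (((isRoot_sr cs h k).act _).act _) ?_ h7
    rw [rep_simple_sr, map_neg]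
    exact neg_nonneg.2 hneg
  have h8 : D.n k * (r * t * u) * (D.n k)⁻¹ = (D.n k * r * (D.n k)⁻¹) *
      (D.n k * t * (D.n k)⁻¹) * (D.n k * u * (D.n k)⁻¹) := by group
  rw [h8]
  exact mul_mem (mul_mem (D.R_le_B k (D.n_R k hr)) (D.H_le_B ((D.nH k t).2 ht)))
    (D.UP_le_B hu2)

/-- The (B,N)-pair of a good system of nodes. -/
noncomputable def bnPair [Finite W] : Cfsg.BNPair G where
  B := D.B
  N := D.N
  S := Set.range D.n
  sup_eq_top := hD.gen
  conj_mem := by
    intro n hn t ht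
    have htH := mem_H_of_mem_B hD ht.1 ht.2
    obtain ⟨w, hw⟩ := D.exists_of_mem_N hn
    obtain ⟨hn', -⟩ := hw
    exact D.H_le_B ((Subgroup.mem_normalizer_iff.1 hn' t).1 htH)
  subset := by
    rintro _ ⟨i, rfl⟩
    exact D.n_mem_N i
  sq_mem := by
    rintro _ ⟨i, rfl⟩
    have := D.braid i i
    rw [M.diagonal, pow_one] at this
    exact D.H_le_B this
  inj := by
    rintro _ ⟨i, rfl⟩ _ ⟨j, rfl⟩ hij
    have h1 : (D.n i)⁻¹ * D.n j ∈ D.N := mul_mem (inv_mem (D.n_mem_N i)) (D.n_mem_N j)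
    have h2 := mem_H_of_mem_B hD hij h1
    have h3 : D.Lift (cs.simple j) (D.n i) := by
      have := (D.lift_simple j).mul_right (t := ((D.n i)⁻¹ * D.n j)⁻¹) (inv_mem h2)
      have h4 : D.n j * ((D.n i)⁻¹ * D.n j)⁻¹ = D.n i := by group
      rwa [h4] at this
    by_cases hne : i = j
    · rw [hne]
    · exfalso
      -- the image of `W` is faithful
      have hone : D.Lift ((cs.simple i)⁻¹ * cs.simple j) 1 := by
        have h5 := (D.lift_simple i).inv.mul h3
        rwa [inv_mul_cancel] at h5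
      have hw1 : (cs.simple i)⁻¹ * cs.simple j ≠ 1 := by
        intro h6
        exact hne (simple_injective cs h (inv_mul_eq_one.1 h6))
      exact lift_one_ne hD hw1 hone
  closure_sup := by
    apply le_antisymm
    · refine sup_le ?_ inf_le_right
      rw [Subgroup.closure_le]
      rintro _ ⟨i, rfl⟩
      exact D.n_mem_N i
    · refine sup_le ?_ le_sup_left
      exact (le_inf D.H_le_B D.H_le_N).trans le_sup_right
  mul_mem_union := by
    rintro _ ⟨i, rfl⟩ n hn b hb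
    obtain ⟨w, hw⟩ := D.exists_of_mem_N hn
    rcases step hD i hw hb with ⟨b1, hb1, b2, hb2, he⟩ | ⟨b1, hb1, b2, hb2, he⟩
    · left
      rw [DoubleCoset.mem_doubleCoset]
      exact ⟨b1, hb1, b2, hb2, he⟩
    · right
      rw [DoubleCoset.mem_doubleCoset]
      exact ⟨b1, hb1, b2, hb2, he⟩
  conj_ne := by
    rintro _ ⟨i, rfl⟩ heq
    obtain ⟨b, hb, hnot⟩ := hD.moves i
    apply hnot
    have h1 : D.n i * b * D.n i ∈ (D.B : Set G) := by
      rw [← heq]
      exact ⟨b, hb, rfl⟩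
    have h2 : D.n i * D.n i ∈ D.B := by
      have := D.braid i i
      rw [M.diagonal, pow_one] at this
      exact D.H_le_B this
    have h3 : D.n i * b * (D.n i)⁻¹ = (D.n i * b * D.n i) * (D.n i * D.n i)⁻¹ := by group
    rw [h3]
    exact mul_mem h1 (inv_mem h2)

theorem n_injective [Finite W] : Function.Injective D.n := by
  intro i j hij
  by_contra hne
  have h1 : D.Lift ((cs.simple i)⁻¹ * cs.simple j) 1 := by
    have h5 := (D.lift_simple i).inv.mul (D.lift_simple j)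
    rw [hij, inv_mul_cancel] at h5
    exact h5
  have hmem : (1 : G) ∈ D.H := one_mem _
  have hw1 : (cs.simple i)⁻¹ * cs.simple j ≠ 1 := by
    intro h6
    exact hne (simple_injective cs h (inv_mul_eq_one.1 h6))
  exact lift_one_ne hD hw1 h1

/-- the rank of the (B,N)-pair -/
theorem rank_bnPair [Finite W] : (bnPair hD).rank = Fintype.card I := by
  show Nat.card (Set.range D.n) = _
  rw [Nat.card_congr (Equiv.ofInjective D.n (n_injective hD)).symm, Nat.card_eq_fintype_card]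

/-- irreducibility -/
theorem irreducible_bnPair [Finite W]
    (hirr : ∀ J : Set I, J.Nonempty → Jᶜ.Nonempty → ∃ i ∈ J, ∃ j ∈ Jᶜ, M i j ≠ 2) :
    (bnPair hD).Irreducible := by
  intro J hJ hJne hJc
  have hS : (bnPair hD).S = Set.range D.n := rfl
  obtain ⟨i, hi, j, hj, hij⟩ := hirr {i | D.n i ∈ J} (by
    obtain ⟨s, hs⟩ := hJne
    obtain ⟨i, rfl⟩ := hJ hs
    exact ⟨i, hs⟩) (by
    obtain ⟨s, hs, hs2⟩ := hJc
    obtain ⟨i, rfl⟩ := hs
    exact ⟨i, hs2⟩)
  refine ⟨D.n i, hi, D.n j, ⟨⟨j, rfl⟩, hj⟩, fun hmem => ?_⟩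
  have hne : i ≠ j := by
    rintro rfl
    exact hj hi
  have hN : D.n i * D.n j * (D.n i)⁻¹ * (D.n j)⁻¹ ∈ D.N :=
    mul_mem (mul_mem (mul_mem (D.n_mem_N i) (D.n_mem_N j)) (inv_mem (D.n_mem_N i)))
      (inv_mem (D.n_mem_N j))
  have h1 := mem_H_of_mem_B hD hmem hN
  have h2 : D.Lift (cs.simple i * cs.simple j * (cs.simple i)⁻¹ * (cs.simple j)⁻¹)
      (D.n i * D.n j * (D.n i)⁻¹ * (D.n j)⁻¹) :=
    (((D.lift_simple i).mul (D.lift_simple j)).mul (D.lift_simple i).inv).mul (D.lift_simple j).inv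
  have h3 : D.Lift (cs.simple i * cs.simple j * (cs.simple i)⁻¹ * (cs.simple j)⁻¹) 1 := by
    have := h2.mul_right (inv_mem h1)
    rwa [mul_inv_cancel] at this
  have h4 : cs.simple i * cs.simple j * (cs.simple i)⁻¹ * (cs.simple j)⁻¹ ≠ 1 := by
    intro h5
    apply mul_self_of_simple_comm cs h hne hij
    have h6 := mul_inv_eq_one.1 h5
    have h7 := mul_inv_eq_iff_eq_mul.1 h6
    exact h7
  exact lift_one_ne hD h4 h3

end Sys

end Cfsg.Agent.Nodes
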