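import Mathlib
import Cfsg.Agent.Nodes.PairOf

/-!
Simply laced root systems (all labels `2`, `3`), Cartan numbers of arbitrary roots (project CIT).

* `abs_cpr_le_one` : `|⟨x, y^∨⟩| ≤ 1` for `x ≠ ± y`;
* `cpr_symm` : `⟨x, y^∨⟩ = ⟨y, x^∨⟩`;
* `two_smul_eq_sum` : a root with Cartan numbers `c i = ± 1` with four orthogonal roots `g i` is `(∑ c i g i) / 2`.
-/

set_option autoImplicit false
set_option linter.unusedSectionVars false

namespace Cfsg.Agent.Nodes.SimplyLaced

open CoxeterSystem Cfsg.Agent.ChevalleyStructure.CoxeterGeom Cfsg.Agent.Tits.Roots Cfsg.Agent.Tits.Core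
  Cfsg.Agent.Tits.RootComb Cfsg.Agent.Nodes.Comb Cfsg.Agent.Nodes.Reps Cfsg.Agent.Nodes.BNOf
  Cfsg.Agent.Nodes.RGDLib Cfsg.Agent.Nodes.SubComb Cfsg.Agent.Nodes.Sub Cfsg.Agent.Nodes.PosPair
  Cfsg.Agent.Nodes.ZFam Cfsg.Agent.Nodes.Coroot Cfsg.Agent.Nodes.PairOf

variable {I W : Type*} [Fintype I] [DecidableEq I] [Group W] {M : CoxeterMatrix I}
  (cs : CoxeterSystem M W) {A : I → I → ℤ} (h : IsCartan M A)

/-- The table. -/
def TabS (m : ℕ) (a0 b0 : ℤ) : Prop :=
  ∀ l, l < 2 * m + 1 → 1 ≤ l → co a0 b0 l ≠ (1, 0) → co a0 b0 l ≠ (-1, 0) →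
    |2 * (co a0 b0 l).1 - a0 * (co a0 b0 l).2| ≤ 1

instance (m : ℕ) (a0 b0 : ℤ) : Decidable (TabS m a0 b0) := by unfold TabS; infer_instance

omit [Fintype I] [DecidableEq I] in
theorem tabS (h4 : ∀ i j, M i j ≠ 4) (h6 : ∀ i j, M i j ≠ 6) (h : IsCartan M A) {i j : I} (hij : i ≠ j) :
    TabS (M i j) (-A i j) (-A j i) := by
  rcases h.rel i j hij with ⟨h0, h1, h2⟩ | ⟨h0, h1, h2⟩ | ⟨h0, ⟨h1, h2⟩ | ⟨h1, h2⟩⟩ | ⟨h0, ⟨h1, h2⟩ | ⟨h1, h2⟩⟩ <;>
    first
    | exact absurd h0 (h6 i j)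
    | exact absurd h0 (h4 i j)
    | (rw [h0, h1, h2]; decide)

theorem abs_cpr_le_one [Finite W] (h4 : ∀ i j, M i j ≠ 4) (h6 : ∀ i j, M i j ≠ 6) {x y : I → ℤ}
    (hx : IsRoot cs h x) (hy : IsRoot cs h y) (hne : x ≠ y) (hne' : x ≠ -y) : |cpr cs h x y| ≤ 1 := by
  have hne2 : y ≠ -x := fun e => hne' (by rw [e, neg_neg])
  obtain ⟨w, i, j, hij, hwx, ⟨l, hl1, hl2, hwy⟩, -⟩ := exists_std cs h hy hx hne.symm hne2
  have hyeq := cyc_eq cs h i j l
  have h1 : co (-A i j) (-A j i) l ≠ (1, 0) := by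
    intro h0
    rw [h0] at hyeq
    apply hne
    apply rep_injective_apply cs h w
    rw [hwx, hwy, hyeq]
    module
  have h2 : co (-A i j) (-A j i) l ≠ (-1, 0) := by
    intro h0
    rw [h0] at hyeq
    apply hne'
    apply rep_injective_apply cs h w
    rw [map_neg, hwx, hwy, hyeq]
    module
  have h3 := tabS h4 h6 h hij l hl2 hl1 h1 h2
  have h5 := cpr_rep cs h w x hy
  rw [hwx, cpr_sr, hwy, hyeq, pairing_add, pairing_smul, pairing_smul, pairing_sr', pairing_sr', h.diag] at h5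
  rw [← h5]
  have e : (co (-A i j) (-A j i) l).1 * 2 + (co (-A i j) (-A j i) l).2 * A i j =
      2 * (co (-A i j) (-A j i) l).1 - (-A i j) * (co (-A i j) (-A j i) l).2 := by ring
  rw [e]
  exact h3

/-- The Cartan numbers are symmetric. -/
theorem cpr_symm [Finite W] (h4 : ∀ i j, M i j ≠ 4) (h6 : ∀ i j, M i j ≠ 6) {x y : I → ℤ}
    (hx : IsRoot cs h x) (hy : IsRoot cs h y) : cpr cs h x y = cpr cs h y x := by
  have := Fintype.ofFinite W
  by_cases h1 : x = y
  · rw [h1]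
  by_cases h2 : x = -y
  · rw [h2, cpr_neg cs h y hy, cpr_self cs h hy, cpr_neg_right cs h y hy, cpr_self cs h hy]
  have e1 := abs_cpr_le_one cs h h4 h6 hx hy h1 h2
  have e2 := abs_cpr_le_one cs h h4 h6 hy hx (Ne.symm h1) (fun e => h2 (by rw [e, neg_neg]))
  rw [abs_le] at e1 e2
  have z1 := cpr_zero_comm cs h hx hy
  have p1 := cpr_pos_iff cs h x hy
  have p2 := cpr_pos_iff cs h y hx
  rw [form_comm, ← p1] at p2
  omega

/-- Roots which are not orthogonal have the same length. -/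
theorem form_self_eq [Fintype W] (h4 : ∀ i j, M i j ≠ 4) (h6 : ∀ i j, M i j ≠ 6) {x y : I → ℤ}
    (hx : IsRoot cs h x) (hy : IsRoot cs h y) (h0 : cpr cs h x y ≠ 0) : form cs h x x = form cs h y y := by
  have e1 := two_form_cpr cs h x hy
  have e2 := two_form_cpr cs h y hx
  rw [cpr_symm cs h h4 h6 hy hx, form_comm] at e2
  exact mul_left_cancel₀ h0 (e2.symm.trans e1)

omit [DecidableEq I] in
theorem eq_sum_sr [DecidableEq I] (x : I → ℤ) : x = ∑ k, x k • sr k := by
  funext j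
  simp [Finset.sum_apply, sr, Pi.single_apply]

/-- The Cartan numbers of an arbitrary vector with an arbitrary root from the pairings with the simple coroots. -/
theorem cpr_eq_sum [Finite W] (h4 : ∀ i j, M i j ≠ 4) (h6 : ∀ i j, M i j ≠ 6) (x : I → ℤ) {v : I → ℤ}
    (hv : IsRoot cs h v) : cpr cs h x v = ∑ k, x k * pairing A k v := by
  conv_lhs => rw [eq_sum_sr x]
  have key : ∀ s : Finset I, cpr cs h (∑ k ∈ s, x k • sr k) v = ∑ k ∈ s, x k * pairing A k v := by
    classical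
    intro s
    induction s using Finset.induction_on with
    | empty =>
      rw [Finset.sum_empty, Finset.sum_empty]
      have := cpr_smul cs h 0 0 hv
      rwa [zero_smul, zero_mul] at this
    | insert a s ha ih =>
      rw [Finset.sum_insert ha, Finset.sum_insert ha, cpr_add cs h _ _ hv, cpr_smul cs h _ _ hv, ih,
        cpr_symm cs h h4 h6 (isRoot_sr cs h a) hv, cpr_sr]
  exact key Finset.univ

/-- A simply laced Cartan matrix. -/
theorem cart_eq {I : Type*} [DecidableEq I] {M : CoxeterMatrix I} {A : I → I → ℤ} (h4 : ∀ i j, M i j ≠ 4)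
    (h6 : ∀ i j, M i j ≠ 6) (h : IsCartan M A) (i j : I) :
    A i j = if i = j then 2 else if M i j = 3 then -1 else 0 := by
  by_cases hij : i = j
  · rw [if_pos hij, hij, h.diag]
  · rw [if_neg hij]
    rcases h.rel i j hij with ⟨h0, h1, h2⟩ | ⟨h0, h1, h2⟩ | ⟨h0, -⟩ | ⟨h0, -⟩
    · rw [h0, if_neg (by decide), h1]
    · rw [h0, if_pos rfl, h1]
    · exact absurd h0 (h4 i j)
    · exact absurd h0 (h6 i j)

/-- A root not orthogonal to four pairwise orthogonal roots. -/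
theorem two_smul_eq_sum [Finite W] (h4 : ∀ i j, M i j ≠ 4) (h6 : ∀ i j, M i j ≠ 6) {x : I → ℤ}
    (hx : IsRoot cs h x) {g : Fin 4 → I → ℤ} (hg : ∀ i, IsRoot cs h (g i))
    (hgo : ∀ i j, i ≠ j → cpr cs h (g i) (g j) = 0) {c : Fin 4 → ℤ} (hc : ∀ i, cpr cs h x (g i) = c i)
    (hc1 : ∀ i, c i * c i = 1) : (2 : ℤ) • x = ∑ i, c i • g i := by
  have := Fintype.ofFinite W
  have hc0 : ∀ i, c i ≠ 0 := fun i e => by have := hc1 i; rw [e] at this; omega
  have hN : ∀ i, form cs h x x = form cs h (g i) (g i) := fun i =>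
    form_self_eq cs h h4 h6 hx (hg i) (by rw [hc i]; exact hc0 i)
  have hxg : ∀ i, 2 * form cs h x (g i) = c i * form cs h x x := by
    intro i
    rw [two_form_cpr cs h x (hg i), hc i, hN i]
  have hgg : ∀ i j, i ≠ j → form cs h (g i) (g j) = 0 := fun i j hij =>
    (cpr_zero_iff cs h (g i) (hg j)).1 (hgo i j hij)
  have key : form cs h ((2 : ℤ) • x - ∑ i, c i • g i) ((2 : ℤ) • x - ∑ i, c i • g i) = 0 := by
    simp only [Fin.sum_univ_four, sub_eq_add_neg, neg_add_rev, form_add_left, form_add_right, form_neg_left,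
      form_neg_right, form_smul_left, form_smul_right]
    have g01 := hgg 0 1 (by decide)
    have g02 := hgg 0 2 (by decide)
    have g03 := hgg 0 3 (by decide)
    have g12 := hgg 1 2 (by decide)
    have g13 := hgg 1 3 (by decide)
    have g23 := hgg 2 3 (by decide)
    have g10 := hgg 1 0 (by decide)
    have g20 := hgg 2 0 (by decide)
    have g30 := hgg 3 0 (by decide)
    have g21 := hgg 2 1 (by decide)
    have g31 := hgg 3 1 (by decide)
    have g32 := hgg 3 2 (by decide)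
    have c0 := hxg 0
    have c1 := hxg 1
    have c2 := hxg 2
    have c3 := hxg 3
    have s0 := form_comm cs h (g 0) x
    have s1 := form_comm cs h (g 1) x
    have s2 := form_comm cs h (g 2) x
    have s3 := form_comm cs h (g 3) x
    have n0 := hN 0
    have n1 := hN 1
    have n2 := hN 2
    have n3 := hN 3
    have q0 := hc1 0
    have q1 := hc1 1
    have q2 := hc1 2
    have q3 := hc1 3
    rw [s0, s1, s2, s3, g01, g02, g03, g12, g13, g23, g10, g20, g30, g21, g31, g32, ← n0, ← n1, ← n2, ← n3]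
    linear_combination (-2 * c 0) * c0 + (-2 * c 1) * c1 + (-2 * c 2) * c2 + (-2 * c 3) * c3 +
      (-form cs h x x) * q0 + (-form cs h x x) * q1 + (-form cs h x x) * q2 + (-form cs h x x) * q3
  by_contra hcon
  have h7 : (2 : ℤ) • x - ∑ i, c i • g i ≠ 0 := sub_ne_zero.2 hcon
  have h8 := form_pos cs h h7
  omega

/-- Roots with the same Cartan numbers `± 1` with four pairwise orthogonal roots are equal. -/
theorem eq_of_cpr [Finite W] (h4 : ∀ i j, M i j ≠ 4) (h6 : ∀ i j, M i j ≠ 6) {x y : I → ℤ}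
    (hx : IsRoot cs h x) (hy : IsRoot cs h y) {g : Fin 4 → I → ℤ} (hg : ∀ i, IsRoot cs h (g i))
    (hgo : ∀ i j, i ≠ j → cpr cs h (g i) (g j) = 0) (hc : ∀ i, cpr cs h x (g i) = cpr cs h y (g i))
    (hc1 : ∀ i, cpr cs h y (g i) * cpr cs h y (g i) = 1) : x = y := by
  have h1 := two_smul_eq_sum cs h h4 h6 hx hg hgo hc hc1
  have h2 := two_smul_eq_sum cs h h4 h6 hy hg hgo (fun _ => rfl) hc1
  have h3 : (2 : ℤ) • x = (2 : ℤ) • y := h1.trans h2.symm
  funext k
  have h5 := congrFun h3 k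
  simp only [Pi.smul_apply, smul_eq_mul] at h5
  omega

/-- Roots with the same signs of the Cartan numbers, all not zero, with four pairwise orthogonal roots. -/
theorem eq_of_sign [Finite W] (h4 : ∀ i j, M i j ≠ 4) (h6 : ∀ i j, M i j ≠ 6) {x y : I → ℤ}
    (hx : IsRoot cs h x) (hy : IsRoot cs h y) {g : Fin 4 → I → ℤ} (hg : ∀ i, IsRoot cs h (g i))
    (hgo : ∀ i j, i ≠ j → cpr cs h (g i) (g j) = 0)
    (hs : ∀ i, SignType.sign (cpr cs h x (g i)) = SignType.sign (cpr cs h y (g i)))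
    (h0 : ∀ i, cpr cs h y (g i) ≠ 0) : x = y := by
  have key : ∀ {v : I → ℤ}, IsRoot cs h v → (∀ i, cpr cs h v (g i) ≠ 0) → ∀ i,
      cpr cs h v (g i) = 1 ∨ cpr cs h v (g i) = -1 := by
    intro v hv hv0 i
    have hne : v ≠ g i := by
      rintro rfl
      obtain ⟨j, hj⟩ := exists_ne i
      exact hv0 j (hgo i j hj.symm)
    have hne' : v ≠ -g i := by
      rintro rfl
      obtain ⟨j, hj⟩ := exists_ne i
      refine hv0 j ?_
      rw [cpr_neg cs h _ (hg j), hgo i j hj.symm, neg_zero]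
    have e1 := abs_cpr_le_one cs h h4 h6 hv (hg i) hne hne'
    rw [abs_le] at e1
    have := hv0 i
    omega
  have h0x : ∀ i, cpr cs h x (g i) ≠ 0 := by
    intro i e
    have h1 := hs i
    rw [e, sign_zero] at h1
    exact h0 i (sign_eq_zero_iff.1 h1.symm)
  refine eq_of_cpr cs h h4 h6 hx hy hg hgo (fun i => ?_) (fun i => ?_)
  · have h1 := hs i
    rcases key hx h0x i with e | e <;> rcases key hy h0 i with e' | e' <;> rw [e, e'] at h1 ⊢ <;>
      first
      | rfl
      | exact absurd h1 (by decide)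
  · rcases key hy h0 i with e | e <;> rw [e] <;> norm_num

end Cfsg.Agent.Nodes.SimplyLaced
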