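import Mathlib
import Cfsg.Agent.Nodes.Comb

/-!
Orthogonal roots in an irreducible root system of rank at least three (project CIT, facts on charts).

* `three_nodes` : three nodes `i - j - k` of a finite crystallographic diagram: `i`, `k` are not joined, and the labels
  are `(3,3)`, `(3,4)` or `(4,3)`;
* `exists_orth` : irreducible, rank at least three: for every root `x` and every nonempty `W`-invariant set `R` of roots
  there is `r ∈ R` orthogonal to `x`.
-/

set_option autoImplicit false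
set_option linter.unusedSectionVars false

namespace Cfsg.Agent.Nodes.OrthRoot

open CoxeterSystem Cfsg.Agent.ChevalleyStructure.CoxeterGeom Cfsg.Agent.Tits.Roots Cfsg.Agent.Tits.Core
  Cfsg.Agent.Tits.RootComb Cfsg.Agent.Nodes.Comb

variable {I W : Type*} [Fintype I] [DecidableEq I] [Group W] [Fintype W] {M : CoxeterMatrix I}
  (cs : CoxeterSystem M W) {A : I → I → ℤ} (h : IsCartan M A)

theorem pairing_sr (i j : I) : pairing A i (sr j) = A i j := by
  rw [sr, pairing_single, mul_one]

theorem two_form_sr (i j : I) : 2 * form cs h (sr j) (sr i) = A i j * form cs h (sr i) (sr i) := by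
  rw [two_form, pairing_sr]

/-- The form of a combination of three simple roots. -/
theorem form_three (i j k : I) (a b c : ℤ) :
    form cs h (a • sr i + b • sr j + c • sr k) (a • sr i + b • sr j + c • sr k)
      = a * a * form cs h (sr i) (sr i) + b * b * form cs h (sr j) (sr j) + c * c * form cs h (sr k) (sr k)
        + a * b * (A i j * form cs h (sr i) (sr i)) + b * c * (A j k * form cs h (sr j) (sr j))
        + a * c * (A i k * form cs h (sr i) (sr i)) := by
  simp only [form_add_left, form_add_right, form_smul_left, form_smul_right]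
  rw [← two_form_sr cs h i j, ← two_form_sr cs h j k, ← two_form_sr cs h i k, form_comm cs h (sr i) (sr j),
    form_comm cs h (sr j) (sr k), form_comm cs h (sr i) (sr k)]
  ring

theorem three_ne_zero {i j k : I} (hij : i ≠ j) (hik : i ≠ k) {a b c : ℤ} (ha : a ≠ 0) :
    a • sr i + b • sr j + c • sr k ≠ (0 : I → ℤ) := by
  intro h0
  have h1 := congrFun h0 i
  simp only [Pi.add_apply, Pi.smul_apply, smul_eq_mul, sr_self, sr_ne hij, sr_ne hik, Pi.zero_apply] at h1
  exact ha (by linarith)

include cs h in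
/-- Three connected nodes. -/
theorem three_nodes {i j k : I} (hij : i ≠ j) (hjk : j ≠ k) (hik : i ≠ k) (h1 : M i j ≠ 2) (h2 : M j k ≠ 2) :
    M i k = 2 ∧ ((M i j = 3 ∧ M j k = 3) ∨ (M i j = 3 ∧ M j k = 4) ∨ (M i j = 4 ∧ M j k = 3)) := by
  have pi := form_pos cs h (sr_ne_zero i)
  have pj := form_pos cs h (sr_ne_zero j)
  have pk := form_pos cs h (sr_ne_zero k)
  have eij : A i j * form cs h (sr i) (sr i) = A j i * form cs h (sr j) (sr j) := by
    rw [← two_form_sr cs h i j, ← two_form_sr cs h j i, form_comm]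
  have ejk : A j k * form cs h (sr j) (sr j) = A k j * form cs h (sr k) (sr k) := by
    rw [← two_form_sr cs h j k, ← two_form_sr cs h k j, form_comm]
  have eik : A i k * form cs h (sr i) (sr i) = A k i * form cs h (sr k) (sr k) := by
    rw [← two_form_sr cs h i k, ← two_form_sr cs h k i, form_comm]
  have key : ∀ a b c : ℤ, a ≠ 0 → 0 < a * a * form cs h (sr i) (sr i) + b * b * form cs h (sr j) (sr j)
        + c * c * form cs h (sr k) (sr k)
        + a * b * (A i j * form cs h (sr i) (sr i)) + b * c * (A j k * form cs h (sr j) (sr j))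
        + a * c * (A i k * form cs h (sr i) (sr i)) := by
    intro a b c ha
    rw [← form_three]
    exact form_pos cs h (three_ne_zero hij hik ha)
  have k1 := key 2 3 2 (by norm_num)
  have k2 := key 1 1 1 (by norm_num)
  have k3 := key 1 2 1 (by norm_num)
  have k4 := key 1 2 2 (by norm_num)
  have k5 := key 2 2 1 (by norm_num)
  have k6 := key 1 2 3 (by norm_num)
  have k7 := key 3 2 1 (by norm_num)
  generalize form cs h (sr i) (sr i) = Li at *
  generalize form cs h (sr j) (sr j) = Lj at *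
  generalize form cs h (sr k) (sr k) = Lk at *
  rcases h.rel i j hij with ⟨m1, -, -⟩ | ⟨m1, a1, a2⟩ | ⟨m1, ⟨a1, a2⟩ | ⟨a1, a2⟩⟩ | ⟨m1, ⟨a1, a2⟩ | ⟨a1, a2⟩⟩
  · exact absurd m1 h1
  all_goals
    rcases h.rel j k hjk with ⟨m2, -, -⟩ | ⟨m2, b1, b2⟩ | ⟨m2, ⟨b1, b2⟩ | ⟨b1, b2⟩⟩ | ⟨m2, ⟨b1, b2⟩ | ⟨b1, b2⟩⟩
    · exact absurd m2 h2
    all_goals
      rcases h.rel i k hik with ⟨m3, c1, c2⟩ | ⟨m3, c1, c2⟩ | ⟨m3, ⟨c1, c2⟩ | ⟨c1, c2⟩⟩ | ⟨m3, ⟨c1, c2⟩ | ⟨c1, c2⟩⟩
      all_goals
        rw [a1] at k1 k2 k3 k4 k5 k6 k7 eij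
        rw [b1] at k1 k2 k3 k4 k5 k6 k7 ejk
        rw [c1] at k1 k2 k3 k4 k5 k6 k7 eik
        rw [a2] at eij
        rw [b2] at ejk
        rw [c2] at eik
        first
        | (exfalso; omega)
        | simp [m1, m2, m3]

/-- `s_i s_j α_i = α_j` for a simple bond. -/
theorem rep_bond {i j : I} (h1 : A i j = -1) (h2 : A j i = -1) :
    rep cs h (cs.simple i * cs.simple j) (sr i) = sr j := by
  have e : sr i - (-1 : ℤ) • sr j = sr i + (1 : ℤ) • (sr j : I → ℤ) := by module
  rw [rep_mul_apply, rep_simple_eq cs h j, pairing_sr, h2, e, rep_simple_eq cs h i, pairing_add, pairing_sr, h.diag,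
    pairing_smul, pairing_sr, h1]
  module

/-- In a double bond `{i, j}` the root `s_j α_i` is orthogonal to `α_i`. -/
theorem form_double {i j : I} (hij : i ≠ j) (hm : M i j = 4) :
    form cs h (sr i) (rep cs h (cs.simple j) (sr i)) = 0 := by
  have h1 := two_form_sr cs h j i
  have h2 := two_form_sr cs h i j
  rw [rep_simple_eq cs h j, pairing_sr, form_sub_right, form_smul_right]
  rcases h.rel i j hij with ⟨m1, -, -⟩ | ⟨m1, a1, a2⟩ | ⟨m1, ⟨a1, a2⟩ | ⟨a1, a2⟩⟩ | ⟨m1, ⟨a1, a2⟩ | ⟨a1, a2⟩⟩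
  all_goals
    first
    | (rw [m1] at hm; omega)
    | (rw [a2] at h1 ⊢; rw [a1] at h2; rw [form_comm cs h (sr j) (sr i)] at h2; linarith)

/-- **Orthogonal roots.** In an irreducible root system of rank at least three every `W`-invariant set of roots
contains a root orthogonal to a given root. -/
theorem exists_orth (hD : Diag M) {R : Set (I → ℤ)} (hR : ∀ r ∈ R, IsRoot cs h r)
    (hRact : ∀ r ∈ R, ∀ w, rep cs h w r ∈ R) {r₀ : I → ℤ} (hr₀ : r₀ ∈ R) {x : I → ℤ} (hx : IsRoot cs h x) :
    ∃ r ∈ R, form cs h x r = 0 := by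
  -- reduction to a conjugate of `x`
  have hconj : ∀ w : W, (∃ r ∈ R, form cs h (rep cs h w x) r = 0) → ∃ r ∈ R, form cs h x r = 0 := by
    rintro w ⟨r, hr, e⟩
    refine ⟨rep cs h w⁻¹ r, hRact r hr _, ?_⟩
    rw [← form_rep_left]; exact e
  have h3 : ∀ i j : I, i ≠ j → M i j = 3 → rep cs h (cs.simple i * cs.simple j) (sr i) = sr j := by
    intro i j hij hm
    rcases h.rel i j hij with ⟨m1, -, -⟩ | ⟨m1, a1, a2⟩ | ⟨m1, -⟩ | ⟨m1, -⟩
    · rw [m1] at hm; omega
    · exact rep_bond cs h a1 a2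
    · rw [m1] at hm; omega
    · rw [m1] at hm; omega
  -- the case of a node
  have hnode : ∀ i j k : I, i ≠ j → j ≠ k → i ≠ k → M i j ≠ 2 → M j k ≠ 2 → ∀ v : W, ∀ a, (a = i ∨ a = j) →
      rep cs h v x = sr a → ∀ b, (b = i ∨ b = j) → sr b ∈ R → ∃ r ∈ R, form cs h x r = 0 := by
    intro i j k hij hjk hik h1 h2 v a ha hva b hb hbR
    obtain ⟨hik2, hlab⟩ := three_nodes cs h hij hjk hik h1 h2
    have hik0 : form cs h (sr i) (sr k) = 0 := by
      have := two_form_sr cs h i k
      rw [cartan_zero h hik hik2, zero_mul, form_comm] at this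
      linarith
    -- all nodes of a simple bond
    have hto : ∀ l m : I, l ≠ m → M l m = 3 → ∀ w : W, rep cs h w x = sr l → ∃ w' : W, rep cs h w' x = sr m := by
      intro l m hlm hm w hw
      exact ⟨cs.simple l * cs.simple m * w, by rw [rep_mul_apply, hw, h3 l m hlm hm]⟩
    have htoR : ∀ l m : I, l ≠ m → M l m = 3 → sr l ∈ R → sr m ∈ R := by
      intro l m hlm hm hl
      rw [← h3 l m hlm hm]
      exact hRact _ hl _
    have hji : M j i = M i j := M.symmetric j i
    have hkj : M k j = M j k := M.symmetric k j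
    rcases hlab with ⟨l1, l2⟩ | ⟨l1, l2⟩ | ⟨l1, l2⟩
    · have hxi : ∃ w : W, rep cs h w x = sr i := by
        rcases ha with rfl | rfl
        · exact ⟨v, hva⟩
        · exact hto _ _ hij.symm (hji.trans l1) v hva
      obtain ⟨w, hw⟩ := hxi
      have hj : sr j ∈ R := by
        rcases hb with rfl | rfl
        · exact htoR _ _ hij l1 hbR
        · exact hbR
      exact hconj w ⟨sr k, htoR _ _ hjk l2 hj, by rw [hw]; exact hik0⟩
    · have hxj : ∃ w : W, rep cs h w x = sr j := by
        rcases ha with rfl | rfl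
        · exact hto _ _ hij l1 v hva
        · exact ⟨v, hva⟩
      obtain ⟨w, hw⟩ := hxj
      have hj : sr j ∈ R := by
        rcases hb with rfl | rfl
        · exact htoR _ _ hij l1 hbR
        · exact hbR
      exact hconj w ⟨_, hRact _ hj (cs.simple k), by rw [hw]; exact form_double cs h hjk l2⟩
    · rcases ha with rfl | rfl <;> rcases hb with rfl | rfl
      · exact hconj v ⟨_, hRact _ hbR (cs.simple j), by rw [hva]; exact form_double cs h hij l1⟩
      · exact hconj v ⟨sr k, htoR _ _ hjk l2 hbR, by rw [hva]; exact hik0⟩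
      · obtain ⟨w, hw⟩ := hto _ _ hjk l2 v hva
        exact hconj w ⟨_, hbR, by rw [hw, form_comm]; exact hik0⟩
      · exact hconj v ⟨_, hRact _ hbR (cs.simple i), by
          rw [hva]; exact form_double cs h hij.symm (hji.trans l1)⟩
  obtain ⟨v, a, hva⟩ := hx
  obtain ⟨v', b, hvb⟩ := hR r₀ hr₀
  have hxa : rep cs h v⁻¹ x = sr a := by rw [hva, rep_inv_apply]
  have hbR : sr b ∈ R := by
    have := hRact _ hr₀ v'⁻¹
    rwa [hvb, rep_inv_apply] at this
  -- two adjacent nodes containing `a`, `b`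
  have hpair : (a ≠ b ∧ M a b = 2) ∨ ∃ i j : I, i ≠ j ∧ M i j ≠ 2 ∧ (a = i ∨ a = j) ∧ (b = i ∨ b = j) := by
    by_cases hab : a = b
    · right
      subst hab
      obtain ⟨c, hc, j, hj, hm⟩ := hD.conn {a} (Set.singleton_nonempty a) (by
        intro e
        obtain ⟨k, hk, -⟩ := hD.three a a
        have : k ∈ ({a} : Set I) := by rw [e]; trivial
        exact hk this)
      rw [Set.mem_singleton_iff] at hc
      subst hc
      refine ⟨c, j, ?_, hm, Or.inl rfl, Or.inl rfl⟩
      rintro rfl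
      exact hj rfl
    · by_cases h2 : M a b = 2
      · exact Or.inl ⟨hab, h2⟩
      · exact Or.inr ⟨a, b, hab, h2, Or.inl rfl, Or.inr rfl⟩
  rcases hpair with ⟨hab, h2⟩ | ⟨i, j, hij, h2, ha, hb⟩
  · refine hconj v⁻¹ ⟨_, hbR, ?_⟩
    rw [hxa]
    have := two_form_sr cs h a b
    rw [cartan_zero h hab h2, zero_mul, form_comm] at this
    linarith
  · obtain ⟨c, hc, k, hk, hm⟩ := hD.conn {i, j} ⟨i, Set.mem_insert i _⟩ (by
      intro e
      obtain ⟨k, hk1, hk2⟩ := hD.three i j
      have : k ∈ ({i, j} : Set I) := by rw [e]; trivial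
      rcases this with h4 | h4
      · exact hk1 h4
      · exact hk2 h4)
    have hki : k ≠ i := fun e => hk (Or.inl e)
    have hkj : k ≠ j := fun e => hk (Or.inr e)
    have hji : M j i = M i j := M.symmetric j i
    rcases hc with rfl | hc
    · exact hnode j c k hij.symm hki.symm hkj.symm (by rw [hji]; exact h2) hm v⁻¹ a ha.symm hxa b hb.symm hbR
    · rw [Set.mem_singleton_iff] at hc
      subst hc
      exact hnode i c k hij hkj.symm hki.symm h2 hm v⁻¹ a ha hxa b hb hbR

end Cfsg.Agent.Nodes.OrthRoot
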