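import Cfsg.Agent.Nodes.Chart
import Cfsg.Agent.Nodes.OrthRoot
import Cfsg.Agent.Cit.Defs

/-!
# (S1) Lemma Z for chart groups (project CIT)

The graph on `Om ∩ L` (`L` a chart group), `K - J` iff `[z_K, z_J] = 1`, is connected as soon as every simple root
is classical with `X = Z` or is orthogonal to a classical root (`Cov`), e.g. if the rank is at least three
(`cov_of_diag`).
-/

set_option autoImplicit false
set_option linter.unusedSectionVars false
set_option linter.dupNamespace false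

namespace Cfsg.Agent.Nodes.StdConn

open CoxeterSystem Cfsg.Agent.ChevalleyStructure.CoxeterGeom Cfsg.Agent.Tits.Roots Cfsg.Agent.Tits.Core
  Cfsg.Agent.Tits.RootComb Cfsg.Agent.Nodes.Comb Cfsg.Agent.Nodes.Reps Cfsg.Agent.Nodes.BNOf
  Cfsg.Agent.Nodes.RGDLib Cfsg.Agent.Nodes.Chart
open Relation

/-! ### Abstract part -/

section Abstract

variable {G : Type*} [Group G]

/-- Two commuting elements of the set `S`. -/
def Cm (S : Set G) (a b : G) : Prop := a ∈ S ∧ b ∈ S ∧ a * b = b * a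

theorem Cm.symm {S : Set G} {a b : G} (h : Cm S a b) : Cm S b a := ⟨h.2.1, h.1, h.2.2.symm⟩

theorem reach_symm {S : Set G} {a b : G} (h : ReflTransGen (Cm S) a b) : ReflTransGen (Cm S) b a := by
  induction h with
  | refl => exact .refl
  | tail _ h2 ih => exact .head h2.symm ih

theorem Cm.conj {S : Set G} {g : G} (hg : ∀ a ∈ S, g * a * g⁻¹ ∈ S) {a b : G} (h : Cm S a b) :
    Cm S (g * a * g⁻¹) (g * b * g⁻¹) := by
  refine ⟨hg a h.1, hg b h.2.1, ?_⟩
  calc g * a * g⁻¹ * (g * b * g⁻¹) = g * (a * b) * g⁻¹ := by group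
    _ = g * b * g⁻¹ * (g * a * g⁻¹) := by rw [h.2.2]; group

theorem reach_conj {S : Set G} {g : G} (hg : ∀ a ∈ S, g * a * g⁻¹ ∈ S) {a b : G} (h : ReflTransGen (Cm S) a b) :
    ReflTransGen (Cm S) (g * a * g⁻¹) (g * b * g⁻¹) :=
  h.lift (fun x => g * x * g⁻¹) (fun _ _ h => Cm.conj hg h)

/-- If every generator fixes a point of the component of `a₀` then the component is invariant. -/
theorem reach_of_closure {S T : Set G} (hT : ∀ g ∈ Subgroup.closure T, ∀ a ∈ S, g * a * g⁻¹ ∈ S) {a₀ : G}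
    (h : ∀ g ∈ T, ∃ b, ReflTransGen (Cm S) a₀ b ∧ g * b * g⁻¹ = b) {g : G} (hg : g ∈ Subgroup.closure T) :
    ReflTransGen (Cm S) a₀ (g * a₀ * g⁻¹) := by
  induction hg using Subgroup.closure_induction with
  | mem g hg =>
    obtain ⟨b, h1, h2⟩ := h g hg
    have h3 := reach_conj (hT g (Subgroup.subset_closure hg)) h1
    rw [h2] at h3
    exact h1.trans (reach_symm h3)
  | one => rw [one_mul, inv_one, mul_one]
  | mul x y hx hy ihx ihy =>
    have h1 := reach_conj (hT x hx) ihy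
    have h2 : x * (y * a₀ * y⁻¹) * x⁻¹ = x * y * a₀ * (x * y)⁻¹ := by group
    rw [h2] at h1
    exact ihx.trans h1
  | inv x hx ih =>
    have h1 := reach_symm (reach_conj (hT x⁻¹ (inv_mem hx)) ih)
    have h2 : x⁻¹ * (x * a₀ * x⁻¹) * x⁻¹⁻¹ = a₀ := by group
    rwa [h2] at h1

end Abstract

variable {I W Y : Type*} [Fintype I] [DecidableEq I] [Group W] [Fintype W] [Group Y] {M : CoxeterMatrix I}
  {cs : CoxeterSystem M W} {A : I → I → ℤ} {h : IsCartan M A} {p : ℕ} {T : Subgroup Y} {n : I → Y}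
  {X : (I → ℤ) → Subgroup Y} {R : Set (I → ℤ)} {Z : (I → ℤ) → Subgroup Y} {z : (I → ℤ) → Y}

/-- Every simple root is classical with `X = Z`, or orthogonal to a classical root. -/
def Cov (cs : CoxeterSystem M W) (h : IsCartan M A) (X : (I → ℤ) → Subgroup Y) (R : Set (I → ℤ))
    (Z : (I → ℤ) → Subgroup Y) : Prop :=
  ∀ i, (sr i ∈ R ∧ X (sr i) = Z (sr i)) ∨ ∃ s ∈ R, form cs h (sr i) s = 0

/-- The conjugates of the `z r` under the group generated by the root groups. -/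
def Cz (cs : CoxeterSystem M W) (h : IsCartan M A) (X : (I → ℤ) → Subgroup Y) (R : Set (I → ℤ))
    (z : (I → ℤ) → Y) : Set Y := {a | ∃ g ∈ G1 cs h X, ∃ r ∈ R, a = g * z r * g⁻¹}

theorem cz_conj {g : Y} (hg : g ∈ G1 cs h X) {a : Y} (ha : a ∈ Cz cs h X R z) : g * a * g⁻¹ ∈ Cz cs h X R z := by
  obtain ⟨k, hk, r, hr, rfl⟩ := ha
  exact ⟨g * k, mul_mem hg hk, r, hr, by group⟩

theorem z_mem_cz {r : I → ℤ} (hr : r ∈ R) : z r ∈ Cz cs h X R z := ⟨1, one_mem _, r, hr, by group⟩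

section Cls

variable (C : Cls cs h p T n X R Z z)

include C

theorem neg_mem {r : I → ℤ} (hr : r ∈ R) : -r ∈ R := by
  obtain ⟨w, i, rfl⟩ := C.root r hr
  have h1 := C.act _ hr (w * cs.simple i * w⁻¹)
  rwa [rep_mul_apply, rep_mul_apply, rep_inv_apply, rep_simple_sr, map_neg] at h1

theorem Z_conj_rp {w : W} {g : Y} (hg : Rp cs C.rgd.nsys w g) {r : I → ℤ} (hr : r ∈ R) :
    cj g (Z r) = Z (rep cs h w r) := by
  have key : ∀ ω : List I, ∀ r ∈ R, ∃ k, Rp cs C.rgd.nsys (cs.wordProd ω) k ∧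
      cj k (Z r) = Z (rep cs h (cs.wordProd ω) r) := by
    intro ω
    induction ω with
    | nil =>
      intro r _
      exact ⟨1, by rw [wordProd_nil]; exact rp_one, by rw [wordProd_nil, cj_one, map_one, Module.End.one_apply]⟩
    | cons i ω ih =>
      intro r hr
      obtain ⟨k, hk, e⟩ := ih r hr
      refine ⟨n i * k, ?_, ?_⟩
      · rw [wordProd_cons]; exact (rp_simple cs C.rgd.nsys i).mul hk
      · rw [cj_mul, e, C.conj i _ (C.act _ hr _), ← rep_mul_apply, wordProd_cons]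
  obtain ⟨ω, rfl⟩ := cs.wordProd_surjective w
  obtain ⟨k, hk, e⟩ := key ω r hr
  have h1 : g = k * (k⁻¹ * g) := by group
  rw [h1, cj_mul, C.tor r hr _ (hk.unique hg), e]

/-- All roots satisfy the covering condition. -/
theorem cov_root (hcov : Cov cs h X R Z) {x : I → ℤ} (hx : IsRoot cs h x) :
    (x ∈ R ∧ X x = Z x) ∨ ∃ s ∈ R, form cs h x s = 0 := by
  obtain ⟨w, i, rfl⟩ := hx
  rcases hcov i with ⟨h1, h2⟩ | ⟨s, hs, h1⟩
  · left
    refine ⟨C.act _ h1 w, ?_⟩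
    obtain ⟨g, hg⟩ := exists_rp cs C.rgd.nsys w
    rw [← C.rgd.conj_rp hg (isRoot_sr cs h i), ← Z_conj_rp C hg h1, h2]
  · right
    exact ⟨rep cs h w s, C.act _ hs w, by rw [form_rep, h1]⟩

/-- Root groups orthogonal to `s` centralise `z s`. -/
theorem comm_z {x s : I → ℤ} (hx : IsRoot cs h x) (hs : s ∈ R) (h0 : form cs h x s = 0) {g : Y} (hg : g ∈ X x) :
    g * z s = z s * g := by
  have h1 : Z s ⊔ Z (-s) ≤ Subgroup.centralizer {g} := by
    refine sup_le (fun b hb => ?_) (fun b hb => ?_)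
    · rw [Subgroup.mem_centralizer_singleton_iff]
      exact (C.cent s hs x hx h0.ge g hg b hb).symm
    · rw [Subgroup.mem_centralizer_singleton_iff]
      exact (C.cent (-s) (neg_mem C hs) x hx (by rw [form_neg_right, h0, neg_zero]) g hg b hb).symm
  have h2 := h1 (C.z_mem s hs)
  rw [Subgroup.mem_centralizer_singleton_iff] at h2
  exact h2.symm

/-- **Lemma Z**, in terms of the involutions. -/
theorem reach (hcov : Cov cs h X R Z) (hz : ∀ r ∈ R, ∀ s ∈ R, z r * z s = z s * z r) {r₀ : I → ℤ} (hr₀ : r₀ ∈ R)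
    {a : Y} (ha : a ∈ Cz cs h X R z) : ReflTransGen (Cm (Cz cs h X R z)) (z r₀) a := by
  have hG : G1 cs h X = Subgroup.closure (⋃ x : {x | IsRoot cs h x}, (X x.1 : Set Y)) := by
    unfold G1 RGD.Sup
    exact Subgroup.iSup_eq_closure _
  have hstep : ∀ r ∈ R, ∀ s ∈ R, ReflTransGen (Cm (Cz cs h X R z)) (z r) (z s) := fun r hr s hs =>
    ReflTransGen.single ⟨z_mem_cz hr, z_mem_cz hs, hz r hr s hs⟩
  obtain ⟨g, hg, r, hr, rfl⟩ := ha
  refine (hstep r₀ hr₀ r hr).trans ?_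
  rw [hG] at hg
  refine reach_of_closure (T := ⋃ x : {x | IsRoot cs h x}, (X x.1 : Set Y)) ?_ ?_ hg
  · intro g hg a ha
    exact cz_conj (by rw [hG]; exact hg) ha
  · intro g hg
    rw [Set.mem_iUnion] at hg
    obtain ⟨⟨x, hx⟩, hgx⟩ := hg
    rcases cov_root C hcov hx with ⟨h1, h2⟩ | ⟨s, hs, h1⟩
    · refine ⟨z x, hstep r hr x h1, ?_⟩
      have h3 : g ∈ Z x := by rw [← h2]; exact hgx
      rw [← C.z_cent x h1 g h3, mul_inv_cancel_right]
    · refine ⟨z s, hstep r hr s hs, ?_⟩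
      rw [comm_z C hx hs h1 hgx, mul_inv_cancel_right]

/-- The root groups are not trivial. -/
theorem X_ne_bot {x : I → ℤ} (hx : IsRoot cs h x) : X x ≠ ⊥ := by
  obtain ⟨w, i, rfl⟩ := hx
  obtain ⟨g, hg⟩ := exists_rp cs C.rgd.nsys w
  rw [← C.rgd.conj_rp hg (isRoot_sr cs h i)]
  intro h0
  have h1 : X (sr i) = ⊥ := by
    rw [← cj_inv_cj g (X (sr i)), h0]
    unfold cj
    exact Subgroup.map_bot _
  have h2 : X (-sr i) = ⊥ := by
    have h3 := C.rgd.conj i _ (isRoot_sr cs h i)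
    rw [rep_simple_sr, h1] at h3
    rw [← h3]
    unfold cj
    exact Subgroup.map_bot _
  apply C.rgd.notp i
  rw [h1, h2, bot_sup_eq]
  exact IsPGroup.of_bot

/-- `z r ≠ 1` if `r` is not isolated. -/
theorem z_ne_one (hp : p.Prime) (hodd : p ≠ 2) {r y : I → ℤ} (hr : r ∈ R) (hy : IsRoot cs h y) (h1 : y ≠ r)
    (h2 : y ≠ -r) (h3 : form cs h y r ≠ 0) : z r ≠ 1 := by
  intro h0
  apply X_ne_bot C hy
  rw [eq_bot_iff]
  intro a ha
  have h4 := C.z_inv r hr y hy h1 h2 h3 a ha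
  rw [h0, one_mul, mul_one] at h4
  have h5 : a ^ 2 = 1 := by
    rw [pow_two]
    nth_rewrite 1 [h4]
    exact inv_mul_cancel a
  have : Fact p.Prime := ⟨hp⟩
  obtain ⟨k, hk⟩ := (C.rgd.pgrp' hy) ⟨a, ha⟩
  have hk' : a ^ p ^ k = 1 := congrArg Subtype.val hk
  have h6 : orderOf a ∣ 2 := orderOf_dvd_of_pow_eq_one h5
  have h7 : orderOf a ∣ p ^ k := orderOf_dvd_of_pow_eq_one hk'
  have h8 : Nat.Coprime 2 (p ^ k) := by
    apply Nat.Coprime.pow_right
    rw [Nat.coprime_primes Nat.prime_two hp]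
    exact fun e => hodd e.symm
  have h9 : orderOf a = 1 := Nat.dvd_one.1 (by rw [← h8]; exact Nat.dvd_gcd h6 h7)
  exact Subgroup.mem_bot.2 (orderOf_eq_one_iff.1 h9)

end Cls

/-- Rank at least three. -/
theorem cov_of_diag (C : Cls cs h p T n X R Z z) (hD : Diag M) (hR : R.Nonempty) : Cov cs h X R Z := by
  obtain ⟨r, hr⟩ := hR
  intro i
  right
  exact OrthRoot.exists_orth cs h hD C.root C.act hr (isRoot_sr cs h i)

/-! ### In terms of the members of `Om` -/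

section Om

variable {G : Type*} [Group G] [Finite G] {Om : Set (Subgroup G)} {p : ℕ} {L : Subgroup G}

/-- `K - J` : members of `Om` in `L` with commuting involutions. -/
def AdjK (Om : Set (Subgroup G)) (L : Subgroup G) (K J : Subgroup G) : Prop :=
  (K ∈ Om ∧ K ≤ L) ∧ (J ∈ Om ∧ J ≤ L) ∧ Cit.zz K * Cit.zz J = Cit.zz J * Cit.zz K

theorem AdjK.symm {K J : Subgroup G} (h : AdjK Om L K J) : AdjK Om L J K := ⟨h.2.1, h.1, h.2.2.symm⟩

variable (hyp : Cit.Hyp Om) (C : Chart.Chart Om p L)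

include hyp

omit hyp in
theorem X_le {x : C.I → ℤ} (hx : IsRoot C.cs C.h x) : C.X x ≤ L :=
  (X_le_G1 hx).trans C.gen.le

omit hyp in
theorem K_le {r : C.I → ℤ} (hr : r ∈ C.R) : C.Z r ⊔ C.Z (-r) ≤ L :=
  sup_le ((C.cls.le r hr).trans (X_le C (C.cls.root r hr)))
    ((C.cls.le _ (neg_mem C.cls hr)).trans (X_le C (C.cls.root _ (neg_mem C.cls hr))))

theorem zz_eq {r : C.I → ℤ} (hr : r ∈ C.R) (h1 : C.z r ≠ 1) : Cit.zz (C.Z r ⊔ C.Z (-r)) = C.z r :=
  (hyp.eq_zz (C.om r hr) (C.cls.z_mem r hr) (C.cls.z_sq r hr) h1).symm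

/-- The torus centralises the involutions `z r`. -/
theorem comm_T (h1 : ∀ r ∈ C.R, C.z r ≠ 1) {r : C.I → ℤ} (hr : r ∈ C.R) {t : G} (ht : t ∈ C.T) :
    t * C.z r = C.z r * t := by
  rw [← zz_eq hyp C hr (h1 r hr)]
  apply hyp.comm_zz (C.om r hr)
  rw [Reps.mem_normalizer_iff_cj, cj_sup, C.cls.tor r hr t ht, C.cls.tor (-r) (neg_mem C.cls hr) t ht]

theorem z_comm (h1 : ∀ r ∈ C.R, C.z r ≠ 1) : ∀ r ∈ C.R, ∀ s ∈ C.R, C.z r * C.z s = C.z s * C.z r :=
  fun r hr _ hs => comm_T hyp C h1 hs (C.cls.z_torus r hr)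

/-- The involutions of the members of `Om` in `L`. -/
theorem zz_mem_cz (h1 : ∀ r ∈ C.R, C.z r ≠ 1) {K : Subgroup G} (hK : K ∈ Om) (hKL : K ≤ L) :
    Cit.zz K ∈ Cz C.cs C.h C.X C.R C.z := by
  obtain ⟨r, hr, g, hg, rfl⟩ := C.om_conj K hK hKL
  refine ⟨g, by rw [C.gen]; exact hg, r, hr, ?_⟩
  rw [← zz_eq hyp C hr (h1 r hr)]
  exact hyp.zz_cj (C.om r hr) g

theorem exists_of_cz (h1 : ∀ r ∈ C.R, C.z r ≠ 1) {a : G} (ha : a ∈ Cz C.cs C.h C.X C.R C.z) :
    ∃ K ∈ Om, K ≤ L ∧ Cit.zz K = a := by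
  obtain ⟨g, hg, r, hr, rfl⟩ := ha
  have h2 : C.Z r ⊔ C.Z (-r) ≤ L := K_le C hr
  refine ⟨Cit.cj g (C.Z r ⊔ C.Z (-r)), hyp.conj _ (C.om r hr) g, ?_, ?_⟩
  · rintro _ ⟨x, hx, rfl⟩
    rw [C.gen] at hg
    exact mul_mem (mul_mem hg (h2 hx)) (inv_mem hg)
  · rw [hyp.zz_cj (C.om r hr), zz_eq hyp C hr (h1 r hr)]

/-- **Lemma Z** for charts. -/
theorem conn (h1 : ∀ r ∈ C.R, C.z r ≠ 1) (hcov : Cov C.cs C.h C.X C.R C.Z) {K J : Subgroup G} (hK : K ∈ Om)
    (hKL : K ≤ L) (hJ : J ∈ Om) (hJL : J ≤ L) : ReflTransGen (AdjK Om L) K J := by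
  obtain ⟨r₀, hr₀⟩ := C.Rne
  have key : ∀ a b, ReflTransGen (Cm (Cz C.cs C.h C.X C.R C.z)) a b → ∀ K ∈ Om, K ≤ L → Cit.zz K = a →
      ∀ J ∈ Om, J ≤ L → Cit.zz J = b → ReflTransGen (AdjK Om L) K J := by
    intro a b hab
    induction hab with
    | refl =>
      intro K hK hKL hKa J hJ hJL hJa
      exact .single ⟨⟨hK, hKL⟩, ⟨hJ, hJL⟩, by rw [hKa, hJa]⟩
    | tail _ h2 ih =>
      intro K hK hKL hKa J hJ hJL hJa
      obtain ⟨K', hK', hKL', hKa'⟩ := exists_of_cz hyp C h1 h2.1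
      exact (ih K hK hKL hKa K' hK' hKL' hKa').tail ⟨⟨hK', hKL'⟩, ⟨hJ, hJL⟩, by rw [hKa', hJa]; exact h2.2.2⟩
  have hz := z_comm hyp C h1
  have h2 := reach C.cls hcov hz hr₀ (zz_mem_cz hyp C h1 hK hKL)
  have h3 := reach C.cls hcov hz hr₀ (zz_mem_cz hyp C h1 hJ hJL)
  exact key _ _ ((reach_symm h2).trans h3) K hK hKL rfl J hJ hJL rfl

omit hyp in
/-- Every root is joined to another one. -/
theorem exists_not_orth (hD : Diag C.M) {r : C.I → ℤ} (hr : IsRoot C.cs C.h r) :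
    ∃ y, IsRoot C.cs C.h y ∧ y ≠ r ∧ y ≠ -r ∧ form C.cs C.h y r ≠ 0 := by
  obtain ⟨w, i, rfl⟩ := hr
  obtain ⟨c, hc, j, hj, hm⟩ := hD.conn {i} (Set.singleton_nonempty i) (by
    intro e
    obtain ⟨k, hk, -⟩ := hD.three i i
    have : k ∈ ({i} : Set C.I) := by rw [e]; trivial
    exact hk this)
  rw [Set.mem_singleton_iff] at hc
  subst hc
  have hcj : c ≠ j := by rintro rfl; exact hj rfl
  refine ⟨rep C.cs C.h w (sr j), (isRoot_sr C.cs C.h j).act w, ?_, ?_, ?_⟩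
  · intro e
    have e' := rep_injective_apply C.cs C.h w e
    have := congrFun e' j
    rw [sr_self, sr_ne hcj.symm] at this
    exact one_ne_zero this
  · intro e
    rw [← map_neg] at e
    have e' := rep_injective_apply C.cs C.h w e
    have := congrFun e' j
    rw [sr_self, Pi.neg_apply, sr_ne hcj.symm] at this
    omega
  · rw [form_rep]
    have h1 := OrthRoot.two_form_sr C.cs C.h c j
    have h2 := cartan_neg C.h hcj hm
    have h3 := form_pos C.cs C.h (sr_ne_zero c)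
    intro h0
    rw [h0, mul_zero] at h1
    have h4 := mul_neg_of_neg_of_pos h2 h3
    linarith

omit hyp in
theorem z_ne_one_of_diag (hD : Diag C.M) : ∀ r ∈ C.R, C.z r ≠ 1 := by
  intro r hr
  obtain ⟨y, hy, h1, h2, h3⟩ := exists_not_orth C hD (C.cls.root r hr)
  exact z_ne_one C.cls C.prime C.odd hr hy h1 h2 h3

/-- **Lemma Z** for charts of rank at least three. -/
theorem conn_of_diag (hD : Diag C.M) {K J : Subgroup G} (hK : K ∈ Om) (hKL : K ≤ L) (hJ : J ∈ Om) (hJL : J ≤ L) :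
    ReflTransGen (AdjK Om L) K J :=
  conn hyp C (z_ne_one_of_diag C hD) (cov_of_diag C.cls hD C.Rne) hK hKL hJ hJL

end Om

end Cfsg.Agent.Nodes.StdConn
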