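import Mathlib
import Cfsg.Agent.Nodes.BNOf
import Cfsg.Agent.OddOrderLocal.PiCoreOf

/-!
The torus and the braid relations for free (project CIT): a family of root groups `X x` (`x` a root) with all
commutator relations and elements `n i ∈ ⟨X_i, X_{-i}⟩` permuting the root groups as the simple reflections gives
a root group datum `RGD` with torus `TA := ⨆ x, ⟨X_x, X_{-x}⟩ ⊓ H`, where `H` is the common normaliser of all the
root groups.

* `HH`, `Acts`, `LL`, `TT`, `TA`;
* `rgd_of_family`.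
-/

set_option autoImplicit false
set_option linter.unusedSectionVars false

namespace Cfsg.Agent.Nodes.FreeTorus

open CoxeterSystem Cfsg.Agent.ChevalleyStructure.CoxeterGeom Cfsg.Agent.Tits.Roots Cfsg.Agent.Tits.Core
  Cfsg.Agent.Tits.RootComb Cfsg.Agent.Nodes.Comb Cfsg.Agent.Nodes.Reps Cfsg.Agent.Nodes.BNOf
open scoped commutatorElement

section Cj

variable {Y : Type*} [Group Y]

theorem cj_inf (g : Y) (A B : Subgroup Y) : cj g (A ⊓ B) = cj g A ⊓ cj g B := by
  ext x
  rw [mem_cj, Subgroup.mem_inf, Subgroup.mem_inf, mem_cj, mem_cj]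

theorem card_cj (g : Y) (A : Subgroup Y) : Nat.card (cj g A) = Nat.card A :=
  (Nat.card_congr (A.equivMapOfInjective _ (MulAut.conj g).injective).toEquiv).symm

end Cj

variable {I W Y : Type*} [Fintype I] [DecidableEq I] [Group W] [Group Y] {M : CoxeterMatrix I}
  {cs : CoxeterSystem M W} {A : I → I → ℤ} {h : IsCartan M A} {p : ℕ} {X : (I → ℤ) → Subgroup Y}

/-- The rank one group of the root `x`. -/
def LL (X : (I → ℤ) → Subgroup Y) (x : I → ℤ) : Subgroup Y := X x ⊔ X (-x)

variable (cs h X) in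
/-- `g` permutes the root groups as `w`. -/
def Acts (w : W) (g : Y) : Prop := ∀ x, IsRoot cs h x → cj g (X x) = X (rep cs h w x)

theorem Acts.mul {v w : W} {g k : Y} (hg : Acts cs h X v g) (hk : Acts cs h X w k) :
    Acts cs h X (v * w) (g * k) := by
  intro x hx
  rw [cj_mul, hk x hx, hg _ (hx.act w), rep_mul_apply]

theorem Acts.one : Acts cs h X 1 (1 : Y) := by
  intro x _
  rw [cj_one, map_one, Module.End.one_apply]

theorem Acts.inv {w : W} {g : Y} (hg : Acts cs h X w g) : Acts cs h X w⁻¹ g⁻¹ := by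
  intro x hx
  have h1 := hg _ (hx.act w⁻¹)
  rw [rep_apply_inv] at h1
  rw [← h1, cj_inv_cj]

variable (cs h X) in
/-- The common normaliser of the root groups. -/
def HH : Subgroup Y where
  carrier := {g | Acts cs h X 1 g}
  mul_mem' := by
    intro a b ha hb
    have := Acts.mul ha hb
    rwa [one_mul] at this
  one_mem' := Acts.one
  inv_mem' := by
    intro a ha
    have := Acts.inv ha
    rwa [inv_one] at this

theorem mem_HH {g : Y} : g ∈ HH cs h X ↔ Acts cs h X 1 g := Iff.rfl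

theorem Acts.mul_inv_mem {w : W} {g k : Y} (hg : Acts cs h X w g) (hk : Acts cs h X w k) :
    g * k⁻¹ ∈ HH cs h X := by
  have := hg.mul hk.inv
  rwa [mul_inv_cancel] at this

theorem Acts.cj_HH {w : W} {g : Y} (hg : Acts cs h X w g) : cj g (HH cs h X) = HH cs h X := by
  have key : ∀ {w : W} {g : Y}, Acts cs h X w g → HH cs h X ≤ cj g (HH cs h X) := by
    intro w g hg t ht
    rw [mem_cj, mem_HH]
    have := (hg.inv.mul (mem_HH.1 ht)).mul hg
    rwa [mul_one, inv_mul_cancel] at this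
  apply le_antisymm
  · have := key hg.inv
    have := cj_mono g this
    rwa [cj_cj_inv] at this
  · exact key hg

theorem Acts.cj_LL {w : W} {g : Y} (hg : Acts cs h X w g) {x : I → ℤ} (hx : IsRoot cs h x) :
    cj g (LL X x) = LL X (rep cs h w x) := by
  unfold LL
  rw [cj_sup, hg x hx, hg _ hx.neg, map_neg]

variable (cs h X) in
/-- The rank one torus. -/
def TT (x : I → ℤ) : Subgroup Y := LL X x ⊓ HH cs h X

theorem Acts.cj_TT {w : W} {g : Y} (hg : Acts cs h X w g) {x : I → ℤ} (hx : IsRoot cs h x) :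
    cj g (TT cs h X x) = TT cs h X (rep cs h w x) := by
  unfold TT
  rw [cj_inf, hg.cj_LL hx, hg.cj_HH]

variable (cs h X) in
/-- The torus. -/
def TA : Subgroup Y := ⨆ x : {x : I → ℤ // IsRoot cs h x}, TT cs h X x.1

theorem TT_le_TA {x : I → ℤ} (hx : IsRoot cs h x) : TT cs h X x ≤ TA cs h X :=
  le_iSup (fun x : {x : I → ℤ // IsRoot cs h x} => TT cs h X x.1) ⟨x, hx⟩

theorem TA_le_HH : TA cs h X ≤ HH cs h X := iSup_le fun _ => inf_le_right

theorem Acts.cj_TA {w : W} {g : Y} (hg : Acts cs h X w g) : cj g (TA cs h X) = TA cs h X := by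
  have key : ∀ {w : W} {g : Y}, Acts cs h X w g → cj g (TA cs h X) ≤ TA cs h X := by
    intro w g hg
    unfold TA
    rw [cj_iSup]
    refine iSup_le ?_
    rintro ⟨x, hx⟩
    rw [hg.cj_TT hx]
    exact TT_le_TA (hx.act w)
  apply le_antisymm (key hg)
  have := cj_mono g (key hg.inv)
  rwa [cj_cj_inv] at this

/-- If `w s_i w⁻¹ = s_k` then `w α_i = ± α_k`. -/
theorem rep_sr_of_conj {w : W} {i k : I} (hw : w * cs.simple i * w⁻¹ = cs.simple k) :
    rep cs h w (sr i) = sr k ∨ rep cs h w (sr i) = -sr k := by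
  have hv : IsRoot cs h (rep cs h w (sr i)) := ⟨w, i, rfl⟩
  obtain ⟨v, hvd⟩ : ∃ v, v = rep cs h w (sr i) := ⟨_, rfl⟩
  rw [← hvd] at hv ⊢
  have h1 : rep cs h (cs.simple k) v = -v := by
    rw [← hw, rep_mul_apply, rep_mul_apply, hvd, rep_inv_apply, rep_simple_sr, map_neg]
  rw [rep_simple_eq] at h1
  have h2 : ∀ j, j ≠ k → v j = 0 := by
    intro j hj
    have h3 := congrFun h1 j
    rw [Pi.sub_apply, Pi.smul_apply, sr_ne hj, smul_zero, sub_zero, Pi.neg_apply] at h3
    omega
  rcases hv.pos_or_neg with h0 | h0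
  · exact Or.inl (hv.eq_sr h0 k h2)
  · right
    have h4 := hv.neg.eq_sr (neg_nonneg.2 h0) k (fun j hj => by rw [Pi.neg_apply, h2 j hj, neg_zero])
    rw [← h4, neg_neg]

variable {n : I → Y}

/-- A product of the `n i` acting as `w`. -/
theorem exists_acts (hA : ∀ i, Acts cs h X (cs.simple i) (n i)) (w : W) :
    ∃ g ∈ Subgroup.closure (Set.range n), Acts cs h X w g := by
  obtain ⟨ω, rfl⟩ := cs.wordProd_surjective w
  induction ω with
  | nil => exact ⟨1, one_mem _, by rw [wordProd_nil]; exact Acts.one⟩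
  | cons i ω ih =>
    obtain ⟨g, hg, hr⟩ := ih
    refine ⟨n i * g, mul_mem (Subgroup.subset_closure ⟨i, rfl⟩) hg, ?_⟩
    rw [wordProd_cons]
    exact (hA i).mul hr

theorem LL_neg (x : I → ℤ) : LL X (-x) = LL X x := by
  unfold LL
  rw [neg_neg, sup_comm]

/-- `g n_i g⁻¹ ∈ n_k T` when `w s_i w⁻¹ = s_k`. -/
theorem conj_n_mem (hL : ∀ i, n i ∈ LL X (sr i)) (hA : ∀ i, Acts cs h X (cs.simple i) (n i)) {w : W} {g : Y}
    (hg : Acts cs h X w g) {i k : I} (hw : w * cs.simple i * w⁻¹ = cs.simple k) :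
    g * n i * g⁻¹ * (n k)⁻¹ ∈ TA cs h X := by
  refine TT_le_TA (isRoot_sr cs h k) (Subgroup.mem_inf.2 ⟨?_, ?_⟩)
  · refine mul_mem ?_ (inv_mem (hL k))
    have h1 : g * n i * g⁻¹ ∈ cj g (LL X (sr i)) := conj_mem_cj.2 (hL i)
    rw [hg.cj_LL (isRoot_sr cs h i)] at h1
    rcases rep_sr_of_conj (h := h) hw with e | e
    · rwa [e] at h1
    · rwa [e, LL_neg] at h1
  · have h1 := ((hg.mul (hA i)).mul hg.inv)
    rw [hw] at h1
    exact h1.mul_inv_mem (hA k)

theorem sq_mem (hL : ∀ i, n i ∈ LL X (sr i)) (hA : ∀ i, Acts cs h X (cs.simple i) (n i)) (i : I) :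
    n i * n i ∈ TA cs h X := by
  refine TT_le_TA (isRoot_sr cs h i) ⟨mul_mem (hL i) (hL i), ?_⟩
  have := (hA i).mul (hA i)
  rw [cs.simple_mul_simple_self] at this
  exact this

/-- In a group: if `a² = b² = 1`, `k = m / 2` and `(ab)^k a (ab)^{-k}` is `a` (`m` even) or `b` (`m` odd) then
`(ab)^m = 1`. -/
theorem pow_eq_one_of_conj {H : Type*} [Group H] {a b : H} (ha : a * a = 1) (hb : b * b = 1) (m : ℕ)
    (hm : (a * b) ^ (m / 2) * a * ((a * b) ^ (m / 2))⁻¹ = if Even m then a else b) : (a * b) ^ m = 1 := by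
  have hai : a⁻¹ = a := inv_eq_of_mul_eq_one_left ha
  have hbi : b⁻¹ = b := inv_eq_of_mul_eq_one_left hb
  have h1 : ∀ k : ℕ, a * ((a * b) ^ k)⁻¹ = (a * b) ^ k * a := by
    intro k
    induction k with
    | zero => simp
    | succ k ih =>
      rw [pow_succ, mul_inv_rev, ← mul_assoc, mul_inv_rev, hai, hbi]
      have e : a * (b * a) * ((a * b) ^ k)⁻¹ = (a * b) * (a * ((a * b) ^ k)⁻¹) := by group
      rw [e, ih, ← mul_assoc, (Commute.refl (a * b)).pow_right k |>.eq]
  rw [mul_assoc, h1, ← mul_assoc, ← pow_add] at hm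
  rcases Nat.even_or_odd' m with ⟨k, rfl | rfl⟩
  · have e1 : 2 * k / 2 = k := by omega
    have e2 : k + k = 2 * k := by ring
    rw [e1, e2, if_pos (even_two_mul k)] at hm
    exact mul_eq_right.1 hm
  · have e1 : (2 * k + 1) / 2 = k := by omega
    have e2 : k + k = 2 * k := by ring
    rw [e1, e2, if_neg (by simp)] at hm
    have h2 : (a * b) ^ (2 * k) = b * a := by
      calc (a * b) ^ (2 * k) = (a * b) ^ (2 * k) * a * a := by rw [mul_assoc, ha, mul_one]
        _ = b * a := by rw [hm]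
    rw [pow_succ, h2]
    calc b * a * (a * b) = b * (a * a) * b := by group
      _ = 1 := by rw [ha, mul_one, hb]

theorem nsys_of_family (hL : ∀ i, n i ∈ LL X (sr i)) (hA : ∀ i, Acts cs h X (cs.simple i) (n i)) :
    NSys M (TA cs h X) n := by
  have hN : ∀ i, n i ∈ Subgroup.normalizer (TA cs h X : Set Y) := fun i =>
    mem_normalizer_iff_cj.2 (hA i).cj_TA
  refine ⟨hN, fun i j => ?_⟩
  let q : I → Quo (TA cs h X) := fun i => QuotientGroup.mk ⟨n i, hN i⟩
  have hq : ∀ i, q i * q i = 1 := by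
    intro i
    rw [← QuotientGroup.mk_mul, QuotientGroup.eq_one_iff, Subgroup.mem_subgroupOf]
    exact sq_mem hL hA i
  have hk : ((q i * q j) ^ (M i j / 2) * q i * ((q i * q j) ^ (M i j / 2))⁻¹ =
      if Even (M i j) then q i else q j) := by
    have hk : ∃ k, (if Even (M i j) then q i else q j) = q k ∧
        (cs.simple i * cs.simple j) ^ (M i j / 2) * cs.simple i * ((cs.simple i * cs.simple j) ^ (M i j / 2))⁻¹
          = cs.simple k := by
      -- the same computation in `W`
      have hW : (cs.simple i * cs.simple j) ^ M i j = 1 := cs.simple_mul_simple_pow i j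
      have h1 : ∀ k : ℕ, cs.simple i * ((cs.simple i * cs.simple j) ^ k)⁻¹ =
          (cs.simple i * cs.simple j) ^ k * cs.simple i := by
        intro k
        induction k with
        | zero => simp
        | succ k ih =>
          rw [pow_succ, mul_inv_rev, ← mul_assoc, mul_inv_rev, inv_simple, inv_simple]
          have e : cs.simple i * (cs.simple j * cs.simple i) * ((cs.simple i * cs.simple j) ^ k)⁻¹ =
              (cs.simple i * cs.simple j) * (cs.simple i * ((cs.simple i * cs.simple j) ^ k)⁻¹) := by group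
          rw [e, ih, ← mul_assoc, (Commute.refl (cs.simple i * cs.simple j)).pow_right k |>.eq]
      rw [mul_assoc, h1, ← mul_assoc, ← pow_add]
      rcases Nat.even_or_odd' (M i j) with ⟨k, hk | hk⟩
      · refine ⟨i, by rw [if_pos (by rw [hk]; exact even_two_mul k)], ?_⟩
        have e2 : M i j / 2 + M i j / 2 = M i j := by omega
        rw [e2, hW, one_mul]
      · refine ⟨j, by rw [if_neg (by rw [hk]; simp)], ?_⟩
        have e2 : M i j / 2 + M i j / 2 + 1 = M i j := by omega
        have h3 : (cs.simple i * cs.simple j) ^ (M i j / 2 + M i j / 2) * cs.simple i * cs.simple j = 1 := by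
          rw [mul_assoc, ← pow_succ, e2, hW]
        have h4 := eq_inv_of_mul_eq_one_left h3
        rwa [inv_simple] at h4
    obtain ⟨k, hk1, hk2⟩ := hk
    rw [hk1]
    have hact : Acts cs h X ((cs.simple i * cs.simple j) ^ (M i j / 2)) ((n i * n j) ^ (M i j / 2)) := by
      generalize M i j / 2 = r
      induction r with
      | zero => rw [pow_zero, pow_zero]; exact Acts.one
      | succ r ih => rw [pow_succ, pow_succ]; exact ih.mul ((hA i).mul (hA j))
    have h5 := conj_n_mem hL hA hact hk2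
    let ν : I → Subgroup.normalizer (TA cs h X : Set Y) := fun i => ⟨n i, hN i⟩
    let π := QuotientGroup.mk' ((TA cs h X).subgroupOf (Subgroup.normalizer (TA cs h X : Set Y)))
    change (π (ν i) * π (ν j)) ^ (M i j / 2) * π (ν i) * ((π (ν i) * π (ν j)) ^ (M i j / 2))⁻¹ = π (ν k)
    rw [← mul_inv_eq_one, ← map_mul, ← map_pow, ← map_mul, ← map_inv, ← map_mul, ← map_inv, ← map_mul]
    change (QuotientGroup.mk _ : Quo (TA cs h X)) = 1
    rw [QuotientGroup.eq_one_iff, Subgroup.mem_subgroupOf]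
    exact h5
  have h6 := pow_eq_one_of_conj (hq i) (hq j) (M i j) hk
  rw [← QuotientGroup.mk_mul, ← QuotientGroup.mk_pow, QuotientGroup.eq_one_iff, Subgroup.mem_subgroupOf] at h6
  exact h6

theorem card_TT (hA : ∀ i, Acts cs h X (cs.simple i) (n i)) (w : W) (i : I) :
    Nat.card (TT cs h X (rep cs h w (sr i))) = Nat.card (TT cs h X (sr i)) := by
  obtain ⟨g, -, hg⟩ := exists_acts hA w
  rw [← hg.cj_TT (isRoot_sr cs h i), card_cj]

theorem HH_le_normalizer_TT {x : I → ℤ} (hx : IsRoot cs h x) :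
    HH cs h X ≤ Subgroup.normalizer (TT cs h X x : Set Y) := by
  intro g hg
  rw [mem_normalizer_iff_cj]
  have := (mem_HH.1 hg).cj_TT hx
  rwa [map_one, Module.End.one_apply] at this

theorem coprime_TA [Finite Y] [Finite W] (hA : ∀ i, Acts cs h X (cs.simple i) (n i))
    (hcop : ∀ i, (Nat.card (TT cs h X (sr i))).Coprime p) : (Nat.card (TA cs h X)).Coprime p := by
  classical
  have key : ∀ s : Finset (I → ℤ), (∀ x ∈ s, IsRoot cs h x) →
      (⨆ x ∈ s, TT cs h X x) ≤ HH cs h X ∧
      HH cs h X ≤ Subgroup.normalizer ((⨆ x ∈ s, TT cs h X x : Subgroup Y) : Set Y) ∧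
      (Nat.card (⨆ x ∈ s, TT cs h X x : Subgroup Y)).Coprime p := by
    intro s
    induction s using Finset.induction_on with
    | empty =>
      intro _
      refine ⟨by simp, ?_, by simp⟩
      intro g _
      rw [mem_normalizer_iff_cj]
      simp [cj]
    | insert x s hx ih =>
      intro hs
      obtain ⟨h1, h2, h3⟩ := ih fun y hy => hs y (Finset.mem_insert_of_mem hy)
      have hxr := hs x (Finset.mem_insert_self x s)
      rw [Finset.iSup_insert]
      refine ⟨sup_le inf_le_right h1, ?_, ?_⟩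
      · intro g hg
        have e1 := mem_normalizer_iff_cj.1 (HH_le_normalizer_TT (X := X) hxr hg)
        have e2 := mem_normalizer_iff_cj.1 (h2 hg)
        rw [mem_normalizer_iff_cj, cj_sup, e1, e2]
      · have h4 := Cfsg.Agent.OddOrderLocal.PiCoreOf.card_sup_dvd_of_le_normalizer
          (H := TT cs h X x) (N := ⨆ x ∈ s, TT cs h X x) (le_trans inf_le_right h2)
        refine Nat.Coprime.coprime_dvd_left h4 (Nat.Coprime.mul_left ?_ h3)
        obtain ⟨w, i, rfl⟩ := hxr
        rw [card_TT hA]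
        exact hcop i
  have hfin : {x | IsRoot cs h x}.Finite := RGD.finite_roots
  have h1 := (key hfin.toFinset (fun x hx => by simpa using hx)).2.2
  have h2 : (⨆ x ∈ hfin.toFinset, TT cs h X x) = TA cs h X := by
    unfold TA
    rw [iSup_subtype]
    simp
  rwa [h2] at h1

/-- **Root group data from a family of root groups.** -/
theorem rgd_of_family [Finite Y] [Finite W] (hL : ∀ i, n i ∈ LL X (sr i))
    (hA : ∀ i, Acts cs h X (cs.simple i) (n i))
    (hcomm : ∀ x y, IsRoot cs h x → IsRoot cs h y → x ≠ y → x ≠ -y → ∀ a ∈ X x, ∀ b ∈ X y,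
      ⁅a, b⁆ ∈ btw cs h X x y)
    (hrk : ∀ i, ∀ u ∈ X (-sr i), u ≠ 1 → ∃ a ∈ X (sr i), ∃ m ∈ LL X (sr i), ∃ b ∈ X (sr i),
      u = a * m * b ∧ Acts cs h X (cs.simple i) m)
    (hpg : ∀ i, IsPGroup p ↥(X (sr i))) (hnp : ∀ i, ¬ IsPGroup p ↥(LL X (sr i)))
    (hcop : ∀ i, (Nat.card (TT cs h X (sr i))).Coprime p) : RGD cs h p (TA cs h X) n X where
  nsys := nsys_of_family hL hA
  conj i x hx := hA i x hx
  tor x hx t ht := by
    have := mem_HH.1 (TA_le_HH ht) x hx
    rwa [map_one, Module.End.one_apply] at this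
  comm := hcomm
  rk1 i u hu hne := by
    obtain ⟨a, ha, m, hm, b, hb, e, hm'⟩ := hrk i u hu hne
    refine ⟨a, ha, m * (n i)⁻¹, ?_, b, hb, by rw [e]; group⟩
    exact TT_le_TA (isRoot_sr cs h i) (Subgroup.mem_inf.2 ⟨mul_mem hm (inv_mem (hL i)), hm'.mul_inv_mem (hA i)⟩)
  pgrp := hpg
  notp := hnp
  tcop := coprime_TA hA hcop

end Cfsg.Agent.Nodes.FreeTorus
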