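import Mathlib
import Cfsg.Agent.Nodes.Frame
import Cfsg.Agent.Nodes.FreeTorus
import Cfsg.Agent.Nodes.Coroot
import Cfsg.Agent.Nodes.PairOf
import Cfsg.Agent.Nodes.StdConn
import Cfsg.Agent.Cit.TypeDet.Group

/-!
# Centralisers of families of classical subgroups in chart groups (project CIT, (B4) (K2))

`Perp F` = the roots orthogonal to `F`, `DD F` = the group generated by their root groups, `KK Z r = ⟨Z r, Z (-r)⟩`,
`OmF F` = the `DD F`-conjugates of the `KK Z s`, `s ∈ R ∩ Perp F`.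

* `exists_refl_LL`, `exists_refl_KK` : elements of `⟨X x, X (-x)⟩` and of `⟨Z r, Z (-r)⟩` representing the reflections;
* `chn_iff` : chains of non-commuting members of `OmF F` = chains of non-orthogonal roots of `Perp F`.
-/

set_option autoImplicit false
set_option linter.unusedSectionVars false
set_option linter.dupNamespace false

namespace Cfsg.Agent.Nodes.Perp

open CoxeterSystem Cfsg.Agent.ChevalleyStructure.CoxeterGeom Cfsg.Agent.Tits.Roots Cfsg.Agent.Tits.Core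
  Cfsg.Agent.Tits.RootComb Cfsg.Agent.Nodes.Comb Cfsg.Agent.Nodes.Reps Cfsg.Agent.Nodes.BNOf
  Cfsg.Agent.Nodes.RGDLib Cfsg.Agent.Nodes.Chart Cfsg.Agent.Nodes.Coroot Cfsg.Agent.Nodes.FreeTorus
  Cfsg.Agent.Nodes.SubComb
open Cfsg.Agent.Cit.TypeDet (cm stp chn cm_symm cm_iff_le_centralizer cm_mono)
open Relation

/-! ### Roots -/

section Roots

variable {I W : Type*} [Fintype I] [DecidableEq I] [Group W] [Fintype W] {M : CoxeterMatrix I}
  (cs : CoxeterSystem M W) {A : I → I → ℤ} (h : IsCartan M A)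

/-- The roots orthogonal to `F`. -/
def Perp (F : Set (I → ℤ)) : Set (I → ℤ) := {x | IsRoot cs h x ∧ ∀ f ∈ F, form cs h x f = 0}

/-- Two non-orthogonal roots of `Perp F`. -/
def Lk (F : Set (I → ℤ)) (x y : I → ℤ) : Prop := x ∈ Perp cs h F ∧ y ∈ Perp cs h F ∧ form cs h x y ≠ 0

variable {cs h} {F : Set (I → ℤ)} {x y z : I → ℤ}

theorem Perp.root (hx : x ∈ Perp cs h F) : IsRoot cs h x := hx.1

theorem Perp.mono {F' : Set (I → ℤ)} (hF : F' ⊆ F) (hx : x ∈ Perp cs h F) : x ∈ Perp cs h F' :=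
  ⟨hx.1, fun f hf => hx.2 f (hF hf)⟩

theorem Perp.neg (hx : x ∈ Perp cs h F) : -x ∈ Perp cs h F :=
  ⟨hx.1.neg, fun f hf => by rw [form_neg_left, hx.2 f hf, neg_zero]⟩

theorem Perp.refl (hx : x ∈ Perp cs h F) (hy : y ∈ Perp cs h F) : x - cpr cs h x y • y ∈ Perp cs h F :=
  ⟨isRoot_refl cs h hx.1 hy.1, fun f hf => by
    rw [sub_eq_add_neg, form_add_left, form_neg_left, form_smul_left, hx.2 f hf, hy.2 f hf, mul_zero, neg_zero,
      add_zero]⟩

theorem Perp.btwn (hx : x ∈ Perp cs h F) (hy : y ∈ Perp cs h F) (hz : Btwn cs h x y z) : z ∈ Perp cs h F := by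
  obtain ⟨hzr, m, a, b, hm, ha, hb, e⟩ := hz
  refine ⟨hzr, fun f hf => ?_⟩
  have h1 : form cs h (m • z) f = 0 := by
    rw [e, form_add_left, form_smul_left, form_smul_left, hx.2 f hf, hy.2 f hf, mul_zero, mul_zero, add_zero]
  rw [form_smul_left] at h1
  rcases mul_eq_zero.1 h1 with h2 | h2
  · omega
  · exact h2

theorem Lk.symm (hl : Lk cs h F x y) : Lk cs h F y x := ⟨hl.2.1, hl.1, by rw [form_comm]; exact hl.2.2⟩

theorem lk_symm (hl : ReflTransGen (Lk cs h F) x y) : ReflTransGen (Lk cs h F) y x := by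
  induction hl with
  | refl => exact .refl
  | tail _ h2 ih => exact .head h2.symm ih

theorem lk_mem (hx : x ∈ Perp cs h F) (hl : ReflTransGen (Lk cs h F) x y) : y ∈ Perp cs h F := by
  induction hl with
  | refl => exact hx
  | tail _ h2 _ => exact h2.2.1

variable (cs h) in
/-- The component of `s`. -/
def Cp (F : Set (I → ℤ)) (s : I → ℤ) : Set (I → ℤ) := {x | ReflTransGen (Lk cs h F) s x}

theorem Cp.self {s : I → ℤ} : s ∈ Cp cs h F s := ReflTransGen.refl

theorem Cp.mem {s : I → ℤ} (hs : s ∈ Perp cs h F) (hx : x ∈ Cp cs h F s) : x ∈ Perp cs h F := lk_mem hs hx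

theorem Cp.neg {s : I → ℤ} (hs : s ∈ Perp cs h F) (hx : x ∈ Cp cs h F s) : -x ∈ Cp cs h F s := by
  have h1 := Cp.mem hs hx
  refine ReflTransGen.tail hx ⟨h1, Perp.neg h1, ?_⟩
  have := form_pos cs h h1.1.ne_zero
  rw [form_neg_right]
  omega

/-- Roots of different components are orthogonal. -/
theorem Cp.orth {s : I → ℤ} (hs : s ∈ Perp cs h F) (hx : x ∈ Cp cs h F s) (hy : y ∈ Perp cs h F)
    (hy' : y ∉ Cp cs h F s) : form cs h x y = 0 := by
  by_contra h0
  exact hy' (ReflTransGen.tail hx ⟨Cp.mem hs hx, hy, h0⟩)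

/-- There is no root between roots of different components. -/
theorem Cp.no_btwn {s : I → ℤ} (hs : s ∈ Perp cs h F) (hx : x ∈ Cp cs h F s) (hy : y ∈ Perp cs h F)
    (hy' : y ∉ Cp cs h F s) : ¬ Btwn cs h x y z := by
  intro hz
  have hx' := Cp.mem hs hx
  have hzp := Perp.btwn hx' hy hz
  have h0 := Cp.orth hs hx hy hy'
  obtain ⟨hzr, m, a, b, hm, ha, hb, e⟩ := hz
  have hxx := form_pos cs h hx'.1.ne_zero
  have hyy := form_pos cs h hy.1.ne_zero
  have h1 : m * form cs h z x = a * form cs h x x := by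
    rw [← form_smul_left, e, form_add_left, form_smul_left, form_smul_left, form_comm cs h y x, h0, mul_zero,
      add_zero]
  have h2 : m * form cs h z y = b * form cs h y y := by
    rw [← form_smul_left, e, form_add_left, form_smul_left, form_smul_left, h0, mul_zero, zero_add]
  have h3 : form cs h z x ≠ 0 := by
    intro h4
    rw [h4, mul_zero] at h1
    have := mul_pos ha hxx
    omega
  have h5 : form cs h z y ≠ 0 := by
    intro h4
    rw [h4, mul_zero] at h2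
    have := mul_pos hb hyy
    omega
  apply hy'
  refine ReflTransGen.tail (ReflTransGen.tail hx ⟨hx', hzp, by rw [form_comm]; exact h3⟩) ⟨hzp, hy, h5⟩

theorem Cp.btwn {s : I → ℤ} (hs : s ∈ Perp cs h F) (hx : x ∈ Cp cs h F s) (hy : y ∈ Cp cs h F s)
    (hz : Btwn cs h x y z) : z ∈ Cp cs h F s := by
  have hx' := Cp.mem hs hx
  have hy' := Cp.mem hs hy
  have hzp := Perp.btwn hx' hy' hz
  by_contra hzc
  have h1 := Cp.orth hs hx hzp hzc
  have h2 := Cp.orth hs hy hzp hzc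
  obtain ⟨hzr, m, a, b, hm, ha, hb, e⟩ := hz
  have h3 : m * form cs h z z = 0 := by
    nth_rewrite 1 [← form_smul_left, e]
    rw [form_add_left, form_smul_left, form_smul_left, h1, h2, mul_zero, mul_zero, add_zero]
  have h4 := form_pos cs h hzr.ne_zero
  have := mul_pos hm h4
  omega

/-- Chains of classical roots: if `s ∈ R` is joined to `x` then there is `r ∈ R`, not orthogonal to `x` (or equal to
it), which is obtained from `s` by reflections. -/
theorem chain_R {R : Set (I → ℤ)} (hact : ∀ r ∈ R, ∀ w, rep cs h w r ∈ R)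
    {Q : (I → ℤ) → (I → ℤ) → Prop} {s : I → ℤ} (hs : s ∈ R) (hsF : s ∈ Perp cs h F) (hQ : Q s s)
    (hstep : ∀ r ∈ R, r ∈ Perp cs h F → Q s r → ∀ x ∈ Perp cs h F, r - cpr cs h r x • x ∈ R →
      Q s (r - cpr cs h r x • x)) (hx : ReflTransGen (Lk cs h F) s x) :
    ∃ r ∈ R, r ∈ Perp cs h F ∧ form cs h r x ≠ 0 ∧ Q s r := by
  induction hx with
  | refl =>
    refine ⟨s, hs, hsF, ?_, hQ⟩
    have := form_pos cs h hsF.1.ne_zero
    omega
  | @tail x y h1 h2 ih =>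
    obtain ⟨r, hr, hrF, h3, h4⟩ := ih
    by_cases h5 : form cs h r y = 0
    · have h6 : r - cpr cs h r x • x ∈ R := by
        obtain ⟨w, i, hxw⟩ := h2.1.1
        have := hact r hr (rfl' cs w i)
        rw [rep_rfl'_eq, ← hxw] at this
        exact this
      refine ⟨r - cpr cs h r x • x, h6, Perp.refl hrF h2.1, ?_, hstep r hr hrF h4 x h2.1 h6⟩
      rw [sub_eq_add_neg, form_add_left, form_neg_left, form_smul_left, h5, zero_add]
      have h7 : cpr cs h r x ≠ 0 := fun h0 => h3 ((cpr_zero_iff cs h r h2.1.1).1 h0)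
      exact neg_ne_zero.2 (mul_ne_zero h7 h2.2.2)
    · exact ⟨r, hr, hrF, h5, h4⟩

end Roots

/-! ### Groups -/

section Groups

variable {I W Y : Type*} [Fintype I] [DecidableEq I] [Group W] [Fintype W] [Group Y] {M : CoxeterMatrix I}
  {cs : CoxeterSystem M W} {A : I → I → ℤ} {h : IsCartan M A} {p : ℕ} {T : Subgroup Y} {n : I → Y}
  {X : (I → ℤ) → Subgroup Y} {R : Set (I → ℤ)} {Z : (I → ℤ) → Subgroup Y} {z : (I → ℤ) → Y}

/-- The classical subgroup of `r`. -/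
def KK (Z : (I → ℤ) → Subgroup Y) (r : I → ℤ) : Subgroup Y := Z r ⊔ Z (-r)

variable (cs h X) in
/-- The group of the roots orthogonal to `F`. -/
def DD (F : Set (I → ℤ)) : Subgroup Y := RGD.Sup X (Perp cs h F)

variable (cs h X R Z) in
/-- The conjugates of the `KK Z s`, `s ∈ R` orthogonal to `F`. -/
def OmF (F : Set (I → ℤ)) : Set (Subgroup Y) :=
  {K | ∃ s ∈ R, s ∈ Perp cs h F ∧ ∃ l ∈ DD cs h X F, K = cj l (KK Z s)}

theorem KK_neg (r : I → ℤ) : KK Z (-r) = KK Z r := by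
  unfold KK
  rw [neg_neg, sup_comm]

theorem cj_KK (g : Y) (r : I → ℤ) : cj g (KK Z r) = cj g (Z r) ⊔ cj g (Z (-r)) := cj_sup _ _ _

theorem X_le_DD {F : Set (I → ℤ)} {x : I → ℤ} (hx : x ∈ Perp cs h F) : X x ≤ DD cs h X F := RGD.le_Sup hx

theorem LL_le_DD {F : Set (I → ℤ)} {x : I → ℤ} (hx : x ∈ Perp cs h F) : LL X x ≤ DD cs h X F :=
  sup_le (X_le_DD hx) (X_le_DD (Perp.neg hx))

theorem DD_mono {F F' : Set (I → ℤ)} (hF : F' ⊆ F) : DD cs h X F ≤ DD cs h X F' :=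
  RGD.Sup_mono fun _ hx => Perp.mono hF hx

theorem cm_cj' {g : Y} {K L : Subgroup Y} : cm (cj g K) (cj g L) ↔ cm K L := Cfsg.Agent.Cit.TypeDet.cm_cj

theorem stp_cj {S : Set (Subgroup Y)} {g : Y} (hg : ∀ K ∈ S, cj g K ∈ S) {K L : Subgroup Y} (hs : stp S K L) :
    stp S (cj g K) (cj g L) := ⟨hg K hs.1, hg L hs.2.1, fun h0 => hs.2.2 (cm_cj'.1 h0)⟩

theorem chn_cj {S : Set (Subgroup Y)} {g : Y} (hg : ∀ K ∈ S, cj g K ∈ S) {K L : Subgroup Y} (hs : chn S K L) :
    chn S (cj g K) (cj g L) := hs.lift (cj g) fun _ _ h0 => stp_cj hg h0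

/-- If every generator moves `K₀` inside its class then so does the group. -/
theorem chn_of_closure {S : Set (Subgroup Y)} {T : Set Y} (hT : ∀ g ∈ Subgroup.closure T, ∀ K ∈ S, cj g K ∈ S)
    {K₀ : Subgroup Y} (h0 : ∀ g ∈ T, chn S K₀ (cj g K₀)) {g : Y} (hg : g ∈ Subgroup.closure T) :
    chn S K₀ (cj g K₀) := by
  induction hg using Subgroup.closure_induction with
  | mem g hg => exact h0 g hg
  | one => rw [cj_one]; exact ReflTransGen.refl
  | mul x y hx hy ihx ihy =>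
    have h1 := chn_cj (hT x hx) ihy
    rw [← cj_mul] at h1
    exact ihx.trans h1
  | inv x hx ih =>
    have h1 := Cfsg.Agent.Cit.TypeDet.chn_symm (chn_cj (hT x⁻¹ (inv_mem hx)) ih)
    rwa [cj_inv_cj] at h1

section Cls

variable (C : Cls cs h p T n X R Z z)

include C

theorem neg_mem {r : I → ℤ} (hr : r ∈ R) : -r ∈ R := ClsNorm.neg_mem C hr

theorem refl_mem {r x : I → ℤ} (hr : r ∈ R) (hx : IsRoot cs h x) : r - cpr cs h r x • x ∈ R := by
  obtain ⟨w, i, rfl⟩ := hx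
  have := C.act r hr (rfl' cs w i)
  rwa [rep_rfl'_eq] at this

theorem KK_le_LL {r : I → ℤ} (hr : r ∈ R) : KK Z r ≤ LL X r :=
  sup_le_sup (C.le r hr) (C.le _ (neg_mem C hr))

theorem KK_le_DD {F : Set (I → ℤ)} {r : I → ℤ} (hr : r ∈ R) (hF : r ∈ Perp cs h F) : KK Z r ≤ DD cs h X F :=
  (KK_le_LL C hr).trans (LL_le_DD hF)

/-- `X x` centralises `Z r` if `(x, r) ≥ 0`. -/
theorem X_cm_Z {r x : I → ℤ} (hr : r ∈ R) (hx : IsRoot cs h x) (h0 : 0 ≤ form cs h x r) : cm (X x) (Z r) :=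
  fun a ha b hb => C.cent r hr x hx h0 a ha b hb

theorem X_cm_KK {r x : I → ℤ} (hr : r ∈ R) (hx : IsRoot cs h x) (h0 : form cs h x r = 0) : cm (X x) (KK Z r) := by
  apply cm_symm
  rw [cm_iff_le_centralizer]
  refine sup_le ?_ ?_
  · rw [← cm_iff_le_centralizer]; exact cm_symm (X_cm_Z C hr hx h0.ge)
  · rw [← cm_iff_le_centralizer]
    exact cm_symm (X_cm_Z C (neg_mem C hr) hx (by rw [form_neg_right, h0, neg_zero]))

/-- `DD F` centralises the `KK Z f`, `f ∈ F ∩ R`. -/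
theorem DD_cm {F : Set (I → ℤ)} {f : I → ℤ} (hf : f ∈ R) (hF : f ∈ F) : cm (DD cs h X F) (KK Z f) := by
  rw [cm_iff_le_centralizer]
  refine RGD.Sup_le fun x hx => ?_
  rw [← cm_iff_le_centralizer]
  exact X_cm_KK C hf hx.1 (hx.2 f hF)

theorem cj_DD_KK {F : Set (I → ℤ)} {f : I → ℤ} (hf : f ∈ R) (hF : f ∈ F) {l : Y} (hl : l ∈ DD cs h X F) :
    cj l (KK Z f) = KK Z f := by
  rw [← mem_normalizer_iff_cj]
  exact ClsNorm.centralizer_le_normalizer' _ (cm_iff_le_centralizer.1 (DD_cm C hf hF) hl)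

theorem T_cj_KK {r : I → ℤ} (hr : r ∈ R) {t : Y} (ht : t ∈ T) : cj t (KK Z r) = KK Z r := by
  rw [cj_KK, C.tor r hr t ht, C.tor _ (neg_mem C hr) t ht]; rfl

theorem T_le_normalizer_DD (F : Set (I → ℤ)) : T ≤ Subgroup.normalizer (DD cs h X F : Set Y) :=
  C.rgd.T_le_normalizer fun _ hx => hx.1

/-- An element of `N` conjugates the classical groups. -/
theorem conj_KK {w : W} {g : Y} (hg : Rp cs C.rgd.nsys w g) {r : I → ℤ} (hr : r ∈ R) :
    cj g (KK Z r) = KK Z (rep cs h w r) := by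
  rw [cj_KK, ClsNorm.conj_Z C hg hr, ClsNorm.conj_Z C hg (neg_mem C hr), map_neg]; rfl

omit C in
/-- An element of `⟨X x, X (-x)⟩` representing the reflection of `x`. -/
theorem exists_refl_LL (D : RGD cs h p T n X) {x : I → ℤ} (hx : IsRoot cs h x) {b : Y} (hb : b ∈ X (-x))
    (hb1 : b ≠ 1) : ∃ a ∈ X x, ∃ c ∈ X x, ∃ w, Rp cs D.nsys w (a * b * c) ∧
      ∀ y, rep cs h w y = y - cpr cs h y x • x := by
  obtain ⟨w, i, rfl⟩ := hx
  obtain ⟨g, hg⟩ := exists_rp cs D.nsys w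
  have h1 : g⁻¹ * b * g ∈ X (-sr i) := by
    have := D.conj_mem' hg (show IsRoot cs h (-rep cs h w (sr i)) from (IsRoot.neg ⟨w, i, rfl⟩)) hb
    rwa [map_neg, rep_inv_apply] at this
  have h2 : g⁻¹ * b * g ≠ 1 := by
    intro h3
    apply hb1
    have : b = g * (g⁻¹ * b * g) * g⁻¹ := by group
    rw [this, h3]; group
  obtain ⟨u, hu, t, ht, v, hv, e⟩ := D.rk1 i _ h1 h2
  have h3 : g * u⁻¹ * g⁻¹ * b * (g * v⁻¹ * g⁻¹) = g * (t * n i) * g⁻¹ := by
    have : b = g * (g⁻¹ * b * g) * g⁻¹ := by group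
    rw [this, e]; group
  have h4 : Rp cs D.nsys (rfl' cs w i) (g * (t * n i) * g⁻¹) := by
    have h5 := (hg.mul ((rp_of_mem (cs := cs) (hN := D.nsys) ht).mul (rp_simple cs D.nsys i))).mul hg.inv
    rwa [one_mul] at h5
  exact ⟨g * u⁻¹ * g⁻¹, D.conj_mem hg (isRoot_sr cs h i) (inv_mem hu), g * v⁻¹ * g⁻¹,
    D.conj_mem hg (isRoot_sr cs h i) (inv_mem hv), rfl' cs w i, by rw [h3]; exact h4, rep_rfl'_eq cs h w i⟩

omit C in
/-- `X (-x) ∩ X x T = 1`. -/
theorem eq_one_of_mem_X_T (D : RGD cs h p T n X) {x : I → ℤ} (hx : IsRoot cs h x) {u a t : Y} (hu : u ∈ X (-x))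
    (ha : a ∈ X x) (ht : t ∈ T) (e : u = a * t) : u = 1 := by
  rcases hx.pos_or_neg with h0 | h0
  · refine OppDec.eq_one_of_mem_UN_of_mem_B D (OppDec.X_le_UN hx.neg (neg_nonpos.2 h0) hu) ?_
    rw [e]
    exact mul_mem (RGD.X_le_B hx h0 ha) (RGD.T_le_B ht)
  · refine OppDec.eq_one_of_mem_U_of_mem_BN D (RGD.le_Sup (S := RGD.Pos cs h) ⟨hx.neg, neg_nonneg.2 h0⟩ hu) ?_
    rw [e]
    exact mul_mem (OppDec.X_le_BN hx h0 ha) (OppDec.T_le_BN ht)

/-- `z r` centralises no element of `X r` outside `Z r`. -/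
theorem mem_Z_of_comm (hp : p.Prime) (hodd : p ≠ 2) {r : I → ℤ} (hr : r ∈ R) {a : Y} (ha : a ∈ X r)
    (hc : z r * a * z r = a) : a ∈ Z r := by
  have h1 := C.z_inv_self r hr a ha
  rw [hc] at h1
  have : Fact p.Prime := ⟨hp⟩
  obtain ⟨k, hk⟩ := (C.rgd.pgrp' (C.root r hr)) ⟨a, ha⟩
  have hk' : a ^ p ^ k = 1 := congrArg Subtype.val hk
  have hodd' : Odd (p ^ k) := (hp.odd_of_ne_two hodd).pow
  obtain ⟨m, hm⟩ := hodd'
  rw [hm, pow_succ, pow_mul, pow_two] at hk'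
  have h2 : a = ((a * a) ^ m)⁻¹ := by
    rw [eq_inv_iff_mul_eq_one, mul_eq_one_iff_eq_inv]
    have := eq_inv_of_mul_eq_one_left hk'
    rw [this, inv_inv]
  rw [h2]
  exact inv_mem (pow_mem h1 m)

/-- An element of `⟨Z r, Z (-r)⟩` representing the reflection of `r`. -/
theorem exists_refl_KK (hp : p.Prime) (hodd : p ≠ 2) {r : I → ℤ} (hr : r ∈ R) {b : Y} (hb : b ∈ Z (-r))
    (hb1 : b ≠ 1) : ∃ a ∈ Z r, ∃ c ∈ Z r, ∃ w, Rp cs C.rgd.nsys w (a * b * c) ∧
      ∀ y, rep cs h w y = y - cpr cs h y r • r := by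
  have hr' := C.root r hr
  obtain ⟨a, ha, c, hc, w, hm, hw⟩ := exists_refl_LL C.rgd hr' (C.le _ (neg_mem C hr) hb) hb1
  set m := a * b * c with hmd
  -- `z` commutes with `b`
  have hz := C.z_sq r hr
  have hzT := C.z_torus r hr
  have hzi : (z r)⁻¹ = z r := inv_eq_of_mul_eq_one_left hz
  have hzb : z r * b * z r = b := by
    have := C.z_cent (-r) (neg_mem C hr) b hb
    rw [C.z_neg r hr] at this
    rw [this, mul_assoc, hz, mul_one]
  have hza : z r * a * z r ∈ X r := by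
    have h1 := C.rgd.tor r hr' (z r) hzT
    have h2 : z r * a * (z r)⁻¹ ∈ cj (z r) (X r) := conj_mem_cj.2 ha
    rwa [h1, hzi] at h2
  have hzc : z r * c * z r ∈ X r := by
    have h1 := C.rgd.tor r hr' (z r) hzT
    have h2 : z r * c * (z r)⁻¹ ∈ cj (z r) (X r) := conj_mem_cj.2 hc
    rwa [h1, hzi] at h2
  have hmT : m⁻¹ * (z r * m * z r) ∈ T := by
    have h1 : cj m T = T := mem_normalizer_iff_cj.1 hm.mem_normalizer
    have h2 : m⁻¹ * z r * m ∈ T := by
      have h3 : z r ∈ cj m T := by rw [h1]; exact hzT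
      exact mem_cj.1 h3
    have h3 : m⁻¹ * (z r * m * z r) = (m⁻¹ * z r * m) * z r := by group
    rw [h3]; exact mul_mem h2 hzT
  -- `m = a b c`, `z m z = (z a z) b (z c z)`
  have e1 : z r * m * z r = (z r * a * z r) * b * (z r * c * z r) := by
    rw [hmd]
    calc z r * (a * b * c) * z r = z r * a * 1 * b * 1 * c * z r := by group
      _ = z r * a * (z r * z r) * b * (z r * z r) * c * z r := by rw [hz]
      _ = (z r * a * z r) * (z r * b * z r) * (z r * c * z r) := by group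
      _ = _ := by rw [hzb]
  have hcjm : cj m (X r) = X (-r) := by
    rw [C.rgd.conj_rp hm hr', hw, cpr_self cs h hr']
    congr 1
    module
  set u := (z r * a * z r) * a⁻¹ with hu
  have huX : u ∈ X r := mul_mem hza (inv_mem ha)
  -- `z m z = u m v`, `v = c⁻¹ (z c z)`
  set v := c⁻¹ * (z r * c * z r) with hv
  have hvX : v ∈ X r := mul_mem (inv_mem hc) hzc
  have e2 : z r * m * z r = u * m * v := by
    rw [e1, hu, hv, hmd]; group
  -- `m v⁻¹ m⁻¹ = (z m z)⁻¹ u m * ...`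
  have e3 : m * v * m⁻¹ = u⁻¹ * (m * (m⁻¹ * (z r * m * z r)) * m⁻¹) := by
    rw [e2]; group
  have h1 : m * v * m⁻¹ ∈ X (-r) := by
    rw [← hcjm]; exact conj_mem_cj.2 hvX
  have h2 : m * (m⁻¹ * (z r * m * z r)) * m⁻¹ ∈ T := by
    have h3 : cj m T = T := mem_normalizer_iff_cj.1 hm.mem_normalizer
    rw [← h3]; exact conj_mem_cj.2 hmT
  have h3 := eq_one_of_mem_X_T C.rgd hr' h1 (inv_mem huX) h2 e3
  have hv1 : v = 1 := by
    have : v = m⁻¹ * (m * v * m⁻¹) * m := by group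
    rw [this, h3]; group
  have hu1 : u = 1 := by
    rw [h3] at e3
    have h5 : u = m * (m⁻¹ * (z r * m * z r)) * m⁻¹ := by
      calc u = u * 1 := (mul_one u).symm
        _ = m * (m⁻¹ * (z r * m * z r)) * m⁻¹ := by rw [e3]; group
    have h6 : u ∈ X r ⊓ T := ⟨huX, by rw [h5]; exact h2⟩
    rw [OppDec.X_inf_T C.rgd hr'] at h6
    exact Subgroup.mem_bot.1 h6
  refine ⟨a, mem_Z_of_comm C hp hodd hr ha (mul_inv_eq_one.1 hu1), c,
    mem_Z_of_comm C hp hodd hr hc (inv_mul_eq_one.1 hv1).symm, w, hm, hw⟩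

theorem Z_ne_bot' {r : I → ℤ} (hr : r ∈ R) : ∃ b ∈ Z r, b ≠ 1 := by
  by_contra h0
  push Not at h0
  exact C.ne_bot r hr ((Subgroup.eq_bot_iff_forall _).2 h0)

/-- The reflections inside `⟨X x, X (-x)⟩`. -/
theorem exists_refl {x : I → ℤ} (hx : IsRoot cs h x) : ∃ m ∈ LL X x, ∃ w, Rp cs C.rgd.nsys w m ∧
    ∀ y, rep cs h w y = y - cpr cs h y x • x := by
  obtain ⟨b, hb, hb1⟩ : ∃ b ∈ X (-x), b ≠ 1 := by
    by_contra h0
    push Not at h0
    exact StdConn.X_ne_bot C hx.neg ((Subgroup.eq_bot_iff_forall _).2 h0)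
  obtain ⟨a, ha, c, hc, w, hm, hw⟩ := exists_refl_LL C.rgd hx hb hb1
  refine ⟨a * b * c, ?_, w, hm, hw⟩
  unfold LL
  exact mul_mem (mul_mem (le_sup_left (a := X x) ha) (le_sup_right (a := X x) hb)) (le_sup_left (a := X x) hc)

/-! ### Non-commuting classical groups -/

/-- If `P ≤ Z r ⊔ Z (-r)` contains `Z r` then it does not commute with `Z r ⊔ Z (-r)`. -/
theorem not_cm_of_Z_le (hp : p.Prime) {r : I → ℤ} (hr : r ∈ R) {K : Subgroup Y} (h1 : Z r ≤ K) :
    ¬ cm (KK Z r) K := by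
  intro h0
  have : Fact p.Prime := ⟨hp⟩
  apply C.notp r hr
  have h2 : Z (-r) ≤ Subgroup.normalizer (Z r : Set Y) := by
    refine le_trans ?_ (ClsNorm.centralizer_le_normalizer' _)
    rw [← cm_iff_le_centralizer]
    exact cm_mono le_sup_right h1 h0
  have hP : IsPGroup p ↥(Z r) := (C.rgd.pgrp' (C.root r hr)).to_le (C.le r hr)
  have hQ : IsPGroup p ↥(Z (-r)) := (C.rgd.pgrp' (C.root r hr).neg).to_le (C.le _ (neg_mem C hr))
  exact hP.to_sup_of_normal_left' hQ h2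

theorem not_cm_of_Z_le' (hp : p.Prime) {r : I → ℤ} (hr : r ∈ R) {K : Subgroup Y} (h1 : Z (-r) ≤ K) :
    ¬ cm (KK Z r) K := by
  rw [← KK_neg]
  exact not_cm_of_Z_le C hp (neg_mem C hr) h1

theorem not_cm_self (hp : p.Prime) {r : I → ℤ} (hr : r ∈ R) : ¬ cm (KK Z r) (KK Z r) :=
  not_cm_of_Z_le C hp hr le_sup_left

/-- Root elements move `KK Z s` to a group not commuting with it. -/
theorem not_cm_cj (hp : p.Prime) {s x : I → ℤ} (hs : s ∈ R) (hx : IsRoot cs h x) {g : Y} (hg : g ∈ X x) :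
    ¬ cm (KK Z s) (cj g (KK Z s)) := by
  rcases le_total 0 (form cs h x s) with h0 | h0
  · refine not_cm_of_Z_le C hp hs ?_
    have h1 : cj g (Z s) = Z s := mem_normalizer_iff_cj.1
      (ClsNorm.centralizer_le_normalizer' _ (cm_iff_le_centralizer.1 (X_cm_Z C hs hx h0) hg))
    rw [← h1]
    exact cj_mono g le_sup_left
  · refine not_cm_of_Z_le' C hp hs ?_
    have h2 : 0 ≤ form cs h x (-s) := by rw [form_neg_right]; omega
    have h1 : cj g (Z (-s)) = Z (-s) := mem_normalizer_iff_cj.1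
      (ClsNorm.centralizer_le_normalizer' _ (cm_iff_le_centralizer.1 (X_cm_Z C (neg_mem C hs) hx h2) hg))
    rw [← h1]
    exact cj_mono g le_sup_right

/-- Non-orthogonal classical roots have non-commuting classical groups. -/
theorem not_cm_of_form (hp : p.Prime) (hodd : p ≠ 2) {r s : I → ℤ} (hr : r ∈ R) (hs : s ∈ R)
    (h0 : form cs h r s ≠ 0) : ¬ cm (KK Z r) (KK Z s) := by
  by_cases h1 : s = r
  · rw [h1]; exact not_cm_self C hp hr
  by_cases h2 : s = -r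
  · rw [h2, KK_neg]; exact not_cm_self C hp hr
  intro hc
  obtain ⟨b, hb, hb1⟩ := Z_ne_bot' C hs
  have h3 := C.z_inv r hr s (C.root s hs) h1 h2 (by rw [form_comm]; exact h0) b (C.le s hs hb)
  have h4 := hc (z r) (C.z_mem r hr) b (Subgroup.mem_sup_left hb)
  apply hb1
  rw [h4, mul_assoc, C.z_sq r hr, mul_one] at h3
  have h5 : b ^ 2 = 1 := by
    rw [pow_two]
    nth_rewrite 1 [h3]
    exact inv_mul_cancel b
  have : Fact p.Prime := ⟨hp⟩
  obtain ⟨k, hk⟩ := (C.rgd.pgrp' (C.root s hs)) ⟨b, C.le s hs hb⟩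
  have hk' : b ^ p ^ k = 1 := congrArg Subtype.val hk
  have h6 : orderOf b ∣ 2 := orderOf_dvd_of_pow_eq_one h5
  have h7 : orderOf b ∣ p ^ k := orderOf_dvd_of_pow_eq_one hk'
  have h8 : Nat.Coprime 2 (p ^ k) := by
    apply Nat.Coprime.pow_right
    rw [Nat.coprime_primes Nat.prime_two hp]
    exact fun e => hodd e.symm
  have h9 : orderOf b = 1 := Nat.dvd_one.1 (by rw [← h8]; exact Nat.dvd_gcd h6 h7)
  exact orderOf_eq_one_iff.1 h9

/-- Commuting of two classical groups of the chart. -/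
theorem cm_iff (hp : p.Prime) (hodd : p ≠ 2) {r s : I → ℤ} (hr : r ∈ R) (hs : s ∈ R) :
    cm (KK Z r) (KK Z s) ↔ form cs h r s = 0 := by
  constructor
  · intro h0
    by_contra h1
    exact not_cm_of_form C hp hodd hr hs h1 h0
  · intro h0
    rw [cm_iff_le_centralizer]
    have h1 : cm (X r) (KK Z s) := X_cm_KK C hs (C.root r hr) h0
    have h2 : cm (X (-r)) (KK Z s) := X_cm_KK C hs (C.root r hr).neg (by rw [form_neg_left, h0, neg_zero])
    refine sup_le ((C.le r hr).trans ?_) ((C.le _ (neg_mem C hr)).trans ?_)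
    · rw [← cm_iff_le_centralizer]; exact h1
    · rw [← cm_iff_le_centralizer]; exact h2

/-! ### The classes -/

section Chains

variable {F : Set (I → ℤ)}

theorem omF_cj {l : Y} (hl : l ∈ DD cs h X F) {K : Subgroup Y} (hK : K ∈ OmF cs h X R Z F) :
    cj l K ∈ OmF cs h X R Z F := by
  obtain ⟨s, hs, hsF, k, hk, rfl⟩ := hK
  exact ⟨s, hs, hsF, l * k, mul_mem hl hk, by rw [cj_mul]⟩

theorem KK_mem {s : I → ℤ} (hs : s ∈ R) (hsF : s ∈ Perp cs h F) : KK Z s ∈ OmF cs h X R Z F :=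
  ⟨s, hs, hsF, 1, one_mem _, by rw [cj_one]⟩

/-- The conjugates of `KK Z s` under `DD F` are joined to it. -/
theorem chn_cj_self (hp : p.Prime) {s : I → ℤ} (hs : s ∈ R) (hsF : s ∈ Perp cs h F) {l : Y}
    (hl : l ∈ DD cs h X F) : chn (OmF cs h X R Z F) (KK Z s) (cj l (KK Z s)) := by
  have hG : DD cs h X F = Subgroup.closure (⋃ x : {x | x ∈ Perp cs h F}, (X x.1 : Set Y)) := by
    unfold DD RGD.Sup
    exact Subgroup.iSup_eq_closure _
  rw [hG] at hl
  refine chn_of_closure (T := ⋃ x : {x | x ∈ Perp cs h F}, (X x.1 : Set Y)) ?_ ?_ hl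
  · intro g hg K hK
    exact omF_cj C (by rw [hG]; exact hg) hK
  · intro g hg
    rw [Set.mem_iUnion] at hg
    obtain ⟨⟨x, hx⟩, hgx⟩ := hg
    exact ReflTransGen.single ⟨KK_mem C hs hsF, omF_cj C (X_le_DD hx hgx) (KK_mem C hs hsF),
      not_cm_cj C hp hs hx.1 hgx⟩

/-- Joined roots have joined classical groups. -/
theorem chn_of_lk (hp : p.Prime) (hodd : p ≠ 2) {s s' : I → ℤ} (hs : s ∈ R) (hsF : s ∈ Perp cs h F)
    (hs' : s' ∈ R) (hl : ReflTransGen (Lk cs h F) s s') : chn (OmF cs h X R Z F) (KK Z s) (KK Z s') := by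
  have hs'F := lk_mem hsF hl
  have key : ∀ r ∈ R, r ∈ Perp cs h F → chn (OmF cs h X R Z F) (KK Z s) (KK Z r) → ∀ x ∈ Perp cs h F,
      r - cpr cs h r x • x ∈ R → chn (OmF cs h X R Z F) (KK Z s) (KK Z (r - cpr cs h r x • x)) := by
    intro r hr hrF h1 x hx h2
    refine h1.trans ?_
    obtain ⟨m, hm, w, hw, e⟩ := exists_refl C hx.1
    have h3 := chn_cj_self C hp hr hrF (LL_le_DD hx hm)
    rwa [conj_KK C hw hr, e] at h3
  obtain ⟨r, hr, hrF, h1, h2⟩ := chain_R (cs := cs) (h := h) (F := F) C.act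
    (Q := fun a b => chn (OmF cs h X R Z F) (KK Z a) (KK Z b)) hs hsF ReflTransGen.refl key hl
  exact h2.tail ⟨KK_mem C hr hrF, KK_mem C hs' hs'F, not_cm_of_form C hp hodd hr hs' h1⟩

variable (cs h X F) in
omit C in
/-- The group of a component. -/
def DC (s : I → ℤ) : Subgroup Y := RGD.Sup X (Cp cs h F s)

omit C in
theorem DC_le {s : I → ℤ} (hs : s ∈ Perp cs h F) : DC cs h X F s ≤ DD cs h X F :=
  RGD.Sup_mono fun _ hx => Cp.mem hs hx

theorem X_cm_DC {s x : I → ℤ} (hs : s ∈ Perp cs h F) (hx : x ∈ Perp cs h F) (hxs : x ∉ Cp cs h F s) :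
    cm (X x) (DC cs h X F s) := by
  apply cm_symm
  rw [cm_iff_le_centralizer]
  refine RGD.Sup_le fun y hy => ?_
  rw [← cm_iff_le_centralizer]
  intro a ha b hb
  have h1 := Cp.orth hs hy hx hxs
  have hne : y ≠ x := fun e => hxs (e ▸ hy)
  have hne' : y ≠ -x := fun e => hxs (by rw [← neg_neg x, ← e]; exact Cp.neg hs hy)
  have h2 := PairOf.comm_of_no_btwn C.rgd (Cp.mem hs hy).1 hx.1 hne hne' (fun z => Cp.no_btwn hs hy hx hxs) a ha
    b hb
  rw [commutatorElement_eq_one_iff_mul_comm] at h2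
  exact h2

theorem DD_le_normalizer_DC {s : I → ℤ} (hs : s ∈ Perp cs h F) :
    DD cs h X F ≤ Subgroup.normalizer (DC cs h X F s : Set Y) := by
  refine RGD.Sup_le fun x hx => ?_
  by_cases hxs : x ∈ Cp cs h F s
  · exact le_trans (RGD.le_Sup (X := X) hxs) Subgroup.le_normalizer
  · exact le_trans (cm_iff_le_centralizer.1 (X_cm_DC C hs hx hxs)) (ClsNorm.centralizer_le_normalizer' _)

/-- The groups of different components commute. -/
theorem DC_cm_DC {s s' : I → ℤ} (hs : s ∈ Perp cs h F) (hs' : s' ∈ Perp cs h F) (hn : s' ∉ Cp cs h F s) :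
    cm (DC cs h X F s') (DC cs h X F s) := by
  rw [cm_iff_le_centralizer]
  refine RGD.Sup_le fun x hx => ?_
  rw [← cm_iff_le_centralizer]
  refine X_cm_DC C hs (Cp.mem hs' hx) fun h0 => hn ?_
  exact ReflTransGen.trans h0 (lk_symm hx)

theorem cj_KK_le_DC {s : I → ℤ} (hs : s ∈ R) (hsF : s ∈ Perp cs h F) {l : Y} (hl : l ∈ DD cs h X F) :
    cj l (KK Z s) ≤ DC cs h X F s := by
  rw [← mem_normalizer_iff_cj.1 (DD_le_normalizer_DC C hsF hl)]
  refine cj_mono l (sup_le ((C.le s hs).trans (RGD.le_Sup (X := X) Cp.self)) ?_)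
  exact (C.le _ (neg_mem C hs)).trans (RGD.le_Sup (X := X) (Cp.neg hsF Cp.self))

/-- **Chains of non-commuting members of `OmF F` are chains of non-orthogonal roots.** -/
theorem chn_iff (hp : p.Prime) (hodd : p ≠ 2) {s s' : I → ℤ} (hs : s ∈ R) (hsF : s ∈ Perp cs h F)
    (hs' : s' ∈ R) (hs'F : s' ∈ Perp cs h F) {l l' : Y} (hl : l ∈ DD cs h X F) (hl' : l' ∈ DD cs h X F) :
    chn (OmF cs h X R Z F) (cj l (KK Z s)) (cj l' (KK Z s')) ↔ ReflTransGen (Lk cs h F) s s' := by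
  constructor
  · intro h0
    have key : ∀ K, chn (OmF cs h X R Z F) (cj l (KK Z s)) K → K ≤ DC cs h X F s := by
      intro K hK
      induction hK with
      | refl => exact cj_KK_le_DC C hs hsF hl
      | @tail K K' _ h2 ih =>
        obtain ⟨-, ⟨r, hr, hrF, k, hk, rfl⟩, h3⟩ := h2
        have h4 := cj_KK_le_DC C hr hrF hk
        by_cases h5 : r ∈ Cp cs h F s
        · refine h4.trans (RGD.Sup_mono fun x hx => ?_)
          exact ReflTransGen.trans h5 hx
        · exact absurd (cm_mono ih h4 (cm_symm (DC_cm_DC C hsF hrF h5))) h3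
    have h1 := key _ h0
    by_contra h2
    have h3 := cj_KK_le_DC C hs' hs'F hl'
    have h4 : cm (cj l' (KK Z s')) (cj l' (KK Z s')) := cm_mono h3 h1 (DC_cm_DC C hsF hs'F h2)
    rw [cm_cj'] at h4
    exact not_cm_self C hp hs' h4
  · intro h0
    have h1 := chn_of_lk C hp hodd hs hsF hs' h0
    have h2 := chn_cj_self C hp hs hsF hl
    have h3 := chn_cj_self C hp hs' hs'F hl'
    exact ((Cfsg.Agent.Cit.TypeDet.chn_symm h2).trans h1).trans h3

end Chains

end Cls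

end Groups

end Cfsg.Agent.Nodes.Perp
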