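import Mathlib
import Cfsg.Agent.Nodes.Perp

/-!
# Relations between the involutions `z r` (project CIT, (B4) (K3))

`Uniq Z R z` : `z r` is the only involution of `⟨Z r, Z (-r)⟩`.

* `z_refl` : `z (s_r s) = z r * z s` if `⟨s, r^∨⟩ ⟨r, s^∨⟩ = 1`;
* `X_eq_Z` : then also `X r = Z r`;
* `prod4` : `2 u = a + b + c + d`, `a, b, c, d, u ∈ R`, `a, b, c, d` pairwise orthogonal: `z a * z b * z c * z d = 1`;
* `z_ne` : `z i ≠ z j`.
-/

set_option autoImplicit false
set_option linter.unusedSectionVars false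
set_option linter.dupNamespace false

namespace Cfsg.Agent.Nodes.ZRel

open CoxeterSystem Cfsg.Agent.ChevalleyStructure.CoxeterGeom Cfsg.Agent.Tits.Roots Cfsg.Agent.Tits.Core
  Cfsg.Agent.Tits.RootComb Cfsg.Agent.Nodes.Comb Cfsg.Agent.Nodes.Reps Cfsg.Agent.Nodes.BNOf
  Cfsg.Agent.Nodes.RGDLib Cfsg.Agent.Nodes.Chart Cfsg.Agent.Nodes.Coroot Cfsg.Agent.Nodes.Perp
open Relation

variable {I W Y : Type*} [Fintype I] [DecidableEq I] [Group W] [Fintype W] [Group Y] {M : CoxeterMatrix I}
  {cs : CoxeterSystem M W} {A : I → I → ℤ} {h : IsCartan M A} {p : ℕ} {T : Subgroup Y} {n : I → Y}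
  {X : (I → ℤ) → Subgroup Y} {R : Set (I → ℤ)} {Z : (I → ℤ) → Subgroup Y} {z : (I → ℤ) → Y}

/-! ### Roots -/

section Roots

theorem form_symm_of_cpr {r s : I → ℤ} (hr : IsRoot cs h r) (hs : IsRoot cs h s)
    (hc : cpr cs h s r * cpr cs h r s = 1) : form cs h r r = form cs h s s := by
  have h1 := two_form_cpr cs h s hr
  have h2 := two_form_cpr cs h r hs
  rw [form_comm cs h s r] at h1
  rcases Int.isUnit_iff.1 (IsUnit.of_mul_eq_one _ hc) with e | e
  · have e' : cpr cs h r s = 1 := by rw [e] at hc; linarith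
    rw [e] at h1; rw [e'] at h2; linarith
  · have e' : cpr cs h r s = -1 := by rw [e] at hc; linarith
    rw [e] at h1; rw [e'] at h2; linarith

theorem ne_smul {r s : I → ℤ} (hr : IsRoot cs h r) (hne : s ≠ r) (hne' : s ≠ -r)
    (hl : form cs h r r = form cs h s s) (k : ℤ) : s ≠ k • r := by
  intro e
  have h1 := form_pos cs h hr.ne_zero
  rw [e, form_smul_left, form_smul_right] at hl
  have h2 : k * k = 1 := by
    have : (k * k - 1) * form cs h r r = 0 := by linarith
    rcases mul_eq_zero.1 this with h3 | h3 <;> linarith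
  rcases Int.isUnit_iff.1 (IsUnit.of_mul_eq_one _ h2) with h3 | h3
  · exact hne (by rw [e, h3, one_smul])
  · exact hne' (by rw [e, h3, neg_one_smul])

end Roots

/-- `z r` is the only involution of `⟨Z r, Z (-r)⟩`. -/
def Uniq (R : Set (I → ℤ)) (Z : (I → ℤ) → Subgroup Y) (z : (I → ℤ) → Y) : Prop :=
  ∀ r ∈ R, ∀ x ∈ KK Z r, x * x = 1 → x ≠ 1 → x = z r

variable (C : Cls cs h p T n X R Z z)

include C

theorem z_comm {r s : I → ℤ} (hr : r ∈ R) (hs : s ∈ R) : z r * z s = z s * z r :=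
  C.z_T r hr (z s) (C.z_torus s hs)

theorem z_inv' {r : I → ℤ} (hr : r ∈ R) : (z r)⁻¹ = z r := inv_eq_of_mul_eq_one_left (C.z_sq r hr)

/-- An element of a root group equal to its inverse is trivial. -/
theorem eq_one_of_inv (hp : p.Prime) (hodd : p ≠ 2) {x : I → ℤ} (hx : IsRoot cs h x) {b : Y} (hb : b ∈ X x)
    (e : b = b⁻¹) : b = 1 := by
  have h5 : b ^ 2 = 1 := by
    rw [pow_two]
    nth_rewrite 1 [e]
    exact inv_mul_cancel b
  have : Fact p.Prime := ⟨hp⟩
  obtain ⟨k, hk⟩ := (C.rgd.pgrp' hx) ⟨b, hb⟩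
  have hk' : b ^ p ^ k = 1 := congrArg Subtype.val hk
  have h6 : orderOf b ∣ 2 := orderOf_dvd_of_pow_eq_one h5
  have h7 : orderOf b ∣ p ^ k := orderOf_dvd_of_pow_eq_one hk'
  have h8 : Nat.Coprime 2 (p ^ k) := by
    apply Nat.Coprime.pow_right
    rw [Nat.coprime_primes Nat.prime_two hp]
    exact fun e => hodd e.symm
  have h9 : orderOf b = 1 := Nat.dvd_one.1 (by rw [← h8]; exact Nat.dvd_gcd h6 h7)
  exact orderOf_eq_one_iff.1 h9

/-- `z s` centralises `X x` if `s` is orthogonal to `x`. -/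
theorem z_cent_of_orth {s x : I → ℤ} (hs : s ∈ R) (hx : IsRoot cs h x) (h0 : form cs h x s = 0) {a : Y}
    (ha : a ∈ X x) : a * z s = z s * a :=
  X_cm_KK C hs hx h0 a ha (z s) (C.z_mem s hs)

/-- Different involutions. -/
theorem z_ne (hp : p.Prime) (hodd : p ≠ 2) {r s x : I → ℤ} (hr : r ∈ R) (hs : s ∈ R) (hx : IsRoot cs h x)
    (hs0 : form cs h x s = 0) (hr0 : form cs h x r ≠ 0) (h1 : x ≠ r) (h2 : x ≠ -r) : z r ≠ z s := by
  intro e
  apply StdConn.X_ne_bot C hx
  rw [Subgroup.eq_bot_iff_forall]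
  intro a ha
  apply eq_one_of_inv C hp hodd hx ha
  have h3 := C.z_inv r hr x hx h1 h2 hr0 a ha
  have h4 := z_cent_of_orth C hs hx hs0 ha
  rw [e, ← h4, mul_assoc, C.z_sq s hs, mul_one] at h3
  exact h3

/-- `z (s_r s) = z r * z s` -/
theorem z_refl (hp : p.Prime) (hodd : p ≠ 2) (hu : Uniq R Z z) {r s : I → ℤ} (hr : r ∈ R) (hs : s ∈ R)
    (hne : s ≠ r) (hne' : s ≠ -r) (hc : cpr cs h s r * cpr cs h r s = 1) :
    z (s - cpr cs h s r • r) = z r * z s := by
  have hrr := C.root r hr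
  have hss := C.root s hs
  have hs'R := refl_mem C hs hrr
  set s' := s - cpr cs h s r • r with hs'
  have hc0 : cpr cs h s r ≠ 0 := by intro h0; rw [h0, zero_mul] at hc; exact zero_ne_one hc
  have hf : form cs h s r ≠ 0 := fun h0 => hc0 ((cpr_zero_iff cs h s hrr).2 h0)
  have hf' : form cs h r s ≠ 0 := by rw [form_comm]; exact hf
  have hlen := form_symm_of_cpr hrr hss hc
  obtain ⟨b, hb, hb1⟩ := Z_ne_bot' C (neg_mem C hr)
  obtain ⟨a, ha, c, hcZ, w, hm, hw⟩ := exists_refl_KK C hp hodd hr hb hb1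
  have hz' : a * b * c * z s * (a * b * c)⁻¹ = z s' := by
    rw [ClsNorm.conj_z C hm hs, hw]
  have inv1 : ∀ x ∈ Z r, z s * x * z s = x⁻¹ := fun x hx =>
    C.z_inv s hs r hrr (Ne.symm hne) (fun h0 => hne' (by rw [h0, neg_neg])) hf' x (C.le r hr hx)
  have inv2 : ∀ x ∈ Z (-r), z s * x * z s = x⁻¹ := fun x hx =>
    C.z_inv s hs (-r) hrr.neg (fun h0 => hne' h0.symm) (fun h0 => hne (neg_injective h0).symm)
      (by rw [form_neg_left]; exact neg_ne_zero.2 hf') x (C.le _ (neg_mem C hr) hx)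
  have hzz := C.z_sq s hs
  have e1 : z s * (a * b * c) * z s = a⁻¹ * b⁻¹ * c⁻¹ := by
    calc z s * (a * b * c) * z s = z s * a * 1 * b * 1 * c * z s := by group
      _ = z s * a * (z s * z s) * b * (z s * z s) * c * z s := by rw [hzz]
      _ = (z s * a * z s) * (z s * b * z s) * (z s * c * z s) := by group
      _ = _ := by rw [inv1 a ha, inv2 b hb, inv1 c hcZ]
  have e2 : z s' * z s = (a * b * c) * (c * b * a) := by
    have h3 : (z s * (a * b * c) * z s)⁻¹ = c * b * a := by rw [e1]; group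
    rw [← h3, ← hz', mul_inv_rev (z s * (a * b * c)) (z s), mul_inv_rev (z s) (a * b * c), z_inv' C hs]
    group
  have hmem : z s' * z s ∈ KK Z r := by
    rw [e2]
    have h1 : a ∈ KK Z r := (le_sup_left : Z r ≤ KK Z r) ha
    have h2 : b ∈ KK Z r := (le_sup_right : Z (-r) ≤ KK Z r) hb
    have h3 : c ∈ KK Z r := (le_sup_left : Z r ≤ KK Z r) hcZ
    exact mul_mem (mul_mem (mul_mem h1 h2) h3) (mul_mem (mul_mem h3 h2) h1)
  have hsq : (z s' * z s) * (z s' * z s) = 1 := by
    rw [mul_assoc, ← mul_assoc (z s), z_comm C hs hs'R, mul_assoc (z s'), hzz, mul_one, C.z_sq _ hs'R]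
  have hn1 : z s' * z s ≠ 1 := by
    intro h0
    have h1 : z s = z s' := by
      have h2 := eq_inv_of_mul_eq_one_left h0
      rw [h2, z_inv' C hs]
    -- `s' ≠ ± s`, `(s', s) ≠ 0`
    have h2 : 2 * form cs h s' s = form cs h s s := by
      have h3 := two_form_cpr cs h r hss
      rw [hs', sub_eq_add_neg, form_add_left, form_neg_left, form_smul_left]
      have : 2 * (form cs h s s + -(cpr cs h s r * form cs h r s)) =
          2 * form cs h s s - cpr cs h s r * (2 * form cs h r s) := by ring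
      rw [this, h3, ← mul_assoc, hc]
      ring
    have h3 := form_pos cs h hss.ne_zero
    have h4 : form cs h s' s ≠ 0 := by intro h0; rw [h0] at h2; omega
    have h5 : s' ≠ s := by intro h0; rw [h0] at h2; omega
    have h6 : s' ≠ -s := by intro h0; rw [h0, form_neg_left] at h2; omega
    obtain ⟨e, he, he1⟩ := Z_ne_bot' C hs'R
    apply he1
    apply eq_one_of_inv C hp hodd (C.root _ hs'R) (C.le _ hs'R he)
    have h7 := C.z_inv s hs s' (C.root _ hs'R) h5 h6 h4 e (C.le _ hs'R he)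
    have h8 := C.z_cent s' hs'R e he
    rw [h1, h8, mul_assoc, C.z_sq _ hs'R, mul_one] at h7
    exact h7
  have h1 := hu r hr _ hmem hsq hn1
  have h2 : z s' = z r * (z s)⁻¹ := eq_mul_inv_of_mul_eq h1
  rw [h2, z_inv' C hs]

/-- `X r = Z r` if `r` is joined to a root of `R` of the same length. -/
theorem X_eq_Z (hp : p.Prime) (hodd : p ≠ 2) (hu : Uniq R Z z) {r s : I → ℤ} (hr : r ∈ R) (hs : s ∈ R)
    (hne : s ≠ r) (hne' : s ≠ -r) (hc : cpr cs h s r * cpr cs h r s = 1) : X r = Z r := by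
  refine le_antisymm (fun a ha => ?_) (C.le r hr)
  have hrr := C.root r hr
  have hss := C.root s hs
  have hs'R := refl_mem C hs hrr
  have h1 := z_refl C hp hodd hu hr hs hne hne' hc
  have hc0 : cpr cs h s r ≠ 0 := by intro h0; rw [h0, zero_mul] at hc; exact zero_ne_one hc
  have hf : form cs h s r ≠ 0 := fun h0 => hc0 ((cpr_zero_iff cs h s hrr).2 h0)
  have hf' : form cs h r s ≠ 0 := by rw [form_comm]; exact hf
  have hlen := form_symm_of_cpr hrr hss hc
  set s' := s - cpr cs h s r • r with hs'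
  have h2 : form cs h r s' = - form cs h r s := by
    have h3 := two_form_cpr cs h s hrr
    rw [hs', sub_eq_add_neg, form_add_right, form_neg_right, form_smul_right, ← h3, form_comm cs h s r]
    ring
  have h3 : r ≠ s' := by
    intro h0
    refine ne_smul hrr hne hne' hlen (1 + cpr cs h s r) ?_
    have h5 : s = s' + cpr cs h s r • r := by rw [hs', sub_add_cancel]
    calc s = s' + cpr cs h s r • r := h5
      _ = r + cpr cs h s r • r := by rw [← h0]
      _ = (1 + cpr cs h s r) • r := by rw [add_smul, one_smul]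
  have h4 : r ≠ -s' := by
    intro h0
    refine ne_smul hrr hne hne' hlen (cpr cs h s r - 1) ?_
    have h5 : s = s' + cpr cs h s r • r := by rw [hs', sub_add_cancel]
    have h6 : s' = -r := by rw [h0, neg_neg]
    calc s = s' + cpr cs h s r • r := h5
      _ = -r + cpr cs h s r • r := by rw [h6]
      _ = (cpr cs h s r - 1) • r := by rw [sub_smul, one_smul]; abel
  have h5 := C.z_inv s' hs'R r hrr h3 h4 (by rw [h2]; exact neg_ne_zero.2 hf') a ha
  have h6 := C.z_inv s hs r hrr (Ne.symm hne) (fun h0 => hne' (by rw [h0, neg_neg])) hf' a ha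
  apply mem_Z_of_comm C hp hodd hr ha
  have h7 : z r * a⁻¹ * z r = a⁻¹ := by
    rw [← h6]
    calc z r * (z s * a * z s) * z r = (z r * z s) * a * (z s * z r) := by group
      _ = (z r * z s) * a * (z r * z s) := by rw [z_comm C hs hr]
      _ = a⁻¹ := by rw [← h1]; exact h5
      _ = z s * a * z s := h6.symm
  have h8 := congrArg (·⁻¹) h7
  simp only [mul_inv_rev, inv_inv, z_inv' C hr] at h8
  rw [mul_assoc]
  exact h8

/-- `z (v - r) = z r * z v` -/
theorem z_sub (hp : p.Prime) (hodd : p ≠ 2) (hu : Uniq R Z z)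
    (hlen : ∀ x ∈ R, ∀ y ∈ R, form cs h x x = form cs h y y) {v r : I → ℤ} (hv : v ∈ R) (hr : r ∈ R)
    (hf : 2 * form cs h v r = form cs h r r) : v - r ∈ R ∧ z (v - r) = z r * z v := by
  have hrr := C.root r hr
  have hvv := C.root v hv
  have h0 := form_pos cs h hrr.ne_zero
  have h1 : cpr cs h v r = 1 := cpr_eq_of_form cs h hrr (by rw [one_mul]; exact hf)
  have h2 : cpr cs h r v = 1 := cpr_eq_of_form cs h hvv (by rw [one_mul, form_comm, hlen v hv r hr]; exact hf)
  have h3 : v ≠ r := by intro e; rw [e] at hf; omega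
  have h4 : v ≠ -r := by intro e; rw [e, form_neg_left] at hf; omega
  have h5 := z_refl C hp hodd hu hr hv h3 h4 (by rw [h1, h2, one_mul])
  have h6 := refl_mem C hv hrr
  rw [h1, one_smul] at h5 h6
  exact ⟨h6, h5⟩

/-- **The product relation.** -/
theorem prod4 (hp : p.Prime) (hodd : p ≠ 2) (hu : Uniq R Z z)
    (hlen : ∀ x ∈ R, ∀ y ∈ R, form cs h x x = form cs h y y) {u a b c d : I → ℤ} (huR : u ∈ R) (ha : a ∈ R)
    (hb : b ∈ R) (hc : c ∈ R) (hd : d ∈ R) (hab : form cs h a b = 0) (hac : form cs h a c = 0)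
    (had : form cs h a d = 0) (hbc : form cs h b c = 0) (hbd : form cs h b d = 0) (hcd : form cs h c d = 0)
    (h2 : (2 : ℤ) • u = a + b + c + d) : z a * z b * z c * z d = 1 := by
  have hform : ∀ x, 2 * form cs h u x = form cs h a x + form cs h b x + form cs h c x + form cs h d x := by
    intro x
    rw [← form_smul_left, h2, form_add_left, form_add_left, form_add_left]
  have fa := hform a
  have fb := hform b
  have fc := hform c
  have fd := hform d
  rw [form_comm cs h b a, hab, form_comm cs h c a, hac, form_comm cs h d a, had] at fa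
  rw [hab, form_comm cs h c b, hbc, form_comm cs h d b, hbd] at fb
  rw [hac, hbc, form_comm cs h d c, hcd] at fc
  rw [had, hbd, hcd] at fd
  obtain ⟨m1, e1⟩ := z_sub C hp hodd hu hlen huR ha (by rw [fa]; ring)
  obtain ⟨m2, e2⟩ := z_sub C hp hodd hu hlen m1 hb (by
    rw [form_sub_left, mul_sub, fb, hab]; ring)
  obtain ⟨m3, e3⟩ := z_sub C hp hodd hu hlen m2 hc (by
    rw [form_sub_left, form_sub_left, mul_sub, mul_sub, fc, hac, hbc]; ring)
  obtain ⟨m4, e4⟩ := z_sub C hp hodd hu hlen m3 hd (by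
    rw [form_sub_left, form_sub_left, form_sub_left, mul_sub, mul_sub, mul_sub, fd, had, hbd, hcd]; ring)
  have h3 : u - a - b - c - d = -u := by
    have : u - a - b - c - d = u - (a + b + c + d) := by abel
    rw [this, ← h2, two_smul]; abel
  rw [h3, C.z_neg u huR, e3, e2, e1] at e4
  have h4 : z d * (z c * (z b * z a)) = 1 := by
    have h5 : z u = (z d * (z c * (z b * z a))) * z u := by
      conv_lhs => rw [e4]
      group
    exact (mul_eq_right.1 h5.symm)
  have h6 : z d * (z c * (z b * z a)) = (z a * z b * z c * z d)⁻¹ := by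
    rw [mul_inv_rev, mul_inv_rev, mul_inv_rev, z_inv' C ha, z_inv' C hb, z_inv' C hc, z_inv' C hd]
  rw [h6, inv_eq_one] at h4
  exact h4

end Cfsg.Agent.Nodes.ZRel
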