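import Mathlib
import Cfsg.Agent.Nodes.TypeC

/-!
The sign of the invariant form in type `C_n` in `ε`-coordinates (project CIT):
`form_nonneg_iff`, `form_eq_zero_iff`, `ip_wt`.
-/

set_option autoImplicit false
set_option linter.unusedSectionVars false

namespace Cfsg.Agent.Nodes.TypeCForm

open Cfsg.Agent.ChevalleyStructure.CoxeterGeom Cfsg.Agent.Tits.Roots Cfsg.Agent.Nodes.TypeC

variable {n : ℕ}

/-- The standard scalar product. -/
def ip (u v : Fin n → ℤ) : ℤ := ∑ k, u k * v k

theorem ip_comm (u v : Fin n → ℤ) : ip u v = ip v u :=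
  Finset.sum_congr rfl fun _ _ => mul_comm _ _

theorem ip_add_left (u v w : Fin n → ℤ) : ip (u + v) w = ip u w + ip v w := by
  unfold ip
  rw [← Finset.sum_add_distrib]
  exact Finset.sum_congr rfl fun _ _ => by rw [Pi.add_apply]; ring

theorem ip_smul_left (c : ℤ) (u w : Fin n → ℤ) : ip (c • u) w = c * ip u w := by
  unfold ip
  rw [Finset.mul_sum]
  exact Finset.sum_congr rfl fun _ _ => by rw [Pi.smul_apply, smul_eq_mul]; ring

theorem ip_add_right (u v w : Fin n → ℤ) : ip u (v + w) = ip u v + ip u w := by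
  rw [ip_comm, ip_add_left, ip_comm v, ip_comm w]

theorem ip_smul_right (c : ℤ) (u w : Fin n → ℤ) : ip u (c • w) = c * ip u w := by
  rw [ip_comm, ip_smul_left, ip_comm]

theorem ip_sub_left (u v w : Fin n → ℤ) : ip (u - v) w = ip u w - ip v w := by
  have h1 : u - v = u + (-1 : ℤ) • v := by rw [neg_one_smul, sub_eq_add_neg]
  rw [h1, ip_add_left, ip_smul_left]; ring

theorem ip_sub_right (u v w : Fin n → ℤ) : ip u (v - w) = ip u v - ip u w := by
  rw [ip_comm, ip_sub_left, ip_comm v, ip_comm w]

/-- The sign of a signed index. -/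
def sn (a : Fin n × Bool) : ℤ := if a.2 then 1 else -1

theorem sn_ng (a : Fin n × Bool) : sn (ng a) = -sn a := by
  obtain ⟨i, s⟩ := a
  cases s <;> simp [sn, ng]

theorem sn_mul_self (a : Fin n × Bool) : sn a * sn a = 1 := by
  obtain ⟨i, s⟩ := a
  cases s <;> simp [sn]

theorem ip_wt_right (u : Fin n → ℤ) (a : Fin n × Bool) : ip u (wt a) = u a.1 * sn a := by
  unfold ip
  rw [Finset.sum_eq_single a.1]
  · rw [wt_apply, if_pos rfl, sn]
  · intro k _ hk
    rw [wt_apply, if_neg hk, mul_zero]
  · intro h; exact absurd (Finset.mem_univ _) h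

theorem ip_wt_self (a : Fin n × Bool) : ip (wt a) (wt a) = 1 := by
  rw [ip_wt_right, wt_apply, if_pos rfl]
  exact sn_mul_self a

theorem ip_wt_ng (a : Fin n × Bool) : ip (wt (ng a)) (wt a) = -1 := by
  rw [ip_wt_right, wt_ng, Pi.neg_apply, wt_apply, if_pos rfl]
  have := sn_mul_self a
  unfold sn at this ⊢
  linarith

theorem ip_wt_ne {a b : Fin n × Bool} (h : a.1 ≠ b.1) : ip (wt a) (wt b) = 0 := by
  rw [ip_wt_right, wt_apply, if_neg h.symm, zero_mul]

/-- The factor of the simple root. -/
def cc (i : Fin n) : ℤ := if (i : ℕ) + 1 < n then 1 else 2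

theorem cc_pos (i : Fin n) : 0 < cc i := by unfold cc; split_ifs <;> norm_num

theorem ip_bt (i : Fin n) (v : Fin n → ℤ) : ip v (bt i) = cc i * Cf i v := by
  rw [bt, ip_add_right, ip_wt_right, ip_wt_right]
  by_cases h : (i : ℕ) + 1 < n
  · simp only [cc, Cf, nx, sn, h, dif_pos, if_true]
    simp
    ring
  · simp only [cc, Cf, nx, sn, h, dif_neg, if_false, if_true, not_false_eq_true]
    ring

theorem Cf_bt_self (i : Fin n) : Cf i (bt i) = 2 := by
  have := A_apply i i
  rw [if_pos rfl] at this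
  exact this

variable {W : Type*} [Group W] (cs : CoxeterSystem (CoxeterMatrix.B n) W)

theorem ip_rep (w : W) (x y : Fin n → ℤ) :
    ip (ee (rep cs (isCartan n) w x)) (ee (rep cs (isCartan n) w y)) = ip (ee x) (ee y) := by
  induction w using cs.simple_induction_left with
  | one => rw [map_one, Module.End.one_apply, Module.End.one_apply]
  | mul_simple_left w i ih =>
    rw [rep_mul_apply, rep_mul_apply, rep_simple, ee_refl, ee_refl, ip_sub_left, ip_sub_right, ip_sub_right,
      ip_smul_left, ip_smul_left, ip_smul_right, ip_smul_right, ih, ip_comm (bt i) (ee _), ip_bt, ip_bt, ip_bt,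
      Cf_bt_self]
    ring

variable [Fintype W]

/-- The invariant form is proportional to the standard scalar product, at least for one root. -/
theorem form_eq {r : Fin n → ℤ} (hr : IsRoot cs (isCartan n) r) : ∃ c : ℤ, 0 < c ∧ ∀ x,
    c * form cs (isCartan n) x r = ip (ee x) (ee r) * form cs (isCartan n) r r := by
  obtain ⟨w, i, rfl⟩ := hr
  refine ⟨2 * cc i, by have := cc_pos i; omega, fun x => ?_⟩
  have h1 := two_form cs (isCartan n) i (rep cs (isCartan n) w⁻¹ x)
  have h2 : form cs (isCartan n) x (rep cs (isCartan n) w (sr i)) =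
      form cs (isCartan n) (rep cs (isCartan n) w⁻¹ x) (sr i) := by
    rw [form_rep_left, inv_inv]
  have h3 := ip_rep cs w⁻¹ x (rep cs (isCartan n) w (sr i))
  rw [rep_inv_apply, ee_sr, ip_bt, Cf_ee] at h3
  rw [form_rep, h2, ← h3]
  linear_combination (cc i) * h1

theorem form_nonneg_iff {x r : Fin n → ℤ} (hr : IsRoot cs (isCartan n) r) :
    0 ≤ form cs (isCartan n) x r ↔ 0 ≤ ip (ee x) (ee r) := by
  obtain ⟨c, hc, h1⟩ := form_eq cs hr
  have h2 := form_pos cs (isCartan n) hr.ne_zero
  have h3 := h1 x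
  constructor
  · intro h
    by_contra hcon
    rw [not_le] at hcon
    have h4 := mul_nonneg hc.le h
    have h5 := mul_neg_of_neg_of_pos hcon h2
    omega
  · intro h
    by_contra hcon
    rw [not_le] at hcon
    have h4 := mul_neg_of_pos_of_neg hc hcon
    have h5 := mul_nonneg h h2.le
    omega

theorem form_eq_zero_iff {x r : Fin n → ℤ} (hr : IsRoot cs (isCartan n) r) :
    form cs (isCartan n) x r = 0 ↔ ip (ee x) (ee r) = 0 := by
  obtain ⟨c, hc, h1⟩ := form_eq cs hr
  have h2 := form_pos cs (isCartan n) hr.ne_zero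
  have h3 := h1 x
  constructor
  · intro h
    rw [h, mul_zero] at h3
    exact (mul_eq_zero.1 h3.symm).resolve_right h2.ne'
  · intro h
    rw [h, zero_mul] at h3
    exact (mul_eq_zero.1 h3).resolve_left hc.ne'

end Cfsg.Agent.Nodes.TypeCForm
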