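import Mathlib
import Cfsg.Agent.Nodes.ClsOfPairs
import Cfsg.Agent.Nodes.ClsNorm
import Cfsg.Agent.Nodes.Coroot

/-!
The pair statements of `ClsOfPairs.cls_of_pairs` (project CIT, piece (UP)).

* `rp_of_swap` : an element of `⟨X x, X (-x)⟩` exchanging `X x` and `X (-x)` represents the reflection `s_x`;
* `pair_of_two` : `M i j = 2`;
* `Link`, `pair_of_cls` : the plane of two simple roots `α_i`, `α_j` of `G₀` is found inside a chart (a `Cls`) of another
  group.
-/

set_option autoImplicit false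
set_option linter.unusedSectionVars false

namespace Cfsg.Agent.Nodes.ClsPair

open CoxeterSystem Cfsg.Agent.ChevalleyStructure.CoxeterGeom Cfsg.Agent.Tits.Roots Cfsg.Agent.Tits.Core
  Cfsg.Agent.Tits.RootComb Cfsg.Agent.Tits.Exchange Cfsg.Agent.Nodes.Comb Cfsg.Agent.Nodes.Reps
  Cfsg.Agent.Nodes.BNOf Cfsg.Agent.Nodes.RGDLib Cfsg.Agent.Nodes.Chart Cfsg.Agent.Nodes.StabComb
  Cfsg.Agent.Nodes.Bruhat Cfsg.Agent.Nodes.OppDec Cfsg.Agent.Nodes.LeviDec Cfsg.Agent.Nodes.NormalForm
  Cfsg.Agent.Nodes.FreeTorus Cfsg.Agent.Nodes.ClsOfPairs Cfsg.Agent.Nodes.SubComb Cfsg.Agent.Nodes.Coroot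
open scoped commutatorElement

variable {I W Y : Type*} [Fintype I] [DecidableEq I] [Group W] [Group Y] {M : CoxeterMatrix I}
  {cs : CoxeterSystem M W} {A : I → I → ℤ} {h : IsCartan M A} {p : ℕ} {T : Subgroup Y} {n : I → Y}
  {X : (I → ℤ) → Subgroup Y}

/-! ### Elements of rank one groups -/

theorem normalizer_UN [Finite W] (R : RGD cs h p T n X) :
    Subgroup.normalizer (UN cs h X : Set Y) ⊓ GG cs h T X ≤ BN cs h T X := by
  intro u hu
  obtain ⟨h1, h2⟩ := Subgroup.mem_inf.1 hu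
  obtain ⟨k, hk⟩ := exists_rp cs R.nsys (w0 cs)
  have hk' : k ∈ GG cs h T X := NN_le_GG R ⟨_, hk⟩
  have h5 : k⁻¹ * u * k ∈ Subgroup.normalizer (RGD.Sup X (RGD.Pos cs h) : Set Y) := by
    rw [mem_normalizer_iff_cj] at h1 ⊢
    rw [cj_mul, cj_mul, cj_U R hk, h1, ← cj_U R hk, cj_inv_cj]
  have h7 : k⁻¹ * u * k ∈ RGD.B cs h T X := by
    rw [← normalizer_U R]
    exact Subgroup.mem_inf.2 ⟨h5, mul_mem (mul_mem (inv_mem hk') h2) hk'⟩
  rw [← cj_B R hk]
  exact mem_cj.2 h7

theorem LL_le_LJ (k : I) : LL X (sr k) ≤ LJ cs h T X {k} := by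
  have h1 : ∀ x : I → ℤ, x ∈ RootsJ cs h {k} → X x ≤ LJ cs h T X {k} := fun x hx =>
    (RGD.le_Sup (S := RootsJ cs h {k}) hx).trans le_sup_right
  have h2 : (sr k : I → ℤ) ∈ RootsJ cs h {k} := ⟨isRoot_sr cs h k, fun j hj => sr_ne hj⟩
  refine sup_le (h1 _ h2) (h1 _ ⟨(isRoot_sr cs h k).neg, fun j hj => ?_⟩)
  rw [Pi.neg_apply, sr_ne hj, neg_zero]

theorem Pos_eq_sup (k : I) : RGD.Sup X (RGD.Pos cs h) = X (sr k) ⊔ VJ cs h X {k} := by
  apply le_antisymm
  · refine RGD.Sup_le fun x hx => ?_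
    by_cases h1 : x = sr k
    · subst h1; exact le_sup_left
    · obtain ⟨j, hj, h2⟩ := RGD.exists_coeff hx.1 hx.2 h1
      exact (RGD.le_Sup (S := NotJ cs h {k}) ⟨hx.1, hx.2, j, hj, h2⟩).trans le_sup_right
  · exact sup_le (RGD.le_Sup (S := RGD.Pos cs h) ⟨isRoot_sr cs h k, sr_nonneg k⟩)
      (RGD.Sup_mono fun x hx => ⟨hx.1, hx.2.1⟩)

theorem Neg_eq_sup (k : I) : UN cs h X = X (-sr k) ⊔ VNJ cs h X {k} := by
  apply le_antisymm
  · refine RGD.Sup_le fun x hx => ?_
    by_cases h1 : x = -sr k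
    · subst h1; exact le_sup_left
    · have h0 : 0 ≤ -x := neg_nonneg.2 hx.2
      obtain ⟨j, hj, h2⟩ := RGD.exists_coeff hx.1.neg h0 (i := k) (fun h3 => h1 (by rw [← h3, neg_neg]))
      exact (RGD.le_Sup (S := NotNJ cs h {k}) ⟨hx.1.neg, h0, j, hj, h2⟩).trans le_sup_right
  · refine sup_le (RGD.le_Sup (S := Neg cs h) ⟨(isRoot_sr cs h k).neg, neg_nonpos.2 (sr_nonneg k)⟩)
      (RGD.Sup_mono fun x hx => ?_)
    have h1 := NotNJ.isRoot hx
    exact ⟨h1, neg_nonneg.1 hx.2.1⟩

/-- An element of `⟨X x, X (-x)⟩` normalising `X x` and `X (-x)` lies in the torus. -/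
theorem mem_T_of_normalizes [Finite W] (R : RGD cs h p T n X) {x : I → ℤ} (hx : IsRoot cs h x) {t : Y}
    (ht : t ∈ LL X x) (h1 : cj t (X x) = X x) (h2 : cj t (X (-x)) = X (-x)) : t ∈ T := by
  obtain ⟨w, k, rfl⟩ := hx
  obtain ⟨g, hg⟩ := exists_rp cs R.nsys w
  have hX : ∀ y, IsRoot cs h y → cj g⁻¹ (X (rep cs h w y)) = X y := by
    intro y hy
    rw [← R.conj_rp hg hy, cj_inv_cj]
  have hk := isRoot_sr cs h k
  have e1 : cj (g⁻¹ * t * g) (X (sr k)) = X (sr k) := by
    rw [cj_mul, cj_mul, R.conj_rp hg hk, h1, hX _ hk]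
  have e2 : cj (g⁻¹ * t * g) (X (-sr k)) = X (-sr k) := by
    have h3 := R.conj_rp hg hk.neg
    rw [map_neg] at h3
    rw [cj_mul, cj_mul, h3, h2, ← h3, cj_inv_cj]
  have hL : g⁻¹ * t * g ∈ LL X (sr k) := by
    have h3 : LL X (rep cs h w (sr k)) = cj g (LL X (sr k)) := by
      unfold LL
      rw [cj_sup, R.conj_rp hg hk, R.conj_rp hg hk.neg, map_neg]
    rw [h3] at ht
    exact mem_cj.1 ht
  have hLJ : g⁻¹ * t * g ∈ LJ cs h T X {k} := LL_le_LJ k hL
  have hGG : g⁻¹ * t * g ∈ GG cs h T X := LL_le_GG hk hL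
  have hB : g⁻¹ * t * g ∈ RGD.B cs h T X := by
    rw [← normalizer_U R]
    refine Subgroup.mem_inf.2 ⟨?_, hGG⟩
    have h4 := mem_normalizer_iff_cj.1 (LJ_le_normalizer_VJ R {k} hLJ)
    rw [mem_normalizer_iff_cj, Pos_eq_sup k, cj_sup, e1, h4]
  have hBN : g⁻¹ * t * g ∈ BN cs h T X := by
    refine normalizer_UN R (Subgroup.mem_inf.2 ⟨?_, hGG⟩)
    have h4 := mem_normalizer_iff_cj.1 (LJ_le_normalizer_VNJ R {k} hLJ)
    rw [mem_normalizer_iff_cj, Neg_eq_sup k, cj_sup, e2, h4]
  have hT : g⁻¹ * t * g ∈ T := by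
    rw [← B_inf_BN R]; exact ⟨hB, hBN⟩
  have h5 := mem_normalizer_iff_cj.1 hg.mem_normalizer
  have h6 : g * (g⁻¹ * t * g) * g⁻¹ ∈ cj g T := conj_mem_cj.2 hT
  rw [h5] at h6
  have e : g * (g⁻¹ * t * g) * g⁻¹ = t := by group
  rwa [e] at h6

/-- An element of `⟨X x, X (-x)⟩` exchanging `X x` and `X (-x)` represents the reflection. -/
theorem rp_of_swap [Finite W] (R : RGD cs h p T n X) {w : W} {k : I} {g : Y}
    (hg : g ∈ LL X (rep cs h w (sr k))) (h1 : cj g (X (rep cs h w (sr k))) = X (-rep cs h w (sr k)))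
    (h2 : cj g (X (-rep cs h w (sr k))) = X (rep cs h w (sr k))) : Rp cs R.nsys (rfl' cs w k) g := by
  set x := rep cs h w (sr k) with hxd
  have hx : IsRoot cs h x := ⟨w, k, hxd⟩
  -- a `μ`-element
  obtain ⟨m, hm, hmr⟩ : ∃ m ∈ LL X x, Rp cs R.nsys (rfl' cs w k) m := by
    obtain ⟨q, hq⟩ := exists_rp cs R.nsys w
    obtain ⟨a, ha, ha1⟩ : ∃ a ∈ X (-sr k), a ≠ 1 := by
      have h3 := X_ne_bot R (isRoot_sr cs h k).neg
      by_contra hcon
      push Not at hcon
      exact h3 ((Subgroup.eq_bot_iff_forall _).2 hcon)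
    obtain ⟨u, hu, t, ht, v, hv, e⟩ := R.rk1 k a ha ha1
    have h3 : t * n k ∈ LL X (sr k) := by
      have : t * n k = u⁻¹ * a * v⁻¹ := by rw [e]; group
      rw [this]
      exact mul_mem (mul_mem (inv_mem (Subgroup.mem_sup_left hu)) (Subgroup.mem_sup_right ha))
        (inv_mem (Subgroup.mem_sup_left hv))
    refine ⟨q * (t * n k) * q⁻¹, ?_, ?_⟩
    · have h4 : LL X x = cj q (LL X (sr k)) := by
        unfold LL
        rw [cj_sup, R.conj_rp hq (isRoot_sr cs h k), R.conj_rp hq (isRoot_sr cs h k).neg, map_neg]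
      rw [h4]
      exact conj_mem_cj.2 h3
    · have h5 := (hq.mul ((rp_of_mem (cs := cs) (hN := R.nsys) ht).mul (rp_simple cs R.nsys k))).mul hq.inv
      rwa [one_mul] at h5
  have hr : rep cs h (rfl' cs w k) x = -x := by
    rw [hxd, rfl', rep_mul_apply, rep_mul_apply, rep_inv_apply, rep_simple_sr, map_neg]
  have e1 : cj m (X x) = X (-x) := by rw [R.conj_rp hmr hx, hr]
  have e2 : cj m (X (-x)) = X x := by rw [R.conj_rp hmr hx.neg, map_neg, hr, neg_neg]
  have e1' : cj m⁻¹ (X (-x)) = X x := by rw [← e1, cj_inv_cj]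
  have e2' : cj m⁻¹ (X x) = X (-x) := by
    conv_lhs => rw [← e2]
    rw [cj_inv_cj]
  have hT : g * m⁻¹ ∈ T := by
    refine mem_T_of_normalizes R hx (mul_mem hg (inv_mem hm)) ?_ ?_
    · rw [cj_mul, e2', h2]
    · rw [cj_mul, e1', h1]
  have h6 := (rp_of_mem (cs := cs) (hN := R.nsys) hT).mul hmr
  rwa [one_mul, inv_mul_cancel_right] at h6

/-! ### Orthogonal nodes -/

variable {R : Set (I → ℤ)} {Z : (I → ℤ) → Subgroup Y} {z : (I → ℤ) → Y}

theorem A_eq_zero (h : IsCartan M A) {i j : I} (hij : i ≠ j) (h2 : M i j = 2) : A i j = 0 := by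
  rcases h.rel i j hij with h0 | h0 | h0 | h0
  · exact h0.2.1
  all_goals exfalso; have := h0.1; omega

/-- The roots supported on two orthogonal nodes. -/
theorem eq_of_supp_two [Finite W] {i j : I} (hij : i ≠ j) (h2 : M i j = 2) {x : I → ℤ} (hx : IsRoot cs h x)
    (hs : Supp i j x) : ∃ a, (a = i ∨ a = j) ∧ (x = sr a ∨ x = -sr a) := by
  have hA := A_eq_zero h hij h2
  have hA' := A_eq_zero h hij.symm (by rwa [M.symmetric])
  have key : ∀ a b : I, A a b = 0 → rep cs h (cs.simple a) (sr b) = sr b := by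
    intro a b hab
    rw [rep_simple_eq, sr, pairing_single, hab, zero_mul, zero_smul, sub_zero]
  obtain ⟨v, hv, k, hk, rfl⟩ := exists_of_supp cs h hx hs
  obtain ⟨ω, hω, rfl⟩ := exists_word_of_mem_WJ cs hv
  clear hx hs hv
  induction ω with
  | nil =>
    rw [wordProd_nil, map_one, Module.End.one_apply]
    exact ⟨k, hk, Or.inl rfl⟩
  | cons b ω ih =>
    obtain ⟨a, ha, h1⟩ := ih (fun b hb => hω b (List.mem_cons_of_mem _ hb))
    have hb : b = i ∨ b = j := hω b List.mem_cons_self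
    rw [wordProd_cons, rep_mul_apply]
    refine ⟨a, ha, ?_⟩
    by_cases hab : b = a
    · subst hab
      rcases h1 with h1 | h1
      · right; rw [h1, rep_simple_sr]
      · left; rw [h1, map_neg, rep_simple_sr, neg_neg]
    · have h3 : rep cs h (cs.simple b) (sr a) = sr a := by
        apply key
        rcases ha with rfl | rfl <;> rcases hb with rfl | rfl
        · exact absurd rfl hab
        · exact hA'
        · exact hA
        · exact absurd rfl hab
      rcases h1 with h1 | h1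
      · left; rw [h1, h3]
      · right; rw [h1, map_neg, h3]

/-- The pair statements for orthogonal nodes. -/
theorem pair_of_two [Fintype W] (Rg : RGD cs h p T n X) (hle : ∀ r ∈ R, Z r ≤ X r) (hR : ∀ r ∈ R, IsRoot cs h r)
    {i j : I} (hij : i ≠ j) (h2 : M i j = 2) :
    ∀ r ∈ R, Supp i j r → ∀ y, IsRoot cs h y → Supp i j y → y ≠ r → y ≠ -r → Pair cs h X Z z y r := by
  intro r hr hsr y hy hsy hne hne'
  obtain ⟨b, hb, hrb⟩ := eq_of_supp_two hij h2 (hR r hr) hsr
  obtain ⟨a, ha, hya⟩ := eq_of_supp_two hij h2 hy hsy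
  have hab : a ≠ b := by
    rintro rfl
    rcases hrb with rfl | rfl <;> rcases hya with rfl | rfl
    · exact hne rfl
    · exact hne' rfl
    · exact hne' (neg_neg _).symm
    · exact hne rfl
  have h2' : M a b = 2 := by
    rcases ha with rfl | rfl <;> rcases hb with rfl | rfl
    · exact absurd rfl hab
    · exact h2
    · rw [M.symmetric]; exact h2
    · exact absurd rfl hab
  have hsab : ∀ q, Supp i j q → Supp a b q := by
    intro q hq
    rcases ha with rfl | rfl <;> rcases hb with rfl | rfl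
    · exact absurd rfl hab
    · exact hq
    · exact hq.swap
    · exact absurd rfl hab
  have hf : form cs h (sr a) (sr b) = 0 := by
    have := two_form cs h b (sr a)
    rw [sr, pairing_single, A_eq_zero h hab.symm (by rwa [M.symmetric])] at this
    rw [sr]
    linarith
  have hf1 : form cs h y r = 0 := by
    rcases hrb with rfl | rfl <;> rcases hya with rfl | rfl <;>
      simp only [form_neg_left, form_neg_right, hf, neg_zero]
  have hya0 : y a ≠ 0 ∧ r a = 0 ∧ r b ≠ 0 ∧ y b = 0 := by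
    refine ⟨?_, ?_, ?_, ?_⟩
    · rcases hya with rfl | rfl
      · rw [sr_self]; decide
      · rw [Pi.neg_apply, sr_self]; decide
    · rcases hrb with rfl | rfl
      · rw [sr_ne hab]
      · rw [Pi.neg_apply, sr_ne hab, neg_zero]
    · rcases hrb with rfl | rfl
      · rw [sr_self]; decide
      · rw [Pi.neg_apply, sr_self]; decide
    · rcases hya with rfl | rfl
      · rw [sr_ne hab.symm]
      · rw [Pi.neg_apply, sr_ne hab.symm, neg_zero]
  constructor
  · intro _ u hu v hv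
    have h5 := Rg.comm y r hy (hR r hr) hne hne' u hu v (hle r hr hv)
    have h6 : btw cs h X y r = ⊥ := by
      unfold Reps.btw
      rw [eq_bot_iff]
      refine iSup_le ?_
      rintro ⟨q, hq⟩
      exfalso
      obtain ⟨hq1, m, c, d, hm, hc, hd, e⟩ := hq
      have hsq : Supp a b q := by
        intro k hk1 hk2
        have h5 := congrFun e k
        rw [Pi.smul_apply, Pi.add_apply, Pi.smul_apply, Pi.smul_apply, hsab y hsy k hk1 hk2,
          hsab r hsr k hk1 hk2, smul_zero, smul_zero, add_zero, smul_eq_mul] at h5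
        rcases mul_eq_zero.1 h5 with h6 | h6
        · omega
        · exact h6
      have ea := congrFun e a
      have eb := congrFun e b
      rw [Pi.smul_apply, Pi.add_apply, Pi.smul_apply, Pi.smul_apply, hya0.2.1, smul_zero, add_zero, smul_eq_mul,
        smul_eq_mul] at ea
      rw [Pi.smul_apply, Pi.add_apply, Pi.smul_apply, Pi.smul_apply, hya0.2.2.2, smul_zero, zero_add, smul_eq_mul,
        smul_eq_mul] at eb
      have ea' : q a ≠ 0 := by
        intro h0
        rw [h0, mul_zero] at ea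
        rcases mul_eq_zero.1 ea.symm with h6 | h6
        · omega
        · exact hya0.1 h6
      have eb' : q b ≠ 0 := by
        intro h0
        rw [h0, mul_zero] at eb
        rcases mul_eq_zero.1 eb.symm with h6 | h6
        · omega
        · exact hya0.2.2.1 h6
      obtain ⟨c', hc', h7⟩ := eq_of_supp_two hab h2' hq1 hsq
      rcases hc' with rfl | rfl
      · apply eb'
        rcases h7 with rfl | rfl
        · rw [sr_ne hab.symm]
        · rw [Pi.neg_apply, sr_ne hab.symm, neg_zero]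
      · apply ea'
        rcases h7 with rfl | rfl
        · rw [sr_ne hab]
        · rw [Pi.neg_apply, sr_ne hab, neg_zero]
    rw [h6, Subgroup.mem_bot, commutatorElement_eq_one_iff_mul_comm] at h5
    exact h5
  · intro h0
    exact absurd hf1 h0

/-! ### Pairs inside a chart -/

section Link

variable {I' W' : Type*} [Fintype I'] [DecidableEq I'] [Group W'] {M' : CoxeterMatrix I'}
  {cs' : CoxeterSystem M' W'} {A' : I' → I' → ℤ} {h' : IsCartan M' A'} {p' : ℕ} {T' : Subgroup Y} {n' : I' → Y}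
  {X' : (I' → ℤ) → Subgroup Y} {R' : Set (I' → ℤ)} {Z' : (I' → ℤ) → Subgroup Y} {z' : (I' → ℤ) → Y}

/-- The linear map of the plane of `α_i`, `α_j` into the chart. -/
def io (i j : I) (bi bj : I' → ℤ) (x : I → ℤ) : I' → ℤ := x i • bi + x j • bj

theorem io_swap (i j : I) (bi bj : I' → ℤ) (x : I → ℤ) : io j i bj bi x = io i j bi bj x := add_comm _ _

theorem io_neg (i j : I) (bi bj : I' → ℤ) (x : I → ℤ) : io i j bi bj (-x) = -io i j bi bj x := by
  unfold io
  rw [Pi.neg_apply, Pi.neg_apply, neg_smul, neg_smul, neg_add]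

theorem io_left {i j : I} (hij : i ≠ j) (bi bj : I' → ℤ) : io i j bi bj (sr i) = bi := by
  unfold io
  rw [sr_self, sr_ne hij.symm, one_smul, zero_smul, add_zero]

theorem io_right {i j : I} (hij : i ≠ j) (bi bj : I' → ℤ) : io i j bi bj (sr j) = bj := by
  rw [← io_swap, io_left hij.symm]

variable (cs' h' n X R Z z X' R' Z' z') in
/-- The rank one group of the node `i` is the rank one group of the root `b` of the chart. -/
structure LinkOne (i : I) (b : I' → ℤ) : Prop where
  root : IsRoot cs' h' b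
  pos : X (sr i) = X' b
  neg : X (-sr i) = X' (-b)
  mem : n i ∈ LL X (sr i)
  cls : sr i ∈ R → b ∈ R' ∧ Z (sr i) = Z' b ∧ z (sr i) = z' b

variable (A n X R Z z cs' h' X' R' Z' z') in
/-- The plane of the nodes `i`, `j` is the plane of the roots `bi`, `bj` of the chart. -/
structure Link (i j : I) (bi bj : I' → ℤ) : Prop where
  left : LinkOne n X R Z z cs' h' X' R' Z' z' i bi
  right : LinkOne n X R Z z cs' h' X' R' Z' z' j bj
  cij : cpr cs' h' bj bi = A i j
  cji : cpr cs' h' bi bj = A j i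

theorem Link.symm {i j : I} {bi bj : I' → ℤ} (L : Link A n X R Z z cs' h' X' R' Z' z' i j bi bj) :
    Link A n X R Z z cs' h' X' R' Z' z' j i bj bi := ⟨L.right, L.left, L.cji, L.cij⟩

theorem cpr_io [Finite W'] {i j : I} (hij : i ≠ j) {bi bj : I' → ℤ} (hbi : IsRoot cs' h' bi)
    (cij : cpr cs' h' bj bi = A i j) (h : IsCartan M A) {x : I → ℤ} (hx : Supp i j x) :
    cpr cs' h' (io i j bi bj x) bi = pairing A i x := by
  unfold io
  rw [cpr_add cs' h' _ _ hbi, cpr_smul cs' h' _ _ hbi, cpr_smul cs' h' _ _ hbi, cpr_self cs' h' hbi, cij]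
  conv_rhs => rw [supp_eq hij hx]
  rw [pairing_add, pairing_smul, pairing_smul, sr, sr, pairing_single, pairing_single, h.diag]
  ring

theorem io_simple [Finite W'] {i j : I} (hij : i ≠ j) {bi bj : I' → ℤ} (hbi : IsRoot cs' h' bi)
    (cij : cpr cs' h' bj bi = A i j) {x : I → ℤ} (hx : Supp i j x) :
    io i j bi bj (rep cs h (cs.simple i) x) =
      io i j bi bj x - cpr cs' h' (io i j bi bj x) bi • bi := by
  rw [cpr_io hij hbi cij h hx, rep_simple_eq]
  unfold io
  rw [Pi.sub_apply, Pi.sub_apply, Pi.smul_apply, Pi.smul_apply, sr_self, sr_ne hij.symm]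
  simp only [smul_eq_mul, mul_one, mul_zero, sub_zero]
  module

variable (cs h cs' h' X R Z z X' R' Z' z') in
/-- The root `x` of the plane corresponds to the root `io x` of the chart. -/
structure Corr (i j : I) (bi bj : I' → ℤ) (x : I → ℤ) : Prop where
  root : IsRoot cs' h' (io i j bi bj x)
  eq : X x = X' (io i j bi bj x)
  cls : x ∈ R → io i j bi bj x ∈ R' ∧ Z x = Z' (io i j bi bj x) ∧ z x = z' (io i j bi bj x)
  cpr : ∀ y, Supp i j y → Coroot.cpr cs' h' (io i j bi bj y) (io i j bi bj x) = Coroot.cpr cs h y x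

theorem Corr.swap {i j : I} {bi bj : I' → ℤ} {x : I → ℤ}
    (K : Corr cs h X R Z z cs' h' X' R' Z' z' i j bi bj x) :
    Corr cs h X R Z z cs' h' X' R' Z' z' j i bj bi x := by
  obtain ⟨h1, h2, h3, h4⟩ := K
  refine ⟨?_, ?_, ?_, ?_⟩
  · rw [io_swap]; exact h1
  · rw [io_swap]; exact h2
  · rw [io_swap]; exact h3
  · intro y hy
    rw [io_swap i j bi bj y, io_swap i j bi bj x]
    exact h4 y hy.swap

/-- `n i` represents the reflection in `b` in the chart. -/
theorem LinkOne.rp [Finite W'] (Rg : RGD cs h p T n X) (C : RGD cs' h' p' T' n' X') {i : I} {b : I' → ℤ}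
    (L : LinkOne n X R Z z cs' h' X' R' Z' z' i b) :
    ∃ (v : W') (k : I'), b = rep cs' h' v (sr k) ∧ Rp cs' C.nsys (rfl' cs' v k) (n i) := by
  obtain ⟨v, k, hb⟩ := L.root
  refine ⟨v, k, hb, ?_⟩
  have h1 := Rg.conj i _ (isRoot_sr cs h i)
  have h2 := Rg.conj i _ (isRoot_sr cs h i).neg
  rw [rep_simple_sr] at h1
  rw [map_neg, rep_simple_sr, neg_neg] at h2
  rw [L.pos, L.neg] at h1 h2
  refine rp_of_swap C ?_ (by rw [← hb]; exact h1) (by rw [← hb]; exact h2)
  rw [← hb]
  have h3 := L.mem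
  unfold LL at h3 ⊢
  rw [L.pos, L.neg] at h3
  exact h3

theorem Corr.step [Fintype W] [Fintype W'] (Rg : RGD cs h p T n X) (E : Equi cs h T n R Z z)
    (C : Cls cs' h' p' T' n' X' R' Z' z') {i j : I} (hij : i ≠ j) {bi bj : I' → ℤ}
    (L : LinkOne n X R Z z cs' h' X' R' Z' z' i bi) (cij : Coroot.cpr cs' h' bj bi = A i j) {x : I → ℤ}
    (hx : IsRoot cs h x) (hs : Supp i j x) (K : Corr cs h X R Z z cs' h' X' R' Z' z' i j bi bj x) :
    Corr cs h X R Z z cs' h' X' R' Z' z' i j bi bj (rep cs h (cs.simple i) x) := by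
  obtain ⟨v, k, hb, hrp⟩ := L.rp Rg C.rgd
  have hio : ∀ y, Supp i j y → io i j bi bj (rep cs h (cs.simple i) y) = rep cs' h' (rfl' cs' v k) (io i j bi bj y) := by
    intro y hy
    rw [io_simple hij L.root cij hy, rep_rfl'_eq, ← hb]
  have hinv : ∀ y : I → ℤ, rep cs h (cs.simple i) (rep cs h (cs.simple i) y) = y := by
    intro y
    rw [← rep_mul_apply, simple_mul_simple_self, map_one, Module.End.one_apply]
  have hsi : ∀ y, Supp i j y → Supp i j (rep cs h (cs.simple i) y) := fun y hy =>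
    supp_rep cs h (Subgroup.subset_closure ⟨i, Set.mem_insert i _, rfl⟩) hy
  refine ⟨?_, ?_, ?_, ?_⟩
  · rw [hio x hs]; exact K.root.act _
  · rw [hio x hs, ← C.rgd.conj_rp hrp K.root, ← K.eq, Rg.conj i x hx]
  · intro hR
    have hxR : x ∈ R := by
      have := E.act _ hR (cs.simple i)
      rwa [hinv] at this
    obtain ⟨k1, k2, k3⟩ := K.cls hxR
    refine ⟨?_, ?_, ?_⟩
    · rw [hio x hs]; exact C.act _ k1 _
    · rw [hio x hs, ← ClsNorm.conj_Z C hrp k1, ← k2, E.conj i x hxR]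
    · rw [hio x hs, ← ClsNorm.conj_z C hrp k1, ← k3, E.z_conj i x hxR]
  · intro y hy
    have e1 : io i j bi bj y = rep cs' h' (rfl' cs' v k) (io i j bi bj (rep cs h (cs.simple i) y)) := by
      rw [← hio _ (hsi y hy), hinv]
    rw [e1, hio x hs, cpr_rep cs' h' _ _ K.root, K.cpr _ (hsi y hy)]
    rw [← cpr_rep cs h (cs.simple i) _ hx, hinv]

theorem Link.corr [Fintype W] [Fintype W'] (Rg : RGD cs h p T n X) (E : Equi cs h T n R Z z)
    (C : Cls cs' h' p' T' n' X' R' Z' z') {i j : I} (hij : i ≠ j) {bi bj : I' → ℤ}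
    (L : Link A n X R Z z cs' h' X' R' Z' z' i j bi bj) {x : I → ℤ}
    (hx : IsRoot cs h x) (hs : Supp i j x) : Corr cs h X R Z z cs' h' X' R' Z' z' i j bi bj x := by
  have base : ∀ {i j : I} {bi bj : I' → ℤ}, i ≠ j → Link A n X R Z z cs' h' X' R' Z' z' i j bi bj →
      Corr cs h X R Z z cs' h' X' R' Z' z' i j bi bj (sr i) := by
    intro i j bi bj hij L
    have e := io_left hij bi bj
    refine ⟨?_, ?_, ?_, ?_⟩
    · rw [e]; exact L.left.root
    · rw [e]; exact L.left.pos
    · rw [e]; exact L.left.cls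
    · intro y hy
      rw [e, cpr_io hij L.left.root L.cij h hy, cpr_sr]
  obtain ⟨v, hv, k, hk, rfl⟩ := exists_of_supp cs h hx hs
  obtain ⟨ω, hω, rfl⟩ := exists_word_of_mem_WJ cs hv
  clear hx hs hv
  have hkr := isRoot_sr cs h k
  have hks : Supp i j (sr k) := by
    rcases hk with rfl | rfl
    · exact supp_sr_left _ _
    · exact supp_sr_right _ _
  induction ω with
  | nil =>
    rw [wordProd_nil, map_one, Module.End.one_apply]
    rcases hk with rfl | rfl
    · exact base hij L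
    · exact (base hij.symm L.symm).swap
  | cons b ω ih =>
    have h1 := ih (fun b hb => hω b (List.mem_cons_of_mem _ hb))
    have hb : b = i ∨ b = j := hω b List.mem_cons_self
    have hw : cs.wordProd ω ∈ WJ cs {i, j} := by
      have : ∀ ω : List I, (∀ b ∈ ω, b ∈ ({i, j} : Set I)) → cs.wordProd ω ∈ WJ cs {i, j} := by
        intro ω
        induction ω with
        | nil => intro _; rw [wordProd_nil]; exact one_mem _
        | cons a ω ih' =>
          intro ha
          rw [wordProd_cons]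
          exact mul_mem (Subgroup.subset_closure ⟨a, ha a List.mem_cons_self, rfl⟩)
            (ih' fun b hb => ha b (List.mem_cons_of_mem _ hb))
      exact this ω (fun b hb => hω b (List.mem_cons_of_mem _ hb))
    have hs' : Supp i j (rep cs h (cs.wordProd ω) (sr k)) := supp_rep cs h hw hks
    rw [wordProd_cons, rep_mul_apply]
    rcases hb with rfl | rfl
    · exact Corr.step Rg E C hij L.left L.cij (hkr.act _) hs' h1
    · exact (Corr.step Rg E C hij.symm L.right L.cji (hkr.act _) hs'.swap h1.swap).swap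

/-- **The pair statements from a chart.** -/
theorem pair_of_cls [Fintype W] [Fintype W'] (Rg : RGD cs h p T n X) (E : Equi cs h T n R Z z)
    (C : Cls cs' h' p' T' n' X' R' Z' z') {i j : I} (hij : i ≠ j) {bi bj : I' → ℤ}
    (L : Link A n X R Z z cs' h' X' R' Z' z' i j bi bj) :
    ∀ r ∈ R, Supp i j r → ∀ y, IsRoot cs h y → Supp i j y → y ≠ r → y ≠ -r → Pair cs h X Z z y r := by
  intro r hr hsr y hy hsy hne hne'
  have Kr := L.corr Rg E C hij (E.root r hr) hsr
  have Ky := L.corr Rg E C hij hy hsy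
  have Kn := L.corr Rg E C hij (E.root r hr).neg hsr.neg
  obtain ⟨k1, k2, k3⟩ := Kr.cls hr
  have hc := Kr.cpr y hsy
  have hf0 : form cs' h' (io i j bi bj y) (io i j bi bj r) = 0 ↔ form cs h y r = 0 := by
    rw [← cpr_zero_iff cs' h' _ Kr.root, ← cpr_zero_iff cs h _ (E.root r hr), hc]
  have hfp : 0 < form cs' h' (io i j bi bj y) (io i j bi bj r) ↔ 0 < form cs h y r := by
    rw [← cpr_pos_iff cs' h' _ Kr.root, ← cpr_pos_iff cs h _ (E.root r hr), hc]
  constructor
  · intro h0 a ha b hb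
    refine C.cent _ k1 _ Ky.root ?_ a (by rw [← Ky.eq]; exact ha) b (by rw [← k2]; exact hb)
    rcases h0.lt_or_eq with h1 | h1
    · exact (hfp.2 h1).le
    · exact (hf0.2 h1.symm).ge
  · intro h0 a ha
    rw [k3]
    refine C.z_inv _ k1 _ Ky.root ?_ ?_ (fun h1 => h0 (hf0.1 h1)) a (by rw [← Ky.eq]; exact ha)
    · intro h1
      apply hne
      apply X_injective Rg hy (E.root r hr)
      rw [Ky.eq, Kr.eq, h1]
    · intro h1
      apply hne'
      apply X_injective Rg hy (E.root r hr).neg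
      rw [Ky.eq, Kn.eq, h1, io_neg]

end Link

end Cfsg.Agent.Nodes.ClsPair
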