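import Mathlib
import Cfsg.Agent.Nodes.ClsPair
import Cfsg.Agent.Nodes.PairOf
import Cfsg.Agent.RootAmalgam.ToSys
import Cfsg.Agent.Cit.FrameClose

/-!
From classical root groups to charts (project CIT, piece (UP)).

* `ZSys` : the subgroups `Z r` are permuted by the `n i` and fixed by the torus;
* `equi_of_hyp`, `node_of_hyp` : with `K_r = ⟨Z r, Z (-r)⟩ ∈ Om`, `z_r = zz K_r`, most of the fields of `Equi` and `Node`
  are automatic;
* `LinkZ`, `pair_of_chart` : pairs from a chart, the involutions are automatic;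
* `cls_long` : the case `Z r = X r` (long root groups);
* `chartOfCls` : `Cls` + frame ⟹ `Chart`.
-/

set_option autoImplicit false
set_option linter.unusedSectionVars false

namespace Cfsg.Agent.Nodes.ChartOfCls

open CoxeterSystem Cfsg.Agent.ChevalleyStructure.CoxeterGeom Cfsg.Agent.Tits.Roots Cfsg.Agent.Tits.Core
  Cfsg.Agent.Tits.RootComb Cfsg.Agent.Tits.Exchange Cfsg.Agent.Nodes.Comb Cfsg.Agent.Nodes.Reps
  Cfsg.Agent.Nodes.BNOf Cfsg.Agent.Nodes.RGDLib Cfsg.Agent.Nodes.Chart Cfsg.Agent.Nodes.StabComb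
  Cfsg.Agent.Nodes.Bruhat Cfsg.Agent.Nodes.OppDec Cfsg.Agent.Nodes.LeviDec Cfsg.Agent.Nodes.NormalForm
  Cfsg.Agent.Nodes.FreeTorus Cfsg.Agent.Nodes.ClsOfPairs Cfsg.Agent.Nodes.SubComb Cfsg.Agent.Nodes.Coroot
  Cfsg.Agent.Nodes.ClsPair
open Cfsg.Agent.Cit (Hyp zz)
open scoped commutatorElement

variable {I W Y : Type*} [Fintype I] [DecidableEq I] [Group W] [Group Y] {M : CoxeterMatrix I}
  {cs : CoxeterSystem M W} {A : I → I → ℤ} {h : IsCartan M A} {p : ℕ} {T : Subgroup Y} {n : I → Y}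
  {X : (I → ℤ) → Subgroup Y} {R : Set (I → ℤ)} {Z : (I → ℤ) → Subgroup Y} {Om : Set (Subgroup Y)}

/-! ### Systems of subgroups -/

variable (cs h T n R Z) in
/-- The subgroups `Z r`, `r ∈ R`, are permuted by the `n i` and fixed by the torus. -/
structure ZSys : Prop where
  root : ∀ r ∈ R, IsRoot cs h r
  act : ∀ r ∈ R, ∀ w, rep cs h w r ∈ R
  conj : ∀ i, ∀ r ∈ R, cj (n i) (Z r) = Z (rep cs h (cs.simple i) r)
  tor : ∀ r ∈ R, ∀ t ∈ T, cj t (Z r) = Z r

/-- The group `⟨Z r, Z (-r)⟩`. -/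
def KK (Z : (I → ℤ) → Subgroup Y) (r : I → ℤ) : Subgroup Y := Z r ⊔ Z (-r)

theorem KK_neg (r : I → ℤ) : KK Z (-r) = KK Z r := by
  unfold KK
  rw [neg_neg, sup_comm]

/-- The involution of `⟨Z r, Z (-r)⟩`. -/
noncomputable def zf (Z : (I → ℤ) → Subgroup Y) (r : I → ℤ) : Y := zz (KK Z r)

namespace ZSys

variable (E : ZSys cs h T n R Z)

include E

theorem dummy : Equi cs h T n R Z (fun _ => (1 : Y)) :=
  ⟨E.root, E.act, E.conj, E.tor, fun i r _ => by group, fun r _ t _ => by group, fun r _ => rfl⟩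

theorem neg {r : I → ℤ} (hr : r ∈ R) : -r ∈ R := E.dummy.neg hr

theorem conj_rp (hN : NSys M T n) {w : W} {g : Y} (hg : Rp cs hN w g) {r : I → ℤ} (hr : r ∈ R) :
    cj g (Z r) = Z (rep cs h w r) := (E.dummy.conj_rp hN hg hr).1

theorem conj_KK (hN : NSys M T n) {w : W} {g : Y} (hg : Rp cs hN w g) {r : I → ℤ} (hr : r ∈ R) :
    cj g (KK Z r) = KK Z (rep cs h w r) := by
  unfold KK
  rw [cj_sup, E.conj_rp hN hg hr, E.conj_rp hN hg (E.neg hr), map_neg]

/-- all `K_r` are members if those of the simple roots are -/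
theorem om_all (hN : NSys M T n) (hO : ∀ K ∈ Om, ∀ g, cj g K ∈ Om) (om : ∀ i, sr i ∈ R → KK Z (sr i) ∈ Om) :
    ∀ r ∈ R, KK Z r ∈ Om := by
  intro r hr
  obtain ⟨w, i, rfl⟩ := E.root r hr
  have h1 : (sr i : I → ℤ) ∈ R := by
    have := E.act _ hr w⁻¹
    rwa [rep_inv_apply] at this
  obtain ⟨g, hg⟩ := exists_rp cs hN w
  rw [← E.conj_KK hN hg h1]
  exact hO _ (om i h1) g

variable [Finite Y]

theorem equi (hyp : Hyp Om) (om : ∀ r ∈ R, KK Z r ∈ Om) : Equi cs h T n R Z (zf Z) := by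
  refine ⟨E.root, E.act, E.conj, E.tor, ?_, ?_, ?_⟩
  · intro i r hr
    unfold zf
    have h1 : cj (n i) (KK Z r) = KK Z (rep cs h (cs.simple i) r) := by
      unfold KK
      rw [cj_sup, E.conj i r hr, E.conj i _ (E.neg hr), map_neg]
    rw [← h1]
    exact (hyp.zz_cj (om r hr) (n i)).symm
  · intro r hr t ht
    refine (hyp.comm_zz (om r hr) ?_).symm
    rw [mem_normalizer_iff_cj]
    unfold KK
    rw [cj_sup, E.tor r hr t ht, E.tor _ (E.neg hr) t ht]
  · intro r _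
    unfold zf
    rw [KK_neg]

end ZSys

/-! ### Nodes -/

theorem ne_bot_of_mem {p : ℕ} (hp : p.Prime) (hp2 : p ≠ 2) [Finite Y] (hyp : Hyp Om) {K : Subgroup Y} (hK : K ∈ Om) :
    ¬ IsPGroup p K := by
  intro h1
  obtain ⟨k, hk⟩ := h1 ⟨zz K, hyp.zz_mem hK⟩
  have h2 : orderOf (zz K) ∣ p ^ k := by
    apply orderOf_dvd_of_pow_eq_one
    have := congrArg Subtype.val hk
    simpa using this
  rw [hyp.orderOf_zz hK] at h2
  have h3 := Nat.Prime.dvd_of_dvd_pow Nat.prime_two h2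
  exact hp2 ((Nat.prime_dvd_prime_iff_eq Nat.prime_two hp).1 h3).symm

theorem node_of_hyp [Finite Y] (hp : p.Prime) (hp2 : p ≠ 2) (hyp : Hyp Om) {r : I → ℤ} (hK : KK Z r ∈ Om)
    (hcj : ∃ g, cj g (Z r) = Z (-r)) (le : Z r ≤ X r) (cent : ∀ a ∈ X r, ∀ b ∈ Z r, a * b = b * a)
    (self : ∀ a ∈ X r, zf Z r * a * zf Z r * a ∈ Z r) : Node X Z (zf Z) p r where
  le := le
  ne_bot := by
    intro h0
    obtain ⟨g, hg⟩ := hcj
    have h1 : Z (-r) = ⊥ := by
      rw [← hg, h0]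
      simp [cj]
    apply ne_bot_of_mem hp hp2 hyp hK
    unfold KK
    rw [h0, h1, bot_sup_eq]
    exact IsPGroup.of_bot
  cent := cent
  notp := ne_bot_of_mem hp hp2 hyp hK
  z_mem := hyp.zz_mem hK
  z_sq := hyp.zz_mul hK
  z_cent := fun b hb => by
    have h1 := hyp.le_centralizer hK (Subgroup.mem_sup_left hb : b ∈ KK Z r)
    exact (Subgroup.mem_centralizer_singleton_iff.1 h1).symm
  z_inv_self := self

/-! ### The involutions of a chart -/

section Inv

variable {z : (I → ℤ) → Y}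

/-- In rank at least two the involution is not trivial. -/
theorem z_ne_one [Fintype W] (hp : p.Prime) (hp2 : p ≠ 2) (C : Cls cs h p T n X R Z z) {r y : I → ℤ} (hr : r ∈ R)
    (hy : IsRoot cs h y) (h1 : y ≠ r) (h2 : y ≠ -r) (h3 : form cs h y r ≠ 0) : z r ≠ 1 := by
  intro h0
  apply X_ne_bot C.rgd hy
  rw [Subgroup.eq_bot_iff_forall]
  intro a ha
  have h4 := C.z_inv r hr y hy h1 h2 h3 a ha
  rw [h0, one_mul, mul_one] at h4
  have h5 : a ^ 2 = 1 := by
    rw [pow_two]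
    nth_rewrite 2 [h4]
    exact mul_inv_cancel a
  obtain ⟨k, hk⟩ := C.rgd.pgrp' hy ⟨a, ha⟩
  have h6 : a ^ p ^ k = 1 := by
    have := congrArg Subtype.val hk
    simpa using this
  have h7 : orderOf a ∣ Nat.gcd 2 (p ^ k) := Nat.dvd_gcd (orderOf_dvd_of_pow_eq_one h5) (orderOf_dvd_of_pow_eq_one h6)
  have h8 : Nat.gcd 2 (p ^ k) = 1 := by
    apply Nat.Coprime.pow_right
    exact (Nat.coprime_primes Nat.prime_two hp).2 hp2.symm
  rw [h8] at h7
  exact orderOf_eq_one_iff.1 (Nat.dvd_one.1 h7)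

/-- The involutions of a `Cls` with members of `Om` are those of `Om`. -/
theorem z_eq_zf [Fintype W] [Finite Y] (hyp : Hyp Om) (C : Cls cs h p T n X R Z z) {r : I → ℤ} (hr : r ∈ R)
    (hK : KK Z r ∈ Om) (h1 : z r ≠ 1) : z r = zf Z r :=
  hyp.eq_zz hK (C.z_mem r hr) (C.z_sq r hr) h1

end Inv

/-! ### Pairs from a chart -/

section Link

variable {I' W' : Type*} [Fintype I'] [DecidableEq I'] [Group W'] {M' : CoxeterMatrix I'}
  {cs' : CoxeterSystem M' W'} {A' : I' → I' → ℤ} {h' : IsCartan M' A'} {p' : ℕ} {T' : Subgroup Y} {n' : I' → Y}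
  {X' : (I' → ℤ) → Subgroup Y} {R' : Set (I' → ℤ)} {Z' : (I' → ℤ) → Subgroup Y} {z' : (I' → ℤ) → Y}

variable (cs' h' n X R Z X' R' Z') in
/-- The rank one group of the node `i` is the rank one group of the root `b` of the chart. -/
structure LinkZ (i : I) (b : I' → ℤ) : Prop where
  root : IsRoot cs' h' b
  pos : X (sr i) = X' b
  neg : X (-sr i) = X' (-b)
  mem : n i ∈ LL X (sr i)
  cls : sr i ∈ R → b ∈ R' ∧ Z (sr i) = Z' b

theorem LinkZ.linkOne [Fintype W] [Fintype W'] [Finite Y] (hp : p'.Prime) (hp2 : p' ≠ 2) (hyp : Hyp Om)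
    (Rg : RGD cs h p T n X)
    (E : ZSys cs h T n R Z) (C : Cls cs' h' p' T' n' X' R' Z' z') (om' : ∀ r ∈ R', KK Z' r ∈ Om) {i : I}
    {b c : I' → ℤ} (L : LinkZ n X R Z cs' h' X' R' Z' i b) (hc : IsRoot cs' h' c) (hcb : c ≠ b) (hcb' : c ≠ -b)
    (hf : form cs' h' c b ≠ 0) : LinkOne n X R Z (zf Z) cs' h' X' R' Z' z' i b where
  root := L.root
  pos := L.pos
  neg := L.neg
  mem := L.mem
  cls := by
    intro hi
    obtain ⟨h1, h2⟩ := L.cls hi
    refine ⟨h1, h2, ?_⟩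
    rw [z_eq_zf hyp C h1 (om' b h1) (z_ne_one hp hp2 C h1 hc hcb hcb' hf)]
    have h3 : LinkOne n X R Z (fun _ => (1 : Y)) cs' h' X' R' Z' (fun _ => (1 : Y)) i b :=
      ⟨L.root, L.pos, L.neg, L.mem, fun hi => ⟨(L.cls hi).1, (L.cls hi).2, rfl⟩⟩
    obtain ⟨v, k, hb, hrp⟩ := h3.rp Rg C.rgd
    have h4 : Z (-sr i) = Z' (-b) := by
      have h5 := E.conj i _ hi
      rw [rep_simple_sr] at h5
      rw [← h5, h2, ClsNorm.conj_Z C hrp h1]
      congr 1
      rw [hb, rfl', rep_mul_apply, rep_mul_apply, rep_inv_apply, rep_simple_sr, map_neg]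
    unfold zf KK
    rw [h2, h4]

/-- **Pairs from a chart**, with `z r = zz K_r`. -/
theorem pair_of_chart [Fintype W] [Fintype W'] [Finite Y] (hp : p'.Prime) (hp2 : p' ≠ 2) (hyp : Hyp Om)
    (Rg : RGD cs h p T n X) (E : ZSys cs h T n R Z) (om : ∀ r ∈ R, KK Z r ∈ Om)
    (C : Cls cs' h' p' T' n' X' R' Z' z') (om' : ∀ r ∈ R', KK Z' r ∈ Om) {i j : I} (hij : i ≠ j) (h2 : M i j ≠ 2)
    {bi bj : I' → ℤ} (Li : LinkZ n X R Z cs' h' X' R' Z' i bi) (Lj : LinkZ n X R Z cs' h' X' R' Z' j bj)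
    (cij : cpr cs' h' bj bi = A i j) (cji : cpr cs' h' bi bj = A j i) :
    ∀ r ∈ R, Supp i j r → ∀ y, IsRoot cs h y → Supp i j y → y ≠ r → y ≠ -r → Pair cs h X Z (zf Z) y r := by
  have hA : A i j ≠ 0 ∧ A i j ≠ 2 ∧ ¬ (A i j = -2 ∧ A j i = -2) := by
    rcases h.rel i j hij with h0 | h0 | h0 | h0
    · exact absurd h0.1 h2
    · obtain ⟨-, h1, h3⟩ := h0
      rw [h1, h3]; decide
    · obtain ⟨-, ⟨h1, h3⟩ | ⟨h1, h3⟩⟩ := h0 <;> · rw [h1, h3]; decide
    · obtain ⟨-, ⟨h1, h3⟩ | ⟨h1, h3⟩⟩ := h0 <;> · rw [h1, h3]; decide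
  have hne : bj ≠ bi := by
    intro h0
    rw [h0, cpr_self cs' h' Li.root] at cij
    exact hA.2.1 cij.symm
  have hne' : bj ≠ -bi := by
    intro h0
    have e1 : A i j = -2 := by
      rw [← cij, h0, cpr_neg cs' h' _ Li.root, cpr_self cs' h' Li.root]
    have e2 : A j i = -2 := by
      have h3 : bi = -bj := by rw [h0, neg_neg]
      rw [← cji, h3, cpr_neg cs' h' _ Lj.root, cpr_self cs' h' Lj.root]
    exact hA.2.2 ⟨e1, e2⟩
  have hf : form cs' h' bj bi ≠ 0 := by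
    intro h0
    rw [← cpr_zero_iff cs' h' _ Li.root, cij] at h0
    exact hA.1 h0
  refine pair_of_cls Rg (E.equi hyp om) C hij ⟨?_, ?_, cij, cji⟩
  · exact Li.linkOne hp hp2 hyp Rg E C om' Lj.root hne hne' hf
  · refine Lj.linkOne hp hp2 hyp Rg E C om' Li.root hne.symm ?_ ?_
    · intro h0
      apply hne'
      rw [h0, neg_neg]
    · rw [form_comm]; exact hf

end Link

/-! ### Long root groups -/

/-- Root groups themselves. -/
theorem zsys_X (Rg : RGD cs h p T n X) (root : ∀ r ∈ R, IsRoot cs h r) (act : ∀ r ∈ R, ∀ w, rep cs h w r ∈ R) :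
    ZSys cs h T n R X :=
  ⟨root, act, fun i r hr => Rg.conj i r (root r hr), fun r hr => Rg.tor r (root r hr)⟩

/-- **The case `Z r = X r`.**  Only the pairs of adjacent nodes are needed. -/
theorem cls_long [Fintype W] [Finite Y] (hp : p.Prime) (hp2 : p ≠ 2) (hyp : Hyp Om) (Rg : RGD cs h p T n X)
    (root : ∀ r ∈ R, IsRoot cs h r) (act : ∀ r ∈ R, ∀ w, rep cs h w r ∈ R)
    (comm : ∀ i, sr i ∈ R → ∀ a ∈ X (sr i), ∀ b ∈ X (sr i), a * b = b * a)
    (om : ∀ i, sr i ∈ R → KK X (sr i) ∈ Om)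
    (pair : ∀ i j, i ≠ j → M i j ≠ 2 → ∀ r ∈ R, Supp i j r → ∀ y, IsRoot cs h y → Supp i j y → y ≠ r → y ≠ -r →
      Pair cs h X X (zf X) y r) :
    Cls cs h p T n X R X (zf X) := by
  have E : ZSys cs h T n R X := zsys_X Rg root act
  have om' := E.om_all Rg.nsys hyp.conj om
  refine cls_of_pairs Rg (E.equi hyp om') (fun i hi => ?_) (fun i j hij => ?_)
  · refine node_of_hyp hp hp2 hyp (om i hi) ⟨n i, ?_⟩ le_rfl (comm i hi) ?_
    · rw [Rg.conj i _ (isRoot_sr cs h i), rep_simple_sr]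
    · intro a ha
      have h1 : zf X (sr i) * a = a * zf X (sr i) := by
        have h1 := hyp.le_centralizer (om i hi) (Subgroup.mem_sup_left ha : a ∈ KK X (sr i))
        exact (Subgroup.mem_centralizer_singleton_iff.1 h1).symm
      have h2 : zf X (sr i) * zf X (sr i) = 1 := hyp.zz_mul (om i hi)
      have h3 : zf X (sr i) * a * zf X (sr i) * a = a * a := by
        rw [h1, mul_assoc a, h2, mul_one]
      rw [h3]
      exact mul_mem ha ha
  · by_cases h2 : M i j = 2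
    · exact pair_of_two Rg (fun _ _ => le_rfl) root hij h2
    · exact pair i j hij h2

/-! ### Charts -/

/-- **`Cls` + frame ⟹ `Chart`.**  `hF`: every member of the frame `Om(S)` is conjugate in `L` to some `K_r`. -/
def chartOfCls {I W : Type} [Fintype I] [DecidableEq I] [Group W] [Fintype W] {G : Type*} [Group G] [Finite G]
    {M : CoxeterMatrix I} {cs : CoxeterSystem M W} {A : I → I → ℤ} {h : IsCartan M A} {p : ℕ} {T : Subgroup G}
    {n : I → G} {X : (I → ℤ) → Subgroup G} {R : Set (I → ℤ)} {Z : (I → ℤ) → Subgroup G} {z : (I → ℤ) → G}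
    {Om : Set (Subgroup G)} (hyp : Hyp Om) (S : Sylow 2 G) (hp : p.Prime) (hp2 : p ≠ 2)
    (C : Cls cs h p T n X R Z z)
    (irr : ∀ J : Set I, J.Nonempty → J ≠ Set.univ → ∃ a ∈ J, ∃ b, b ∉ J ∧ M a b ≠ 2) (ne : Nonempty I)
    {L : Subgroup G} (T_le : T ≤ L) (gen : G1 cs h X = L) (trans : ∀ r ∈ R, ∀ s ∈ R, ∃ w, s = rep cs h w r)
    (Rne : R.Nonempty) (om : ∀ i, sr i ∈ R → KK Z (sr i) ∈ Om)
    (hF : ∀ K ∈ Cit.OmS Om (S : Subgroup G), ∃ r ∈ R, ∃ g ∈ L, K = cj g (KK Z r)) : Chart Om p L :=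
  have om' : ∀ r ∈ R, KK Z r ∈ Om :=
    ZSys.om_all (T := T) (n := n) ⟨C.root, C.act, C.conj, C.tor⟩ C.rgd.nsys hyp.conj om
  { prime := hp
    odd := hp2
    I := I
    W := W
    M := M
    cs := cs
    A := A
    h := h
    T := T
    n := n
    X := X
    R := R
    Z := Z
    z := z
    cls := C
    irr := irr
    ne := ne
    T_le := T_le
    gen := gen
    trans := trans
    Rne := Rne
    om := om'
    om_conj := by
      have hKL : ∀ r ∈ R, KK Z r ≤ L := by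
        intro r hr
        rw [← gen]
        exact sup_le ((C.le r hr).trans (X_le_G1 (C.root r hr)))
          ((C.le _ (ClsNorm.neg_mem C hr)).trans (X_le_G1 (C.root _ (ClsNorm.neg_mem C hr))))
      have hF' : ∀ K ∈ Cit.OmS Om (S : Subgroup G), K ≤ L := by
        intro K hK
        obtain ⟨r, hr, g, hg, rfl⟩ := hF K hK
        have h1 : cj g L = L := mem_normalizer_iff_cj.1 (Subgroup.le_normalizer hg)
        rw [← h1]
        exact cj_mono g (hKL r hr)
      intro K hK hKL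
      obtain ⟨g, hg, h1⟩ := Cit.FrameClose.exists_cj_mem hyp S hF' hK hKL
      obtain ⟨r, hr, k, hk, h2⟩ := hF _ h1
      refine ⟨r, hr, g⁻¹ * k, mul_mem (inv_mem hg) hk, ?_⟩
      have h3 : cj g K = cj k (KK Z r) := h2
      change K = cj (g⁻¹ * k) (KK Z r)
      rw [cj_mul, ← h3, cj_inv_cj] }

/-! ### Nodes in charts -/

section Pack

variable {G : Type*} [Group G] {D : Subgroup G} {Og : Set (Subgroup G)}

/-- The node with opposite root groups `P`, `P'` is the root `b` of the chart `c`; if it is long, `b` is a classical root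
with `Z b = X b`. -/
structure At (c : Chart Og p D) (P P' : Subgroup G) (long : Prop) (b : c.I → ℤ) : Prop where
  root : IsRoot c.cs c.h b
  pos : P = c.X b
  neg : P' = c.X (-b)
  long : long → b ∈ c.R ∧ c.Z b = c.X b

/-- The nodes `i`, `j` are the roots `bi`, `bj` of a chart, with the right Cartan numbers. -/
def Plane (M : CoxeterMatrix I) (A : I → I → ℤ) (Og : Set (Subgroup G)) (p : ℕ) (Xs Xn : I → Subgroup G)
    (long : I → Prop) (i j : I) : Prop :=
  ∃ (D : Subgroup G) (c : Chart Og p D) (bi bj : c.I → ℤ), At c (Xs i) (Xn i) (long i) bi ∧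
    At c (Xs j) (Xn j) (long j) bj ∧ cpr c.cs c.h bj bi = A i j ∧ cpr c.cs c.h bi bj = A j i ∧
    (M i j = 3 → ∀ a b, c.M a b ≠ 6)

theorem Plane.symm {Xs Xn : I → Subgroup G} {long : I → Prop} {i j : I} (P : Plane M A Og p Xs Xn long i j) :
    Plane M A Og p Xs Xn long j i := by
  obtain ⟨D, c, bi, bj, h1, h2, h3, h4, h5⟩ := P
  exact ⟨D, c, bj, bi, h2, h1, h4, h3, fun h6 => h5 (by rw [M.symmetric]; exact h6)⟩

namespace At

variable {c : Chart Og p D} {P P' : Subgroup G} {long : Prop} {b : c.I → ℤ} (H : At c P P' long b)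

include H

theorem ne : P ≠ P' := by
  rw [H.pos, H.neg]
  intro h0
  have h1 := X_injective c.cls.rgd H.root H.root.neg h0
  apply H.root.ne_zero
  funext k
  have h2 := congrFun h1 k
  rw [Pi.neg_apply] at h2
  have : b k = 0 := by omega
  exact this

theorem ne_bot : P' ≠ ⊥ := by
  rw [H.neg]
  exact X_ne_bot c.cls.rgd H.root.neg

theorem isPGroup : IsPGroup p P := by
  rw [H.pos]
  exact c.cls.rgd.pgrp' H.root

theorem coprime [Finite G] : (Nat.card ↥((P ⊔ P') ⊓ Subgroup.normalizer (P : Set G) ⊓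
    Subgroup.normalizer (P' : Set G))).Coprime p := by
  have h1 : (P ⊔ P') ⊓ Subgroup.normalizer (P : Set G) ⊓ Subgroup.normalizer (P' : Set G) ≤ c.T := by
    rw [H.pos, H.neg]
    intro t ht
    obtain ⟨h2, h3⟩ := Subgroup.mem_inf.1 ht
    obtain ⟨h4, h5⟩ := Subgroup.mem_inf.1 h2
    exact mem_T_of_normalizes c.cls.rgd H.root h4 (mem_normalizer_iff_cj.1 h5) (mem_normalizer_iff_cj.1 h3)
  exact Nat.Coprime.coprime_dvd_left (Subgroup.card_dvd_of_le h1) c.cls.rgd.tcop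

theorem mu {a : G} (ha : a ∈ P') (h1 : a ≠ 1) : ∃ u ∈ P, ∃ v ∈ P, cj (u * a * v) P = P' ∧ cj (u * a * v) P' = P := by
  rw [H.neg] at ha
  obtain ⟨u, hu, v, hv, h2⟩ := PairOf.exists_mu c.cls.rgd H.root ha h1
  rw [← H.pos] at hu hv
  refine ⟨u, hu, v, hv, ?_, ?_⟩
  · have h3 := h2 _ H.root
    rw [cpr_self c.cs c.h H.root] at h3
    have e : b - (2 : ℤ) • b = -b := by module
    rw [e, ← H.pos, ← H.neg] at h3
    exact h3
  · have h3 := h2 _ H.root.neg
    rw [cpr_neg c.cs c.h _ H.root, cpr_self c.cs c.h H.root] at h3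
    have e : -b - (-2 : ℤ) • b = b := by module
    rw [e, ← H.pos, ← H.neg] at h3
    exact h3

end At

/-- Orthogonal nodes. -/
theorem pairData_comm {P P' Q Q' : Subgroup G} (hc : ∀ a ∈ P ⊔ P', ∀ b ∈ Q ⊔ Q', a * b = b * a)
    (mu : ∀ a ∈ P', a ≠ 1 → ∃ u ∈ P, ∃ v ∈ P, cj (u * a * v) P = P' ∧ cj (u * a * v) P' = P)
    (mu' : ∀ a ∈ Q', a ≠ 1 → ∃ u ∈ Q, ∃ v ∈ Q, cj (u * a * v) Q = Q' ∧ cj (u * a * v) Q' = Q) :
    ∃ Z, RootAmalgam.PairData 2 P P' Q Q' Z := by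
  let f : ℤ → Subgroup G := fun k => if k % 4 = 0 then Q' else if k % 4 = 1 then P else if k % 4 = 2 then Q else P'
  have f0 : ∀ k : ℤ, k % 4 = 0 → f k = Q' := fun k hk => by simp only [f]; rw [if_pos hk]
  have f1 : ∀ k : ℤ, k % 4 = 1 → f k = P := fun k hk => by
    simp only [f]; rw [if_neg (by omega), if_pos hk]
  have f2 : ∀ k : ℤ, k % 4 = 2 → f k = Q := fun k hk => by
    simp only [f]; rw [if_neg (by omega), if_neg (by omega), if_pos hk]
  have f3 : ∀ k : ℤ, k % 4 = 3 → f k = P' := fun k hk => by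
    simp only [f]; rw [if_neg (by omega), if_neg (by omega), if_neg (by omega)]
  have hcj : ∀ {K L : Subgroup G}, (∀ a ∈ K, ∀ b ∈ L, a * b = b * a) → ∀ g ∈ K, ∀ {L' : Subgroup G}, L' ≤ L →
      cj g L' = L' := by
    intro K L hKL g hg L' hL'
    ext x
    rw [mem_cj]
    constructor
    · intro hx
      have h1 := hKL g hg _ (hL' hx)
      have h2 : x = g * (g⁻¹ * x * g) * g⁻¹ := by group
      rw [h2, h1, mul_inv_cancel_right]
      exact hx
    · intro hx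
      have h1 := hKL g⁻¹ (inv_mem hg) x (hL' hx)
      have h2 : g⁻¹ * x * g = x := by rw [h1, mul_assoc, inv_mul_cancel, mul_one]
      rw [h2]; exact hx
  refine ⟨f, ?_, f1 1 (by decide), f2 2 (by decide), f3 (2 + 1) (by decide), f0 0 (by decide), ?_, ?_, ?_⟩
  · intro k
    simp only [f]
    have : (k + 2 * (2 : ℕ)) % 4 = k % 4 := by push_cast; omega
    rw [this]
  · intro k l hk hkl hl u hu v hv
    have hk1 : k = 1 := by push_cast at hl; omega
    have hl2 : l = 2 := by push_cast at hl; omega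
    subst hk1 hl2
    rw [f1 1 (by decide)] at hu
    rw [f2 2 (by decide)] at hv
    rw [commutatorElement_eq_one_iff_mul_comm.2 (hc u (Subgroup.mem_sup_left hu) v (Subgroup.mem_sup_left hv))]
    exact one_mem _
  · intro a ha hne
    obtain ⟨u, hu, v, hv, e1, e2⟩ := mu a ha hne
    have hg : u * a * v ∈ P ⊔ P' := mul_mem (mul_mem (Subgroup.mem_sup_left hu) (Subgroup.mem_sup_right ha))
      (Subgroup.mem_sup_left hv)
    refine ⟨u, hu, v, hv, fun k z => ?_⟩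
    change u * a * v * z * (u * a * v)⁻¹ ∈ f ((2 : ℕ) + 2 - k) ↔ z ∈ f k
    push_cast
    have h4 : k % 4 = 0 ∨ k % 4 = 1 ∨ k % 4 = 2 ∨ k % 4 = 3 := by omega
    rcases h4 with h4 | h4 | h4 | h4
    · rw [f0 k h4, f0 _ (by omega)]
      exact PairOf.mem_iff_of_cj (hcj hc _ hg le_sup_right) z
    · rw [f1 k h4, f3 _ (by omega)]
      exact PairOf.mem_iff_of_cj e1 z
    · rw [f2 k h4, f2 _ (by omega)]
      exact PairOf.mem_iff_of_cj (hcj hc _ hg le_sup_left) z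
    · rw [f3 k h4, f1 _ (by omega)]
      exact PairOf.mem_iff_of_cj e2 z
  · intro a ha hne
    obtain ⟨u, hu, v, hv, e1, e2⟩ := mu' a ha hne
    have hg : u * a * v ∈ Q ⊔ Q' := mul_mem (mul_mem (Subgroup.mem_sup_left hu) (Subgroup.mem_sup_right ha))
      (Subgroup.mem_sup_left hv)
    have hc' : ∀ a ∈ Q ⊔ Q', ∀ b ∈ P ⊔ P', a * b = b * a := fun a ha b hb => (hc b hb a ha).symm
    refine ⟨u, hu, v, hv, fun k z => ?_⟩
    change u * a * v * z * (u * a * v)⁻¹ ∈ f ((2 : ℕ) - k) ↔ z ∈ f k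
    push_cast
    have h4 : k % 4 = 0 ∨ k % 4 = 1 ∨ k % 4 = 2 ∨ k % 4 = 3 := by omega
    rcases h4 with h4 | h4 | h4 | h4
    · rw [f0 k h4, f2 _ (by omega)]
      exact PairOf.mem_iff_of_cj e2 z
    · rw [f1 k h4, f1 _ (by omega)]
      exact PairOf.mem_iff_of_cj (hcj hc' _ hg le_sup_left) z
    · rw [f2 k h4, f0 _ (by omega)]
      exact PairOf.mem_iff_of_cj e1 z
    · rw [f3 k h4, f3 _ (by omega)]
      exact PairOf.mem_iff_of_cj (hcj hc' _ hg le_sup_right) z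

/-- Adjacent nodes. -/
theorem Plane.pairData (h : IsCartan M A) {Xs Xn : I → Subgroup G} {long : I → Prop} {i j : I} (hij : i ≠ j)
    (h2 : M i j ≠ 2) (P : Plane M A Og p Xs Xn long i j) :
    ∃ Z, RootAmalgam.PairData (M i j) (Xs i) (Xn i) (Xs j) (Xn j) Z := by
  obtain ⟨D, c, bi, bj, hi, hj, e1, e2, h6⟩ := P
  rw [hi.pos, hi.neg, hj.pos, hj.neg]
  rcases h.rel i j hij with h0 | ⟨h0, h1, h3⟩ | ⟨h0, ⟨h1, h3⟩ | ⟨h1, h3⟩⟩ | ⟨h0, ⟨h1, h3⟩ | ⟨h1, h3⟩⟩
  · exact absurd h0.1 h2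
  · rw [h1] at e1; rw [h3] at e2
    have h7 := h6 h0
    rw [h0]
    exact PairOf.pairData_three c.cls.rgd h7 hi.root hj.root e1 e2
  · rw [h1] at e1; rw [h3] at e2; rw [h0]
    exact PairOf.pairData_four c.cls.rgd hi.root hj.root e1 e2
  · rw [h1] at e1; rw [h3] at e2; rw [h0]
    exact PairOf.pairData_four' c.cls.rgd hi.root hj.root e1 e2
  · rw [h1] at e1; rw [h3] at e2; rw [h0]
    exact PairOf.pairData_six c.cls.rgd hi.root hj.root e1 e2
  · rw [h1] at e1; rw [h3] at e2; rw [h0]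
    exact PairOf.pairData_six' c.cls.rgd hi.root hj.root e1 e2

end Pack

/-! ### Root lengths -/

theorem len_eq [Fintype W] (h : IsCartan M A) (irr : ∀ J : Set I, J.Nonempty → J ≠ Set.univ → ∃ a ∈ J, ∃ b, b ∉ J ∧ M a b ≠ 2)
    {d : I → ℤ} (hd : ∀ i j, A i j * d i = A j i * d j) (i0 i : I) :
    form cs h (sr i) (sr i) * d i0 = form cs h (sr i0) (sr i0) * d i := by
  have hf : ∀ a b : I, A a b * form cs h (sr a) (sr a) = A b a * form cs h (sr b) (sr b) := by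
    intro a b
    have h1 : 2 * form cs h (sr b) (sr a) = A a b * form cs h (sr a) (sr a) := by
      have := two_form cs h a (sr b)
      rwa [sr, pairing_single, mul_one] at this
    have h2 : 2 * form cs h (sr a) (sr b) = A b a * form cs h (sr b) (sr b) := by
      have := two_form cs h b (sr a)
      rwa [sr, pairing_single, mul_one] at this
    rw [← h1, ← h2, form_comm]
  by_contra hcon
  set J : Set I := {i | form cs h (sr i) (sr i) * d i0 = form cs h (sr i0) (sr i0) * d i} with hJ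
  have h0 : i0 ∈ J := rfl
  have hne : J ≠ Set.univ := by
    intro h1
    exact hcon (by have : i ∈ J := by rw [h1]; trivial
                   exact this)
  obtain ⟨a, ha, b, hb, hab⟩ := irr J ⟨i0, h0⟩ hne
  apply hb
  have hij : a ≠ b := by rintro rfl; exact hb ha
  have hA : A b a ≠ 0 := by
    rcases h.rel a b hij with h0 | ⟨h0, h1, h3⟩ | ⟨h0, ⟨h1, h3⟩ | ⟨h1, h3⟩⟩ | ⟨h0, ⟨h1, h3⟩ | ⟨h1, h3⟩⟩
    · exact absurd h0.1 hab
    all_goals rw [h3]; decide
  have e1 : form cs h (sr a) (sr a) * d i0 = form cs h (sr i0) (sr i0) * d a := ha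
  show form cs h (sr b) (sr b) * d i0 = form cs h (sr i0) (sr i0) * d b
  have e2 := hf a b
  have e3 := hd a b
  apply mul_left_cancel₀ hA
  calc A b a * (form cs h (sr b) (sr b) * d i0) = (A b a * form cs h (sr b) (sr b)) * d i0 := by ring
    _ = A a b * (form cs h (sr a) (sr a) * d i0) := by rw [← e2]; ring
    _ = form cs h (sr i0) (sr i0) * (A a b * d a) := by rw [e1]; ring
    _ = A b a * (form cs h (sr i0) (sr i0) * d b) := by rw [e3]; ring

theorem len_of_orbit [Fintype W] (h : IsCartan M A)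
    (irr : ∀ J : Set I, J.Nonempty → J ≠ Set.univ → ∃ a ∈ J, ∃ b, b ∉ J ∧ M a b ≠ 2)
    {d : I → ℤ} (hd : ∀ i j, A i j * d i = A j i * d j) {i0 i : I} {w : W} (hw : rep cs h w (sr i0) = sr i) :
    d i = d i0 := by
  have h1 := len_eq (cs := cs) h irr hd i0 i
  rw [← hw, form_rep] at h1
  have h2 : form cs h (sr i0) (sr i0) ≠ 0 := (form_pos cs h (isRoot_sr cs h i0).ne_zero).ne'
  exact (mul_left_cancel₀ h2 h1).symm

variable (cs h) in
/-- The orbit of a simple root. -/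
def orb (i0 : I) : Set (I → ℤ) := {x | ∃ w, x = rep cs h w (sr i0)}

theorem orb_root {i0 : I} : ∀ r ∈ orb cs h i0, IsRoot cs h r := fun _ ⟨w, hw⟩ => ⟨w, i0, hw⟩

theorem orb_act {i0 : I} : ∀ r ∈ orb cs h i0, ∀ w, rep cs h w r ∈ orb cs h i0 := by
  rintro _ ⟨v, rfl⟩ w
  exact ⟨w * v, by rw [rep_mul_apply]⟩

theorem sr_mem_orb {i0 : I} : (sr i0 : I → ℤ) ∈ orb cs h i0 := ⟨1, by rw [map_one, Module.End.one_apply]⟩

theorem orb_trans {i0 : I} : ∀ r ∈ orb cs h i0, ∀ s ∈ orb cs h i0, ∃ w, s = rep cs h w r := by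
  rintro _ ⟨v, rfl⟩ _ ⟨w, rfl⟩
  exact ⟨w * v⁻¹, by rw [rep_mul_apply, rep_inv_apply]⟩

theorem orb_neg {i0 : I} : ∀ r ∈ orb cs h i0, -r ∈ orb cs h i0 := by
  rintro _ ⟨w, rfl⟩
  have h2 := orb_act _ (⟨w, rfl⟩ : rep cs h w (sr i0) ∈ orb cs h i0) (w * cs.simple i0 * w⁻¹)
  rwa [rep_mul_apply, rep_mul_apply, rep_inv_apply, rep_simple_sr, map_neg] at h2

theorem sr_mem_orb_of_len [Fintype W] (h : IsCartan M A)
    (irr : ∀ J : Set I, J.Nonempty → J ≠ Set.univ → ∃ a ∈ J, ∃ b, b ∉ J ∧ M a b ≠ 2)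
    {d : I → ℤ} (hd : ∀ i j, A i j * d i = A j i * d j) {i0 i : I} (hd0 : d i0 ≠ 0) (hi : d i = d i0) :
    sr i ∈ orb cs h i0 := by
  have hlen : form cs h (sr i) (sr i) = form cs h (sr i0) (sr i0) := by
    have h1 := len_eq (cs := cs) h irr hd i0 i
    rw [hi] at h1
    exact mul_right_cancel₀ hd0 h1
  -- the orbit is not orthogonal to `α_i`
  obtain ⟨x, hx, hxi⟩ : ∃ x ∈ orb cs h i0, form cs h x (sr i) ≠ 0 := by
    by_contra hcon
    push Not at hcon
    set J : Set I := {k | ∃ x ∈ orb cs h i0, form cs h x (sr k) ≠ 0} with hJ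
    have h0 : i0 ∈ J := ⟨_, sr_mem_orb, (form_pos cs h (isRoot_sr cs h i0).ne_zero).ne'⟩
    have hne : J ≠ Set.univ := by
      intro h1
      obtain ⟨x, hx, hx'⟩ : i ∈ J := by rw [h1]; trivial
      exact hx' (hcon x hx)
    obtain ⟨a, ⟨x, hx, hxa⟩, b, hb, hab⟩ := irr J ⟨i0, h0⟩ hne
    apply hb
    by_contra hcon2
    have hb0 : ∀ x ∈ orb cs h i0, form cs h x (sr b) = 0 := by
      intro x hx
      by_contra h1
      exact hcon2 ⟨x, hx, h1⟩
    have hij : a ≠ b := by rintro rfl; exact hb ⟨x, hx, hxa⟩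
    have h1 := hb0 _ (orb_act x hx (cs.simple a))
    rw [rep_simple_eq, form_sub_left, hb0 x hx, form_smul_left, zero_sub, neg_eq_zero, mul_eq_zero] at h1
    rcases h1 with h1 | h1
    · apply hxa
      have h2 := two_form cs h a x
      rw [h1, zero_mul] at h2
      omega
    · have h2 := two_form cs h b (sr a)
      rw [h1, sr, pairing_single] at h2
      have hA : A b a ≠ 0 := by
        rcases h.rel a b hij with h0 | ⟨h0, h1, h3⟩ | ⟨h0, ⟨h1, h3⟩ | ⟨h1, h3⟩⟩ | ⟨h0, ⟨h1, h3⟩ | ⟨h1, h3⟩⟩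
        · exact absurd h0.1 hab
        all_goals rw [h3]; decide
      have h3 := (form_pos cs h (isRoot_sr cs h b).ne_zero)
      have h4 : A b a * form cs h (sr b) (sr b) = 0 := by rw [← mul_one (A b a), ← h2, mul_zero]
      rcases mul_eq_zero.1 h4 with h5 | h5
      · exact hA h5
      · omega
  -- wlog `(x, α_i) > 0`
  obtain ⟨x, hx, hxi⟩ : ∃ x ∈ orb cs h i0, 0 < form cs h x (sr i) := by
    rcases lt_or_gt_of_ne hxi with h1 | h1
    · exact ⟨-x, orb_neg x hx, by rw [form_neg_left]; omega⟩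
    · exact ⟨x, hx, h1⟩
  have hxr := orb_root x hx
  have hxl : form cs h x x = form cs h (sr i) (sr i) := by
    obtain ⟨w, rfl⟩ := hx
    rw [form_rep, hlen]
  set f := form cs h (sr i) (sr i) with hf
  have hf0 : 0 < f := form_pos cs h (isRoot_sr cs h i).ne_zero
  -- the Cartan number
  set c := pairing A i x with hc
  have h1 : 2 * form cs h x (sr i) = c * f := two_form cs h i x
  have hc0 : 0 < c := by
    by_contra h2
    have : c * f ≤ 0 := mul_nonpos_of_nonpos_of_nonneg (not_lt.1 h2) hf0.le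
    omega
  by_cases he : x = sr i
  · rw [← he]; exact hx
  have h2 : 0 < form cs h (x - sr i) (x - sr i) := form_pos cs h (sub_ne_zero.2 he)
  have h3 : form cs h (x - sr i) (x - sr i) = 2 * f - c * f := by
    rw [form_sub_left, form_sub_right, form_sub_right, hxl, form_comm cs h (sr i) x, ← h1]
    ring
  have h4 : c < 2 := by
    by_contra h5
    have : 2 * f ≤ c * f := mul_le_mul_of_nonneg_right (not_lt.1 h5) hf0.le
    omega
  have hc1 : c = 1 := by omega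
  -- `s_i x = x - α_i`
  have h5 : rep cs h (cs.simple i) x = x - sr i := by
    rw [rep_simple_eq, ← hc, hc1, one_smul]
  -- `s_i s_x α_i = - x`
  have hcpr : cpr cs h (sr i) x = 1 := by
    have h6 := two_form_cpr cs h (sr i) hxr
    rw [form_comm, h1, hc1, one_mul, hxl] at h6
    have h7 : (cpr cs h (sr i) x - 1) * f = 0 := by linarith
    rcases mul_eq_zero.1 h7 with h8 | h8
    · omega
    · omega
  obtain ⟨v, k, hvk⟩ := hxr
  have h6 : rep cs h (rfl' cs v k) (sr i) = sr i - x := by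
    rw [rep_rfl'_eq, ← hvk, hcpr, one_smul]
  have h7 : rep cs h (cs.simple i * rfl' cs v k) (sr i) = -x := by
    rw [rep_mul_apply, h6, map_sub, rep_simple_sr, h5]
    abel
  have h8 := orb_act _ (orb_neg x hx) (cs.simple i * rfl' cs v k)⁻¹
  rwa [← h7, rep_inv_apply] at h8

/-! ### The main theorem -/

section Main

variable {G : Type*} [Group G] [Finite G] {Og : Set (Subgroup G)}

/-- **Nodes + planes ⟹ root group datum with classical root groups.** -/
theorem exists_cls [Fintype W] (hp : p.Prime) (hp2 : p ≠ 2) (hyp : Hyp Og) (cs : CoxeterSystem M W)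
    (h : IsCartan M A) [Nontrivial I]
    (irr : ∀ J : Set I, J.Nonempty → J ≠ Set.univ → ∃ a ∈ J, ∃ b, b ∉ J ∧ M a b ≠ 2)
    (Xs Xn : I → Subgroup G) (d : I → ℤ) (hd : ∀ i j, A i j * d i = A j i * d j) (i0 : I)
    (comm : ∀ i j, i ≠ j → M i j = 2 → ∀ a ∈ Xs i ⊔ Xn i, ∀ b ∈ Xs j ⊔ Xn j, a * b = b * a)
    (plane : ∀ i j, i ≠ j → M i j ≠ 2 → Plane M A Og p Xs Xn (fun i => d i = d i0) i j ∨
      Plane M A Og p Xs Xn (fun i => d i = d i0) j i) :
    ∃ (T : Subgroup G) (n : I → G) (X : (I → ℤ) → Subgroup G), (∀ i, X (sr i) = Xs i) ∧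
      (∀ i, X (-sr i) = Xn i) ∧ (∀ i, n i ∈ Xs i ⊔ Xn i) ∧ T ≤ ⨆ i, (Xs i ⊔ Xn i) ∧
      G1 cs h X = ⨆ i, (Xs i ⊔ Xn i) ∧ (∀ i, sr i ∈ orb cs h i0 → KK X (sr i) ∈ Og) ∧
      Cls cs h p T n X (orb cs h i0) X (zf X) := by
  have : Fact p.Prime := ⟨hp⟩
  have plane' : ∀ i j, i ≠ j → M i j ≠ 2 → Plane M A Og p Xs Xn (fun i => d i = d i0) i j := fun i j hij h2 =>
    (plane i j hij h2).elim id fun P => P.symm
  -- every node is in a chart
  have hat : ∀ i, ∃ (D : Subgroup G) (c : Chart Og p D) (b : c.I → ℤ), At c (Xs i) (Xn i) (d i = d i0) b := by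
    intro i
    obtain ⟨a, ha, b, hb, hab⟩ := irr {i} ⟨i, rfl⟩ (by
      intro h0
      obtain ⟨j, hj⟩ := exists_ne i
      exact hj (by have : j ∈ ({i} : Set I) := by rw [h0]; trivial
                   exact this))
    have ha' : a = i := ha
    subst ha'
    obtain ⟨D, c, bi, bj, h1, -⟩ := plane' a b (fun h0 => hb h0.symm) hab
    exact ⟨D, c, bi, h1⟩
  obtain ⟨T, n, X, Rg, hX, hXn, hn, hT, hle⟩ := RootAmalgam.exists_rgd (p := p) cs h Xs Xn
    (fun i j hij => Or.inl (by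
      by_cases h2 : M i j = 2
      · obtain ⟨D, c, b, hb⟩ := hat i
        obtain ⟨D', c', b', hb'⟩ := hat j
        rw [h2]
        exact pairData_comm (comm i j hij h2) (fun a ha h1 => hb.mu ha h1) (fun a ha h1 => hb'.mu ha h1)
      · exact (plane' i j hij h2).pairData h hij h2))
    (fun i => by obtain ⟨D, c, b, hb⟩ := hat i; exact hb.ne)
    (fun i => by obtain ⟨D, c, b, hb⟩ := hat i; exact hb.ne_bot)
    (fun i => by obtain ⟨D, c, b, hb⟩ := hat i; exact hb.isPGroup)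
    (fun i => by obtain ⟨D, c, b, hb⟩ := hat i; exact hb.coprime)
  have hlong : ∀ i, sr i ∈ orb cs h i0 → d i = d i0 := fun i ⟨w, hw⟩ => len_of_orbit h irr hd hw.symm
  have hgen : G1 cs h X = ⨆ i, (Xs i ⊔ Xn i) := by
    apply le_antisymm
    · exact RGD.Sup_le fun x hx => hle x hx
    · refine iSup_le fun i => sup_le ?_ ?_
      · rw [← hX i]; exact X_le_G1 (isRoot_sr cs h i)
      · rw [← hXn i]; exact X_le_G1 (isRoot_sr cs h i).neg
  have hLL : ∀ i, n i ∈ LL X (sr i) := by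
    intro i
    unfold LL
    rw [hX, hXn]
    exact hn i
  have hZneg : ∀ {D : Subgroup G} (c : Chart Og p D) {b : c.I → ℤ}, b ∈ c.R → c.Z b = c.X b → c.Z (-b) = c.X (-b) := by
    intro D c b hb e
    obtain ⟨v, k, hk⟩ := c.cls.root b hb
    obtain ⟨g, hg⟩ := exists_rp c.cs c.cls.rgd.nsys (rfl' c.cs v k)
    have h1 := ClsNorm.conj_Z c.cls hg hb
    have h2 := c.cls.rgd.conj_rp hg (c.cls.root b hb)
    have h3 : rep c.cs c.h (rfl' c.cs v k) b = -b := by
      rw [hk, rfl', rep_mul_apply, rep_mul_apply, rep_inv_apply, rep_simple_sr, map_neg]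
    rw [h3] at h1 h2
    rw [← h1, ← h2, e]
  have hom : ∀ i, sr i ∈ orb cs h i0 → KK X (sr i) ∈ Og := by
    intro i hi
    obtain ⟨D, c, b, hb⟩ := hat i
    obtain ⟨h1, h2⟩ := hb.long (hlong i hi)
    have h3 := c.om b h1
    unfold KK
    rw [hX, hXn, hb.pos, hb.neg, ← h2, ← hZneg c h1 h2]
    exact h3
  have hcls : Cls cs h p T n X (orb cs h i0) X (zf X) := by
    refine cls_long hp hp2 hyp Rg orb_root orb_act ?_ hom ?_
    · intro i hi a ha b hb
      obtain ⟨D, c, v, hv⟩ := hat i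
      obtain ⟨h1, h2⟩ := hv.long (hlong i hi)
      rw [hX, hv.pos] at ha hb
      rw [← h2] at hb
      exact c.cls.cent v h1 v hv.root (form_pos c.cs c.h hv.root.ne_zero).le a ha b hb
    · intro i j hij h2
      obtain ⟨D, c, bi, bj, hi, hj, e1, e2, -⟩ := plane' i j hij h2
      have E : ZSys cs h T n (orb cs h i0) X := zsys_X Rg orb_root orb_act
      refine pair_of_chart c.prime c.odd hyp Rg E (E.om_all Rg.nsys hyp.conj hom) c.cls c.om hij h2
        (bi := bi) (bj := bj) ?_ ?_ e1 e2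
      · refine ⟨hi.root, by rw [hX, hi.pos], by rw [hXn, hi.neg], hLL i, fun h3 => ?_⟩
        obtain ⟨h4, h5⟩ := hi.long (hlong i h3)
        exact ⟨h4, by rw [hX, hi.pos, h5]⟩
      · refine ⟨hj.root, by rw [hX, hj.pos], by rw [hXn, hj.neg], hLL j, fun h3 => ?_⟩
        obtain ⟨h4, h5⟩ := hj.long (hlong j h3)
        exact ⟨h4, by rw [hX, hj.pos, h5]⟩
  exact ⟨T, n, X, hX, hXn, hn, hT, hgen, hom, hcls⟩

/-- A member of `Og` inside the chart of a long node is conjugate to the group of the node. -/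
theorem At.exists_conj {D : Subgroup G} {c : Chart Og p D} {P P' : Subgroup G} {b : c.I → ℤ}
    (H : At c P P' True b) {K : Subgroup G} (hK : K ∈ Og) (hKD : K ≤ D) : ∃ g ∈ D, K = cj g (P ⊔ P') := by
  obtain ⟨r, hr, g, hg, e⟩ := c.om_conj K hK hKD
  obtain ⟨hb, e2⟩ := H.long trivial
  obtain ⟨w, rfl⟩ := c.trans b hb r hr
  obtain ⟨k, hk⟩ := exists_rp c.cs c.cls.rgd.nsys w
  have hkD : k ∈ D := by
    have h1 : k ∈ GG c.cs c.h c.T c.X := NN_le_GG c.cls.rgd ⟨_, hk⟩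
    have h2 : GG c.cs c.h c.T c.X ≤ D := sup_le c.T_le c.gen.le
    exact h2 h1
  have hbn := ClsNorm.neg_mem c.cls hb
  have e3 : c.Z (-b) = c.X (-b) := by
    obtain ⟨v, k, hk⟩ := c.cls.root b hb
    obtain ⟨g, hg⟩ := exists_rp c.cs c.cls.rgd.nsys (rfl' c.cs v k)
    have h1 := ClsNorm.conj_Z c.cls hg hb
    have h2 := c.cls.rgd.conj_rp hg (c.cls.root b hb)
    have h3 : rep c.cs c.h (rfl' c.cs v k) b = -b := by
      rw [hk, rfl', rep_mul_apply, rep_mul_apply, rep_inv_apply, rep_simple_sr, map_neg]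
    rw [h3] at h1 h2
    rw [← h1, ← h2, e2]
  refine ⟨g * k, mul_mem hg hkD, ?_⟩
  have e4 : K = cj g (c.Z (rep c.cs c.h w b) ⊔ c.Z (-rep c.cs c.h w b)) := e
  rw [e4, cj_mul, H.pos, H.neg, ← e2, ← e3, cj_sup, cj_sup, cj_sup, ClsNorm.conj_Z c.cls hk hb,
    ClsNorm.conj_Z c.cls hk hbn, map_neg]

end Main

section Final

variable {I W : Type} [Fintype I] [DecidableEq I] [Nontrivial I] [Group W] [Fintype W] {M : CoxeterMatrix I}
  {A : I → I → ℤ} {G : Type*} [Group G] [Finite G] {Og : Set (Subgroup G)} {p : ℕ}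

/-- **(UP): nodes, planes and the frame ⟹ chart.**

* `Xs i`, `Xn i` : the opposite root groups of the nodes;
* `d` : the squared lengths of the nodes up to a factor (`d = 1` if `A` is symmetric), `i0` a long node;
* `comm` : orthogonal nodes commute;
* `plane` : adjacent nodes are found in a chart;
* `hF` : every member of the frame `Om(S)` is contained in a chart `D ≤ ⟨Xs, Xn⟩` containing a long node. -/
theorem exists_chart (hp : p.Prime) (hp2 : p ≠ 2) (hyp : Hyp Og) (S : Sylow 2 G) (cs : CoxeterSystem M W)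
    (h : IsCartan M A)
    (irr : ∀ J : Set I, J.Nonempty → J ≠ Set.univ → ∃ a ∈ J, ∃ b, b ∉ J ∧ M a b ≠ 2)
    (Xs Xn : I → Subgroup G) (d : I → ℤ) (hd : ∀ i j, A i j * d i = A j i * d j) (i0 : I) (hd0 : d i0 ≠ 0)
    (comm : ∀ i j, i ≠ j → M i j = 2 → ∀ a ∈ Xs i ⊔ Xn i, ∀ b ∈ Xs j ⊔ Xn j, a * b = b * a)
    (plane : ∀ i j, i ≠ j → M i j ≠ 2 → Plane M A Og p Xs Xn (fun i => d i = d i0) i j ∨
      Plane M A Og p Xs Xn (fun i => d i = d i0) j i)
    (hF : ∀ K ∈ Cit.OmS Og (S : Subgroup G), ∃ (D : Subgroup G) (c : Chart Og p D) (i : I) (b : c.I → ℤ),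
      d i = d i0 ∧ At c (Xs i) (Xn i) True b ∧ D ≤ ⨆ i, (Xs i ⊔ Xn i) ∧ K ≤ D) :
    ∃ (c : Chart Og p (⨆ i, (Xs i ⊔ Xn i))) (e : c.I ≃ I), (∀ i j, c.A i j = A (e i) (e j)) ∧
      (∀ i j, c.M i j = M (e i) (e j)) ∧ (∀ i, sr i ∈ c.R ↔ d (e i) = d i0) ∧
      (∀ i, c.X (sr (e.symm i)) = Xs i) ∧ (∀ i, c.X (-sr (e.symm i)) = Xn i) ∧ (∀ r ∈ c.R, c.Z r = c.X r) := by
  obtain ⟨T, n, X, hX, hXn, -, hT, hgen, hom, C⟩ := exists_cls hp hp2 hyp cs h irr Xs Xn d hd i0 comm plane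
  have hF' : ∀ K ∈ Cit.OmS Og (S : Subgroup G), ∃ r ∈ orb cs h i0, ∃ g ∈ ⨆ i, (Xs i ⊔ Xn i), K = cj g (KK X r) := by
    intro K hK
    obtain ⟨D, c, i, b, hi, hb, hD, hKD⟩ := hF K hK
    obtain ⟨g, hg, e⟩ := hb.exists_conj hK.1 hKD
    refine ⟨_, sr_mem_orb_of_len h irr hd hd0 hi, g, hD hg, ?_⟩
    rw [e]
    unfold KK
    rw [hX, hXn]
  exact ⟨chartOfCls hyp S hp hp2 C irr ⟨i0⟩ hT hgen orb_trans ⟨_, sr_mem_orb⟩ hom hF', Equiv.refl I,
    fun _ _ => rfl, fun _ _ => rfl,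
    fun i => ⟨fun ⟨w, hw⟩ => len_of_orbit (cs := cs) h irr hd hw.symm, fun hi => sr_mem_orb_of_len h irr hd hd0 hi⟩,
    hX, hXn, fun _ _ => rfl⟩

end Final

end Cfsg.Agent.Nodes.ChartOfCls
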