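import Cfsg.Agent.LieRecognition.BNCox
import Cfsg.Agent.Nodes.Reps

/-!
The roots of type `A_n` in simple root coordinates: `rtA a b = ε_a - ε_b`, `a ≠ b ∈ Fin (n + 1)`.
-/

set_option autoImplicit false

namespace Cfsg.Agent.Nodes.RootsA

open CoxeterSystem Cfsg.Agent.ChevalleyStructure.CoxeterGeom Cfsg.Agent.Tits.Roots
open Cfsg.Agent.LieRecognition.BNCox (cA cA_apply)

variable {n : ℕ}

/-- The vector `ε_a - ε_b` in simple root coordinates. -/
def rtA (a b : Fin (n + 1)) : Fin n → ℤ := fun k =>
  (if a.val ≤ k.val then 1 else 0) - (if b.val ≤ k.val then 1 else 0)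

theorem rtA_apply (a b : Fin (n + 1)) (k : Fin n) :
    rtA a b k = (if a.val ≤ k.val then 1 else 0) - (if b.val ≤ k.val then 1 else 0) := rfl

theorem rtA_self (a : Fin (n + 1)) : rtA a a = 0 := by
  funext k
  rw [rtA_apply, sub_self]
  rfl

theorem rtA_neg (a b : Fin (n + 1)) : -rtA a b = rtA b a := by
  funext k
  rw [Pi.neg_apply, rtA_apply, rtA_apply, neg_sub]

theorem rtA_add (a b c : Fin (n + 1)) : rtA a b + rtA b c = rtA a c := by
  funext k
  rw [Pi.add_apply, rtA_apply, rtA_apply, rtA_apply]
  ring

theorem rtA_sr (i : Fin n) : rtA i.castSucc i.succ = sr i := by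
  funext k
  rw [rtA_apply, sr, Pi.single_apply, Fin.val_castSucc, Fin.val_succ]
  by_cases h : k = i
  · subst h
    simp
  · rw [if_neg h]
    have h1 : k.val ≠ i.val := fun e => h (Fin.ext e)
    split_ifs <;> omega

/-- The coefficient of `ε_j`. -/
def co (x : Fin n → ℤ) (j : ℕ) : ℤ :=
  (if h : j < n then x ⟨j, h⟩ else 0) - (if h : 0 < j ∧ j - 1 < n then x ⟨j - 1, h.2⟩ else 0)

theorem co_rtA (a b : Fin (n + 1)) (j : Fin (n + 1)) :
    co (rtA a b) j = (if j = a then 1 else 0) - (if j = b then 1 else 0) := by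
  have key : ∀ c : Fin (n + 1), (if j.val < n then (if c.val ≤ j.val then 1 else 0) else 1 : ℤ) -
      (if 0 < j.val then (if c.val ≤ j.val - 1 then 1 else 0) else 0) = if j = c then 1 else 0 := by
    intro c
    have hj := j.2
    have hc := c.2
    by_cases h1 : j = c
    · subst h1
      rw [if_pos rfl, if_pos le_rfl]
      split_ifs <;> omega
    · rw [if_neg h1]
      have h2 : j.val ≠ c.val := fun e => h1 (Fin.ext e)
      split_ifs <;> omega
  rw [← key a, ← key b]
  unfold co
  have hj := j.2
  by_cases h1 : j.val < n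
  · by_cases h2 : 0 < j.val
    · rw [dif_pos h1, dif_pos (⟨h2, by omega⟩ : 0 < j.val ∧ j.val - 1 < n), rtA_apply, rtA_apply,
        if_pos h1, if_pos h1, if_pos h2, if_pos h2]
      ring
    · rw [dif_pos h1, dif_neg (fun h3 => h2 h3.1), rtA_apply, if_pos h1, if_pos h1, if_neg h2,
        if_neg h2]
      ring
  · by_cases h2 : 0 < j.val
    · rw [dif_neg h1, dif_pos (⟨h2, by omega⟩ : 0 < j.val ∧ j.val - 1 < n), rtA_apply,
        if_neg h1, if_neg h1, if_pos h2, if_pos h2]
      ring
    · rw [dif_neg h1, dif_neg (fun h3 => h2 h3.1), if_neg h1, if_neg h1, if_neg h2,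
        if_neg h2]
      ring

theorem rtA_inj {a b c d : Fin (n + 1)} (hab : a ≠ b) (h : rtA a b = rtA c d) : a = c ∧ b = d := by
  have h1 := co_rtA a b a
  have h2 := co_rtA a b b
  rw [h, co_rtA, if_pos rfl, if_neg hab] at h1
  rw [h, co_rtA, if_neg hab.symm, if_pos rfl] at h2
  constructor
  · by_contra hac
    rw [if_neg hac] at h1
    split_ifs at h1 <;> omega
  · by_contra hbd
    rw [if_neg hbd] at h2
    split_ifs at h2 <;> omega

theorem rtA_ne_zero {a b : Fin (n + 1)} (hab : a ≠ b) : rtA a b ≠ 0 := by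
  intro h
  rw [← rtA_self a] at h
  exact hab (rtA_inj hab h).2.symm

section

variable {A : Fin n → Fin n → ℤ} (h : IsCartan (cA n) A)

include h

theorem cartan_eq (i k : Fin n) : A i k = 2 * (if k = i then 1 else 0) -
    (if k.val = i.val + 1 then 1 else 0) - (if k.val + 1 = i.val then 1 else 0) := by
  by_cases hik : k = i
  · subst hik
    rw [h.diag, if_pos rfl, if_neg (by omega), if_neg (by omega)]
    norm_num
  · have h1 : k.val ≠ i.val := fun e => hik (Fin.ext e)
    rw [if_neg hik]
    have h2 := h.rel i k (Ne.symm hik)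
    rw [cA_apply] at h2
    unfold Cfsg.Agent.LieRecognition.CoxClass.mA at h2
    split_ifs at h2 ⊢ <;> first | omega | skip

theorem pairing_eq (i : Fin n) (g : ℕ → ℤ) (hg : g n = 0) :
    pairing A i (fun k => g k.val) = 2 * g i.val - g (i.val + 1) -
      (if i.val = 0 then 0 else g (i.val - 1)) := by
  unfold pairing
  have h1 : ∀ k : Fin n, A i k * g k.val = 2 * ((if k = i then 1 else 0) * g k.val) -
      (if k.val = i.val + 1 then 1 else 0) * g k.val - (if k.val + 1 = i.val then 1 else 0) * g k.val := by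
    intro k
    rw [cartan_eq h]
    ring
  rw [Finset.sum_congr rfl fun k _ => h1 k, Finset.sum_sub_distrib, Finset.sum_sub_distrib,
    ← Finset.mul_sum]
  congr 1
  · congr 1
    · simp
    · by_cases hi : i.val + 1 < n
      · rw [Finset.sum_eq_single (⟨i.val + 1, hi⟩ : Fin n)]
        · simp
        · intro b _ hb
          rw [if_neg, zero_mul]
          exact fun e => hb (Fin.ext e)
        · intro hb
          exact absurd (Finset.mem_univ _) hb
      · have hi' : i.val + 1 = n := by have := i.2; omega
        rw [hi', hg]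
        apply Finset.sum_eq_zero
        intro k _
        rw [if_neg, zero_mul]
        have := k.2
        omega
  · by_cases hi : i.val = 0
    · rw [if_pos hi]
      apply Finset.sum_eq_zero
      intro k _
      rw [if_neg, zero_mul]
      omega
    · rw [if_neg hi, Finset.sum_eq_single (⟨i.val - 1, by have := i.2; omega⟩ : Fin n)]
      · rw [if_pos, one_mul]
        simp only
        omega
      · intro b _ hb
        rw [if_neg, zero_mul]
        intro e
        apply hb
        apply Fin.ext
        simp only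
        omega
      · intro hb
        exact absurd (Finset.mem_univ _) hb

end

variable {W : Type*} [Group W] (cs : CoxeterSystem (cA n) W) {A : Fin n → Fin n → ℤ}
  (h : IsCartan (cA n) A)

theorem swap_val (i : Fin n) (a : Fin (n + 1)) : (Equiv.swap i.castSucc i.succ a).val =
    if a.val = i.val then i.val + 1 else if a.val = i.val + 1 then i.val else a.val := by
  rw [Equiv.swap_apply_def]
  by_cases h1 : a = i.castSucc
  · subst h1; simp
  · have h1' : a.val ≠ i.val := fun e => h1 (Fin.ext e)
    rw [if_neg h1, if_neg h1']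
    by_cases h2 : a = i.succ
    · subst h2; simp
    · have h2' : a.val ≠ i.val + 1 := fun e => h2 (Fin.ext e)
      rw [if_neg h2, if_neg h2']

theorem swap_le_of_ne (i : Fin n) (a : Fin (n + 1)) {k : ℕ} (hk : k ≠ i.val) :
    ((Equiv.swap i.castSucc i.succ a).val ≤ k) = (a.val ≤ k) := by
  rw [swap_val]
  apply propext
  split_ifs <;> omega

theorem swap_le_self (i : Fin n) (a : Fin (n + 1)) :
    (if (Equiv.swap i.castSucc i.succ a).val ≤ i.val then 1 else 0 : ℤ) =
      (if a.val ≤ i.val + 1 then 1 else 0) + (if i.val = 0 then 0 else if a.val ≤ i.val - 1 then 1 else 0) -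
        (if a.val ≤ i.val then 1 else 0) := by
  rw [swap_val]
  by_cases h1 : a.val = i.val
  · rw [if_pos h1]
    split_ifs <;> omega
  · rw [if_neg h1]
    by_cases h2 : a.val = i.val + 1
    · rw [if_pos h2]
      split_ifs <;> omega
    · rw [if_neg h2]
      split_ifs <;> omega

theorem rep_simple_rtA (i : Fin n) (a b : Fin (n + 1)) :
    rep cs h (cs.simple i) (rtA a b) =
      rtA (Equiv.swap i.castSucc i.succ a) (Equiv.swap i.castSucc i.succ b) := by
  have ha := a.2
  have hb := b.2
  have hp := pairing_eq h i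
    (fun k => (if a.val ≤ k then 1 else 0) - (if b.val ≤ k then 1 else 0))
    (by rw [if_pos (by omega), if_pos (by omega), sub_self])
  have e1 : (fun k : Fin n => (fun k : ℕ => ((if a.val ≤ k then 1 else 0) -
      (if b.val ≤ k then 1 else 0) : ℤ)) k.val) = rtA a b := rfl
  rw [e1] at hp
  rw [rep_simple_eq, hp]
  funext k
  rw [Pi.sub_apply, Pi.smul_apply, smul_eq_mul, rtA_apply, rtA_apply, sr, Pi.single_apply]
  by_cases hk : k = i
  · subst hk
    rw [if_pos rfl, swap_le_self, swap_le_self]
    by_cases h0 : k.val = 0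
    · rw [if_pos h0, if_pos h0, if_pos h0]
      ring
    · rw [if_neg h0, if_neg h0, if_neg h0]
      ring
  · have hk' : k.val ≠ i.val := fun e => hk (Fin.ext e)
    rw [if_neg hk, mul_zero, sub_zero]
    simp only [swap_le_of_ne i _ hk']

theorem exists_of_isRoot {x : Fin n → ℤ} (hx : IsRoot cs h x) :
    ∃ a b : Fin (n + 1), a ≠ b ∧ x = rtA a b := by
  obtain ⟨w, i, rfl⟩ := hx
  obtain ⟨ω, rfl⟩ := cs.wordProd_surjective w
  induction ω with
  | nil =>
    refine ⟨i.castSucc, i.succ, (Fin.castSucc_lt_succ).ne, ?_⟩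
    rw [wordProd_nil, map_one, Module.End.one_apply, rtA_sr]
  | cons j ω ih =>
    obtain ⟨a, b, hab, e⟩ := ih
    refine ⟨Equiv.swap j.castSucc j.succ a, Equiv.swap j.castSucc j.succ b,
      fun e => hab ((Equiv.swap j.castSucc j.succ).injective e), ?_⟩
    rw [wordProd_cons, rep_mul_apply, e, rep_simple_rtA]

theorem isRoot_rtA {a b : Fin (n + 1)} (hab : a ≠ b) : IsRoot cs h (rtA a b) := by
  have key : ∀ (d : ℕ) (a b : Fin (n + 1)), a.val + d + 1 = b.val → IsRoot cs h (rtA a b) := by
    intro d
    induction d with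
    | zero =>
      intro a b hd
      have hb := b.2
      have han : a.val < n := by omega
      have e1 : (⟨a.val, han⟩ : Fin n).castSucc = a := rfl
      have e2 : (⟨a.val, han⟩ : Fin n).succ = b := Fin.ext (by simp; omega)
      have e3 := isRoot_sr cs h (⟨a.val, han⟩ : Fin n)
      rwa [← rtA_sr, e1, e2] at e3
    | succ d ih =>
      intro a b hd
      have hb := b.2
      have h1 := ih a ⟨b.val - 1, by omega⟩ (by simp only; omega)
      have h2 := h1.act (cs.simple ⟨b.val - 1, by omega⟩)
      rw [rep_simple_rtA] at h2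
      have e1 : Equiv.swap (⟨b.val - 1, by omega⟩ : Fin n).castSucc
          (⟨b.val - 1, by omega⟩ : Fin n).succ a = a := by
        apply Equiv.swap_apply_of_ne_of_ne
        · intro e
          have := congrArg Fin.val e
          simp at this
          omega
        · intro e
          have := congrArg Fin.val e
          simp at this
          omega
      have e2 : Equiv.swap (⟨b.val - 1, by omega⟩ : Fin n).castSucc
          (⟨b.val - 1, by omega⟩ : Fin n).succ (⟨b.val - 1, by omega⟩ : Fin (n + 1)) = b := by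
        have e3 : (⟨b.val - 1, by omega⟩ : Fin (n + 1)) = (⟨b.val - 1, by omega⟩ : Fin n).castSucc := rfl
        rw [e3, Equiv.swap_apply_left]
        exact Fin.ext (by simp; omega)
      rwa [e1, e2] at h2
  have hab' : a.val ≠ b.val := fun e => hab (Fin.ext e)
  rcases Nat.lt_or_gt_of_ne hab' with hlt | hgt
  · exact key (b.val - a.val - 1) a b (by omega)
  · have := (key (a.val - b.val - 1) b a (by omega)).neg
    rwa [rtA_neg] at this

theorem isRoot_iff {x : Fin n → ℤ} : IsRoot cs h x ↔ ∃ a b : Fin (n + 1), a ≠ b ∧ x = rtA a b := by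
  constructor
  · exact exists_of_isRoot cs h
  · rintro ⟨a, b, hab, rfl⟩
    exact isRoot_rtA cs h hab

/-- The Cartan matrix of type `A_n`. -/
def AA (n : ℕ) (i j : Fin n) : ℤ :=
  if i = j then 2 else if (i : ℕ) + 1 = j ∨ (j : ℕ) + 1 = i then -1 else 0

theorem isCartan (n : ℕ) : IsCartan (cA n) (AA n) where
  diag i := if_pos rfl
  rel i j hij := by
    have h1 : (i : ℕ) ≠ j := fun e => hij (Fin.ext e)
    rw [cA_apply]
    unfold Cfsg.Agent.LieRecognition.CoxClass.mA AA
    rw [if_neg hij, if_neg hij.symm, if_neg h1]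
    split_ifs <;> simp <;> omega

theorem cA_eq (n : ℕ) : cA n = CoxeterMatrix.A n := by
  ext i j
  rw [cA_apply]
  unfold Cfsg.Agent.LieRecognition.CoxClass.mA
  change _ = (if i = j then 1 else (if (j : ℕ) + 1 = i ∨ (i : ℕ) + 1 = j then 3 else 2))
  by_cases h : i = j
  · rw [if_pos h, if_pos (congrArg Fin.val h)]
  · rw [if_neg h, if_neg (fun e => h (Fin.ext e))]
    split_ifs <;> first | rfl | omega

include cs h in
theorem finite_W : Finite W := by
  have hfin : {x | IsRoot cs h x}.Finite := by
    have h1 : {x | IsRoot cs h x} ⊆ Set.range fun q : Fin (n + 1) × Fin (n + 1) => rtA q.1 q.2 := by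
      intro x hx
      obtain ⟨a, b, -, e⟩ := exists_of_isRoot cs h hx
      exact ⟨(a, b), e.symm⟩
    exact (Set.finite_range _).subset h1
  have : Finite {x | IsRoot cs h x} := hfin
  let f : W → (Fin n → {x | IsRoot cs h x}) := fun w i => ⟨rep cs h w (sr i), (isRoot_sr cs _ i).act w⟩
  refine Finite.of_injective f ?_
  intro w v hwv
  apply rep_injective cs h
  refine LinearMap.ext fun x => ?_
  have h1 : ∀ i, rep cs h w (sr i) = rep cs h v (sr i) := fun i =>
    congrArg Subtype.val (congrFun hwv i)
  have h2 : x = ∑ k, x k • sr k := by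
    funext k
    simp [sr, Finset.sum_apply, Pi.single_apply]
  rw [h2, map_sum, map_sum]
  exact Finset.sum_congr rfl fun k _ => by rw [map_smul, map_smul, h1]

/-- `rtA a b` is a positive root exactly if `a < b`. -/
theorem rtA_nonneg_iff {a b : Fin (n + 1)} : 0 ≤ rtA a b ↔ a ≤ b := by
  constructor
  · intro h0
    by_contra hab
    have hlt : b.val < a.val := not_le.1 hab
    have ha := a.2
    have h1 := h0 ⟨b.val, by omega⟩
    rw [rtA_apply] at h1
    simp only [Pi.zero_apply] at h1
    split_ifs at h1 <;> omega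
  · intro hab k
    have h1 : a.val ≤ b.val := hab
    rw [rtA_apply, Pi.zero_apply]
    split_ifs <;> first | omega | norm_num

end Cfsg.Agent.Nodes.RootsA
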