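import Mathlib
import Cfsg.Agent.Nodes.Chart
import Cfsg.Agent.Nodes.TypeD
import Cfsg.Agent.Nodes.RootsA
import Cfsg.Agent.ChevalleyStructure.CoxeterGeomTypes

/-!
The types of charts (project CIT): standard Cartan matrices and the predicate `Chart.IsTy τ`.

* `Ty` : the types; `B n` has the Cartan matrix of `C n` (`TypeC.A n`), with `R` = the short `C`-labels;
* `Ty.rk`, `Ty.M`, `Ty.cartan`, `Ty.isCartan`, `Ty.long` (the simple roots lying in `R`);
* `Chart.IsTy τ c` : the Cartan matrix of `c` is the standard one, and `R` consists of the roots conjugate to the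
  simple roots `Ty.long τ`.
-/

set_option autoImplicit false
set_option linter.unusedSectionVars false
set_option linter.dupNamespace false

namespace Cfsg.Agent.Nodes.Chart

open CoxeterSystem Cfsg.Agent.ChevalleyStructure.CoxeterGeom Cfsg.Agent.Tits.Roots

/-- The types of the charts. -/
inductive Ty
  | A (n : ℕ)
  | B (n : ℕ)
  | C (n : ℕ)
  | D (n : ℕ)
  | E6
  | E7
  | E8
  | F4
  | G2
  deriving DecidableEq

namespace Ty

/-- The rank (for `D n` only `n ≥ 2` makes sense). -/
def rk : Ty → ℕ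
  | A n => n
  | B n => n
  | C n => n
  | D n => (n - 2) + 2
  | E6 => 6
  | E7 => 7
  | E8 => 8
  | F4 => 4
  | G2 => 2

/-- The Coxeter matrix. -/
def M : (τ : Ty) → CoxeterMatrix (Fin τ.rk)
  | A n => LieRecognition.BNCox.cA n
  | B n => CoxeterMatrix.B n
  | C n => CoxeterMatrix.B n
  | D n => TypeD.M (n - 2)
  | E6 => CoxeterMatrix.E₆
  | E7 => CoxeterMatrix.E₇
  | E8 => CoxeterMatrix.E₈
  | F4 => CoxeterMatrix.F₄
  | G2 => CoxeterMatrix.G₂

/-- The Cartan matrix: `A i j = ⟨α_j, α_i^∨⟩`. -/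
def cartan : (τ : Ty) → Fin τ.rk → Fin τ.rk → ℤ
  | A n => RootsA.AA n
  | B n => TypeC.A n
  | C n => TypeC.A n
  | D n => TypeD.A (n - 2)
  | E6 => ChevalleyStructure.CoxeterGeomTypes.cartanOf Cfsg.Lie.chevE6 6
  | E7 => ChevalleyStructure.CoxeterGeomTypes.cartanOf Cfsg.Lie.chevE7 7
  | E8 => ChevalleyStructure.CoxeterGeomTypes.cartanOf Cfsg.Lie.chevE8 8
  | F4 => ChevalleyStructure.CoxeterGeomTypes.cartanOf Cfsg.Lie.chevF4 4
  | G2 => ChevalleyStructure.CoxeterGeomTypes.cartanOf Cfsg.Lie.chevG2 2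

theorem isCartan : (τ : Ty) → IsCartan τ.M τ.cartan
  | A n => RootsA.isCartan n
  | B n => TypeC.isCartan n
  | C n => TypeC.isCartan n
  | D n => TypeD.isCartan (n - 2)
  | E6 => ChevalleyStructure.CoxeterGeomTypes.isCartan_E6
  | E7 => ChevalleyStructure.CoxeterGeomTypes.isCartan_E7
  | E8 => ChevalleyStructure.CoxeterGeomTypes.isCartan_E8
  | F4 => ChevalleyStructure.CoxeterGeomTypes.isCartan_F4
  | G2 => ChevalleyStructure.CoxeterGeomTypes.isCartan_G2

/-- The simple roots which lie in `R`: all of them in the simply laced types, the last one for `C n`, all but the last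
one for `B n` (`C`-labels), the long ones for `F4` and `G2`. -/
def long : (τ : Ty) → Fin τ.rk → Prop
  | A _ => fun _ => True
  | B n => fun i => (i : ℕ) + 1 < n
  | C n => fun i => (i : ℕ) + 1 = n
  | D _ => fun _ => True
  | E6 => fun _ => True
  | E7 => fun _ => True
  | E8 => fun _ => True
  | F4 => fun i => 2 ≤ (i : ℕ)
  | G2 => fun i => (i : ℕ) = 1

end Ty

/-- The chart is of type `τ`. -/
def Chart.IsTy {G : Type*} [Group G] {Om : Set (Subgroup G)} {p : ℕ} {L : Subgroup G} (c : Chart Om p L)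
    (τ : Ty) : Prop :=
  ∃ e : c.I ≃ Fin τ.rk, (∀ i j, c.A i j = τ.cartan (e i) (e j)) ∧ ∀ i, sr i ∈ c.R ↔ τ.long (e i)

theorem eq_of_isCartan {B : Type*} {M M' : CoxeterMatrix B} {A : B → B → ℤ} (h : IsCartan M A)
    (h' : IsCartan M' A) (i j : B) : M i j = M' i j := by
  by_cases hij : i = j
  · subst hij; rw [M.diagonal, M'.diagonal]
  have h1 := h.rel i j hij
  have h2 := h'.rel i j hij
  omega

variable {G : Type*} [Group G] {Om : Set (Subgroup G)} {p : ℕ} {L : Subgroup G}

/-- The Coxeter matrix of a chart of type `τ`. -/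
theorem Chart.M_apply (c : Chart Om p L) {τ : Ty} {e : c.I ≃ Fin τ.rk}
    (he : ∀ i j, c.A i j = τ.cartan (e i) (e j)) (i j : c.I) : c.M i j = τ.M (e i) (e j) := by
  have h1 := c.h
  have h2 := τ.isCartan
  by_cases hij : i = j
  · subst hij; rw [CoxeterMatrix.diagonal, CoxeterMatrix.diagonal]
  have h3 := h1.rel i j hij
  have h4 := h2.rel (e i) (e j) (fun h0 => hij (e.injective h0))
  rw [he i j, he j i] at h3
  omega

/-- The rank of a chart of type `τ`. -/
theorem Chart.IsTy.card {c : Chart Om p L} {τ : Ty} (h : c.IsTy τ) : Fintype.card c.I = τ.rk := by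
  obtain ⟨e, -, -⟩ := h
  rw [Fintype.card_congr e, Fintype.card_fin]

end Cfsg.Agent.Nodes.Chart
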