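import Mathlib
import Cfsg.Agent.Nodes.Ty
import Cfsg.Agent.Nodes.ChartOfCls

/-!
`exists_chart` for the standard types (project CIT, piece (UP)).

* `irr_of_tree`, `Ty.irr` : the diagrams are connected (`D n` for `3 ≤ n`);
* `Ty.len` : squared lengths of the simple roots up to a factor, `Ty.len_rel`, `Ty.long_iff`;
* `exists_isTy` : nodes, planes and the frame ⟹ chart of type `τ`.
-/

set_option autoImplicit false
set_option linter.unusedSectionVars false

namespace Cfsg.Agent.Nodes.Chart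

open CoxeterSystem Cfsg.Agent.ChevalleyStructure.CoxeterGeom Cfsg.Agent.Tits.Roots Cfsg.Agent.Nodes.ChartOfCls

/-- A diagram with a spanning tree is connected. -/
theorem irr_of_tree {I : Type*} {M : CoxeterMatrix I} (lev : I → ℕ) (r : I)
    (hpar : ∀ i, i ≠ r → ∃ j, lev j < lev i ∧ M i j ≠ 2) :
    ∀ J : Set I, J.Nonempty → J ≠ Set.univ → ∃ a ∈ J, ∃ b, b ∉ J ∧ M a b ≠ 2 := by
  intro J hJ hJ'
  by_contra hcon
  push Not at hcon
  have hadj : ∀ i j, M i j ≠ 2 → (i ∈ J ↔ j ∈ J) := by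
    intro i j hij
    constructor
    · intro hi
      by_contra hj
      exact hij (hcon i hi j hj)
    · intro hj
      by_contra hi
      exact hij (by rw [M.symmetric]; exact hcon j hj i hi)
  have key : ∀ k i, lev i = k → (i ∈ J ↔ r ∈ J) := by
    intro k
    induction k using Nat.strong_induction_on with
    | _ k ih =>
      intro i hi
      by_cases hir : i = r
      · rw [hir]
      · obtain ⟨j, hj, hM⟩ := hpar i hir
        rw [hadj i j hM]
        exact ih (lev j) (by omega) j rfl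
  obtain ⟨a, ha⟩ := hJ
  apply hJ'
  rw [Set.eq_univ_iff_forall]
  intro b
  rw [key _ b rfl, ← key _ a rfl]
  exact ha

namespace Ty

/-- The type is irreducible. -/
def Ok : Ty → Prop
  | A n => 1 ≤ n
  | B n => 2 ≤ n
  | C n => 1 ≤ n
  | D n => 3 ≤ n
  | _ => True

/-- Squared lengths of the simple roots, up to a factor. -/
def len : (τ : Ty) → Fin τ.rk → ℤ
  | A _ => fun _ => 1
  | B n => fun i => if (i : ℕ) + 1 = n then 2 else 1
  | C n => fun i => if (i : ℕ) + 1 = n then 2 else 1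
  | D _ => fun _ => 1
  | E6 => fun _ => 1
  | E7 => fun _ => 1
  | E8 => fun _ => 1
  | F4 => fun i => if 2 ≤ (i : ℕ) then 2 else 1
  | G2 => fun i => if (i : ℕ) = 1 then 3 else 1

/-- The squared length of the roots in `R`. -/
def lenR : Ty → ℤ
  | C _ => 2
  | F4 => 2
  | G2 => 3
  | _ => 1

theorem lenR_ne (τ : Ty) : τ.lenR ≠ 0 := by
  cases τ <;> simp [lenR]

theorem long_iff (τ : Ty) (i : Fin τ.rk) : τ.long i ↔ τ.len i = τ.lenR := by
  cases τ with
  | A n => simp [long, len, lenR]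
  | B n =>
    have h : (i : ℕ) < n := i.2
    simp only [long, len, lenR]
    split_ifs with h1
    · constructor
      · intro h2; omega
      · intro h2; norm_num at h2
    · constructor
      · intro _; rfl
      · intro _; omega
  | C n =>
    simp only [long, len, lenR]
    split_ifs with h1
    · exact ⟨fun _ => rfl, fun _ => h1⟩
    · constructor
      · intro h2; exact absurd h2 h1
      · intro h2; norm_num at h2
  | D n => simp [long, len, lenR]
  | E6 => simp [long, len, lenR]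
  | E7 => simp [long, len, lenR]
  | E8 => simp [long, len, lenR]
  | F4 =>
    simp only [long, len, lenR]
    split_ifs with h1
    · exact ⟨fun _ => rfl, fun _ => h1⟩
    · constructor
      · intro h2; exact absurd h2 h1
      · intro h2; norm_num at h2
  | G2 =>
    simp only [long, len, lenR]
    split_ifs with h1
    · exact ⟨fun _ => rfl, fun _ => h1⟩
    · constructor
      · intro h2; exact absurd h2 h1
      · intro h2; norm_num at h2

theorem len_relC (n : ℕ) (i j : Fin n) :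
    TypeC.A n i j * (if (i : ℕ) + 1 = n then 2 else 1) = TypeC.A n j i * (if (j : ℕ) + 1 = n then 2 else 1) := by
  have h1 := i.2
  have h2 := j.2
  by_cases hij : i = j
  · rw [hij]
  have hij' : (i : ℕ) ≠ j := fun e => hij (Fin.ext e)
  rw [TypeC.A_apply, TypeC.A_apply, if_neg hij, if_neg (Ne.symm hij)]
  split_ifs <;> omega

theorem len_relA (n : ℕ) (i j : Fin n) : RootsA.AA n i j * 1 = RootsA.AA n j i * 1 := by
  unfold RootsA.AA
  by_cases hij : i = j
  · rw [hij]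
  · rw [if_neg hij, if_neg (Ne.symm hij)]
    split_ifs <;> omega

theorem len_relD (n : ℕ) (i j : Fin (n + 2)) : TypeD.A n i j * 1 = TypeD.A n j i * 1 := by
  rw [TypeD.A_apply, TypeD.A_apply]
  by_cases hij : i = j
  · rw [hij]
  · rw [if_neg hij, if_neg (Ne.symm hij)]
    simp only [or_comm]

theorem len_rel : (τ : Ty) → ∀ i j, τ.cartan i j * τ.len i = τ.cartan j i * τ.len j
  | A n => len_relA n
  | B n => len_relC n
  | C n => len_relC n
  | D n => len_relD (n - 2)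
  | E6 => by
    change ∀ i j : Fin 6, ChevalleyStructure.CoxeterGeomTypes.cartanOf Cfsg.Lie.chevE6 6 i j * 1 =
      ChevalleyStructure.CoxeterGeomTypes.cartanOf Cfsg.Lie.chevE6 6 j i * 1
    decide +kernel
  | E7 => by
    change ∀ i j : Fin 7, ChevalleyStructure.CoxeterGeomTypes.cartanOf Cfsg.Lie.chevE7 7 i j * 1 =
      ChevalleyStructure.CoxeterGeomTypes.cartanOf Cfsg.Lie.chevE7 7 j i * 1
    decide +kernel
  | E8 => by
    change ∀ i j : Fin 8, ChevalleyStructure.CoxeterGeomTypes.cartanOf Cfsg.Lie.chevE8 8 i j * 1 =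
      ChevalleyStructure.CoxeterGeomTypes.cartanOf Cfsg.Lie.chevE8 8 j i * 1
    decide +kernel
  | F4 => by
    change ∀ i j : Fin 4, ChevalleyStructure.CoxeterGeomTypes.cartanOf Cfsg.Lie.chevF4 4 i j *
      (if 2 ≤ (i : ℕ) then 2 else 1) =
      ChevalleyStructure.CoxeterGeomTypes.cartanOf Cfsg.Lie.chevF4 4 j i * (if 2 ≤ (j : ℕ) then 2 else 1)
    decide +kernel
  | G2 => by
    change ∀ i j : Fin 2, ChevalleyStructure.CoxeterGeomTypes.cartanOf Cfsg.Lie.chevG2 2 i j *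
      (if (i : ℕ) = 1 then 3 else 1) =
      ChevalleyStructure.CoxeterGeomTypes.cartanOf Cfsg.Lie.chevG2 2 j i * (if (j : ℕ) = 1 then 3 else 1)
    decide +kernel

theorem exists_long (τ : Ty) (h : τ.Ok) : ∃ i, τ.len i = τ.lenR := by
  cases τ with
  | A n =>
    have h0 : 1 ≤ n := h
    exact ⟨(⟨0, h0⟩ : Fin n), rfl⟩
  | B n =>
    have h0 : 2 ≤ n := h
    refine ⟨(⟨0, by omega⟩ : Fin n), ?_⟩
    change (if 0 + 1 = n then (2 : ℤ) else 1) = 1
    rw [if_neg (by omega)]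
  | C n =>
    have h0 : 1 ≤ n := h
    refine ⟨(⟨n - 1, by omega⟩ : Fin n), ?_⟩
    change (if n - 1 + 1 = n then (2 : ℤ) else 1) = 2
    rw [if_pos (by omega)]
  | D n => exact ⟨(⟨0, by omega⟩ : Fin (n - 2 + 2)), rfl⟩
  | E6 => exact ⟨(0 : Fin 6), rfl⟩
  | E7 => exact ⟨(0 : Fin 7), rfl⟩
  | E8 => exact ⟨(0 : Fin 8), rfl⟩
  | F4 => exact ⟨(2 : Fin 4), rfl⟩
  | G2 => exact ⟨(1 : Fin 2), rfl⟩

theorem irrA (n : ℕ) (h : 1 ≤ n) : ∀ J : Set (Fin n), J.Nonempty → J ≠ Set.univ →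
    ∃ a ∈ J, ∃ b, b ∉ J ∧ LieRecognition.BNCox.cA n a b ≠ 2 := by
  refine irr_of_tree (fun i => (i : ℕ)) ⟨0, h⟩ (fun i hi => ?_)
  have h0 : (i : ℕ) ≠ 0 := fun e => hi (Fin.ext e)
  refine ⟨⟨i - 1, by omega⟩, by simp only; omega, ?_⟩
  rw [LieRecognition.BNCox.cA_apply]
  unfold LieRecognition.CoxClass.mA
  simp only
  rw [if_neg (by omega), if_pos (by omega)]
  decide

theorem irrC (n : ℕ) (h : 1 ≤ n) : ∀ J : Set (Fin n), J.Nonempty → J ≠ Set.univ →
    ∃ a ∈ J, ∃ b, b ∉ J ∧ CoxeterMatrix.B n a b ≠ 2 := by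
  refine irr_of_tree (fun i => (i : ℕ)) ⟨0, h⟩ (fun i hi => ?_)
  have h0 : (i : ℕ) ≠ 0 := fun e => hi (Fin.ext e)
  have h1 := i.2
  refine ⟨⟨i - 1, by omega⟩, by simp only; omega, ?_⟩
  have hne : i ≠ ⟨i - 1, by omega⟩ := fun e => by
    have := congrArg Fin.val e
    simp only at this
    omega
  show (if i = _ then 1 else _) ≠ 2
  rw [if_neg hne]
  simp only
  split_ifs <;> omega

theorem irrD (n : ℕ) (h : 1 ≤ n) : ∀ J : Set (Fin (n + 2)), J.Nonempty → J ≠ Set.univ →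
    ∃ a ∈ J, ∃ b, b ∉ J ∧ TypeD.M n a b ≠ 2 := by
  refine irr_of_tree (fun i => (i : ℕ)) ⟨0, by omega⟩ (fun i hi => ?_)
  have h0 : (i : ℕ) ≠ 0 := fun e => hi (Fin.ext e)
  have h1 := i.2
  have key : ∀ k : ℕ, ∀ hk : k < n + 2, k < i → TypeD.Adj (⟨k, hk⟩ : Fin (n + 2)) i →
      ∃ j : Fin (n + 2), (j : ℕ) < i ∧ TypeD.M n i j ≠ 2 := by
    intro k hk hki hadj
    refine ⟨⟨k, hk⟩, hki, ?_⟩
    rw [TypeD.M_apply, if_neg (fun e => by have := congrArg Fin.val e; simp only at this; omega),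
      if_pos (Or.inr hadj)]
    decide
  by_cases h2 : (i : ℕ) < n + 1
  · exact key (i - 1) (by omega) (by omega) (Or.inl ⟨h2, by simp only; omega⟩)
  · exact key (i - 2) (by omega) (by omega) (Or.inr ⟨by omega, by simp only; omega⟩)

set_option backward.isDefEq.respectTransparency false in
theorem irrE6 : ∀ i : Fin 6, i ≠ 0 → ∃ j : Fin 6, (![0, 4, 1, 2, 3, 4] : Fin 6 → ℕ) j < (![0, 4, 1, 2, 3, 4] : Fin 6 → ℕ) i ∧
    CoxeterMatrix.E₆ i j ≠ 2 := by decide +kernel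

set_option backward.isDefEq.respectTransparency false in
theorem irrE7 : ∀ i : Fin 7, i ≠ 0 → ∃ j : Fin 7, (![0, 4, 1, 2, 3, 4, 5] : Fin 7 → ℕ) j <
    (![0, 4, 1, 2, 3, 4, 5] : Fin 7 → ℕ) i ∧ CoxeterMatrix.E₇ i j ≠ 2 := by decide +kernel

set_option backward.isDefEq.respectTransparency false in
theorem irrE8 : ∀ i : Fin 8, i ≠ 0 → ∃ j : Fin 8, (![0, 4, 1, 2, 3, 4, 5, 6] : Fin 8 → ℕ) j <
    (![0, 4, 1, 2, 3, 4, 5, 6] : Fin 8 → ℕ) i ∧ CoxeterMatrix.E₈ i j ≠ 2 := by decide +kernel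

set_option backward.isDefEq.respectTransparency false in
theorem irrF4 : ∀ i : Fin 4, i ≠ 0 → ∃ j : Fin 4, (j : ℕ) < i ∧ CoxeterMatrix.F₄ i j ≠ 2 := by decide +kernel

set_option backward.isDefEq.respectTransparency false in
theorem irrG2 : ∀ i : Fin 2, i ≠ 0 → ∃ j : Fin 2, (j : ℕ) < i ∧ CoxeterMatrix.G₂ i j ≠ 2 := by decide +kernel

theorem irr : (τ : Ty) → τ.Ok → ∀ J : Set (Fin τ.rk), J.Nonempty → J ≠ Set.univ →
    ∃ a ∈ J, ∃ b, b ∉ J ∧ τ.M a b ≠ 2
  | A n, h => irrA n h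
  | B n, h => irrC n (le_trans (by decide) (show 2 ≤ n from h))
  | C n, h => irrC n h
  | D n, h => irrD (n - 2) (by have : 3 ≤ n := h; omega)
  | E6, _ => irr_of_tree _ _ irrE6
  | E7, _ => irr_of_tree _ _ irrE7
  | E8, _ => irr_of_tree _ _ irrE8
  | F4, _ => irr_of_tree _ _ irrF4
  | G2, _ => irr_of_tree _ _ irrG2

end Ty

/-- `Plane` only depends on `long` up to equivalence. -/
theorem Plane.congr {I : Type*} {M : CoxeterMatrix I} {A : I → I → ℤ} {G : Type*} [Group G] {Og : Set (Subgroup G)}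
    {p : ℕ} {Xs Xn : I → Subgroup G} {l l' : I → Prop} (hl : ∀ i, l i ↔ l' i) {i j : I}
    (P : ChartOfCls.Plane M A Og p Xs Xn l i j) : ChartOfCls.Plane M A Og p Xs Xn l' i j := by
  have : l = l' := funext fun i => propext (hl i)
  rwa [← this]

variable {W : Type} [Group W] [Fintype W] {G : Type*} [Group G] [Finite G] {Og : Set (Subgroup G)} {p : ℕ}

/-- **Nodes, planes and the frame ⟹ chart of type `τ`.**

* `Xs i`, `Xn i` : the opposite root groups of the nodes of `τ`;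
* `comm` : orthogonal nodes commute;
* `plane` : adjacent nodes are found in a chart;
* `hF` : every member of the frame `Om(S)` is contained in a chart `D ≤ ⟨Xs, Xn⟩` containing a long node. -/
theorem exists_isTy (τ : Ty) (hτ : τ.Ok) (h2 : 2 ≤ τ.rk) (cs : CoxeterSystem τ.M W) (hp : p.Prime) (hp2 : p ≠ 2)
    (hyp : Cit.Hyp Og) (S : Sylow 2 G) (Xs Xn : Fin τ.rk → Subgroup G)
    (comm : ∀ i j, i ≠ j → τ.M i j = 2 → ∀ a ∈ Xs i ⊔ Xn i, ∀ b ∈ Xs j ⊔ Xn j, a * b = b * a)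
    (plane : ∀ i j, i ≠ j → τ.M i j ≠ 2 → ChartOfCls.Plane τ.M τ.cartan Og p Xs Xn τ.long i j ∨
      ChartOfCls.Plane τ.M τ.cartan Og p Xs Xn τ.long j i)
    (hF : ∀ K ∈ Cit.OmS Og (S : Subgroup G), ∃ (D : Subgroup G) (c : Chart Og p D) (i : Fin τ.rk) (b : c.I → ℤ),
      τ.long i ∧ At c (Xs i) (Xn i) True b ∧ D ≤ ⨆ i, (Xs i ⊔ Xn i) ∧ K ≤ D) :
    ∃ (c : Chart Og p (⨆ i, (Xs i ⊔ Xn i))) (e : c.I ≃ Fin τ.rk), (∀ i j, c.A i j = τ.cartan (e i) (e j)) ∧
      (∀ i, sr i ∈ c.R ↔ τ.long (e i)) ∧ c.IsTy τ ∧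
      (∀ i, c.X (sr (e.symm i)) = Xs i) ∧ (∀ i, c.X (-sr (e.symm i)) = Xn i) ∧ (∀ r ∈ c.R, c.Z r = c.X r) := by
  obtain ⟨i0, hi0⟩ := τ.exists_long hτ
  have : Nontrivial (Fin τ.rk) := Fin.nontrivial_iff_two_le.2 h2
  have hl : ∀ i, τ.long i ↔ τ.len i = τ.len i0 := fun i => by rw [hi0]; exact τ.long_iff i
  obtain ⟨c, e, h1, -, h3, h4, h5, h6⟩ := exists_chart hp hp2 hyp S cs τ.isCartan (τ.irr hτ) Xs Xn τ.len τ.len_rel i0
    (by rw [hi0]; exact τ.lenR_ne) comm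
    (fun i j hij h2 => (plane i j hij h2).imp (Plane.congr hl) (Plane.congr hl))
    (fun K hK => by
      obtain ⟨D, c, i, b, h1, h2⟩ := hF K hK
      exact ⟨D, c, i, b, (hl i).1 h1, h2⟩)
  have h3' : ∀ i, sr i ∈ c.R ↔ τ.long (e i) := fun i => (h3 i).trans (hl _).symm
  exact ⟨c, e, h1, h3', ⟨e, h1, h3'⟩, h4, h5, h6⟩

end Cfsg.Agent.Nodes.Chart
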