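import Mathlib
import Cfsg.Agent.Nodes.ZRel
import Cfsg.Agent.Nodes.Slope

/-!
# Sums of two orthogonal roots of the same length (project CIT, CONN; `LEMMA SH`)

`y₁ ⟂ y₂` roots of the same length, `x ∈ R` on the ray of `y₁ + y₂` (so `x` and `-a = -s_{y₁} x`, `a` on the ray
of `y₁ - y₂`, are classical). If `X x = Z x` and `X (-a) = Z (-a)` then `X x ≤ ⁅X y₁, X y₂⁆`.
No fields, no matrices: only the axioms of `Cls`.
-/

set_option autoImplicit false
set_option linter.unusedSectionVars false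
set_option linter.dupNamespace false

namespace Cfsg.Agent.Nodes.ShortSum

open CoxeterSystem Cfsg.Agent.ChevalleyStructure.CoxeterGeom Cfsg.Agent.Tits.Roots Cfsg.Agent.Tits.Core
  Cfsg.Agent.Tits.RootComb Cfsg.Agent.Nodes.Comb Cfsg.Agent.Nodes.Reps Cfsg.Agent.Nodes.BNOf
  Cfsg.Agent.Nodes.RGDLib Cfsg.Agent.Nodes.Chart Cfsg.Agent.Nodes.Coroot Cfsg.Agent.Nodes.Perp
  Cfsg.Agent.Nodes.ZRel
open scoped commutatorElement

variable {I W Y : Type*} [Fintype I] [DecidableEq I] [Group W] [Fintype W] [Group Y] {M : CoxeterMatrix I}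
  {cs : CoxeterSystem M W} {A : I → I → ℤ} {h : IsCartan M A} {p : ℕ} {T : Subgroup Y} {n : I → Y}
  {X : (I → ℤ) → Subgroup Y} {R : Set (I → ℤ)} {Z : (I → ℤ) → Subgroup Y} {z : (I → ℤ) → Y}

/-! ### Roots -/

/-- `x` is on the ray of `y₁ + y₂`, `b` on the ray of `y₂ - y₁`, where `y₁, y₂` are orthogonal of the same length. -/
structure Sq (cs : CoxeterSystem M W) (h : IsCartan M A) (m : ℤ) (y₁ y₂ x b : I → ℤ) : Prop where
  pos : 0 < m
  root₁ : IsRoot cs h y₁
  root₂ : IsRoot cs h y₂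
  root : IsRoot cs h x
  rootb : IsRoot cs h b
  orth : form cs h y₁ y₂ = 0
  len : form cs h y₁ y₁ = form cs h y₂ y₂
  add : m • x = y₁ + y₂
  sub : m • b = y₂ - y₁

namespace Sq

variable {m : ℤ} {y₁ y₂ x b : I → ℤ}

theorem of_add (hm : 0 < m) (h1 : IsRoot cs h y₁) (h2 : IsRoot cs h y₂) (hx : IsRoot cs h x)
    (ho : form cs h y₁ y₂ = 0) (hl : form cs h y₁ y₁ = form cs h y₂ y₂) (e : m • x = y₁ + y₂) :
    Sq cs h m y₁ y₂ x (x - cpr cs h x y₁ • y₁) := by
  refine ⟨hm, h1, h2, hx, isRoot_refl cs h hx h1, ho, hl, e, ?_⟩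
  have h3 := two_form_cpr cs h x h1
  have h4 : m * form cs h x y₁ = form cs h y₁ y₁ := by
    rw [← form_smul_left, e, form_add_left, form_comm cs h y₂ y₁, ho, add_zero]
  have h5 := form_pos cs h h1.ne_zero
  have h6 : m * cpr cs h x y₁ = 2 := by
    have : (m * cpr cs h x y₁) * form cs h y₁ y₁ = 2 * form cs h y₁ y₁ := by
      rw [mul_assoc, ← h3, mul_left_comm, h4]
    exact mul_right_cancel₀ h5.ne' this
  rw [smul_sub, e, smul_smul, h6]
  module

/-- The configuration `(-y₁, y₂, b, x)`. -/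
theorem flip (S : Sq cs h m y₁ y₂ x b) : Sq cs h m (-y₁) y₂ b x where
  pos := S.pos
  root₁ := S.root₁.neg
  root₂ := S.root₂
  root := S.rootb
  rootb := S.root
  orth := by rw [form_neg_left, S.orth, neg_zero]
  len := by rw [form_neg_left, form_neg_right, neg_neg, S.len]
  add := by rw [S.sub]; abel
  sub := by rw [S.add]; abel

theorem form_x₁ (S : Sq cs h m y₁ y₂ x b) : m * form cs h x y₁ = form cs h y₁ y₁ := by
  rw [← form_smul_left, S.add, form_add_left, form_comm cs h y₂ y₁, S.orth, add_zero]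

theorem form_x₂ (S : Sq cs h m y₁ y₂ x b) : m * form cs h x y₂ = form cs h y₁ y₁ := by
  rw [← form_smul_left, S.add, form_add_left, S.orth, zero_add, S.len]

theorem form_b₁ (S : Sq cs h m y₁ y₂ x b) : m * form cs h b y₁ = -form cs h y₁ y₁ := by
  rw [← form_smul_left, S.sub, form_sub_left, form_comm cs h y₂ y₁, S.orth, zero_sub]

theorem form_b₂ (S : Sq cs h m y₁ y₂ x b) : m * form cs h b y₂ = form cs h y₁ y₁ := by
  rw [← form_smul_left, S.sub, form_sub_left, S.orth, sub_zero, S.len]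

theorem ypos (S : Sq cs h m y₁ y₂ x b) : 0 < form cs h y₁ y₁ := form_pos cs h S.root₁.ne_zero

theorem x₁_pos (S : Sq cs h m y₁ y₂ x b) : 0 < form cs h x y₁ :=
  (pos_iff_pos_of_mul_pos (by rw [S.form_x₁]; exact S.ypos)).1 S.pos

theorem x₂_pos (S : Sq cs h m y₁ y₂ x b) : 0 < form cs h x y₂ :=
  (pos_iff_pos_of_mul_pos (by rw [S.form_x₂]; exact S.ypos)).1 S.pos

theorem b₂_pos (S : Sq cs h m y₁ y₂ x b) : 0 < form cs h b y₂ :=
  (pos_iff_pos_of_mul_pos (by rw [S.form_b₂]; exact S.ypos)).1 S.pos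

theorem b₁_neg (S : Sq cs h m y₁ y₂ x b) : form cs h b y₁ < 0 := by
  have h1 : 0 < m * (-form cs h b y₁) := by
    rw [mul_neg, S.form_b₁, neg_neg]; exact S.ypos
  have := (pos_iff_pos_of_mul_pos h1).1 S.pos
  omega

theorem xb (S : Sq cs h m y₁ y₂ x b) : form cs h x b = 0 := by
  have h1 : m * form cs h x b = 0 := by
    have h2 : m * (m * form cs h x b) = 0 := by
      rw [← form_smul_left, ← form_smul_right, S.add, S.sub, form_sub_right, form_add_left, form_add_left,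
        form_comm cs h y₂ y₁, S.orth, S.len]
      ring
    exact (mul_eq_zero.1 h2).resolve_left S.pos.ne'
  exact (mul_eq_zero.1 h1).resolve_left S.pos.ne'

/-- `s_{y₁} b = x` -/
theorem refl_b (S : Sq cs h m y₁ y₂ x b) : b - cpr cs h b y₁ • y₁ = x := by
  have h1 := two_form_cpr cs h b S.root₁
  have h2 : m * cpr cs h b y₁ = -2 := by
    have : (m * cpr cs h b y₁) * form cs h y₁ y₁ = (-2) * form cs h y₁ y₁ := by
      rw [mul_assoc, ← h1, mul_left_comm, S.form_b₁]; ring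
    exact mul_right_cancel₀ S.ypos.ne' this
  have h3 : m • (b - cpr cs h b y₁ • y₁) = m • x := by
    rw [smul_sub, S.sub, smul_smul, h2, S.add]
    module
  exact smul_right_injective _ S.pos.ne' h3

theorem ne_smul (S : Sq cs h m y₁ y₂ x b) {i j : ℤ} (e : i • y₁ = j • y₂) : i = 0 ∧ j = 0 := by
  have h1 : i * form cs h y₁ y₁ = 0 := by
    rw [← form_smul_left, e, form_smul_left, form_comm cs h y₂ y₁, S.orth, mul_zero]
  have h2 : j * form cs h y₂ y₂ = 0 := by
    rw [← form_smul_left, ← e, form_smul_left, S.orth, mul_zero]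
  exact ⟨(mul_eq_zero.1 h1).resolve_right S.ypos.ne',
    (mul_eq_zero.1 h2).resolve_right (S.len ▸ S.ypos).ne'⟩

/-- The coordinates of a root of the plane of `y₁, y₂`. -/
theorem coord (S : Sq cs h m y₁ y₂ x b) {w : I → ℤ} {e c d : ℤ} (he : 0 < e) (hw : e • w = c • y₁ + d • y₂) :
    (2 : ℤ) • w = cpr cs h w y₁ • y₁ + cpr cs h w y₂ • y₂ ∧ e * cpr cs h w y₁ = 2 * c ∧
      e * cpr cs h w y₂ = 2 * d := by
  have h1 := two_form_cpr cs h w S.root₁
  have h2 := two_form_cpr cs h w S.root₂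
  have h3 : e * form cs h w y₁ = c * form cs h y₁ y₁ := by
    rw [← form_smul_left, hw, form_add_left, form_smul_left, form_smul_left, form_comm cs h y₂ y₁, S.orth,
      mul_zero, add_zero]
  have h4 : e * form cs h w y₂ = d * form cs h y₂ y₂ := by
    rw [← form_smul_left, hw, form_add_left, form_smul_left, form_smul_left, S.orth, mul_zero, zero_add]
  have h5 : e * cpr cs h w y₁ = 2 * c := by
    have : (e * cpr cs h w y₁) * form cs h y₁ y₁ = (2 * c) * form cs h y₁ y₁ := by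
      rw [mul_assoc, ← h1, mul_left_comm, h3]; ring
    exact mul_right_cancel₀ S.ypos.ne' this
  have h6 : e * cpr cs h w y₂ = 2 * d := by
    have : (e * cpr cs h w y₂) * form cs h y₂ y₂ = (2 * d) * form cs h y₂ y₂ := by
      rw [mul_assoc, ← h2, mul_left_comm, h4]; ring
    exact mul_right_cancel₀ (S.len ▸ S.ypos).ne' this
  refine ⟨?_, h5, h6⟩
  refine smul_right_injective _ he.ne' ?_
  change e • ((2 : ℤ) • w) = e • (cpr cs h w y₁ • y₁ + cpr cs h w y₂ • y₂)
  rw [smul_add, smul_smul e (cpr cs h w y₁), smul_smul e (cpr cs h w y₂), h5, h6, smul_comm, hw]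
  module

/-- The only root between `y₁` and `y₂` is `x`. -/
theorem btwn (S : Sq cs h m y₁ y₂ x b) {w : I → ℤ} (hw : Btwn cs h y₁ y₂ w) : w = x := by
  obtain ⟨hwr, e, c, d, he, hc, hd, ew⟩ := hw
  obtain ⟨h1, h2, h3⟩ := S.coord he ew
  set i := cpr cs h w y₁ with hi
  set j := cpr cs h w y₂ with hj
  have hi0 : 0 < i := (pos_iff_pos_of_mul_pos (by rw [h2]; omega)).1 he
  have hj0 : 0 < j := (pos_iff_pos_of_mul_pos (by rw [h3]; omega)).1 he
  have f1 := two_form_cpr cs h w S.root₁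
  have f2 := two_form_cpr cs h w S.root₂
  have g1 := two_form_cpr cs h y₁ hwr
  have g2 := two_form_cpr cs h y₂ hwr
  rw [form_comm cs h y₁ w] at g1
  rw [form_comm cs h y₂ w] at g2
  rw [← hi] at f1
  rw [← hj, ← S.len] at f2
  set i' := cpr cs h y₁ w with hi'
  set j' := cpr cs h y₂ w with hj'
  have f3 : 4 * form cs h w w = (i * i + j * j) * form cs h y₁ y₁ := by
    have : 4 * form cs h w w = form cs h ((2 : ℤ) • w) ((2 : ℤ) • w) := by
      rw [form_smul_left, form_smul_right]; ring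
    rw [this, h1, form_add_left, form_add_right, form_add_right, form_smul_left, form_smul_left, form_smul_left,
      form_smul_left, form_smul_right, form_smul_right, form_smul_right, form_smul_right, form_comm cs h y₂ y₁,
      S.orth, ← S.len]
    ring
  have hy := S.ypos
  have hww := form_pos cs h hwr.ne_zero
  set Q := form cs h y₁ y₁ with hQ
  have k1 : i' * (i * i + j * j) = 4 * i := by
    have : (i' * (i * i + j * j)) * Q = (4 * i) * Q := by
      rw [mul_assoc, ← f3]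
      have : i' * (4 * form cs h w w) = 4 * (i' * form cs h w w) := by ring
      rw [this, ← g1, f1]; ring
    exact mul_right_cancel₀ hy.ne' this
  have k2 : j' * (i * i + j * j) = 4 * j := by
    have : (j' * (i * i + j * j)) * Q = (4 * j) * Q := by
      rw [mul_assoc, ← f3]
      have : j' * (4 * form cs h w w) = 4 * (j' * form cs h w w) := by ring
      rw [this, ← g2, f2]; ring
    exact mul_right_cancel₀ hy.ne' this
  have hN : 0 < i * i + j * j := by positivity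
  have hi'0 : 0 < i' := by
    have : 0 < i' * (i * i + j * j) := by rw [k1]; omega
    exact (pos_iff_pos_of_mul_pos this).2 hN
  have hj'0 : 0 < j' := by
    have : 0 < j' * (i * i + j * j) := by rw [k2]; omega
    exact (pos_iff_pos_of_mul_pos this).2 hN
  have b1 : i * i + j * j ≤ 4 * i := by nlinarith
  have b2 : i * i + j * j ≤ 4 * j := by nlinarith
  have hi4 : i < 4 := by nlinarith
  have hj4 : j < 4 := by nlinarith
  have hi'4 : i' ≤ 4 := by nlinarith
  have hij : i = j := by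
    interval_cases i <;> interval_cases j <;> first | rfl | (exfalso; omega)
  refine Slope.eq_of_cross hwr S.root (c := 2) (d := i * m) two_pos (mul_pos hi0 S.pos) ?_
  rw [h1, ← hij, mul_smul, S.add, smul_add]

/-- The roots between `y₁` and `b` are `y₂` and `x`. -/
theorem btwn' (S : Sq cs h m y₁ y₂ x b) {w : I → ℤ} (hw : Btwn cs h y₁ b w) : w = y₂ ∨ w = x := by
  obtain ⟨hwr, e, c, d, he, hc, hd, ew⟩ := hw
  have hm := S.pos
  have e1 : (m * e) • w = (m * c - d) • y₁ + d • y₂ := by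
    rw [mul_smul, ew, smul_add, smul_smul, smul_comm m d b, S.sub]
    module
  obtain ⟨h1, h2, h3⟩ := S.coord (mul_pos hm he) e1
  have hj0 : 0 < cpr cs h w y₂ := (pos_iff_pos_of_mul_pos (by rw [h3]; omega)).1 (mul_pos hm he)
  rcases lt_trichotomy (cpr cs h w y₁) 0 with h4 | h4 | h4
  · exfalso
    have h5 : Btwn cs h (-y₁) y₂ w := ⟨hwr, 2, -cpr cs h w y₁, cpr cs h w y₂, two_pos, by omega, hj0, by
      rw [h1]; module⟩
    have h6 := S.flip.btwn h5
    -- `w = b`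
    have h7 : c * form cs h y₁ y₁ = (e - d) * form cs h b y₁ := by
      have h8 : c • y₁ = (e - d) • b := by
        rw [h6] at ew
        rw [sub_smul, ew]; abel
      rw [← form_smul_left, h8, form_smul_left]
    have h8 : (e - d) * form cs h b y₂ = 0 := by
      have h9 : c • y₁ = (e - d) • b := by
        rw [h6] at ew
        rw [sub_smul, ew]; abel
      rw [← form_smul_left, ← h9, form_smul_left, S.orth, mul_zero]
    have h9 := (mul_eq_zero.1 h8).resolve_right S.b₂_pos.ne'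
    rw [h9, zero_mul] at h7
    have := mul_pos hc S.ypos
    omega
  · left
    rw [h4, zero_smul, zero_add] at h1
    exact Slope.eq_of_cross hwr S.root₂ two_pos hj0 h1
  · right
    exact S.btwn ⟨hwr, 2, _, _, two_pos, h4, hj0, h1⟩

theorem ne₁ (S : Sq cs h m y₁ y₂ x b) : y₁ ≠ y₂ := by
  intro e
  have := S.orth
  rw [← e] at this
  exact S.ypos.ne' this

theorem ne₂ (S : Sq cs h m y₁ y₂ x b) : y₁ ≠ -y₂ := by
  intro e
  have := S.orth
  have h1 : y₂ = -y₁ := by rw [e, neg_neg]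
  rw [h1, form_neg_right] at this
  have := S.ypos
  omega

theorem ne_of_form {u v w : I → ℤ} (h1 : form cs h u w = 0) (h2 : form cs h v w ≠ 0) : u ≠ v ∧ u ≠ -v := by
  constructor
  · rintro rfl; exact h2 h1
  · rintro rfl
    rw [form_neg_left, neg_eq_zero] at h1
    exact h2 h1

/-- `y₁ ≠ ± b` -/
theorem ne_b (S : Sq cs h m y₁ y₂ x b) : y₁ ≠ b ∧ y₁ ≠ -b := ne_of_form S.orth S.b₂_pos.ne'

theorem ne_x (S : Sq cs h m y₁ y₂ x b) : y₁ ≠ x ∧ y₁ ≠ -x := ne_of_form S.orth S.x₂_pos.ne'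

/-- `y₂ ≠ ± b` -/
theorem ne_b₂ (S : Sq cs h m y₁ y₂ x b) : y₂ ≠ b ∧ y₂ ≠ -b :=
  ne_of_form (w := y₁) (by rw [form_comm]; exact S.orth) S.b₁_neg.ne

end Sq

/-! ### Groups -/

theorem btw_le {x y : I → ℤ} {K : Subgroup Y} (hK : ∀ w, Btwn cs h x y w → X w ≤ K) : btw cs h X x y ≤ K := by
  unfold Reps.btw
  exact iSup_le fun ⟨w, hw⟩ => hK w hw

/-- Products of two commuting subgroups. -/
theorem mem_sup_of_cm {K L : Subgroup Y} (hc : ∀ a ∈ K, ∀ b ∈ L, a * b = b * a) {g : Y} (hg : g ∈ K ⊔ L) :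
    ∃ a ∈ K, ∃ b ∈ L, g = a * b := by
  have h1 : K ≤ Subgroup.normalizer (L : Set Y) := fun a ha => by
    rw [Subgroup.mem_normalizer_iff]
    intro b
    constructor
    · intro hb
      rw [hc a ha b hb, mul_inv_cancel_right]
      exact hb
    · intro hb
      have h2 : b = a⁻¹ * (a * b * a⁻¹) * a := by group
      rw [h2, hc a⁻¹ (inv_mem ha) _ hb, inv_mul_cancel_right]
      exact hb
  have h2 : g ∈ ((K ⊔ L : Subgroup Y) : Set Y) := hg
  rw [Subgroup.coe_mul_of_left_le_normalizer_right _ _ h1, Set.mem_mul] at h2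
  obtain ⟨a, ha, b, hb, rfl⟩ := h2
  exact ⟨a, ha, b, hb, rfl⟩

variable {m : ℤ} {y₁ y₂ x b : I → ℤ}

/-- An element of odd order whose square lies in `K` lies in `K`. -/
theorem mem_of_sq_mem (C : Cls cs h p T n X R Z z) (hp : p.Prime) (hodd : p ≠ 2) (hx : IsRoot cs h x) {c : Y}
    (hc : c ∈ X x) {K : Subgroup Y} (h2 : c * c ∈ K) : c ∈ K := by
  have : Fact p.Prime := ⟨hp⟩
  obtain ⟨k, hk⟩ := (C.rgd.pgrp' hx) ⟨c, hc⟩
  have hk' : c ^ p ^ k = 1 := congrArg Subtype.val hk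
  have hodd' : Odd (p ^ k) := (hp.odd_of_ne_two hodd).pow
  obtain ⟨m, hm⟩ := hodd'
  rw [hm, pow_succ, pow_mul, pow_two] at hk'
  have h2 : c = ((c * c) ^ m)⁻¹ := by
    rw [eq_inv_iff_mul_eq_one, mul_eq_one_iff_eq_inv]
    have := eq_inv_of_mul_eq_one_left hk'
    rw [this, inv_inv]
  rw [h2]
  exact inv_mem (pow_mem ‹_› m)

/-- **LEMMA SH.** -/
theorem le_commutator (C : Cls cs h p T n X R Z z) (hp : p.Prime) (hodd : p ≠ 2) (S : Sq cs h m y₁ y₂ x b)
    (hxR : x ∈ R) (hbR : b ∈ R) (hX : X x = Z x) (hB : X b = Z b) : X x ≤ ⁅X y₁, X y₂⁆ := by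
  have sS := S.flip
  -- commutations
  have x₁ : ∀ c ∈ X x, ∀ a ∈ X y₁, a * c = c * a := fun c hc a ha =>
    C.cent x hxR y₁ S.root₁ (by rw [form_comm]; exact S.x₁_pos.le) a ha c (hX ▸ hc)
  have x₂ : ∀ c ∈ X x, ∀ a ∈ X y₂, a * c = c * a := fun c hc a ha =>
    C.cent x hxR y₂ S.root₂ (by rw [form_comm]; exact S.x₂_pos.le) a ha c (hX ▸ hc)
  have b₁ : ∀ c ∈ X b, ∀ a ∈ X (-y₁), a * c = c * a := fun c hc a ha =>
    C.cent b hbR (-y₁) S.root₁.neg (by rw [form_comm]; exact sS.x₁_pos.le) a ha c (hB ▸ hc)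
  have b₂ : ∀ c ∈ X b, ∀ a ∈ X y₂, a * c = c * a := fun c hc a ha =>
    C.cent b hbR y₂ S.root₂ (by rw [form_comm]; exact S.b₂_pos.le) a ha c (hB ▸ hc)
  have xb : ∀ c ∈ X b, ∀ a ∈ X x, a * c = c * a := fun c hc a ha =>
    C.cent b hbR x S.root (by rw [S.xb]) a ha c (hB ▸ hc)
  -- the involution
  have zz := C.z_sq b hbR
  have zi : (z b)⁻¹ = z b := inv_eq_of_mul_eq_one_left zz
  have zx : ∀ c ∈ X x, z b * c * z b = c := fun c hc => by
    rw [← z_cent_of_orth C hbR S.root S.xb hc, mul_assoc, zz, mul_one]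
  have zb : ∀ c ∈ X b, z b * c * z b = c := fun c hc => by
    rw [C.z_cent b hbR c (hB ▸ hc), mul_assoc, zz, mul_one]
  have z₁ : ∀ c ∈ X y₁, z b * c * z b = c⁻¹ := fun c hc =>
    C.z_inv b hbR y₁ S.root₁ S.ne_b.1 S.ne_b.2 (by rw [form_comm]; exact S.b₁_neg.ne) c hc
  have z₂ : ∀ c ∈ X y₂, z b * c * z b = c⁻¹ := fun c hc =>
    C.z_inv b hbR y₂ S.root₂ S.ne_b₂.1 S.ne_b₂.2 (by rw [form_comm]; exact S.b₂_pos.ne') c hc
  -- the element of `X y₁`
  obtain ⟨u, hu, hu1⟩ : ∃ u ∈ X y₁, u ≠ 1 := by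
    by_contra h0
    push Not at h0
    exact StdConn.X_ne_bot C S.root₁ ((Subgroup.eq_bot_iff_forall _).2 h0)
  obtain ⟨a₁, ha₁, a₂, ha₂, w, hw, ew⟩ := exists_refl_LL C.rgd S.root₁.neg (b := u)
    (by rw [neg_neg]; exact hu) hu1
  have ewb : rep cs h w b = x := by
    rw [ew, cpr_neg_right cs h b S.root₁, neg_smul, smul_neg, neg_neg]
    exact S.refl_b
  intro c hc
  set g := a₁ * u * a₂ with hg
  have he : g⁻¹ * c * g ∈ X b := by
    have h0 := C.rgd.conj_mem' hw S.root hc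
    rwa [← ewb, rep_inv_apply] at h0
  set e := g⁻¹ * c * g with hee
  have h1 : c = a₁ * (u * e * u⁻¹) * a₁⁻¹ := by
    have h2 : a₂ * e = e * a₂ := b₁ e he a₂ ha₂
    have h3 : a₂ * e * a₂⁻¹ = e := by rw [h2, mul_inv_cancel_right]
    calc c = g * e * g⁻¹ := by rw [hee]; group
      _ = a₁ * (u * (a₂ * e * a₂⁻¹) * u⁻¹) * a₁⁻¹ := by rw [hg]; group
      _ = _ := by rw [h3]
  -- `u e u⁻¹ = v w e`
  obtain ⟨v, hv, w', hw', h2⟩ : ∃ v ∈ X y₂, ∃ w ∈ X x, ⁅u, e⁆ = v * w := by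
    refine mem_sup_of_cm (fun a ha c hc => x₂ c hc a ha) ?_
    refine btw_le ?_ (C.rgd.comm y₁ b S.root₁ S.rootb S.ne_b.1 S.ne_b.2 u hu e he)
    intro r hr
    rcases S.btwn' hr with rfl | rfl
    · exact le_sup_left
    · exact le_sup_right
  have h3 : u * e * u⁻¹ = v * w' * e := by
    rw [← h2, commutatorElement_def]; group
  obtain ⟨f₁, hf₁, h4⟩ : ∃ f ∈ X b, a₁ * v * a₁⁻¹ = f * v := by
    refine ⟨⁅a₁, v⁆, ?_, by rw [commutatorElement_def]; group⟩
    refine btw_le ?_ (C.rgd.comm (-y₁) y₂ S.root₁.neg S.root₂ sS.ne₁ sS.ne₂ a₁ ha₁ v hv)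
    intro r hr
    rw [sS.btwn hr]
  obtain ⟨v₂, hv₂, f₂, hf₂, h5⟩ : ∃ v ∈ X y₂, ∃ f ∈ X b, ⁅a₁, w'⁆ = v * f := by
    refine mem_sup_of_cm (fun a ha c hc => b₂ c hc a ha) ?_
    refine btw_le ?_ (C.rgd.comm (-y₁) x S.root₁.neg S.root sS.ne_b.1 sS.ne_b.2 a₁ ha₁ w' hw')
    intro r hr
    rcases sS.btwn' hr with rfl | rfl
    · exact le_sup_left
    · exact le_sup_right
  have h6 : a₁ * w' * a₁⁻¹ = v₂ * f₂ * w' := by
    rw [← h5, commutatorElement_def]; group
  have h7 : a₁ * e * a₁⁻¹ = e := by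
    rw [b₁ e he a₁ ha₁, mul_inv_cancel_right]
  have h8 : c = f₁ * v * (v₂ * f₂ * w') * e := by
    rw [h1, h3]
    calc a₁ * (v * w' * e) * a₁⁻¹ = (a₁ * v * a₁⁻¹) * (a₁ * w' * a₁⁻¹) * (a₁ * e * a₁⁻¹) := by group
      _ = _ := by rw [h4, h6, h7]
  -- `c w'⁻¹ = f v'`
  have h9 : c * w'⁻¹ = (f₁ * f₂ * e) * (v * v₂) := by
    have k1 : f₂ * w' = w' * f₂ := (xb f₂ hf₂ w' hw').symm
    have k2 : w' * e = e * w' := xb e he w' hw'
    have k3 : (v * v₂) * (f₂ * e) = (f₂ * e) * (v * v₂) := b₂ _ (mul_mem hf₂ he) _ (mul_mem hv hv₂)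
    rw [h8]
    calc f₁ * v * (v₂ * f₂ * w') * e * w'⁻¹ = f₁ * v * v₂ * f₂ * (w' * e) * w'⁻¹ := by group
      _ = f₁ * ((v * v₂) * (f₂ * e)) := by rw [k2]; group
      _ = _ := by rw [k3]; group
  have hF : f₁ * f₂ * e ∈ X b := mul_mem (mul_mem hf₁ hf₂) he
  have hV : v * v₂ ∈ X y₂ := mul_mem hv hv₂
  have hC : c * w'⁻¹ ∈ X x := mul_mem hc (inv_mem hw')
  have h10 : v * v₂ = 1 := by
    apply eq_one_of_inv C hp hodd S.root₂ hV
    have k1 := zx _ hC
    rw [h9] at k1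
    have k2 : z b * (f₁ * f₂ * e * (v * v₂)) * z b = (z b * (f₁ * f₂ * e) * z b) * (z b * (v * v₂) * z b) := by
      calc z b * (f₁ * f₂ * e * (v * v₂)) * z b = z b * (f₁ * f₂ * e) * 1 * (v * v₂) * z b := by group
        _ = z b * (f₁ * f₂ * e) * (z b * z b) * (v * v₂) * z b := by rw [zz]
        _ = _ := by group
    rw [k2, zb _ hF, z₂ _ hV] at k1
    exact (mul_left_cancel k1).symm
  have h11 : c = w' := by
    rw [h10, mul_one] at h9
    rw [← mul_inv_eq_one]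
    have k1 : X x ≤ RGD.Sup X {x | IsRoot cs h x ∧ 0 < ell cs h S.root₁ x} := by
      refine RGD.le_Sup ⟨S.root, ?_⟩
      rw [ell_apply, cpr_pos_iff cs h x S.root₁]
      exact S.x₁_pos
    have k2 : X b ≤ RGD.Sup X {x | IsRoot cs h x ∧ ell cs h S.root₁ x < 0} := by
      refine RGD.le_Sup ⟨S.rootb, ?_⟩
      rw [ell_apply, ← neg_pos, ← cpr_neg cs h b S.root₁, cpr_pos_iff cs h _ S.root₁, form_neg_left]
      have := S.b₁_neg
      omega
    exact Slope.sup_inf_sup C.rgd (ell cs h S.root₁) (k1 hC) (k2 (h9 ▸ hF))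
  rw [← h11] at h3
  -- conjugate by `z b`
  have h12 : u⁻¹ * e * u = v⁻¹ * c * e := by
    have k1 : z b * (u * e * u⁻¹) * z b = (z b * u * z b) * (z b * e * z b) * (z b * u⁻¹ * z b) := by
      calc z b * (u * e * u⁻¹) * z b = z b * u * 1 * e * 1 * u⁻¹ * z b := by group
        _ = z b * u * (z b * z b) * e * (z b * z b) * u⁻¹ * z b := by rw [zz]
        _ = _ := by group
    have k2 : z b * (v * c * e) * z b = (z b * v * z b) * (z b * c * z b) * (z b * e * z b) := by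
      calc z b * (v * c * e) * z b = z b * v * 1 * c * 1 * e * z b := by group
        _ = z b * v * (z b * z b) * c * (z b * z b) * e * z b := by rw [zz]
        _ = _ := by group
    have k3 := congrArg (fun t => z b * t * z b) h3
    beta_reduce at k3
    rw [k1, k2, z₁ u hu, zb e he, z₁ u⁻¹ (inv_mem hu), inv_inv, z₂ v hv, zx c hc] at k3
    exact k3
  have h13 : c * c = ⁅u, v⁻¹⁆⁻¹ := by
    have k1 : u * c = c * u := x₁ c hc u hu
    have k2 : v * c = c * v := x₂ c hc v hv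
    have k3 : e = (u * v⁻¹ * u⁻¹) * c * (u * e * u⁻¹) := by
      calc e = u * (u⁻¹ * e * u) * u⁻¹ := by group
        _ = u * v⁻¹ * (c * u⁻¹) * (u * e * u⁻¹) := by rw [h12]; group
        _ = u * v⁻¹ * (u⁻¹ * c) * (u * e * u⁻¹) := by
            have : c * u⁻¹ = u⁻¹ * c := by
              rw [eq_inv_mul_iff_mul_eq, ← mul_assoc, k1, mul_inv_cancel_right]
            rw [this]
        _ = _ := by group
    rw [h3] at k3
    have k4 : (u * v⁻¹ * u⁻¹) * c * (v * c) = 1 := by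
      have : e = ((u * v⁻¹ * u⁻¹) * c * (v * c)) * e := by
        calc e = u * v⁻¹ * u⁻¹ * c * (v * c * e) := k3
          _ = _ := by group
      exact mul_eq_right.1 this.symm
    have k5 : (u * v⁻¹ * u⁻¹ * v) * (c * c) = 1 := by
      calc (u * v⁻¹ * u⁻¹ * v) * (c * c) = u * v⁻¹ * u⁻¹ * (v * c) * c := by group
        _ = u * v⁻¹ * u⁻¹ * (c * v) * c := by rw [k2]
        _ = u * v⁻¹ * u⁻¹ * c * (v * c) := by group
        _ = 1 := k4
    rw [commutatorElement_def, inv_inv]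
    exact (inv_eq_of_mul_eq_one_right k5).symm
  refine mem_of_sq_mem C hp hodd S.root hc ?_
  rw [h13]
  exact inv_mem (Subgroup.commutator_mem_commutator hu (inv_mem hv))

end Cfsg.Agent.Nodes.ShortSum
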