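import Mathlib
import Cfsg.Agent.Nodes.Coroot

/-!
helper998: maximal frames of orthogonal roots (project CIT, ruling 5 (B3), (R1)), uniform part.

`FrameSys cs h R g` : `R` is a `W`-stable set of roots, `|⟨x, y^∨⟩| ≤ 1` for `x ≠ ± y` in `R`, and
`g : ι → R` is a family of pairwise orthogonal roots such that no root of `R` is orthogonal to all of them.

* `exists_swap` : two roots with `⟨a, b^∨⟩ = ⟨b, a^∨⟩ = 1` are interchanged by a reflection fixing all vectors
  orthogonal to both;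
* `FrameSys.exists_move` : a finite orthogonal family in `R`, orthogonal to the `g k` (`k ∈ P`), can be moved
  into the frame by an element of `W` fixing `g k` (`k ∈ P`);
* `FrameSys.exists_perm` : the stabiliser of the frame is transitive on it if `W` is transitive on `R`.
-/

set_option autoImplicit false
set_option linter.unusedSectionVars false

namespace Cfsg.Agent.Nodes.KindBase

open CoxeterSystem Cfsg.Agent.ChevalleyStructure.CoxeterGeom Cfsg.Agent.Tits.Roots Cfsg.Agent.Tits.Core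
  Cfsg.Agent.Tits.RootComb Cfsg.Agent.Nodes.Comb Cfsg.Agent.Nodes.SubComb Cfsg.Agent.Nodes.PosPair
  Cfsg.Agent.Nodes.Coroot

variable {I W : Type*} [Fintype I] [DecidableEq I] [Group W] {M : CoxeterMatrix I}
  (cs : CoxeterSystem M W) {A : I → I → ℤ} (h : IsCartan M A)

/-- Every root has a reflection. -/
theorem exists_refl [Finite W] {y : I → ℤ} (hy : IsRoot cs h y) :
    ∃ s : W, ∀ x, rep cs h s x = x - cpr cs h x y • y := by
  obtain ⟨w, i, rfl⟩ := hy
  exact ⟨rfl' cs w i, rep_rfl'_eq cs h w i⟩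

theorem cpr_sub [Finite W] (x x' : I → ℤ) {y : I → ℤ} (hy : IsRoot cs h y) :
    cpr cs h (x - x') y = cpr cs h x y - cpr cs h x' y := by
  rw [sub_eq_add_neg, cpr_add cs h _ _ hy, cpr_neg cs h _ hy, ← sub_eq_add_neg]

/-- `⟨-, (a - b)^∨⟩` when `⟨a, b^∨⟩ = ⟨b, a^∨⟩ = 1`. -/
theorem cpr_diff [Finite W] {a b : I → ℤ} (ha : IsRoot cs h a) (hb : IsRoot cs h b) (h1 : cpr cs h a b = 1)
    (h2 : cpr cs h b a = 1) (x : I → ℤ) :
    IsRoot cs h (a - b) ∧ cpr cs h x (a - b) = cpr cs h x a - cpr cs h x b := by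
  have := Fintype.ofFinite W
  have hr : IsRoot cs h (a - b) := by
    have := isRoot_refl cs h ha hb
    rwa [h1, one_smul] at this
  refine ⟨hr, ?_⟩
  have e1 := two_form_cpr cs h a hb
  have e2 := two_form_cpr cs h b ha
  have e3 := two_form_cpr cs h x ha
  have e4 := two_form_cpr cs h x hb
  have e5 : form cs h a b = form cs h b a := form_comm cs h a b
  rw [h1, one_mul] at e1
  rw [h2, one_mul] at e2
  apply cpr_eq_of_form cs h hr
  have e6 : form cs h (a - b) (a - b) = form cs h a a := by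
    have : form cs h (a - b) (a - b) = form cs h a a - form cs h a b - form cs h b a + form cs h b b := by
      rw [sub_eq_add_neg, form_add_left, form_add_right, form_add_right, form_neg_left, form_neg_right,
        form_neg_left, form_neg_right]
      ring
    rw [this]
    linarith
  have e7 : form cs h x (a - b) = form cs h x a - form cs h x b := by
    rw [sub_eq_add_neg, form_add_right, form_neg_right]; ring
  have e8 : form cs h b b = form cs h a a := by linarith
  rw [e6, e7]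
  rw [e8] at e4
  linarith

/-- Two roots `a`, `b` with `⟨a, b^∨⟩ = ⟨b, a^∨⟩ = 1` are interchanged by the reflection in `a - b`. -/
theorem exists_swap [Finite W] {a b : I → ℤ} (ha : IsRoot cs h a) (hb : IsRoot cs h b) (h1 : cpr cs h a b = 1)
    (h2 : cpr cs h b a = 1) : ∃ s : W, rep cs h s a = b ∧
      ∀ x, cpr cs h x a = 0 → cpr cs h x b = 0 → rep cs h s x = x := by
  obtain ⟨s, hs⟩ := exists_refl cs h (cpr_diff cs h ha hb h1 h2 0).1
  refine ⟨s, ?_, fun x hx hx' => ?_⟩
  · rw [hs, (cpr_diff cs h ha hb h1 h2 a).2, cpr_self cs h ha, h1]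
    norm_num
  · rw [hs, (cpr_diff cs h ha hb h1 h2 x).2, hx, hx', sub_zero, zero_smul, sub_zero]

/-- `R` is a `W`-stable set of roots, `|⟨x, y^∨⟩| ≤ 1` for `x ≠ ± y` in `R`, and `g` is a maximal family of
pairwise orthogonal elements of `R`. -/
structure FrameSys (R : Set (I → ℤ)) {ι : Type*} (g : ι → I → ℤ) : Prop where
  root : ∀ r ∈ R, IsRoot cs h r
  act : ∀ r ∈ R, ∀ w, rep cs h w r ∈ R
  le_one : ∀ x ∈ R, ∀ y ∈ R, x ≠ y → x ≠ -y → |cpr cs h x y| ≤ 1
  mem : ∀ k, g k ∈ R
  orth : ∀ k l, k ≠ l → cpr cs h (g k) (g l) = 0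
  max : ∀ x ∈ R, (∀ k, cpr cs h x (g k) = 0) → False

namespace FrameSys

variable {cs h} {R : Set (I → ℤ)} {ι : Type*} {g : ι → I → ℤ}

theorem neg_mem [Finite W] (F : FrameSys cs h R g) {x : I → ℤ} (hx : x ∈ R) : -x ∈ R := by
  obtain ⟨s, hs⟩ := exists_refl cs h (F.root x hx)
  have h1 := F.act x hx s
  rw [hs, cpr_self cs h (F.root x hx)] at h1
  have e : x - (2 : ℤ) • x = -x := by rw [two_smul]; abel
  rwa [e] at h1

theorem injective [Finite W] (F : FrameSys cs h R g) : Function.Injective g := by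
  intro k l hkl
  by_contra hne
  have h1 := F.orth k l hne
  rw [hkl, cpr_self cs h (F.root _ (F.mem l))] at h1
  norm_num at h1

theorem ne_neg [Finite W] (F : FrameSys cs h R g) (k l : ι) : g k ≠ -g l := by
  intro hkl
  by_cases hne : k = l
  · subst hne
    apply (F.root _ (F.mem k)).ne_zero
    funext i
    have := congrFun hkl i
    rw [Pi.neg_apply] at this
    rw [Pi.zero_apply]
    omega
  · have h1 := F.orth k l hne
    rw [hkl, cpr_neg cs h _ (F.root _ (F.mem l)), cpr_self cs h (F.root _ (F.mem l))] at h1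
    norm_num at h1

/-- For `x ≠ ± y` in `R`, not orthogonal: `⟨x, y^∨⟩ = ⟨y, x^∨⟩ = ± 1`. -/
theorem eq_one_or [Finite W] (F : FrameSys cs h R g) {x y : I → ℤ} (hx : x ∈ R) (hy : y ∈ R) (h1 : x ≠ y)
    (h2 : x ≠ -y) (h0 : cpr cs h x y ≠ 0) :
    (cpr cs h x y = 1 ∧ cpr cs h y x = 1) ∨ (cpr cs h x y = -1 ∧ cpr cs h y x = -1) := by
  have := Fintype.ofFinite W
  have e1 := F.le_one x hx y hy h1 h2
  have e2 := F.le_one y hy x hx h1.symm (fun e => h2 (by rw [e, neg_neg]))
  have h0' : cpr cs h y x ≠ 0 := fun e => h0 ((cpr_zero_comm cs h (F.root x hx) (F.root y hy)).2 e)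
  rw [abs_le] at e1 e2
  have p1 := cpr_pos_iff cs h x (F.root y hy)
  have p2 := cpr_pos_iff cs h y (F.root x hx)
  rw [form_comm, ← p1] at p2
  omega

/-- One step: `a ∈ R` orthogonal to the `g k`, `k ∈ P`, can be moved to some `g k`, `k ∉ P`. -/
theorem exists_move_one [Finite W] (F : FrameSys cs h R g) (P : Set ι) {a : I → ℤ} (ha : a ∈ R)
    (haP : ∀ k ∈ P, cpr cs h a (g k) = 0) :
    ∃ w : W, (∀ k ∈ P, rep cs h w (g k) = g k) ∧ ∃ k, k ∉ P ∧ rep cs h w a = g k := by
  obtain ⟨k, hk⟩ : ∃ k, cpr cs h a (g k) ≠ 0 := by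
    by_contra hcon
    push Not at hcon
    exact F.max a ha hcon
  have hkP : k ∉ P := fun hkP => hk (haP k hkP)
  have hak := F.root a ha
  have hgk := F.root _ (F.mem k)
  -- it is enough to reach `± g k`
  have key : (∃ w : W, (∀ l ∈ P, rep cs h w (g l) = g l) ∧ (rep cs h w a = g k ∨ rep cs h w a = -g k)) →
      ∃ w : W, (∀ l ∈ P, rep cs h w (g l) = g l) ∧ ∃ k, k ∉ P ∧ rep cs h w a = g k := by
    rintro ⟨w, hw, h1 | h1⟩
    · exact ⟨w, hw, k, hkP, h1⟩
    · obtain ⟨s, hs⟩ := exists_refl cs h hgk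
      refine ⟨s * w, fun l hl => ?_, k, hkP, ?_⟩
      · rw [rep_mul_apply, hw l hl, hs, F.orth l k (fun e => hkP (e ▸ hl)), zero_smul, sub_zero]
      · rw [rep_mul_apply, h1, hs, cpr_neg cs h _ hgk, cpr_self cs h hgk, neg_smul, two_smul]
        abel
  apply key
  by_cases h1 : a = g k
  · exact ⟨1, fun l _ => by rw [map_one, Module.End.one_apply], Or.inl (by rw [map_one, Module.End.one_apply, h1])⟩
  by_cases h2 : a = -g k
  · exact ⟨1, fun l _ => by rw [map_one, Module.End.one_apply], Or.inr (by rw [map_one, Module.End.one_apply, h2])⟩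
  rcases F.eq_one_or ha (F.mem k) h1 h2 hk with ⟨e1, e2⟩ | ⟨e1, e2⟩
  · obtain ⟨s, hs1, hs2⟩ := exists_swap cs h hak hgk e1 e2
    refine ⟨s, fun l hl => hs2 _ ?_ ?_, Or.inl hs1⟩
    · exact (cpr_zero_comm cs h (F.root _ (F.mem l)) hak).2 (haP l hl)
    · exact F.orth l k fun e => hkP (e ▸ hl)
  · obtain ⟨s, hs1, hs2⟩ := exists_swap cs h hak hgk.neg (by rw [cpr_neg_right cs h _ hgk, e1]; norm_num)
      (by rw [cpr_neg cs h _ hak, e2]; norm_num)
    refine ⟨s, fun l hl => hs2 _ ?_ ?_, Or.inr hs1⟩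
    · exact (cpr_zero_comm cs h (F.root _ (F.mem l)) hak).2 (haP l hl)
    · rw [cpr_neg_right cs h _ hgk, F.orth l k fun e => hkP (e ▸ hl), neg_zero]

/-- **(R1)**, relative form. -/
theorem exists_move_finset [Finite W] (F : FrameSys cs h R g) {κ : Type*} (s : Finset κ) :
    ∀ (P : Set ι) (x : κ → I → ℤ), (∀ i ∈ s, x i ∈ R) →
      (∀ i ∈ s, ∀ j ∈ s, i ≠ j → cpr cs h (x i) (x j) = 0) →
      (∀ i ∈ s, ∀ k ∈ P, cpr cs h (x i) (g k) = 0) →
      ∃ w : W, (∀ k ∈ P, rep cs h w (g k) = g k) ∧ ∀ i ∈ s, ∃ k, k ∉ P ∧ rep cs h w (x i) = g k := by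
  classical
  induction s using Finset.induction_on with
  | empty =>
    intro P x _ _ _
    exact ⟨1, fun k _ => by rw [map_one, Module.End.one_apply], fun i hi => absurd hi (Finset.notMem_empty i)⟩
  | insert a s ha ih =>
    intro P x hx hxo hxP
    obtain ⟨w, hw, k, hkP, hk⟩ := F.exists_move_one P (hx a (Finset.mem_insert_self a s))
      (hxP a (Finset.mem_insert_self a s))
    obtain ⟨v, hv, hv'⟩ := ih (insert k P) (fun i => rep cs h w (x i))
      (fun i hi => F.act _ (hx i (Finset.mem_insert_of_mem hi)) w)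
      (fun i hi j hj hij => by
        rw [cpr_rep cs h w _ (F.root _ (hx j (Finset.mem_insert_of_mem hj)))]
        exact hxo i (Finset.mem_insert_of_mem hi) j (Finset.mem_insert_of_mem hj) hij)
      (fun i hi l hl => by
        rcases hl with rfl | hl
        · rw [← hk, cpr_rep cs h w _ (F.root _ (hx a (Finset.mem_insert_self a s)))]
          exact hxo i (Finset.mem_insert_of_mem hi) a (Finset.mem_insert_self a s) fun e => ha (e ▸ hi)
        · rw [← hw l hl, cpr_rep cs h w _ (F.root _ (F.mem l))]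
          exact hxP i (Finset.mem_insert_of_mem hi) l hl)
    refine ⟨v * w, fun l hl => ?_, fun i hi => ?_⟩
    · rw [rep_mul_apply, hw l hl, hv l (Set.mem_insert_of_mem _ hl)]
    · rcases Finset.mem_insert.1 hi with rfl | hi
      · exact ⟨k, hkP, by rw [rep_mul_apply, hk, hv k (Set.mem_insert k P)]⟩
      · obtain ⟨l, hl, e⟩ := hv' i hi
        exact ⟨l, fun hlP => hl (Set.mem_insert_of_mem _ hlP), by rw [rep_mul_apply]; exact e⟩

/-- **(R1)**: a finite family of pairwise orthogonal roots of `R` is conjugate into the frame. -/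
theorem exists_move [Finite W] (F : FrameSys cs h R g) {κ : Type*} [Finite κ] (x : κ → I → ℤ)
    (hx : ∀ i, x i ∈ R) (hxo : ∀ i j, i ≠ j → cpr cs h (x i) (x j) = 0) :
    ∃ (w : W) (f : κ → ι), ∀ i, rep cs h w (x i) = g (f i) := by
  have := Fintype.ofFinite κ
  obtain ⟨w, -, hw⟩ := F.exists_move_finset Finset.univ ∅ x (fun i _ => hx i) (fun i _ j _ => hxo i j)
    (fun i _ k hk => absurd hk (Set.notMem_empty k))
  choose f hf using fun i => hw i (Finset.mem_univ i)
  exact ⟨w, f, fun i => (hf i).2⟩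

/-- (R1) for finite sets. -/
theorem exists_move_set [Finite W] (F : FrameSys cs h R g) (S : Finset (I → ℤ)) (hS : ∀ x ∈ S, x ∈ R)
    (hSo : ∀ x ∈ S, ∀ y ∈ S, x ≠ y → cpr cs h x y = 0) :
    ∃ w : W, ∀ x ∈ S, ∃ k, rep cs h w x = g k := by
  obtain ⟨w, -, hw⟩ := F.exists_move_finset S ∅ (fun x => x) hS hSo
    (fun i _ k hk => absurd hk (Set.notMem_empty k))
  exact ⟨w, fun x hx => by obtain ⟨k, -, e⟩ := hw x hx; exact ⟨k, e⟩⟩

/-- (R1), relative form for families. -/
theorem exists_move_rel [Finite W] (F : FrameSys cs h R g) (P : Set ι) {κ : Type*} [Finite κ] (x : κ → I → ℤ)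
    (hx : ∀ i, x i ∈ R) (hxo : ∀ i j, i ≠ j → cpr cs h (x i) (x j) = 0)
    (hxP : ∀ i, ∀ k ∈ P, cpr cs h (x i) (g k) = 0) :
    ∃ (w : W) (f : κ → ι), (∀ k ∈ P, rep cs h w (g k) = g k) ∧ ∀ i, f i ∉ P ∧ rep cs h w (x i) = g (f i) := by
  have := Fintype.ofFinite κ
  obtain ⟨w, h1, hw⟩ := F.exists_move_finset Finset.univ P x (fun i _ => hx i) (fun i _ j _ => hxo i j)
    (fun i _ k hk => hxP i k hk)
  choose f hf using fun i => hw i (Finset.mem_univ i)
  exact ⟨w, f, h1, fun i => hf i⟩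

/-- The stabiliser of the frame is transitive on it. -/
theorem exists_perm [Finite W] (F : FrameSys cs h R g) [Finite ι] {l m : ι}
    (hlm : ∃ w : W, rep cs h w (g l) = g m) :
    ∃ (w : W) (σ : Equiv.Perm ι), σ l = m ∧ ∀ k, rep cs h w (g k) = g (σ k) := by
  obtain ⟨w, hw⟩ := hlm
  obtain ⟨v, f, hv1, hv2⟩ := F.exists_move_rel {m} (fun i : {k : ι // k ≠ l} => rep cs h w (g i.1))
    (fun i => F.act _ (F.mem _) w)
    (fun i j hij => by
      rw [cpr_rep cs h w _ (F.root _ (F.mem _))]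
      exact F.orth _ _ fun e => hij (Subtype.ext e))
    (fun i k hk => by
      rw [Set.mem_singleton_iff] at hk
      rw [hk, ← hw, cpr_rep cs h w _ (F.root _ (F.mem _))]
      exact F.orth _ _ i.2)
  classical
  let τ : ι → ι := fun k => if hk : k = l then m else f ⟨k, hk⟩
  have hτ : ∀ k, rep cs h (v * w) (g k) = g (τ k) := by
    intro k
    rw [rep_mul_apply]
    by_cases hk : k = l
    · have : τ k = m := dif_pos hk
      rw [this, hk, hw, hv1 m rfl]
    · have : τ k = f ⟨k, hk⟩ := dif_neg hk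
      rw [this]
      exact (hv2 ⟨k, hk⟩).2
  have hinj : Function.Injective τ := by
    intro a b hab
    apply F.injective
    apply rep_injective_apply cs h (v * w)
    rw [hτ, hτ, hab]
  refine ⟨v * w, Equiv.ofBijective τ (Finite.injective_iff_bijective.1 hinj), ?_, hτ⟩
  exact dif_pos rfl

/-- Any two frames (with finite index sets) are conjugate. -/
theorem exists_equiv [Finite W] (F : FrameSys cs h R g) [Finite ι] {κ : Type*} [Finite κ] {g' : κ → I → ℤ}
    (F' : FrameSys cs h R g') : ∃ (w : W) (σ : κ ≃ ι), ∀ k, rep cs h w (g' k) = g (σ k) := by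
  obtain ⟨w, f, hf⟩ := F.exists_move g' F'.mem F'.orth
  have hinj : Function.Injective f := by
    intro a b hab
    apply F'.injective
    apply rep_injective_apply cs h w
    rw [hf, hf, hab]
  refine ⟨w, Equiv.ofBijective f ⟨hinj, fun k => ?_⟩, hf⟩
  by_contra hcon
  push Not at hcon
  refine F'.max (rep cs h w⁻¹ (g k)) (F.act _ (F.mem k) _) fun j => ?_
  have h1 : g' j = rep cs h w⁻¹ (g (f j)) := by rw [← hf, rep_inv_apply]
  rw [h1, cpr_rep cs h _ _ (F.root _ (F.mem _))]
  exact F.orth _ _ fun e => hcon j e.symm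

end FrameSys

end Cfsg.Agent.Nodes.KindBase
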