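import Mathlib
import Cfsg.Agent.Nodes.TypeCForm
import Cfsg.Agent.Nodes.KindBase
import Cfsg.Agent.Nodes.ClsNorm
import Cfsg.Agent.Nodes.Sub

/-!
The root system of type `C_n` in coordinates (project CIT, ruling 5 (B3)): common part of the kinds `B n` and `C n`.

* `rt a b` : the vector with `ε`-coordinates `wt a + wt b`; `ee_rt`, `isRoot_rt`, `exists_rt`;
* `cpr_mul_ip` : the Cartan numbers in coordinates; `cpr_rt`, `cpr_rt_self`;
* `RC n`, `RB n` : the long roots `± 2ε_i`, the roots `± ε_i ± ε_j`;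
* `exists_dom_RC`, `exists_dom_RB` : these are `W`-orbits;
* `up f` : the inclusion of the root system of a final segment of the nodes.
-/

set_option autoImplicit false
set_option linter.unusedSectionVars false

namespace Cfsg.Agent.Nodes.KindBC

open CoxeterSystem Cfsg.Agent.ChevalleyStructure.CoxeterGeom Cfsg.Agent.Tits.Roots Cfsg.Agent.Tits.Core
  Cfsg.Agent.Tits.RootComb Cfsg.Agent.Nodes.Comb Cfsg.Agent.Nodes.SubComb Cfsg.Agent.Nodes.PosPair
  Cfsg.Agent.Nodes.Coroot Cfsg.Agent.Nodes.TypeC Cfsg.Agent.Nodes.TypeCForm Cfsg.Agent.Nodes.Sub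
  Cfsg.Agent.Nodes.ClsNorm Cfsg.Agent.Nodes.StabComb

variable {n : ℕ}

/-! ### Coordinates -/

theorem bt_apply' (j k : Fin n) :
    bt j k = (if k = j then cc j else 0) - (if (k : ℕ) = j + 1 then 1 else 0) := by
  rw [bt_apply]
  unfold cc
  have := k.2
  simp only [Fin.ext_iff]
  split_ifs <;> omega

theorem ee_apply (x : Fin n → ℤ) (k : Fin n) :
    ee x k = cc k * x k - ∑ j : Fin n, (if (k : ℕ) = (j : ℕ) + 1 then x j else 0) := by
  have h1 : ee x k = ∑ j, x j * bt j k := by simp [ee, Finset.sum_apply]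
  rw [h1]
  simp only [bt_apply', mul_sub, Finset.sum_sub_distrib]
  congr 1
  · rw [Finset.sum_eq_single k]
    · rw [if_pos rfl, mul_comm]
    · intro j _ hj
      rw [if_neg (Ne.symm hj), mul_zero]
    · intro h; exact absurd (Finset.mem_univ _) h
  · refine Finset.sum_congr rfl fun j _ => ?_
    split_ifs <;> simp

theorem ee_apply_zero (x : Fin n → ℤ) {k : Fin n} (hk : (k : ℕ) = 0) : ee x k = cc k * x k := by
  rw [ee_apply, Finset.sum_eq_zero, sub_zero]
  intro j _
  rw [if_neg (by omega)]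

theorem ee_apply_succ (x : Fin n → ℤ) {k j : Fin n} (hk : (k : ℕ) = j + 1) : ee x k = cc k * x k - x j := by
  rw [ee_apply, Finset.sum_eq_single j]
  · rw [if_pos hk]
  · intro i _ hi
    rw [if_neg]
    intro h
    exact hi (Fin.ext (by omega))
  · intro h; exact absurd (Finset.mem_univ _) h

/-- The vector with given `ε`-coordinates (even total). -/
def co (u : Fin n → ℤ) (m : Fin n) : ℤ := (∑ k ∈ Finset.Iic m, u k) / cc m

theorem ee_co {u : Fin n → ℤ} (hu : Even (∑ k, u k)) : ee (co u) = u := by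
  have hd : ∀ m : Fin n, cc m * co u m = ∑ k ∈ Finset.Iic m, u k := by
    intro m
    unfold co cc
    split_ifs with h
    · simp
    · have h1 : Finset.Iic m = Finset.univ := by
        ext k
        simp only [Finset.mem_Iic, Finset.mem_univ, iff_true, Fin.le_def]
        have := k.2
        omega
      rw [h1]
      obtain ⟨c, hc⟩ := hu
      rw [hc]
      omega
  have hc : ∀ m : Fin n, (m : ℕ) + 1 < n → co u m = ∑ k ∈ Finset.Iic m, u k := by
    intro m hm
    have h1 := hd m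
    rwa [cc, if_pos hm, one_mul] at h1
  funext k
  rcases Nat.eq_zero_or_pos (k : ℕ) with hk | hk
  · rw [ee_apply_zero _ hk, hd]
    have h1 : Finset.Iic k = {k} := by
      ext i
      simp only [Finset.mem_Iic, Finset.mem_singleton, Fin.le_def, Fin.ext_iff]
      omega
    rw [h1, Finset.sum_singleton]
  · have hk' : (k : ℕ) - 1 < n := by have := k.2; omega
    have hkj : (k : ℕ) = (⟨(k : ℕ) - 1, hk'⟩ : Fin n) + 1 := by simp only; omega
    rw [ee_apply_succ _ hkj, hd, hc _ (by simp only; omega)]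
    have h1 : Finset.Iic k = insert k (Finset.Iic (⟨(k : ℕ) - 1, hk'⟩ : Fin n)) := by
      ext i
      simp only [Finset.mem_Iic, Finset.mem_insert, Fin.le_def, Fin.ext_iff]
      omega
    rw [h1, Finset.sum_insert]
    · ring
    · simp only [Finset.mem_Iic, Fin.le_def]
      omega

theorem sum_wt (a : Fin n × Bool) : ∑ k, wt a k = sn a := by
  rw [Finset.sum_eq_single a.1]
  · rw [wt_apply, if_pos rfl, sn]
  · intro k _ hk
    rw [wt_apply, if_neg hk]
  · intro h; exact absurd (Finset.mem_univ _) h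

/-- The vector with `ε`-coordinates `wt a + wt b`. -/
def rt (a b : Fin n × Bool) : Fin n → ℤ := co (wt a + wt b)

theorem ee_rt (a b : Fin n × Bool) : ee (rt a b) = wt a + wt b := by
  apply ee_co
  simp only [Pi.add_apply, Finset.sum_add_distrib, sum_wt]
  unfold sn
  split_ifs <;> decide

theorem rt_comm (a b : Fin n × Bool) : rt a b = rt b a := by unfold rt; rw [add_comm]

theorem rt_ng (a b : Fin n × Bool) : rt (ng a) (ng b) = -rt a b := by
  apply ee_injective
  rw [ee_neg, ee_rt, ee_rt, wt_ng, wt_ng]; abel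

theorem sr_eq_rt (i : Fin n) : sr i = rt (i, true) (nx i) := by
  apply ee_injective
  rw [ee_sr, ee_rt, bt]

theorem eq_rt {x : Fin n → ℤ} {a b : Fin n × Bool} (h : ee x = wt a + wt b) : x = rt a b :=
  ee_injective (by rw [h, ee_rt])

section

variable {W : Type*} [Group W] (cs : CoxeterSystem (CoxeterMatrix.B n) W)

theorem isRoot_rt {a b : Fin n × Bool} (h : Ok a b) : IsRoot cs (isCartan n) (rt a b) :=
  isRoot_iff.2 ⟨a, b, h, ee_rt a b⟩

variable {cs} in
theorem exists_rt {x : Fin n → ℤ} (hx : IsRoot cs (isCartan n) x) : ∃ a b, Ok a b ∧ x = rt a b := by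
  obtain ⟨a, b, h, e⟩ := isRoot_iff.1 hx
  exact ⟨a, b, h, eq_rt e⟩

/-- The Cartan numbers in coordinates. -/
theorem cpr_mul_ip [Finite W] (x : Fin n → ℤ) {y : Fin n → ℤ} (hy : IsRoot cs (isCartan n) y) :
    cpr cs (isCartan n) x y * ip (ee y) (ee y) = 2 * ip (ee x) (ee y) := by
  obtain ⟨w, i, rfl⟩ := hy
  have h3 := ip_rep cs w⁻¹ x (rep cs (isCartan n) w (sr i))
  rw [rep_inv_apply, ee_sr, ip_bt, Cf_ee] at h3
  rw [cpr_rep_sr, ip_rep, ee_sr, ip_bt, Cf_bt_self, ← h3]
  ring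

theorem ip_add_wt (u : Fin n → ℤ) (a b : Fin n × Bool) : ip u (wt a + wt b) = u a.1 * sn a + u b.1 * sn b := by
  rw [ip_add_right, ip_wt_right, ip_wt_right]

theorem ip_rt_ne {a b : Fin n × Bool} (h : a.1 ≠ b.1) : ip (wt a + wt b) (wt a + wt b) = 2 := by
  rw [ip_add_left, ip_add_right, ip_add_right, ip_wt_self, ip_wt_self, ip_wt_ne h, ip_wt_ne h.symm]; norm_num

theorem ip_rt_self (a : Fin n × Bool) : ip (wt a + wt a) (wt a + wt a) = 4 := by
  rw [ip_add_left, ip_add_right, ip_wt_self]; norm_num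

theorem cpr_rt [Finite W] (x : Fin n → ℤ) {a b : Fin n × Bool} (h : a.1 ≠ b.1) :
    cpr cs (isCartan n) x (rt a b) = ee x a.1 * sn a + ee x b.1 * sn b := by
  have h1 := cpr_mul_ip cs x (isRoot_rt cs (Or.inl h : Ok a b))
  rw [ee_rt, ip_rt_ne h, ip_add_wt] at h1
  linarith

theorem cpr_rt_self [Finite W] (x : Fin n → ℤ) (a : Fin n × Bool) :
    cpr cs (isCartan n) x (rt a a) = ee x a.1 * sn a := by
  have h1 := cpr_mul_ip cs x (isRoot_rt cs (Or.inr rfl : Ok a a))
  rw [ee_rt, ip_rt_self, ip_add_wt] at h1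
  linarith

theorem cpr_eq_zero_iff [Finite W] (x : Fin n → ℤ) {y : Fin n → ℤ} (hy : IsRoot cs (isCartan n) y) :
    cpr cs (isCartan n) x y = 0 ↔ ip (ee x) (ee y) = 0 := by
  have h1 := cpr_mul_ip cs x hy
  have h2 : ip (ee y) (ee y) ≠ 0 := by
    obtain ⟨a, b, hab, rfl⟩ := exists_rt hy
    rw [ee_rt]
    rcases hab with hab | rfl
    · rw [ip_rt_ne hab]; norm_num
    · rw [ip_rt_self]; norm_num
  constructor
  · intro h
    rw [h, zero_mul] at h1
    omega
  · intro h
    rw [h, mul_zero] at h1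
    exact (mul_eq_zero.1 h1).resolve_right h2

/-! ### The two orbits -/

/-- The long roots `± 2ε_i`. -/
def RC (n : ℕ) : Set (Fin n → ℤ) := {x | ∃ a, ee x = wt a + wt a}

/-- The roots `± ε_i ± ε_j`, `i ≠ j`. -/
def RB (n : ℕ) : Set (Fin n → ℤ) := {x | ∃ a b, a.1 ≠ b.1 ∧ ee x = wt a + wt b}

theorem rt_mem_RC (a : Fin n × Bool) : rt a a ∈ RC n := ⟨a, ee_rt a a⟩

theorem rt_mem_RB {a b : Fin n × Bool} (h : a.1 ≠ b.1) : rt a b ∈ RB n := ⟨a, b, h, ee_rt a b⟩

theorem mem_RC {x : Fin n → ℤ} : x ∈ RC n ↔ ∃ a, x = rt a a :=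
  ⟨fun ⟨a, h⟩ => ⟨a, eq_rt h⟩, fun ⟨a, h⟩ => h ▸ rt_mem_RC a⟩

theorem mem_RB {x : Fin n → ℤ} : x ∈ RB n ↔ ∃ a b, a.1 ≠ b.1 ∧ x = rt a b :=
  ⟨fun ⟨a, b, h, e⟩ => ⟨a, b, h, eq_rt e⟩, fun ⟨_, _, h, e⟩ => e ▸ rt_mem_RB h⟩

theorem root_RC {x : Fin n → ℤ} (hx : x ∈ RC n) : IsRoot cs (isCartan n) x := by
  obtain ⟨a, rfl⟩ := mem_RC.1 hx
  exact isRoot_rt cs (Or.inr rfl)

theorem root_RB {x : Fin n → ℤ} (hx : x ∈ RB n) : IsRoot cs (isCartan n) x := by
  obtain ⟨a, b, h, rfl⟩ := mem_RB.1 hx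
  exact isRoot_rt cs (Or.inl h)

theorem isRoot_iff_mem {x : Fin n → ℤ} : IsRoot cs (isCartan n) x ↔ x ∈ RB n ∨ x ∈ RC n := by
  constructor
  · intro hx
    obtain ⟨a, b, hab | rfl, rfl⟩ := exists_rt hx
    · exact Or.inl (rt_mem_RB hab)
    · exact Or.inr (rt_mem_RC a)
  · rintro (hx | hx)
    · exact root_RB cs hx
    · exact root_RC cs hx

theorem mem_RC_iff_ip {x : Fin n → ℤ} (hx : IsRoot cs (isCartan n) x) : x ∈ RC n ↔ ip (ee x) (ee x) = 4 := by
  constructor
  · intro h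
    obtain ⟨a, rfl⟩ := mem_RC.1 h
    rw [ee_rt, ip_rt_self]
  · intro h
    rcases (isRoot_iff_mem cs).1 hx with h1 | h1
    · obtain ⟨a, b, hab, rfl⟩ := mem_RB.1 h1
      rw [ee_rt, ip_rt_ne hab] at h
      omega
    · exact h1

theorem mem_RB_iff_ip {x : Fin n → ℤ} (hx : IsRoot cs (isCartan n) x) : x ∈ RB n ↔ ip (ee x) (ee x) = 2 := by
  constructor
  · intro h
    obtain ⟨a, b, hab, rfl⟩ := mem_RB.1 h
    rw [ee_rt, ip_rt_ne hab]
  · intro h
    rcases (isRoot_iff_mem cs).1 hx with h1 | h1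
    · exact h1
    · obtain ⟨a, rfl⟩ := mem_RC.1 h1
      rw [ee_rt, ip_rt_self] at h
      omega

theorem act_RC {x : Fin n → ℤ} (hx : x ∈ RC n) (w : W) : rep cs (isCartan n) w x ∈ RC n := by
  have hr := root_RC cs hx
  rw [mem_RC_iff_ip cs (hr.act w), ip_rep]
  exact (mem_RC_iff_ip cs hr).1 hx

theorem act_RB {x : Fin n → ℤ} (hx : x ∈ RB n) (w : W) : rep cs (isCartan n) w x ∈ RB n := by
  have hr := root_RB cs hx
  rw [mem_RB_iff_ip cs (hr.act w), ip_rep]
  exact (mem_RB_iff_ip cs hr).1 hx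

/-! ### Dominant roots -/

theorem dom_iff {x : Fin n → ℤ} : Dom (TypeC.A n) x ↔
    (∀ i j : Fin n, i ≤ j → ee x j ≤ ee x i) ∧ ∀ i, 0 ≤ ee x i := by
  have hC : ∀ i, Cf i (ee x) = pairing (TypeC.A n) i x := fun i => Cf_ee i x
  constructor
  · intro h
    have h1 : ∀ i j : Fin n, (j : ℕ) = i + 1 → ee x j ≤ ee x i := by
      intro i j hij
      have h2 := h i
      rw [← hC, Cf, dif_pos (by have := j.2; omega)] at h2
      have : (⟨(i : ℕ) + 1, by have := j.2; omega⟩ : Fin n) = j := Fin.ext hij.symm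
      rw [this] at h2
      omega
    have h2 : ∀ (d : ℕ) (i j : Fin n), (j : ℕ) = i + d → ee x j ≤ ee x i := by
      intro d
      induction d with
      | zero => intro i j hij; rw [Fin.ext (by omega : (j : ℕ) = i)]
      | succ d ih =>
        intro i j hij
        have h3 : (i : ℕ) + d < n := by have := j.2; omega
        exact le_trans (h1 ⟨i + d, h3⟩ j (by simp only; omega)) (ih i ⟨i + d, h3⟩ rfl)
    have h3 : ∀ i j : Fin n, i ≤ j → ee x j ≤ ee x i := fun i j hij =>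
      h2 (j - i) i j (by have := Fin.le_def.1 hij; omega)
    refine ⟨h3, fun i => ?_⟩
    have hn : n - 1 < n := by have := i.2; omega
    have h4 := h ⟨n - 1, hn⟩
    rw [← hC, Cf, dif_neg (by simp only; omega)] at h4
    exact le_trans h4 (h3 i ⟨n - 1, hn⟩ (Fin.le_def.2 (by have := i.2; simp only; omega)))
  · rintro ⟨h1, h2⟩ i
    rw [← hC, Cf]
    split_ifs with h
    · have := h1 i ⟨(i : ℕ) + 1, h⟩ (Fin.le_def.2 (by simp))
      omega
    · exact h2 i

theorem sn_eq_one_or (a : Fin n × Bool) : sn a = 1 ∨ sn a = -1 := by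
  unfold sn; split_ifs <;> simp

theorem sn_eq_one_iff {a : Fin n × Bool} : sn a = 1 ↔ a.2 = true := by
  unfold sn; split_ifs with h <;> simp [h]

theorem wt_apply_self (a : Fin n × Bool) : wt a a.1 = sn a := by rw [wt_apply, if_pos rfl, sn]

theorem wt_apply_ne {a : Fin n × Bool} {k : Fin n} (h : k ≠ a.1) : wt a k = 0 := by rw [wt_apply, if_neg h]

/-- The dominant root of `RC`. -/
theorem dom_RC {x : Fin n → ℤ} (hx : x ∈ RC n) : Dom (TypeC.A n) x ↔ ∃ hn : 0 < n, x = rt (⟨0, hn⟩, true) (⟨0, hn⟩, true) := by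
  rw [dom_iff]
  constructor
  · rintro ⟨h1, h2⟩
    obtain ⟨a, rfl⟩ := mem_RC.1 hx
    rw [ee_rt] at h1 h2
    have hn : 0 < n := lt_of_le_of_lt (Nat.zero_le _) a.1.2
    refine ⟨hn, ?_⟩
    have h3 := h2 a.1
    rw [Pi.add_apply, wt_apply_self] at h3
    have h4 : sn a = 1 := by rcases sn_eq_one_or a with h | h <;> omega
    have h5 : a.1 = ⟨0, hn⟩ := by
      by_contra hne
      have h6 := h1 ⟨0, hn⟩ a.1 (Fin.le_def.2 (Nat.zero_le _))
      rw [Pi.add_apply, Pi.add_apply, wt_apply_self, wt_apply_ne (Ne.symm hne)] at h6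
      omega
    have h6 : a = (⟨0, hn⟩, true) := Prod.ext h5 (sn_eq_one_iff.1 h4)
    rw [h6]
  · rintro ⟨hn, rfl⟩
    rw [ee_rt]
    have h3 : ∀ k : Fin n, (wt ((⟨0, hn⟩ : Fin n), true) + wt ((⟨0, hn⟩ : Fin n), true)) k =
        if (k : ℕ) = 0 then 2 else 0 := by
      intro k
      rw [Pi.add_apply, wt_apply]
      simp only [Fin.ext_iff, if_true]
      split_ifs <;> norm_num
    constructor
    · intro i j hij
      rw [h3, h3]
      have := Fin.le_def.1 hij
      split_ifs <;> omega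
    · intro i
      rw [h3]
      split_ifs <;> norm_num

/-- The dominant root of `RB`. -/
theorem dom_RB {x : Fin n → ℤ} (hx : x ∈ RB n) :
    Dom (TypeC.A n) x ↔ ∃ hn : 1 < n, x = rt (⟨0, by omega⟩, true) (⟨1, hn⟩, true) := by
  rw [dom_iff]
  constructor
  · rintro ⟨h1, h2⟩
    have key : ∀ a b : Fin n × Bool, a.1 < b.1 → x = rt a b →
        ∃ hn : 1 < n, x = rt (⟨0, by omega⟩, true) (⟨1, hn⟩, true) := by
      intro a b hab hx
      subst hx
      rw [ee_rt] at h1 h2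
      have hne : a.1 ≠ b.1 := ne_of_lt hab
      have hlt := Fin.lt_def.1 hab
      have hn : 1 < n := by have := b.1.2; omega
      refine ⟨hn, ?_⟩
      have h3 := h2 a.1
      rw [Pi.add_apply, wt_apply_self, wt_apply_ne hne] at h3
      have h4 := h2 b.1
      rw [Pi.add_apply, wt_apply_self, wt_apply_ne hne.symm] at h4
      have h5 : sn a = 1 := by rcases sn_eq_one_or a with h | h <;> omega
      have h6 : sn b = 1 := by rcases sn_eq_one_or b with h | h <;> omega
      have h7 : a.1 = ⟨0, by omega⟩ := by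
        by_contra hne'
        have h8 := h1 ⟨0, by omega⟩ b.1 (Fin.le_def.2 (Nat.zero_le _))
        rw [Pi.add_apply, Pi.add_apply, wt_apply_self, wt_apply_ne hne.symm, wt_apply_ne (Ne.symm hne'),
          wt_apply_ne (fun e => by have := congrArg Fin.val e; simp only at this; omega)] at h8
        omega
      have h8 : b.1 = ⟨1, hn⟩ := by
        by_contra hne'
        have h9 := h1 ⟨1, hn⟩ b.1 (Fin.le_def.2 (by simp only; omega))
        rw [Pi.add_apply, Pi.add_apply, wt_apply_self, wt_apply_ne hne.symm, wt_apply_ne (Ne.symm hne'),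
          wt_apply_ne (fun e => by rw [h7] at e; have := congrArg Fin.val e; simp at this)] at h9
        omega
      have h9 : a = (⟨0, by omega⟩, true) := Prod.ext h7 (sn_eq_one_iff.1 h5)
      have h10 : b = (⟨1, hn⟩, true) := Prod.ext h8 (sn_eq_one_iff.1 h6)
      rw [h9, h10]
    obtain ⟨a, b, hab, rfl⟩ := mem_RB.1 hx
    rcases lt_or_gt_of_ne hab with h | h
    · exact key a b h rfl
    · exact key b a h (rt_comm a b)
  · rintro ⟨hn, rfl⟩
    rw [ee_rt]
    have h3 : ∀ k : Fin n, (wt ((⟨0, by omega⟩ : Fin n), true) + wt ((⟨1, hn⟩ : Fin n), true)) k =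
        if (k : ℕ) < 2 then 1 else 0 := by
      intro k
      rw [Pi.add_apply, wt_apply, wt_apply]
      simp only [Fin.ext_iff, if_true]
      split_ifs <;> omega
    constructor
    · intro i j hij
      rw [h3, h3]
      have := Fin.le_def.1 hij
      split_ifs <;> omega
    · intro i
      rw [h3]
      split_ifs <;> norm_num

theorem trans_RC [Finite W] : ∀ r ∈ RC n, ∀ s ∈ RC n, ∃ w, s = rep cs (isCartan n) w r := by
  have := Fintype.ofFinite W
  intro r hr s hs
  obtain ⟨v, hv⟩ := exists_dominant (cs := cs) (h := isCartan n) r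
  obtain ⟨w, hw⟩ := exists_dominant (cs := cs) (h := isCartan n) s
  obtain ⟨h1, e1⟩ := (dom_RC (act_RC cs hr v)).1 hv
  obtain ⟨h2, e2⟩ := (dom_RC (act_RC cs hs w)).1 hw
  refine ⟨w⁻¹ * v, ?_⟩
  rw [rep_mul_apply, e1, ← e2, rep_inv_apply]

theorem trans_RB [Finite W] : ∀ r ∈ RB n, ∀ s ∈ RB n, ∃ w, s = rep cs (isCartan n) w r := by
  have := Fintype.ofFinite W
  intro r hr s hs
  obtain ⟨v, hv⟩ := exists_dominant (cs := cs) (h := isCartan n) r
  obtain ⟨w, hw⟩ := exists_dominant (cs := cs) (h := isCartan n) s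
  obtain ⟨h1, e1⟩ := (dom_RB (act_RB cs hr v)).1 hv
  obtain ⟨h2, e2⟩ := (dom_RB (act_RB cs hs w)).1 hw
  refine ⟨w⁻¹ * v, ?_⟩
  rw [rep_mul_apply, e1, ← e2, rep_inv_apply]

end

/-! ### Final segments of the nodes -/

/-- The final segment of the nodes. -/
def up (n c : ℕ) : Fin (n - c) ↪ Fin n :=
  ⟨fun j => ⟨(j : ℕ) + c, by have := j.2; omega⟩, fun i j h => by
    have := congrArg Fin.val h
    exact Fin.ext (by simpa using this)⟩

theorem up_val (n c : ℕ) (j : Fin (n - c)) : (up n c j : ℕ) = j + c := rfl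

theorem exists_up {n c : ℕ} {k : Fin n} (hk : c ≤ (k : ℕ)) : ∃ j, k = up n c j :=
  ⟨⟨(k : ℕ) - c, by have := k.2; omega⟩, Fin.ext (by rw [up_val]; simp only; omega)⟩

theorem range_up (n c : ℕ) : Set.range (up n c) = {k : Fin n | c ≤ (k : ℕ)} := by
  ext k
  constructor
  · rintro ⟨j, rfl⟩
    change c ≤ (up n c j : ℕ)
    rw [up_val]; omega
  · intro hk
    obtain ⟨j, e⟩ := exists_up hk
    exact ⟨j, e.symm⟩

theorem B_apply_ne {n : ℕ} {i j : Fin n} (hij : i ≠ j) : CoxeterMatrix.B n i j =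
    if (i : ℕ) = n - 1 ∧ (j : ℕ) = n - 2 ∨ (j : ℕ) = n - 1 ∧ (i : ℕ) = n - 2 then 4
      else (if (j : ℕ) + 1 = i ∨ (i : ℕ) + 1 = j then 3 else 2) := by
  show (if i = j then 1 else _) = _
  rw [if_neg hij]

theorem matrix_up (n c : ℕ) (i j : Fin (n - c)) :
    CoxeterMatrix.B n (up n c i) (up n c j) = CoxeterMatrix.B (n - c) i j := by
  by_cases hij : i = j
  · rw [hij, CoxeterMatrix.diagonal, CoxeterMatrix.diagonal]
  · rw [B_apply_ne hij, B_apply_ne (fun e => hij ((up n c).injective e))]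
    have h1 := i.2
    have h2 := j.2
    have h3 : (i : ℕ) ≠ j := fun e => hij (Fin.ext e)
    rw [up_val, up_val]
    have e1 : ((i : ℕ) + c = n - 1 ∧ (j : ℕ) + c = n - 2 ∨ (j : ℕ) + c = n - 1 ∧ (i : ℕ) + c = n - 2) ↔
        ((i : ℕ) = n - c - 1 ∧ (j : ℕ) = n - c - 2 ∨ (j : ℕ) = n - c - 1 ∧ (i : ℕ) = n - c - 2) := by omega
    have e2 : ((j : ℕ) + c + 1 = (i : ℕ) + c ∨ (i : ℕ) + c + 1 = (j : ℕ) + c) ↔
        ((j : ℕ) + 1 = i ∨ (i : ℕ) + 1 = j) := by omega
    simp only [e1, e2]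

theorem A_up (n c : ℕ) (i j : Fin (n - c)) : TypeC.A n (up n c i) (up n c j) = TypeC.A (n - c) i j := by
  have h1 := i.2
  have h2 := j.2
  rw [A_apply, A_apply]
  simp only [up_val, (up n c).injective.eq_iff]
  split_ifs <;> omega

/-- The inclusion of signed indices. -/
def ups (n c : ℕ) (a : Fin (n - c) × Bool) : Fin n × Bool := (up n c a.1, a.2)

theorem ups_injective (n c : ℕ) : Function.Injective (ups n c) := by
  rintro ⟨i, s⟩ ⟨j, t⟩ h
  have h1 := congrArg Prod.fst h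
  have h2 := congrArg Prod.snd h
  exact Prod.ext ((up n c).injective h1) h2

theorem exists_ups {n c : ℕ} {a : Fin n × Bool} (ha : c ≤ (a.1 : ℕ)) : ∃ b, a = ups n c b := by
  obtain ⟨j, e⟩ := exists_up ha
  exact ⟨(j, a.2), Prod.ext e rfl⟩

theorem wt_ups (n c : ℕ) (a : Fin (n - c) × Bool) (k : Fin (n - c)) : wt (ups n c a) (up n c k) = wt a k := by
  rw [wt_apply, wt_apply]
  by_cases h : k = a.1
  · rw [if_pos h, if_pos (by rw [h]; rfl)]; rfl
  · rw [if_neg h, if_neg]
    exact fun e => h ((up n c).injective e)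

theorem wt_ups_lt (n c : ℕ) (a : Fin (n - c) × Bool) {k : Fin n} (hk : (k : ℕ) < c) : wt (ups n c a) k = 0 := by
  rw [wt_apply, if_neg]
  intro e
  have := congrArg Fin.val e
  simp only [ups, up_val] at this
  omega

theorem bt_up (n c : ℕ) (j k : Fin (n - c)) : bt (up n c j) (up n c k) = bt j k := by
  have h1 := j.2
  have h2 := k.2
  rw [bt_apply, bt_apply]
  simp only [up_val]
  split_ifs <;> omega

theorem bt_up_lt (n c : ℕ) (j : Fin (n - c)) {k : Fin n} (hk : (k : ℕ) < c) : bt (up n c j) k = 0 := by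
  have h1 := j.2
  rw [bt_apply]
  simp only [up_val]
  split_ifs <;> omega

/-- The inclusion of the subsystem. -/
def iu (n c : ℕ) : (Fin (n - c) → ℤ) →ₗ[ℤ] (Fin n → ℤ) := iota (fun j => sr (up n c j))

theorem ee_iu_eq (n c : ℕ) (x : Fin (n - c) → ℤ) (k : Fin n) : ee (iu n c x) k = ∑ j, x j * bt (up n c j) k := by
  have h1 : ee (iu n c x) = ∑ j, x j • bt (up n c j) := by
    unfold iu
    rw [iota_apply]
    have h2 : ∀ s : Finset (Fin (n - c)), ee (∑ j ∈ s, x j • sr (up n c j)) = ∑ j ∈ s, x j • bt (up n c j) := by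
      intro s
      induction s using Finset.induction_on with
      | empty =>
        rw [Finset.sum_empty, Finset.sum_empty]
        have := ee_smul 0 (0 : Fin n → ℤ)
        rwa [zero_smul, zero_smul] at this
      | insert a s ha ih => rw [Finset.sum_insert ha, Finset.sum_insert ha, ee_add, ee_smul, ee_sr, ih]
    exact h2 _
  rw [h1, Finset.sum_apply]
  rfl

theorem ee_iu (n c : ℕ) (x : Fin (n - c) → ℤ) (k : Fin (n - c)) : ee (iu n c x) (up n c k) = ee x k := by
  have h1 : ee x k = ∑ j, x j * bt j k := by simp [ee, Finset.sum_apply]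
  rw [ee_iu_eq, h1]
  exact Finset.sum_congr rfl fun j _ => by rw [bt_up]

theorem ee_iu_lt (n c : ℕ) (x : Fin (n - c) → ℤ) {k : Fin n} (hk : (k : ℕ) < c) : ee (iu n c x) k = 0 := by
  rw [ee_iu_eq]
  exact Finset.sum_eq_zero fun j _ => by rw [bt_up_lt n c j hk, mul_zero]

/-- A vector whose first `ε`-coordinates vanish. -/
theorem ee_eq_iff {n c : ℕ} {x : Fin (n - c) → ℤ} {a b : Fin (n - c) × Bool} :
    ee (iu n c x) = wt (ups n c a) + wt (ups n c b) ↔ ee x = wt a + wt b := by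
  constructor
  · intro h
    funext k
    have h1 := congrFun h (up n c k)
    rwa [ee_iu, Pi.add_apply, wt_ups, wt_ups] at h1
  · intro h
    funext k
    rcases Nat.lt_or_ge (k : ℕ) c with hk | hk
    · rw [ee_iu_lt n c x hk, Pi.add_apply, wt_ups_lt n c a hk, wt_ups_lt n c b hk, add_zero]
    · obtain ⟨j, rfl⟩ := exists_up hk
      rw [ee_iu, h, Pi.add_apply, Pi.add_apply, wt_ups, wt_ups]

theorem iu_rt (n c : ℕ) (a b : Fin (n - c) × Bool) : iu n c (rt a b) = rt (ups n c a) (ups n c b) :=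
  eq_rt (ee_eq_iff.2 (ee_rt a b))

theorem le_of_ee_iu {n c : ℕ} {x : Fin (n - c) → ℤ} {a b : Fin n × Bool} (hab : Ok a b)
    (h : ee (iu n c x) = wt a + wt b) : c ≤ (a.1 : ℕ) ∧ c ≤ (b.1 : ℕ) := by
  have key : ∀ a b : Fin n × Bool, Ok a b → ee (iu n c x) = wt a + wt b → c ≤ (a.1 : ℕ) := by
    intro a b hab h
    by_contra hcon
    have h1 := congrFun h a.1
    rw [ee_iu_lt n c x (by omega), Pi.add_apply, wt_apply_self] at h1
    rcases hab with hab | rfl
    · rw [wt_apply_ne hab] at h1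
      rcases sn_eq_one_or a with h2 | h2 <;> omega
    · rw [wt_apply_self] at h1
      rcases sn_eq_one_or a with h2 | h2 <;> omega
  exact ⟨key a b hab h, key b a hab.symm (by rw [h, add_comm])⟩

theorem iu_mem_RC {n c : ℕ} {x : Fin (n - c) → ℤ} : iu n c x ∈ RC n ↔ x ∈ RC (n - c) := by
  constructor
  · rintro ⟨a, h⟩
    obtain ⟨b, rfl⟩ := exists_ups (le_of_ee_iu (Or.inr rfl) h).1
    exact ⟨b, ee_eq_iff.1 h⟩
  · rintro ⟨a, h⟩
    exact ⟨ups n c a, ee_eq_iff.2 h⟩

theorem iu_mem_RB {n c : ℕ} {x : Fin (n - c) → ℤ} : iu n c x ∈ RB n ↔ x ∈ RB (n - c) := by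
  constructor
  · rintro ⟨a, b, hab, h⟩
    obtain ⟨h1, h2⟩ := le_of_ee_iu (Or.inl hab) h
    obtain ⟨a', rfl⟩ := exists_ups h1
    obtain ⟨b', rfl⟩ := exists_ups h2
    exact ⟨a', b', fun e => hab (by simp only [ups, e]), ee_eq_iff.1 h⟩
  · rintro ⟨a, b, hab, h⟩
    exact ⟨ups n c a, ups n c b, fun e => hab ((up n c).injective e), ee_eq_iff.2 h⟩

/-- The Coxeter diagram is connected. -/
theorem irr (n : ℕ) : ∀ J : Set (Fin n), J.Nonempty → J ≠ Set.univ → ∃ a ∈ J, ∃ b, b ∉ J ∧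
    CoxeterMatrix.B n a b ≠ 2 := by
  intro J hJ hJu
  -- adjacent nodes are joined
  have hadj : ∀ i j : Fin n, (j : ℕ) = i + 1 → CoxeterMatrix.B n i j ≠ 2 ∧ CoxeterMatrix.B n j i ≠ 2 := by
    intro i j hij
    have h1 := i.2
    have h2 := j.2
    have hne : i ≠ j := fun e => by have := congrArg Fin.val e; omega
    constructor
    · rw [B_apply_ne hne]
      split_ifs <;> omega
    · rw [B_apply_ne hne.symm]
      split_ifs <;> omega
  by_contra hcon
  push Not at hcon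
  obtain ⟨a, ha⟩ := hJ
  apply hJu
  have hup : ∀ (d : ℕ) (j : Fin n), (j : ℕ) = a + d → j ∈ J := by
    intro d
    induction d with
    | zero =>
      intro j hj
      have : j = a := Fin.ext (by omega)
      rw [this]; exact ha
    | succ d ih =>
      intro j hj
      by_contra hjJ
      have h1 : (a : ℕ) + d < n := by have := j.2; omega
      exact (hadj ⟨a + d, h1⟩ j (by simp only; omega)).1 (hcon _ (ih ⟨a + d, h1⟩ rfl) j hjJ)
  have hdown : ∀ (d : ℕ) (j : Fin n), (j : ℕ) + d = a → j ∈ J := by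
    intro d
    induction d with
    | zero =>
      intro j hj
      have : j = a := Fin.ext (by omega)
      rw [this]; exact ha
    | succ d ih =>
      intro j hj
      by_contra hjJ
      have h1 : (j : ℕ) + 1 < n := by have := a.2; omega
      exact (hadj j ⟨j + 1, h1⟩ rfl).2 (hcon _ (ih ⟨j + 1, h1⟩ (by simp only; omega)) j hjJ)
  rw [Set.eq_univ_iff_forall]
  intro j
  rcases le_total (a : ℕ) j with h | h
  · exact hup (j - a) j (by omega)
  · exact hdown (a - j) j (by omega)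

end Cfsg.Agent.Nodes.KindBC
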