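import Mathlib
import Cfsg.Agent.Nodes.Coroot
import Cfsg.Agent.Nodes.Chart

/-!
Root group data do not depend on the choice of the Cartan matrix (project CIT, charts).

For two Cartan matrices `A`, `A'` of the Coxeter matrix `M` and positive integers `d i` with
`A i j * d j = d i * A' i j` the map `δ x = (d i * x i)` intertwines the two representations; it maps the roots of
`A'` to multiples of the roots of `A`.

* `dl d` : the map `δ`; `dl_rep`; `Ray d x x'` : the root `x` of `A` lies on the ray of `δ x'`;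
* `relX d X` : the relabelled family; `relX_eq`;
* `rgd_relabel`, `cls_relabel`, `G1_relabel`, `trans_relR`; `scal_transpose` : the `d i` for the transposed matrix;
* `Chart.relabel` : a chart with the Cartan matrix `A'`.
-/

set_option autoImplicit false
set_option linter.unusedSectionVars false

namespace Cfsg.Agent.Nodes.Relabel

open CoxeterSystem Cfsg.Agent.ChevalleyStructure.CoxeterGeom Cfsg.Agent.Tits.Roots Cfsg.Agent.Tits.Core
  Cfsg.Agent.Tits.RootComb Cfsg.Agent.Nodes.Comb Cfsg.Agent.Nodes.Reps Cfsg.Agent.Nodes.BNOf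
  Cfsg.Agent.Nodes.RGDLib Cfsg.Agent.Nodes.PosPair Cfsg.Agent.Nodes.Coroot Cfsg.Agent.Nodes.Chart
open scoped commutatorElement

variable {I W Y : Type*} [Fintype I] [DecidableEq I] [Group W] [Group Y] {M : CoxeterMatrix I}
  {cs : CoxeterSystem M W} {A A' : I → I → ℤ} {h : IsCartan M A} {h' : IsCartan M A'}

/-- The scaling map. -/
def dl (d : I → ℤ) : (I → ℤ) →ₗ[ℤ] (I → ℤ) where
  toFun x i := d i * x i
  map_add' x y := by funext i; simp only [Pi.add_apply]; ring
  map_smul' c x := by funext i; simp only [Pi.smul_apply, smul_eq_mul, RingHom.id_apply]; ring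

theorem dl_apply (d : I → ℤ) (x : I → ℤ) (i : I) : dl d x i = d i * x i := rfl

theorem dl_sr (d : I → ℤ) (i : I) : dl d (sr i) = d i • sr i := by
  funext k
  rw [dl_apply, Pi.smul_apply, smul_eq_mul]
  by_cases hk : k = i
  · subst hk; rfl
  · rw [sr_ne hk, mul_zero, mul_zero]

/-- The compatibility condition. -/
structure Scal (A A' : I → I → ℤ) (d : I → ℤ) : Prop where
  pos : ∀ i, 0 < d i
  rel : ∀ i j, A i j * d j = d i * A' i j

variable {d : I → ℤ} (S : Scal A A' d)

include S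

theorem dl_injective : Function.Injective (dl d) := by
  intro x y hxy
  funext i
  have h1 := congrFun hxy i
  rw [dl_apply, dl_apply] at h1
  exact mul_left_cancel₀ (S.pos i).ne' h1

theorem pairing_dl (i : I) (x : I → ℤ) : pairing A i (dl d x) = d i * pairing A' i x := by
  unfold pairing
  rw [Finset.mul_sum]
  refine Finset.sum_congr rfl fun j _ => ?_
  rw [dl_apply, ← mul_assoc, S.rel, mul_assoc]

theorem dl_rep (w : W) (x : I → ℤ) : rep cs h w (dl d x) = dl d (rep cs h' w x) := by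
  obtain ⟨ω, rfl⟩ := cs.wordProd_surjective w
  induction ω generalizing x with
  | nil => rw [wordProd_nil, map_one, map_one]; rfl
  | cons i ω ih =>
    rw [wordProd_cons, rep_mul_apply, ih, rep_mul_apply, rep_simple_eq, rep_simple_eq, pairing_dl S, map_sub,
      map_smul, dl_sr, smul_smul, mul_comm]

omit S in
/-- `x` is a root of `A` on the ray of `δ x'`. -/
def Ray (cs : CoxeterSystem M W) (h : IsCartan M A) (d : I → ℤ) (x x' : I → ℤ) : Prop :=
  IsRoot cs h x ∧ ∃ m n : ℤ, 0 < m ∧ 0 < n ∧ m • x = n • dl d x'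

theorem ray_rep (w : W) (i : I) : Ray cs h d (rep cs h w (sr i)) (rep cs h' w (sr i)) := by
  refine ⟨⟨w, i, rfl⟩, d i, 1, S.pos i, one_pos, ?_⟩
  rw [one_smul, ← dl_rep S (h := h), dl_sr, map_smul]

theorem exists_ray {x' : I → ℤ} (hx' : IsRoot cs h' x') : ∃ x, Ray cs h d x x' := by
  obtain ⟨w, i, rfl⟩ := hx'
  exact ⟨_, ray_rep S w i⟩

theorem exists_ray' {x : I → ℤ} (hx : IsRoot cs h x) : ∃ x', IsRoot cs h' x' ∧ Ray cs h d x x' := by
  obtain ⟨w, i, rfl⟩ := hx
  exact ⟨_, ⟨w, i, rfl⟩, ray_rep S w i⟩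

omit S in
theorem pos_smul_ne {x : I → ℤ} (hx : IsRoot cs h x) {a b : ℤ} (ha : 0 < a) (hb : 0 < b) : a • x ≠ b • (-x) := by
  intro h0
  rw [smul_neg, eq_neg_iff_add_eq_zero, ← add_smul] at h0
  rcases smul_eq_zero.1 h0 with h1 | h1
  · omega
  · exact hx.ne_zero h1

omit S in
theorem ray_unique {x y x' : I → ℤ} (hx : Ray cs h d x x') (hy : Ray cs h d y x') : x = y := by
  obtain ⟨hx, m, n, hm, hn, e⟩ := hx
  obtain ⟨hy, k, l, hk, hl, f⟩ := hy
  have h1 : (l * m) • x = (n * k) • y := by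
    rw [mul_smul, e, mul_smul, f, smul_smul, smul_smul, mul_comm]
  have hlm : 0 < l * m := mul_pos hl hm
  have hnk : 0 < n * k := mul_pos hn hk
  rcases eq_or_eq_neg_of_smul cs h hx hy hlm.ne' h1 with h2 | h2
  · exact h2
  · exfalso
    rw [h2] at h1
    exact pos_smul_ne hy hnk hlm h1.symm

theorem ray_unique' {x x' y' : I → ℤ} (hx' : IsRoot cs h' x') (hy' : IsRoot cs h' y') (hx : Ray cs h d x x')
    (hy : Ray cs h d x y') : x' = y' := by
  obtain ⟨hxr, m, n, hm, hn, e⟩ := hx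
  obtain ⟨-, k, l, hk, hl, f⟩ := hy
  have h1 : (k * n) • x' = (m * l) • y' := by
    apply dl_injective S
    rw [map_smul, map_smul, mul_smul, ← e, mul_smul, ← f, smul_smul, smul_smul, mul_comm]
  have h2 : 0 < k * n := mul_pos hk hn
  have h3 : 0 < m * l := mul_pos hm hl
  rcases eq_or_eq_neg_of_smul cs h' hx' hy' h2.ne' h1 with h4 | h4
  · exact h4
  · exfalso
    rw [h4] at h1
    exact pos_smul_ne hy' h3 h2 h1.symm

theorem Ray.act {x x' : I → ℤ} (hx : Ray cs h d x x') (w : W) :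
    Ray cs h d (rep cs h w x) (rep cs h' w x') := by
  obtain ⟨hxr, m, n, hm, hn, e⟩ := hx
  exact ⟨hxr.act w, m, n, hm, hn, by rw [← map_smul, e, map_smul, dl_rep S]⟩

omit S in
theorem Ray.neg {x x' : I → ℤ} (hx : Ray cs h d x x') : Ray cs h d (-x) (-x') := by
  obtain ⟨hxr, m, n, hm, hn, e⟩ := hx
  exact ⟨hxr.neg, m, n, hm, hn, by rw [smul_neg, e, map_neg, smul_neg]⟩

theorem ray_sr (h' : IsCartan M A') (i : I) : Ray cs h d (sr i) (sr i) := by
  have := ray_rep (cs := cs) (h := h) (h' := h') S 1 i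
  rwa [map_one, map_one] at this

/-- Cones correspond. -/
theorem btwn_of_ray {x y z x' y' z' : I → ℤ} (hx : Ray cs h d x x') (hy : Ray cs h d y y')
    (hz : Ray cs h d z z') (hz' : IsRoot cs h' z') (hb : Btwn cs h x y z) : Btwn cs h' x' y' z' := by
  obtain ⟨-, m1, n1, hm1, hn1, e1⟩ := hx
  obtain ⟨-, m2, n2, hm2, hn2, e2⟩ := hy
  obtain ⟨-, m3, n3, hm3, hn3, e3⟩ := hz
  obtain ⟨-, m, a, b, hm, ha, hb, e⟩ := hb
  refine ⟨hz', m * n3 * m1 * m2, a * m3 * m2 * n1, b * m3 * m1 * n2, by positivity, by positivity,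
    by positivity, ?_⟩
  apply dl_injective S
  rw [map_smul, map_add, map_smul, map_smul]
  have h1 : (m * n3 * m1 * m2) • dl d z' = (m * m1 * m2) • (m3 • z) := by
    rw [e3, smul_smul]; congr 1; ring
  have h2 : (a * m3 * m2 * n1) • dl d x' = (a * m3 * m2) • (m1 • x) := by
    rw [e1, smul_smul]
  have h3 : (b * m3 * m1 * n2) • dl d y' = (b * m3 * m1) • (m2 • y) := by
    rw [e2, smul_smul]
  rw [h1, h2, h3]
  have h4 : (m * m1 * m2) • (m3 • z) = (m1 * m2 * m3) • (m • z) := by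
    rw [smul_smul, smul_smul]; congr 1; ring
  rw [h4, e]
  module

/-- Signs of the forms correspond. -/
theorem form_pos_iff [Fintype W] {x x' y y' : I → ℤ} (hx : Ray cs h d x x') (hy : Ray cs h d y y')
    (hy' : IsRoot cs h' y') : 0 < form cs h x y ↔ 0 < form cs h' x' y' := by
  obtain ⟨w, i, rfl⟩ := hy'
  have e1 : y = rep cs h w (sr i) := ray_unique hy (ray_rep S w i)
  subst e1
  obtain ⟨-, m, n, hm, hn, e⟩ := hx
  rw [← cpr_pos_iff cs h x ⟨w, i, rfl⟩, ← cpr_pos_iff cs h' x' ⟨w, i, rfl⟩, cpr_rep_sr, cpr_rep_sr]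
  have h1 : m * pairing A i (rep cs h w⁻¹ x) = n * (d i * pairing A' i (rep cs h' w⁻¹ x')) := by
    rw [← pairing_smul, ← map_smul, e, map_smul, dl_rep S (h' := h'), pairing_smul, pairing_dl S]
  have hnd : 0 < n * d i := mul_pos hn (S.pos i)
  have h2 : m * pairing A i (rep cs h w⁻¹ x) = (n * d i) * pairing A' i (rep cs h' w⁻¹ x') := by
    rw [h1, mul_assoc]
  constructor
  · intro h3
    have h4 := mul_pos hm h3
    rw [h2] at h4
    exact (mul_pos_iff_of_pos_left hnd).1 h4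
  · intro h3
    have h4 := mul_pos hnd h3
    rw [← h2] at h4
    exact (mul_pos_iff_of_pos_left hm).1 h4

theorem form_nonneg_iff [Fintype W] {x x' y y' : I → ℤ} (hx : Ray cs h d x x') (hy : Ray cs h d y y')
    (hy' : IsRoot cs h' y') : 0 ≤ form cs h x y ↔ 0 ≤ form cs h' x' y' := by
  have h1 := form_pos_iff S hx.neg hy hy'
  rw [form_neg_left, form_neg_left] at h1
  constructor
  · intro h2
    by_contra h3
    have := h1.2 (by omega)
    omega
  · intro h2
    by_contra h3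
    have := h1.1 (by omega)
    omega

theorem form_zero_iff [Fintype W] {x x' y y' : I → ℤ} (hx : Ray cs h d x x') (hy : Ray cs h d y y')
    (hy' : IsRoot cs h' y') : form cs h x y = 0 ↔ form cs h' x' y' = 0 := by
  have h1 := form_nonneg_iff S hx hy hy'
  have h2 := form_pos_iff S hx hy hy'
  constructor
  · intro h3
    have h4 := h1.1 h3.ge
    by_contra h5
    have := h2.2 (lt_of_le_of_ne h4 (Ne.symm h5))
    omega
  · intro h3
    have h4 := h1.2 h3.ge
    by_contra h5
    have := h2.1 (lt_of_le_of_ne h4 (Ne.symm h5))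
    omega

/-! ### Families -/

omit S in
/-- The relabelled family of subgroups. -/
def relX (cs : CoxeterSystem M W) (h : IsCartan M A) (d : I → ℤ) (X : (I → ℤ) → Subgroup Y) (x' : I → ℤ) :
    Subgroup Y := ⨆ x : {x // Ray cs h d x x'}, X x.1

omit S in
theorem relX_eq {X : (I → ℤ) → Subgroup Y} {x x' : I → ℤ} (hx : Ray cs h d x x') :
    relX cs h d X x' = X x := by
  unfold relX
  apply le_antisymm
  · refine iSup_le ?_
    rintro ⟨y, hy⟩
    obtain rfl := ray_unique hy hx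
    exact le_rfl
  · exact le_iSup (fun x : {x // Ray cs h d x x'} => X x.1) ⟨x, hx⟩

/-- **Relabelling of a root group datum.** -/
theorem rgd_relabel {p : ℕ} {T : Subgroup Y} {n : I → Y} {X : (I → ℤ) → Subgroup Y}
    (R : RGD cs h p T n X) : RGD cs h' p T n (relX cs h d X) where
  nsys := R.nsys
  conj i x' hx' := by
    obtain ⟨x, hx⟩ := exists_ray (cs := cs) (h := h) S hx'
    rw [relX_eq hx, R.conj i x hx.1, relX_eq (Ray.act S hx (cs.simple i))]
  tor x' hx' t ht := by
    obtain ⟨x, hx⟩ := exists_ray (cs := cs) (h := h) S hx'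
    rw [relX_eq hx, R.tor x hx.1 t ht]
  comm x' y' hx' hy' hne hne' a ha b hb := by
    obtain ⟨x, hx⟩ := exists_ray (cs := cs) (h := h) S hx'
    obtain ⟨y, hy⟩ := exists_ray (cs := cs) (h := h) S hy'
    rw [relX_eq hx] at ha
    rw [relX_eq hy] at hb
    have h1 := R.comm x y hx.1 hy.1 (by
      rintro rfl
      exact hne (ray_unique' S hx' hy' hx hy)) (by
      rintro rfl
      exact hne' (ray_unique' S hx' hy'.neg hx hy.neg)) a ha b hb
    refine (?_ : btw cs h X x y ≤ _) h1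
    unfold Reps.btw
    refine iSup_le ?_
    rintro ⟨z, hz⟩
    obtain ⟨z', hz', hzz⟩ := exists_ray' (cs := cs) (h := h) (h' := h') S hz.1
    have h2 : relX cs h d X z' = X z := relX_eq hzz
    change X z ≤ _
    rw [← h2]
    exact le_iSup (fun e : {e : I → ℤ // Btwn cs h' x' y' e} => relX cs h d X e.1)
      ⟨z', btwn_of_ray S hx hy hzz hz' hz⟩
  rk1 i := by
    rw [relX_eq (ray_sr S h' i).neg, relX_eq (ray_sr S h' i)]
    exact R.rk1 i
  pgrp i := by
    rw [relX_eq (ray_sr S h' i)]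
    exact R.pgrp i
  notp i := by
    rw [relX_eq (ray_sr S h' i).neg, relX_eq (ray_sr S h' i)]
    exact R.notp i
  tcop := R.tcop

theorem G1_relabel [Finite W] (h' : IsCartan M A') (X : (I → ℤ) → Subgroup Y) :
    G1 cs h' (relX cs h d X) = G1 cs h X := by
  unfold G1
  apply le_antisymm
  · refine iSup_le ?_
    rintro ⟨x', hx'⟩
    obtain ⟨x, hx⟩ := exists_ray (cs := cs) (h := h) S hx'
    change relX cs h d X x' ≤ _
    rw [relX_eq hx]
    exact le_iSup (fun x : {x : I → ℤ // IsRoot cs h x} => X x.1) ⟨x, hx.1⟩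
  · refine iSup_le ?_
    rintro ⟨x, hx⟩
    obtain ⟨x', hx', hxx⟩ := exists_ray' (cs := cs) (h := h) (h' := h') S hx
    change X x ≤ _
    rw [← relX_eq hxx (X := X)]
    exact le_iSup (fun x : {x : I → ℤ // IsRoot cs h' x} => relX cs h d X x.1) ⟨x', hx'⟩

omit S in
/-- The relabelled set of classical roots. -/
def relR (cs : CoxeterSystem M W) (h : IsCartan M A) (h' : IsCartan M A') (d : I → ℤ) (R : Set (I → ℤ)) :
    Set (I → ℤ) := {x' | IsRoot cs h' x' ∧ ∃ x ∈ R, Ray cs h d x x'}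

omit S in
open Classical in
/-- The relabelled involutions. -/
noncomputable def relz (cs : CoxeterSystem M W) (h : IsCartan M A) (d : I → ℤ) (z : (I → ℤ) → Y)
    (x' : I → ℤ) : Y := if hx : ∃ x, Ray cs h d x x' then z hx.choose else 1

omit S in
theorem relz_eq {z : (I → ℤ) → Y} {x x' : I → ℤ} (hx : Ray cs h d x x') : relz cs h d z x' = z x := by
  unfold relz
  have h1 : ∃ x, Ray cs h d x x' := ⟨x, hx⟩
  rw [dif_pos h1, ray_unique h1.choose_spec hx]

/-- **Relabelling of the classical root groups.** -/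
theorem cls_relabel [Fintype W] (h' : IsCartan M A') {p : ℕ} {T : Subgroup Y} {n : I → Y}
    {X : (I → ℤ) → Subgroup Y} {R : Set (I → ℤ)} {Z : (I → ℤ) → Subgroup Y} {z : (I → ℤ) → Y}
    (C : Cls cs h p T n X R Z z) :
    Cls cs h' p T n (relX cs h d X) (relR cs h h' d R) (relX cs h d Z) (relz cs h d z) where
  rgd := rgd_relabel S C.rgd
  root r' hr' := hr'.1
  act := by
    rintro r' ⟨hr', r, hr, hrr⟩ w
    exact ⟨hr'.act w, rep cs h w r, C.act r hr w, Ray.act S hrr w⟩
  le := by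
    rintro r' ⟨hr', r, hr, hrr⟩
    rw [relX_eq hrr, relX_eq hrr]
    exact C.le r hr
  ne_bot := by
    rintro r' ⟨hr', r, hr, hrr⟩
    rw [relX_eq hrr]
    exact C.ne_bot r hr
  conj := by
    rintro i r' ⟨hr', r, hr, hrr⟩
    rw [relX_eq hrr, relX_eq (Ray.act S hrr (cs.simple i))]
    exact C.conj i r hr
  tor := by
    rintro r' ⟨hr', r, hr, hrr⟩ t ht
    rw [relX_eq hrr]
    exact C.tor r hr t ht
  cent := by
    rintro r' ⟨hr', r, hr, hrr⟩ y' hy' h0 a ha b hb
    obtain ⟨y, hy⟩ := exists_ray (cs := cs) (h := h) S hy'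
    rw [relX_eq hy] at ha
    rw [relX_eq hrr] at hb
    exact C.cent r hr y hy.1 ((form_nonneg_iff S hy hrr hr').2 h0) a ha b hb
  notp := by
    rintro r' ⟨hr', r, hr, hrr⟩
    rw [relX_eq hrr, relX_eq hrr.neg]
    exact C.notp r hr
  z_mem := by
    rintro r' ⟨hr', r, hr, hrr⟩
    rw [relX_eq hrr, relX_eq hrr.neg, relz_eq hrr]
    exact C.z_mem r hr
  z_torus := by
    rintro r' ⟨hr', r, hr, hrr⟩
    rw [relz_eq hrr]
    exact C.z_torus r hr
  z_T := by
    rintro r' ⟨hr', r, hr, hrr⟩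
    rw [relz_eq hrr]
    exact C.z_T r hr
  z_sq := by
    rintro r' ⟨hr', r, hr, hrr⟩
    rw [relz_eq hrr]
    exact C.z_sq r hr
  z_conj := by
    rintro i r' ⟨hr', r, hr, hrr⟩
    rw [relz_eq hrr, relz_eq (Ray.act S hrr (cs.simple i))]
    exact C.z_conj i r hr
  z_neg := by
    rintro r' ⟨hr', r, hr, hrr⟩
    rw [relz_eq hrr, relz_eq hrr.neg]
    exact C.z_neg r hr
  z_cent := by
    rintro r' ⟨hr', r, hr, hrr⟩
    rw [relz_eq hrr, relX_eq hrr]
    exact C.z_cent r hr
  z_inv := by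
    rintro r' ⟨hr', r, hr, hrr⟩ y' hy' h1 h2 h0 a ha
    obtain ⟨y, hy⟩ := exists_ray (cs := cs) (h := h) S hy'
    rw [relX_eq hy] at ha
    rw [relz_eq hrr]
    refine C.z_inv r hr y hy.1 ?_ ?_ (fun h3 => h0 ((form_zero_iff S hy hrr hr').1 h3)) a ha
    · rintro rfl
      exact h1 (ray_unique' S hy' hr' hy hrr)
    · rintro rfl
      exact h2 (ray_unique' S hy' hr'.neg hy hrr.neg)
  z_inv_self := by
    rintro r' ⟨hr', r, hr, hrr⟩
    rw [relz_eq hrr, relX_eq hrr, relX_eq hrr]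
    exact C.z_inv_self r hr

theorem exists_relR (h' : IsCartan M A') {R : Set (I → ℤ)} (hR : ∀ r ∈ R, IsRoot cs h r) {r : I → ℤ}
    (hr : r ∈ R) : ∃ r' ∈ relR cs h h' d R, Ray cs h d r r' := by
  obtain ⟨r', hr', hrr⟩ := exists_ray' (cs := cs) (h := h) (h' := h') S (hR r hr)
  exact ⟨r', ⟨hr', r, hr, hrr⟩, hrr⟩

theorem trans_relR (h' : IsCartan M A') {R : Set (I → ℤ)}
    (ht : ∀ r ∈ R, ∀ s ∈ R, ∃ w, s = rep cs h w r) :
    ∀ r ∈ relR cs h h' d R, ∀ s ∈ relR cs h h' d R, ∃ w, s = rep cs h' w r := by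
  rintro r' ⟨hr', r, hr, hrr⟩ s' ⟨hs', s, hs, hss⟩
  obtain ⟨w, rfl⟩ := ht r hr s hs
  refine ⟨w, ?_⟩
  exact ray_unique' S hs' (hr'.act w) hss (Ray.act S hrr w)

omit S in
/-- Existence of the scaling for the transposed matrix. -/
theorem scal_transpose [Fintype W] (h : IsCartan M A) (h' : IsCartan M A') (ht : ∀ i j, A' i j = A j i) :
    Scal A A' (fun i => form cs h' (sr i) (sr i)) := by
  refine ⟨fun i => form_pos cs h' (sr_ne_zero i), fun i j => ?_⟩
  have h1 := two_form cs h' i (sr j)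
  have h2 := two_form cs h' j (sr i)
  rw [sr, pairing_single, mul_one, ← sr] at h1 h2
  rw [form_comm] at h2
  have h3 : A' i j * form cs h' (sr i) (sr i) = A' j i * form cs h' (sr j) (sr j) := by
    rw [← h1, ← h2]
  rw [← ht j i, ← h3, mul_comm]

/-- **Relabelling of a chart.** -/
theorem exists_chart_relabel {G : Type*} [Group G] {Om : Set (Subgroup G)} {p : ℕ} {L : Subgroup G}
    (C : Chart Om p L) {A' : C.I → C.I → ℤ} (h' : IsCartan C.M A') {d : C.I → ℤ} (S : Scal C.A A' d) :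
    ∃ C' : Chart Om p L, C'.I = C.I ∧ C'.W = C.W ∧ HEq C'.M C.M ∧ HEq C'.cs C.cs ∧ HEq C'.A A' ∧ C'.T = C.T ∧
      HEq C'.n C.n ∧ HEq C'.R (relR C.cs C.h h' d C.R) :=
  ⟨{ prime := C.prime
     odd := C.odd
     I := C.I
     W := C.W
     M := C.M
     cs := C.cs
     A := A'
     h := h'
     T := C.T
     n := C.n
     X := relX C.cs C.h d C.X
     R := relR C.cs C.h h' d C.R
     Z := relX C.cs C.h d C.Z
     z := relz C.cs C.h d C.z
     cls := cls_relabel S h' C.cls
     irr := C.irr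
     ne := C.ne
     T_le := C.T_le
     gen := by rw [G1_relabel S h', C.gen]
     trans := trans_relR S h' C.trans
     Rne := by
       obtain ⟨r, hr⟩ := C.Rne
       obtain ⟨r', hr', -⟩ := exists_relR S h' C.cls.root hr
       exact ⟨r', hr'⟩
     om := by
       rintro r' ⟨hr', r, hr, hrr⟩
       rw [relX_eq hrr, relX_eq hrr.neg]
       exact C.om r hr
     om_conj := by
       intro K hK hKL
       obtain ⟨r, hr, g, hg, e⟩ := C.om_conj K hK hKL
       obtain ⟨r', hr', hrr⟩ := exists_relR S h' C.cls.root hr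
       refine ⟨r', hr', g, hg, ?_⟩
       rw [relX_eq hrr, relX_eq hrr.neg]
       exact e }, rfl, rfl, HEq.rfl, HEq.rfl, HEq.rfl, rfl, HEq.rfl, HEq.rfl⟩

end Cfsg.Agent.Nodes.Relabel
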