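import Mathlib
import Cfsg.Agent.Nodes.KindBC
import Cfsg.Agent.Nodes.LeviStd
import Cfsg.Agent.Nodes.Relabel

/-!
The kind `B n` (project CIT, ruling 5 (B3)): `Ω_{2n+1}`, `Ω^-_{2n+2}`; the root system is the one of `TypeC`
(the short root `ε_i` of `B_n` is written `2ε_i`), the classical roots are `RB n` (`± ε_i ± ε_j`).

* `fr n k` : the frame `ε_0 + ε_1, ε_0 - ε_1, ε_2 + ε_3, ...` (`k < 2[n/2]`), `pt` the partner;
* `frameSys` (R1); `dom_fr`, `orth_fr`;
* `cls_block` (R2): the block of kind `B (n-2)` of the roots orthogonal to `ε_0 + ε_1`; `iu_fr`;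
  `eq_or_of_orth` : the other block is `± α_0`; `cls_two` : the kind `B 2` is the kind `C 2`;
* `partner_iff`, `zeta_eq` (R3);
* `exists_orth`, `exists_add` (R4).
-/

set_option autoImplicit false
set_option linter.unusedSectionVars false

namespace Cfsg.Agent.Nodes.KindB

open CoxeterSystem Cfsg.Agent.ChevalleyStructure.CoxeterGeom Cfsg.Agent.Tits.Roots Cfsg.Agent.Tits.Core
  Cfsg.Agent.Nodes.Comb Cfsg.Agent.Nodes.SubComb Cfsg.Agent.Nodes.PosPair
  Cfsg.Agent.Nodes.Coroot Cfsg.Agent.Nodes.TypeC Cfsg.Agent.Nodes.TypeCForm Cfsg.Agent.Nodes.Sub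
  Cfsg.Agent.Nodes.ClsNorm Cfsg.Agent.Nodes.StabComb Cfsg.Agent.Nodes.KindBC Cfsg.Agent.Nodes.KindBase
  Cfsg.Agent.Nodes.LeviStd Cfsg.Agent.Nodes.Chart

variable {n : ℕ}

/-- The first index of a member of the frame. -/
def i0 (k : Fin (2 * (n / 2))) : Fin n := ⟨2 * (k / 2), by have := k.2; omega⟩

/-- The second index of a member of the frame. -/
def i1 (k : Fin (2 * (n / 2))) : Fin n := ⟨2 * (k / 2) + 1, by have := k.2; omega⟩

theorem i0_val (k : Fin (2 * (n / 2))) : (i0 k : ℕ) = 2 * ((k : ℕ) / 2) := rfl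

theorem i1_val (k : Fin (2 * (n / 2))) : (i1 k : ℕ) = 2 * ((k : ℕ) / 2) + 1 := rfl

/-- The sign of a member of the frame. -/
def sgn (k : Fin (2 * (n / 2))) : ℤ := if (k : ℕ) % 2 = 0 then 1 else -1

theorem i0_ne_i1 (k l : Fin (2 * (n / 2))) : i0 k ≠ i1 l := by
  intro h
  have := congrArg Fin.val h
  rw [i0_val, i1_val] at this
  omega

/-- The frame. -/
def fr (n : ℕ) (k : Fin (2 * (n / 2))) : Fin n → ℤ := rt (i0 k, true) (i1 k, decide ((k : ℕ) % 2 = 0))

theorem ee_fr (k : Fin (2 * (n / 2))) :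
    ee (fr n k) = wt (i0 k, true) + wt (i1 k, decide ((k : ℕ) % 2 = 0)) := ee_rt _ _

theorem ee_fr_apply (k : Fin (2 * (n / 2))) (i : Fin n) :
    ee (fr n k) i = (if i = i0 k then 1 else 0) + (if i = i1 k then sgn k else 0) := by
  rw [ee_fr, Pi.add_apply, wt_apply, wt_apply]
  congr 1
  simp only [sgn, decide_eq_true_eq]

theorem fr_mem (k : Fin (2 * (n / 2))) : fr n k ∈ RB n := rt_mem_RB (i0_ne_i1 k k)

theorem eq_or_eq_ng {a b : Fin n × Bool} (h : a.1 = b.1) : a = b ∨ a = ng b := by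
  obtain ⟨i, s⟩ := a
  obtain ⟨j, t⟩ := b
  simp only at h
  subst h
  cases s <;> cases t <;> simp [ng]

theorem sn_sn_ng {a b : Fin n × Bool} (h : a.1 = b.1) (h1 : sn a * sn b = 1) : a = b := by
  rcases eq_or_eq_ng h with e | e
  · exact e
  · rw [e, sn_ng] at h1
    have := sn_mul_self b
    nlinarith

theorem sn_sn_ng' {a b : Fin n × Bool} (h : a.1 = b.1) (h1 : sn a * sn b = -1) : a = ng b := by
  rcases eq_or_eq_ng h with e | e
  · rw [e] at h1
    have := sn_mul_self b
    omega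
  · exact e

section

variable {W : Type*} [Group W] (cs : CoxeterSystem (CoxeterMatrix.B n) W)

theorem isRoot_fr (k : Fin (2 * (n / 2))) : IsRoot cs (isCartan n) (fr n k) := root_RB cs (fr_mem k)

theorem cpr_fr [Finite W] (x : Fin n → ℤ) (k : Fin (2 * (n / 2))) :
    cpr cs (isCartan n) x (fr n k) = ee x (i0 k) + sgn k * ee x (i1 k) := by
  unfold fr
  rw [cpr_rt cs x (a := (i0 k, true)) (b := (i1 k, decide ((k : ℕ) % 2 = 0))) (i0_ne_i1 k k)]
  simp only [sn, if_true, mul_one, decide_eq_true_eq, sgn]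
  ring

/-- `|⟨x, y^∨⟩| ≤ 1` for `x ≠ ± y` in `RB n`. -/
theorem le_one [Finite W] {x y : Fin n → ℤ} (hx : x ∈ RB n) (hy : y ∈ RB n) (h1 : x ≠ y) (h2 : x ≠ -y) :
    |cpr cs (isCartan n) x y| ≤ 1 := by
  obtain ⟨a, b, hab, rfl⟩ := mem_RB.1 hx
  obtain ⟨c, d, hcd, rfl⟩ := mem_RB.1 hy
  rw [cpr_rt cs _ hcd, ee_rt, Pi.add_apply, Pi.add_apply, abs_le]
  have key : ∀ c d : Fin n × Bool, c.1 ≠ d.1 → rt a b ≠ rt c d → rt a b ≠ -rt c d → c.1 ≠ b.1 →
      -1 ≤ (wt a c.1 + wt b c.1) * sn c + (wt a d.1 + wt b d.1) * sn d ∧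
        (wt a c.1 + wt b c.1) * sn c + (wt a d.1 + wt b d.1) * sn d ≤ 1 := by
    intro c d hcd h1 h2 hcb
    rw [wt_apply_ne hcb, add_zero]
    have sc := sn_eq_one_or c
    have sd := sn_eq_one_or d
    have sa := sn_eq_one_or a
    have sb := sn_eq_one_or b
    by_cases hca : c.1 = a.1
    · by_cases hdb : d.1 = b.1
      · rw [hca, hdb, wt_apply_self, wt_apply_self, wt_apply_ne hab.symm, zero_add]
        have hp : sn a * sn c = 1 ∨ sn a * sn c = -1 := by
          rcases sa with ha | ha <;> rcases sc with hc | hc <;> rw [ha, hc] <;> norm_num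
        have hq : sn b * sn d = 1 ∨ sn b * sn d = -1 := by
          rcases sb with ha | ha <;> rcases sd with hc | hc <;> rw [ha, hc] <;> norm_num
        rcases hp with hp | hp <;> rcases hq with hq | hq
        · exfalso
          exact h1 (by rw [sn_sn_ng hca.symm hp, sn_sn_ng hdb.symm hq])
        · rw [hp, hq]; norm_num
        · rw [hp, hq]; norm_num
        · exfalso
          exact h2 (by rw [sn_sn_ng' hca.symm hp, sn_sn_ng' hdb.symm hq, rt_ng])
      · rw [hca, wt_apply_self, wt_apply_ne (fun e => hcd (by rw [hca, e])), wt_apply_ne hdb]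
        rcases sa with ha | ha <;> rcases sc with hc | hc <;> rw [ha, hc] <;> norm_num
    · rw [wt_apply_ne hca, zero_mul, zero_add]
      by_cases hda : d.1 = a.1
      · rw [hda, wt_apply_self, wt_apply_ne hab, add_zero]
        rcases sa with ha | ha <;> rcases sd with hd | hd <;> rw [ha, hd] <;> norm_num
      · rw [wt_apply_ne hda, zero_add]
        by_cases hdb : d.1 = b.1
        · rw [hdb, wt_apply_self]
          rcases sb with hb | hb <;> rcases sd with hd | hd <;> rw [hb, hd] <;> norm_num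
        · rw [wt_apply_ne hdb, zero_mul]
          norm_num
  by_cases hcb : c.1 = b.1
  · have hdb : d.1 ≠ b.1 := fun e => hcd (hcb.trans e.symm)
    have h3 := key d c hcd.symm (by rw [rt_comm d c]; exact h1) (by rw [rt_comm d c]; exact h2) hdb
    omega
  · exact key c d hcd h1 h2 hcb

/-- An index below `2[n/2]` occurs in the frame. -/
theorem exists_index {i : Fin n} (hi : (i : ℕ) < 2 * (n / 2)) :
    ∃ k : Fin (2 * (n / 2)), (k : ℕ) = 2 * ((i : ℕ) / 2) ∧ (i = i0 k ∨ i = i1 k) := by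
  refine ⟨⟨2 * ((i : ℕ) / 2), by omega⟩, rfl, ?_⟩
  rcases Nat.mod_two_eq_zero_or_one (i : ℕ) with h | h
  · left
    apply Fin.ext
    rw [i0_val]
    simp only
    omega
  · right
    apply Fin.ext
    rw [i1_val]
    simp only
    omega

/-- The partner. -/
def pt (k : Fin (2 * (n / 2))) : Fin (2 * (n / 2)) :=
  ⟨if (k : ℕ) % 2 = 0 then k + 1 else k - 1, by have := k.2; split_ifs <;> omega⟩

theorem pt_val (k : Fin (2 * (n / 2))) : (pt k : ℕ) = if (k : ℕ) % 2 = 0 then (k : ℕ) + 1 else k - 1 := rfl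

theorem pt_pt (k : Fin (2 * (n / 2))) : pt (pt k) = k := by
  apply Fin.ext
  rw [pt_val, pt_val]
  split_ifs <;> omega

theorem pt_ne (k : Fin (2 * (n / 2))) : pt k ≠ k := by
  intro h
  have := congrArg Fin.val h
  rw [pt_val] at this
  split_ifs at this <;> omega

theorem i0_pt (k : Fin (2 * (n / 2))) : i0 (pt k) = i0 k := by
  apply Fin.ext
  rw [i0_val, i0_val, pt_val]
  split_ifs <;> omega

theorem i1_pt (k : Fin (2 * (n / 2))) : i1 (pt k) = i1 k := by
  apply Fin.ext
  rw [i1_val, i1_val, pt_val]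
  split_ifs <;> omega

theorem sgn_pt (k : Fin (2 * (n / 2))) : sgn (pt k) = -sgn k := by
  unfold sgn
  rw [pt_val]
  split_ifs <;> omega

theorem sgn_mul_self (k : Fin (2 * (n / 2))) : sgn k * sgn k = 1 := by
  unfold sgn; split_ifs <;> norm_num

theorem i0_eq_iff {k l : Fin (2 * (n / 2))} : i0 k = i0 l ↔ k = l ∨ k = pt l := by
  rw [Fin.ext_iff, Fin.ext_iff, Fin.ext_iff, i0_val, i0_val, pt_val]
  split_ifs <;> omega

theorem i1_eq_iff {k l : Fin (2 * (n / 2))} : i1 k = i1 l ↔ k = l ∨ k = pt l := by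
  rw [Fin.ext_iff, Fin.ext_iff, Fin.ext_iff, i1_val, i1_val, pt_val]
  split_ifs <;> omega

theorem cpr_fr_fr [Finite W] {k l : Fin (2 * (n / 2))} (hkl : k ≠ l) :
    cpr cs (isCartan n) (fr n k) (fr n l) = 0 := by
  rw [cpr_fr, ee_fr_apply, ee_fr_apply, if_neg (i0_ne_i1 l k), if_neg (i0_ne_i1 k l).symm]
  by_cases h : k = pt l
  · subst h
    rw [if_pos (i0_pt l).symm, if_pos (i1_pt l).symm, sgn_pt]
    have := sgn_mul_self l
    linarith
  · rw [if_neg, if_neg]
    · ring
    · intro e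
      rcases i1_eq_iff.1 e.symm with h1 | h1
      · exact hkl h1
      · exact h h1
    · intro e
      rcases i0_eq_iff.1 e.symm with h1 | h1
      · exact hkl h1
      · exact h h1

/-- Vanishing of the coordinates of a vector orthogonal to partners. -/
theorem ee_eq_zero [Finite W] {x : Fin n → ℤ} {k : Fin (2 * (n / 2))} (h1 : cpr cs (isCartan n) x (fr n k) = 0)
    (h2 : cpr cs (isCartan n) x (fr n (pt k)) = 0) : ee x (i0 k) = 0 ∧ ee x (i1 k) = 0 := by
  rw [cpr_fr] at h1 h2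
  rw [i0_pt, i1_pt, sgn_pt] at h2
  have h3 : ee x (i0 k) = 0 := by linarith
  have h4 : sgn k * ee x (i1 k) = 0 := by linarith
  refine ⟨h3, ?_⟩
  have h5 := sgn_mul_self k
  rcases mul_eq_zero.1 h4 with h6 | h6
  · rw [h6] at h5; norm_num at h5
  · exact h6

/-- **(R1)** -/
theorem frameSys [Finite W] : FrameSys cs (isCartan n) (RB n) (fr n) where
  root r hr := root_RB cs hr
  act r hr w := act_RB cs hr w
  le_one x hx y hy h1 h2 := le_one cs hx hy h1 h2
  mem := fr_mem
  orth k l hkl := cpr_fr_fr cs hkl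
  max x hx h0 := by
    obtain ⟨a, b, hab, rfl⟩ := mem_RB.1 hx
    have key : ∀ a b : Fin n × Bool, a.1 ≠ b.1 → (a.1 : ℕ) < 2 * (n / 2) →
        (∀ k, cpr cs (isCartan n) (rt a b) (fr n k) = 0) → False := by
      intro a b hab ha h0
      obtain ⟨k, -, hk⟩ := exists_index ha
      obtain ⟨h1, h2⟩ := ee_eq_zero cs (h0 k) (h0 (pt k))
      have h3 : ee (rt a b) a.1 = 0 := by
        rcases hk with hk | hk <;> rw [hk] <;> assumption
      rw [ee_rt, Pi.add_apply, wt_apply_self, wt_apply_ne hab, add_zero] at h3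
      rcases sn_eq_one_or a with h | h <;> omega
    have h1 : (a.1 : ℕ) ≠ b.1 := fun e => hab (Fin.ext e)
    have h2 := a.1.2
    have h3 := b.1.2
    by_cases ha : (a.1 : ℕ) < 2 * (n / 2)
    · exact key a b hab ha h0
    · exact key b a hab.symm (by omega) (by rw [rt_comm b a]; exact h0)

theorem dom_fr {k : Fin (2 * (n / 2))} (hk : (k : ℕ) = 0) : Dom (TypeC.A n) (fr n k) := by
  have h1 := k.2
  refine (dom_RB (fr_mem k)).2 ⟨by omega, ?_⟩
  unfold fr
  have e0 : i0 k = ⟨0, by omega⟩ := Fin.ext (by rw [i0_val, hk])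
  have e1 : i1 k = ⟨1, by omega⟩ := Fin.ext (by rw [i1_val, hk])
  rw [e0, e1, hk]
  rfl

theorem mem_orth_fr {k : Fin (2 * (n / 2))} (hk : (k : ℕ) = 0) {i : Fin n} :
    i ∈ orth cs (isCartan n) (fr n k) ↔ (i : ℕ) ≠ 1 := by
  have h1 := k.2
  have hs : sgn k = 1 := by unfold sgn; rw [hk]; rfl
  have he : ∀ i : Fin n, ee (fr n k) i = if (i : ℕ) < 2 then 1 else 0 := by
    intro i
    rw [ee_fr_apply]
    simp only [Fin.ext_iff, i0_val, i1_val, hk, hs]
    split_ifs <;> omega
  rw [mem_orth, ← Cf_ee, Cf]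
  have h2 := i.2
  split_ifs with h3
  · rw [he, he]
    simp only
    split_ifs <;> omega
  · rw [he]
    split_ifs <;> omega

/-- The partner of the highest root is the first simple root. -/
theorem fr_one {k : Fin (2 * (n / 2))} (hk : (k : ℕ) = 1) : fr n k = sr (⟨0, by have := k.2; omega⟩ : Fin n) := by
  have h1 := k.2
  rw [sr_eq_rt]
  unfold fr
  have e0 : i0 k = ⟨0, by omega⟩ := Fin.ext (by rw [i0_val, hk])
  have e1 : i1 k = ⟨1, by omega⟩ := Fin.ext (by rw [i1_val, hk])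
  have e2 : decide ((k : ℕ) % 2 = 0) = false := by rw [hk]; rfl
  rw [e0, e1, e2]
  congr 1
  unfold nx
  rw [dif_pos (by simp only; omega)]

theorem iu_fr {k : Fin (2 * ((n - 2) / 2))} {l : Fin (2 * (n / 2))} (hkl : (l : ℕ) = k + 2) :
    iu n 2 (fr (n - 2) k) = fr n l := by
  unfold fr
  rw [iu_rt]
  have h1 := k.2
  have e0 : ups n 2 (i0 k, true) = (i0 l, true) := by
    refine Prod.ext (Fin.ext ?_) rfl
    change ((i0 k : ℕ)) + 2 = _
    rw [i0_val, i0_val, hkl]
    omega
  have e1 : ups n 2 (i1 k, decide ((k : ℕ) % 2 = 0)) = (i1 l, decide ((l : ℕ) % 2 = 0)) := by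
    refine Prod.ext (Fin.ext ?_) ?_
    · change ((i1 k : ℕ)) + 2 = _
      rw [i1_val, i1_val, hkl]
      omega
    · change decide ((k : ℕ) % 2 = 0) = _
      rw [hkl]
      have : ((k : ℕ) + 2) % 2 = (k : ℕ) % 2 := by omega
      rw [this]
  rw [e0, e1]

/-- **(R2)** the roots supported by `orth (ε_0 + ε_1)` are `± α_0` and those of the block. -/
theorem eq_or_of_orth {x : Fin n → ℤ} (hx : IsRoot cs (isCartan n) x) (hn : 2 ≤ n)
    (h1 : x ⟨1, by omega⟩ = 0) :
    (x = sr ⟨0, by omega⟩ ∨ x = -sr ⟨0, by omega⟩) ∨ ∃ c, x = iu n 2 c := by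
  obtain ⟨a, b, hab, rfl⟩ := exists_rt hx
  have h2 : ee (rt a b) ⟨0, by omega⟩ = rt a b ⟨0, by omega⟩ := by
    rw [ee_apply_zero _ rfl, cc, if_pos (by simp only; omega), one_mul]
  have h3 : ee (rt a b) ⟨1, by omega⟩ = -rt a b ⟨0, by omega⟩ := by
    rw [ee_apply_succ (j := ⟨0, by omega⟩) _ rfl, h1, mul_zero, zero_sub]
  by_cases h0 : rt a b ⟨0, by omega⟩ = 0
  · right
    rw [h0] at h2 h3
    rw [neg_zero] at h3
    have key : ∀ a b : Fin n × Bool, Ok a b → ee (rt a b) ⟨0, by omega⟩ = 0 → ee (rt a b) ⟨1, by omega⟩ = 0 →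
        2 ≤ (a.1 : ℕ) := by
      intro a b hab h2 h3
      by_contra hcon
      have h4 : a.1 = ⟨0, by omega⟩ ∨ a.1 = ⟨1, by omega⟩ := by
        rw [Fin.ext_iff, Fin.ext_iff]; simp only; omega
      have h5 : ee (rt a b) a.1 = 0 := by
        rcases h4 with h | h <;> rw [h] <;> assumption
      rw [ee_rt, Pi.add_apply, wt_apply_self] at h5
      rcases hab with hab | rfl
      · rw [wt_apply_ne hab] at h5
        rcases sn_eq_one_or a with h | h <;> omega
      · rw [wt_apply_self] at h5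
        rcases sn_eq_one_or a with h | h <;> omega
    obtain ⟨a', rfl⟩ := exists_ups (key a b hab h2 h3)
    obtain ⟨b', rfl⟩ := exists_ups (key b _ hab.symm (by rw [rt_comm]; exact h2) (by rw [rt_comm]; exact h3))
    exact ⟨rt a' b', (iu_rt n 2 a' b').symm⟩
  · left
    have key : ∀ a b : Fin n × Bool, Ok a b → (a.1 : ℕ) = 0 → ee (rt a b) ⟨1, by omega⟩ = -ee (rt a b) ⟨0, by omega⟩ →
        rt a b = sr ⟨0, by omega⟩ ∨ rt a b = -sr ⟨0, by omega⟩ := by
      intro a b hab ha e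
      have ha0 : a.1 = ⟨0, by omega⟩ := Fin.ext ha
      have h01 : (⟨1, by omega⟩ : Fin n) ≠ a.1 := by rw [ha0, Ne, Fin.ext_iff]; simp
      have hab' : a.1 ≠ b.1 := by
        rcases hab with h | rfl
        · exact h
        · exfalso
          rw [ee_rt, Pi.add_apply, Pi.add_apply, wt_apply_ne h01, ← ha0, wt_apply_self] at e
          rcases sn_eq_one_or a with h | h <;> omega
      rw [ee_rt, Pi.add_apply, Pi.add_apply, wt_apply_ne h01, ← ha0, wt_apply_self, wt_apply_ne hab'] at e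
      have hb : b.1 = ⟨1, by omega⟩ := by
        by_contra hne
        rw [wt_apply_ne (Ne.symm hne)] at e
        rcases sn_eq_one_or a with h | h <;> omega
      rw [← hb, wt_apply_self] at e
      have hs : sr (⟨0, by omega⟩ : Fin n) = rt (⟨0, by omega⟩, true) (⟨1, by omega⟩, false) := by
        rw [sr_eq_rt]
        congr 1
        unfold nx
        rw [dif_pos (by simp only; omega)]
      rw [hs]
      rcases sn_eq_one_or a with h | h
      · left
        have e1 : a = (⟨0, by omega⟩, true) := Prod.ext ha0 (sn_eq_one_iff.1 h)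
        have e2 : b = (⟨1, by omega⟩, false) := by
          refine Prod.ext hb ?_
          have : sn b = -1 := by omega
          unfold sn at this
          split_ifs at this with h'
          · exact eq_false_of_ne_true h'
        rw [e1, e2]
      · right
        rw [← rt_ng]
        have e1 : a = (⟨0, by omega⟩, false) := by
          refine Prod.ext ha0 ?_
          unfold sn at h
          split_ifs at h with h'
          · exact eq_false_of_ne_true h'
        have e2 : b = (⟨1, by omega⟩, true) := Prod.ext hb (sn_eq_one_iff.1 (by omega))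
        rw [e1, e2]
        rfl
    have h4 : (a.1 : ℕ) = 0 ∨ (b.1 : ℕ) = 0 := by
      by_contra hcon
      push Not at hcon
      rw [ee_rt, Pi.add_apply, wt_apply_ne, wt_apply_ne] at h2
      · exact h0 (by rw [← h2]; norm_num)
      · exact fun e => hcon.2 (congrArg Fin.val e).symm
      · exact fun e => hcon.1 (congrArg Fin.val e).symm
    rcases h4 with h4 | h4
    · exact key a b hab h4 (by rw [h3, h2])
    · have := key b a hab.symm h4 (by rw [rt_comm b a, h3, h2])
      rwa [rt_comm b a] at this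

/-- **(R3)** partners act equally on the root groups. -/
theorem partner_iff [Finite W] {y : Fin n → ℤ} (hy : IsRoot cs (isCartan n) y) (k : Fin (2 * (n / 2))) :
    (cpr cs (isCartan n) y (fr n k) ≠ 0 ∧ y ≠ fr n k ∧ y ≠ -fr n k) ↔
      (cpr cs (isCartan n) y (fr n (pt k)) ≠ 0 ∧ y ≠ fr n (pt k) ∧ y ≠ -fr n (pt k)) := by
  have key : ∀ k : Fin (2 * (n / 2)), (cpr cs (isCartan n) y (fr n k) ≠ 0 ∧ y ≠ fr n k ∧ y ≠ -fr n k) →
      (cpr cs (isCartan n) y (fr n (pt k)) ≠ 0 ∧ y ≠ fr n (pt k) ∧ y ≠ -fr n (pt k)) := by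
    rintro k ⟨h1, h2, h3⟩
    have hne : y ≠ fr n (pt k) ∧ y ≠ -fr n (pt k) := by
      constructor
      · rintro rfl
        exact h1 (cpr_fr_fr cs (pt_ne k))
      · rintro rfl
        exact h1 (by rw [cpr_neg cs _ _ (isRoot_fr cs k), cpr_fr_fr cs (pt_ne k), neg_zero])
    refine ⟨fun h4 => ?_, hne⟩
    -- the two coordinates of `y` agree up to sign
    obtain ⟨a, b, hab, rfl⟩ := exists_rt hy
    rw [cpr_fr, i0_pt, i1_pt, sgn_pt] at h4
    rw [cpr_fr] at h1
    have hi : ∀ a b : Fin n × Bool, Ok a b → a.1 = i0 k → ee (rt a b) (i0 k) + -sgn k * ee (rt a b) (i1 k) = 0 →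
        rt a b = fr n k ∨ rt a b = -fr n k := by
      intro a b hab ha e
      have hne : i1 k ≠ a.1 := by rw [ha]; exact (i0_ne_i1 k k).symm
      have hsk := sgn_mul_self k
      have hab' : a.1 ≠ b.1 := by
        rcases hab with h | rfl
        · exact h
        · exfalso
          rw [ee_rt, Pi.add_apply, Pi.add_apply, wt_apply_ne hne, ← ha, wt_apply_self] at e
          rcases sn_eq_one_or a with h | h <;> rw [h] at e <;> norm_num at e
      rw [ee_rt, Pi.add_apply, Pi.add_apply, wt_apply_ne hne, ← ha, wt_apply_self, wt_apply_ne hab', add_zero,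
        zero_add] at e
      have hb : b.1 = i1 k := by
        by_contra hne'
        rw [wt_apply_ne (Ne.symm hne')] at e
        rcases sn_eq_one_or a with h | h <;> rw [h] at e <;> norm_num at e
      rw [← hb, wt_apply_self] at e
      have e1 : sn a = sgn k * sn b := by linarith
      rcases sn_eq_one_or a with h | h
      · left
        have ea : a = (i0 k, true) := Prod.ext ha (sn_eq_one_iff.1 h)
        have eb : b = (i1 k, decide ((k : ℕ) % 2 = 0)) := by
          refine Prod.ext hb ?_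
          rw [h] at e1
          unfold sgn sn at e1
          by_cases hk : (k : ℕ) % 2 = 0
          · rw [if_pos hk] at e1
            have : b.2 = true := by by_contra hb2; rw [if_neg hb2] at e1; norm_num at e1
            rw [this, decide_eq_true hk]
          · rw [if_neg hk] at e1
            have : b.2 = false := by
              by_contra hb2
              rw [Bool.not_eq_false] at hb2
              rw [if_pos hb2] at e1; norm_num at e1
            rw [this, decide_eq_false hk]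
        rw [ea, eb]; rfl
      · right
        have ea : a = ng (i0 k, true) := sn_sn_ng' (b := (i0 k, true)) ha (by rw [h]; simp [sn])
        have eb : b = ng (i1 k, decide ((k : ℕ) % 2 = 0)) := by
          apply sn_sn_ng' (b := (i1 k, decide ((k : ℕ) % 2 = 0))) hb
          rw [h] at e1
          have h5 : sn ((i1 k, decide ((k : ℕ) % 2 = 0)) : Fin n × Bool) = sgn k := by
            simp only [sn, sgn, decide_eq_true_eq]
          rw [h5, mul_comm]
          exact e1.symm
        rw [ea, eb, rt_ng]; rfl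
    have hj : ∀ a b : Fin n × Bool, Ok a b → a.1 = i1 k → ee (rt a b) (i0 k) + -sgn k * ee (rt a b) (i1 k) = 0 →
        b.1 = i0 k := by
      intro a b hab ha e
      have hne : i0 k ≠ a.1 := by rw [ha]; exact i0_ne_i1 k k
      have hsk := sgn_mul_self k
      by_contra hb
      rw [ee_rt, Pi.add_apply, Pi.add_apply, wt_apply_ne hne, wt_apply_ne (Ne.symm hb), ← ha, wt_apply_self] at e
      have hs : sgn k = 1 ∨ sgn k = -1 := by unfold sgn; split_ifs <;> simp
      rcases hab with hab | rfl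
      · rw [wt_apply_ne hab] at e
        rcases sn_eq_one_or a with h | h <;> rcases hs with h' | h' <;> rw [h, h'] at e <;> norm_num at e
      · rw [wt_apply_self] at e
        rcases sn_eq_one_or a with h | h <;> rcases hs with h' | h' <;> rw [h, h'] at e <;> norm_num at e
    have hcase : a.1 = i0 k ∨ b.1 = i0 k := by
      by_contra hcon
      push Not at hcon
      have ha1 : a.1 ≠ i1 k := fun e => hcon.2 (hj a b hab e h4)
      have hb1 : b.1 ≠ i1 k := fun e => hcon.1 (hj b a hab.symm e (by rw [rt_comm b a]; exact h4))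
      apply h1
      rw [ee_rt, Pi.add_apply, Pi.add_apply, wt_apply_ne (Ne.symm hcon.1), wt_apply_ne (Ne.symm hcon.2),
        wt_apply_ne ha1.symm, wt_apply_ne hb1.symm]
      ring
    rcases hcase with h | h
    · rcases hi a b hab h h4 with h5 | h5
      · exact h2 h5
      · exact h3 h5
    · rcases hi b a hab.symm h (by rw [rt_comm b a]; exact h4) with h5 | h5
      · exact h2 (by rw [rt_comm a b]; exact h5)
      · exact h3 (by rw [rt_comm a b]; exact h5)
  constructor
  · exact key k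
  · intro h
    have := key (pt k) h
    rwa [pt_pt] at this

/-- The coordinates of a root outside `a`, `b` vanish. -/
theorem cpr_fr_eq_zero [Finite W] {a b : Fin n × Bool} {k : Fin (2 * (n / 2))} (h0 : i0 k ≠ a.1) (h1 : i1 k ≠ a.1)
    (h2 : i0 k ≠ b.1) (h3 : i1 k ≠ b.1) : cpr cs (isCartan n) (rt a b) (fr n k) = 0 := by
  rw [cpr_fr, ee_rt, Pi.add_apply, Pi.add_apply, wt_apply_ne h0, wt_apply_ne h1, wt_apply_ne h2, wt_apply_ne h3]
  ring

/-- **(R4)** for `n ≥ 6` every root is orthogonal to a member of the frame. -/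
theorem exists_orth_of_six [Finite W] (hn : 6 ≤ n) {y : Fin n → ℤ} (hy : IsRoot cs (isCartan n) y) :
    ∃ k, cpr cs (isCartan n) y (fr n k) = 0 := by
  obtain ⟨a, b, hab, rfl⟩ := exists_rt hy
  obtain ⟨c, hc, h1, h2⟩ : ∃ c < 3, (a.1 : ℕ) / 2 ≠ c ∧ (b.1 : ℕ) / 2 ≠ c := by
    by_cases h0 : (a.1 : ℕ) / 2 ≠ 0 ∧ (b.1 : ℕ) / 2 ≠ 0
    · exact ⟨0, by norm_num, h0⟩
    by_cases h1 : (a.1 : ℕ) / 2 ≠ 1 ∧ (b.1 : ℕ) / 2 ≠ 1
    · exact ⟨1, by norm_num, h1⟩
    · exact ⟨2, by norm_num, by omega, by omega⟩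
  have hk : 2 * c < 2 * (n / 2) := by omega
  refine ⟨⟨2 * c, hk⟩, cpr_fr_eq_zero cs ?_ ?_ ?_ ?_⟩ <;>
  · rw [Ne, Fin.ext_iff]
    first | rw [i0_val] | rw [i1_val]
    simp only
    omega

/-- For `n ≥ 4` a root whose two indices do not belong to different pairs is orthogonal to a member. -/
theorem exists_orth_of_pair [Finite W] (hn : 4 ≤ n) {a b : Fin n × Bool}
    (hab : (a.1 : ℕ) / 2 = (b.1 : ℕ) / 2 ∨ 2 * (n / 2) ≤ (a.1 : ℕ) ∨ 2 * (n / 2) ≤ (b.1 : ℕ)) :
    ∃ k, cpr cs (isCartan n) (rt a b) (fr n k) = 0 := by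
  have ha := a.1.2
  have hb := b.1.2
  obtain ⟨c, hc, h1, h2⟩ : ∃ c < 2, (a.1 : ℕ) / 2 ≠ c ∧ (b.1 : ℕ) / 2 ≠ c := by
    by_cases h0 : (a.1 : ℕ) / 2 ≠ 0 ∧ (b.1 : ℕ) / 2 ≠ 0
    · exact ⟨0, by norm_num, h0⟩
    · exact ⟨1, by norm_num, by omega, by omega⟩
  have hk : 2 * c < 2 * (n / 2) := by omega
  refine ⟨⟨2 * c, hk⟩, cpr_fr_eq_zero cs ?_ ?_ ?_ ?_⟩ <;>
  · rw [Ne, Fin.ext_iff]
    first | rw [i0_val] | rw [i1_val]
    simp only
    omega

/-- The long roots of `TypeC` (the short roots of `B n`) are orthogonal to members. -/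
theorem exists_orth_RC [Finite W] (hn : 4 ≤ n) {x : Fin n → ℤ} (hx : x ∈ RC n) :
    ∃ k, cpr cs (isCartan n) x (fr n k) = 0 := by
  obtain ⟨a, rfl⟩ := mem_RC.1 hx
  exact exists_orth_of_pair cs hn (Or.inl rfl)

/-- **(R4)** for `n ≥ 4`: a root which is not orthogonal to a member of the frame is `rt a b` with `a`, `b` in
different pairs, `2 rt a b = rt a a + rt b b`. -/
theorem exists_half [Finite W] (hn : 4 ≤ n) {y : Fin n → ℤ} (hy : IsRoot cs (isCartan n) y)
    (h : ∀ k, cpr cs (isCartan n) y (fr n k) ≠ 0) :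
    ∃ a b, a.1 ≠ b.1 ∧ y = rt a b ∧ (2 : ℤ) • y = rt a a + rt b b := by
  obtain ⟨a, b, hab | rfl, rfl⟩ := exists_rt hy
  · refine ⟨a, b, hab, rfl, ?_⟩
    apply ee_injective
    rw [ee_add, ee_smul, ee_rt, ee_rt, ee_rt, two_smul]
    abel
  · obtain ⟨k, hk⟩ := exists_orth_of_pair cs hn (a := a) (b := a) (Or.inl rfl)
    exact absurd hk (h k)

theorem wt_ng_add (a : Fin n × Bool) : wt a + wt (ng a) = 0 := by rw [wt_ng]; abel

/-- Decomposition of `rt a b` over a third index. -/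
theorem rt_eq_add (a b c : Fin n × Bool) : rt a b = rt a c + rt b (ng c) := by
  apply ee_injective
  rw [ee_add, ee_rt, ee_rt, ee_rt, wt_ng]
  abel

/-- **(R4)** for `n ≥ 5`: every root is orthogonal to a member of the frame or the sum of two roots of `RB n` with
this property. -/
theorem exists_add [Finite W] (hn : 5 ≤ n) {y : Fin n → ℤ} (hy : IsRoot cs (isCartan n) y) :
    (∃ k, cpr cs (isCartan n) y (fr n k) = 0) ∨ ∃ r ∈ RB n, ∃ s ∈ RB n, y = r + s ∧ y ∈ RB n ∧
      (∃ k, cpr cs (isCartan n) r (fr n k) = 0) ∧ ∃ k, cpr cs (isCartan n) s (fr n k) = 0 := by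
  rcases Nat.lt_or_ge n 6 with h6 | h6
  · have h5 : n = 5 := by omega
    subst h5
    by_cases h : ∀ k, cpr cs (isCartan 5) y (fr 5 k) ≠ 0
    · right
      obtain ⟨a, b, hab, rfl, -⟩ := exists_half cs (by norm_num) hy h
      have ha : (a.1 : ℕ) < 4 := by
        by_contra hcon
        obtain ⟨k, hk⟩ := exists_orth_of_pair cs (by norm_num) (a := a) (b := b) (Or.inr (Or.inl (by omega)))
        exact h k hk
      have hb : (b.1 : ℕ) < 4 := by
        by_contra hcon
        obtain ⟨k, hk⟩ := exists_orth_of_pair cs (by norm_num) (a := a) (b := b) (Or.inr (Or.inr (by omega)))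
        exact h k hk
      let e : Fin 5 × Bool := (4, true)
      have hae : a.1 ≠ e.1 := by intro h0; rw [h0] at ha; exact absurd ha (by decide)
      have hbe : b.1 ≠ (ng e).1 := by intro h0; rw [h0] at hb; exact absurd hb (by decide)
      refine ⟨rt a e, rt_mem_RB hae, rt b (ng e), rt_mem_RB hbe, rt_eq_add a b e, rt_mem_RB hab,
        exists_orth_of_pair cs (by norm_num) (Or.inr (Or.inr (by decide))),
        exists_orth_of_pair cs (by norm_num) (Or.inr (Or.inr (by decide)))⟩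
    · left
      push Not at h
      exact h
  · exact Or.inl (exists_orth_of_six cs h6 hy)

end

/-- **(R3)** product relations: for a function `ζ` on `RB n` with commuting values of exponent `2`, even and additive,
`ζ (ε_i + ε_j) ζ (ε_i - ε_j)` does not depend on `i`, `j`. -/
theorem zeta_eq {Y : Type*} [Group Y] (ζ : (Fin n → ℤ) → Y)
    (hcomm : ∀ r ∈ RB n, ∀ s ∈ RB n, ζ r * ζ s = ζ s * ζ r) (hsq : ∀ r ∈ RB n, ζ r * ζ r = 1)
    (hneg : ∀ r ∈ RB n, ζ (-r) = ζ r)
    (hadd : ∀ r ∈ RB n, ∀ s ∈ RB n, r + s ∈ RB n → ζ (r + s) = ζ r * ζ s) {i j k l : Fin n} (hij : i ≠ j)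
    (hkl : k ≠ l) :
    ζ (rt (i, true) (j, true)) * ζ (rt (i, true) (j, false)) =
      ζ (rt (k, true) (l, true)) * ζ (rt (k, true) (l, false)) := by
  have hm : ∀ {i j : Fin n} (s t : Bool), i ≠ j → rt (i, s) (j, t) ∈ RB n := fun s t h => rt_mem_RB h
  have hng : ∀ i j : Fin n, i ≠ j → ζ (rt (i, true) (j, false)) = ζ (rt (j, true) (i, false)) := by
    intro i j hij
    have h1 : rt (i, true) (j, false) = -rt (j, true) (i, false) := by
      rw [← rt_ng, rt_comm]; rfl
    rw [h1, hneg _ (hm _ _ hij.symm)]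
  have symm : ∀ i j : Fin n, i ≠ j → ζ (rt (i, true) (j, true)) * ζ (rt (i, true) (j, false)) =
      ζ (rt (j, true) (i, true)) * ζ (rt (j, true) (i, false)) := by
    intro i j hij
    rw [rt_comm (i, true) (j, true), hng i j hij]
  have step : ∀ i j k : Fin n, i ≠ j → i ≠ k → j ≠ k →
      ζ (rt (i, true) (j, true)) * ζ (rt (i, true) (j, false)) =
        ζ (rt (i, true) (k, true)) * ζ (rt (i, true) (k, false)) := by
    intro i j k hij hik hjk
    have e1 : ζ (rt (i, true) (j, true)) = ζ (rt (i, true) (k, true)) * ζ (rt (j, true) (k, false)) := by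
      have h1 := rt_eq_add (i, true) (j, true) ((k, true) : Fin n × Bool)
      have h2 := hadd _ (hm true true hik) (rt (j, true) (ng (k, true))) (rt_mem_RB hjk)
        (by rw [← h1]; exact hm _ _ hij)
      rw [← h1] at h2
      exact h2
    have e2 : ζ (rt (i, true) (j, false)) = ζ (rt (i, true) (k, false)) * ζ (rt (j, true) (k, false)) := by
      have h1 := rt_eq_add (i, true) (j, false) ((k, false) : Fin n × Bool)
      have h2 := hadd _ (hm true false hik) (rt (j, false) (ng (k, false))) (rt_mem_RB hjk)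
        (by rw [← h1]; exact hm _ _ hij)
      rw [← h1] at h2
      rw [h2]
      congr 1
      have h3 : rt (j, false) (ng (k, false)) = -rt (j, true) ((k, false) : Fin n × Bool) := by
        rw [← rt_ng]; rfl
      rw [h3, hneg _ (hm _ _ hjk)]
    have h4 := hcomm _ (hm true false hjk) _ (hm true false hik)
    have h5 := hsq _ (hm true false hjk)
    rw [e1, e2, mul_assoc, ← mul_assoc (ζ (rt (j, true) (k, false))), h4, mul_assoc (ζ (rt (i, true) (k, false))), h5,
      mul_one]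
  have step' : ∀ i j k : Fin n, i ≠ j → i ≠ k →
      ζ (rt (i, true) (j, true)) * ζ (rt (i, true) (j, false)) =
        ζ (rt (i, true) (k, true)) * ζ (rt (i, true) (k, false)) := by
    intro i j k hij hik
    by_cases hjk : j = k
    · rw [hjk]
    · exact step i j k hij hik hjk
  by_cases hki : k = i
  · subst hki
    exact step' k j l hij hkl
  · rw [step' k l i hkl hki, symm k i hki, step' i j k hij (Ne.symm hki)]

/-- **(R2)**: the block of `ε_0 + ε_1` of kind `B (n-2)` (`c = 2`). -/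
theorem cls_block {W W' Y : Type*} [Group W] [Fintype W] [Group W'] [Fintype W'] [Group Y]
    {cs : CoxeterSystem (CoxeterMatrix.B n) W} {p : ℕ} {T : Subgroup Y} {ν : Fin n → Y}
    {X Z : (Fin n → ℤ) → Subgroup Y} {z : (Fin n → ℤ) → Y} (C : Cls cs (isCartan n) p T ν X (RB n) Z z) (c : ℕ)
    (cs' : CoxeterSystem (CoxeterMatrix.B (n - c)) W') :
    Cls cs' (isCartan (n - c)) p T (fun j => ν (up n c j)) (fun x => X (iu n c x)) (RB (n - c))
      (fun x => Z (iu n c x)) (fun x => z (iu n c x)) :=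
  cls_levi_std C (up n c) (matrix_up n c) (A_up n c) cs' (isCartan (n - c)) (fun _ hc => root_RB cs' hc)
    fun _ => iu_mem_RB

/-! ### The kind `B 2` -/

section Two

open Cfsg.Agent.Nodes.Relabel

/-- The transposed Cartan matrix. -/
def A2 (i j : Fin 2) : ℤ := TypeC.A 2 j i

theorem isCartan_A2 : IsCartan (CoxeterMatrix.B 2) A2 where
  diag i := (isCartan 2).diag i
  rel i j hij := by
    have h1 := (isCartan 2).rel j i hij.symm
    rw [(CoxeterMatrix.B 2).symmetric j i] at h1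
    exact h1

/-- The scaling. -/
def d2 (i : Fin 2) : ℤ := if i = 0 then 2 else 1

theorem scal2 : Scal (TypeC.A 2) A2 d2 := by
  refine ⟨fun i => ?_, fun i j => ?_⟩
  · unfold d2; split_ifs <;> norm_num
  · unfold A2
    rw [A_apply, A_apply]
    fin_cases i <;> fin_cases j <;> simp [d2]

/-- The transposition of the nodes. -/
def sw2 : Fin 2 ↪ Fin 2 := (Equiv.swap (0 : Fin 2) 1).toEmbedding

theorem sw2_zero : sw2 0 = 1 := rfl
theorem sw2_one : sw2 1 = 0 := rfl

theorem matrix_sw2 (i j : Fin 2) : CoxeterMatrix.B 2 (sw2 i) (sw2 j) = CoxeterMatrix.B 2 i j := by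
  fin_cases i <;> fin_cases j <;> rfl

theorem A_sw2 (i j : Fin 2) : A2 (sw2 i) (sw2 j) = TypeC.A 2 i j := by
  unfold A2
  rw [A_apply, A_apply]
  fin_cases i <;> fin_cases j <;> simp [sw2_zero, sw2_one]

/-- The map of coordinates from `C 2` to `A2`. -/
def is2 : (Fin 2 → ℤ) →ₗ[ℤ] (Fin 2 → ℤ) := iota (fun j => sr (sw2 j))

theorem is2_apply (c : Fin 2 → ℤ) (j : Fin 2) : is2 c (sw2 j) = c j := iota_levi_apply sw2 c j

theorem dl_is2_zero (c : Fin 2 → ℤ) : dl d2 (is2 c) 0 = 2 * c 1 := by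
  rw [dl_apply]
  have h1 := is2_apply c 1
  rw [sw2_one] at h1
  rw [h1]; rfl

theorem dl_is2_one (c : Fin 2 → ℤ) : dl d2 (is2 c) 1 = c 0 := by
  rw [dl_apply]
  have h1 := is2_apply c 0
  rw [sw2_zero] at h1
  rw [h1]
  change 1 * c 0 = c 0
  ring

theorem ee2_zero (x : Fin 2 → ℤ) : ee x 0 = x 0 := by
  rw [ee_apply_zero x (k := 0) rfl]
  change 1 * x 0 = x 0
  ring

theorem ee2_one (x : Fin 2 → ℤ) : ee x 1 = 2 * x 1 - x 0 := by
  rw [ee_apply_succ x (k := 1) (j := 0) rfl]
  rfl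

/-- `(c_1', c_0')` in `ε`-coordinates. -/
theorem ee_dl_is2_zero (c : Fin 2 → ℤ) : ee (dl d2 (is2 c)) 0 = ee c 0 + ee c 1 := by
  rw [ee2_zero, dl_is2_zero, ee2_zero, ee2_one]
  ring

theorem ee_dl_is2_one (c : Fin 2 → ℤ) : ee (dl d2 (is2 c)) 1 = ee c 0 - ee c 1 := by
  rw [ee2_one, dl_is2_zero, dl_is2_one, ee2_zero, ee2_one]
  ring

theorem ip2 (u : Fin 2 → ℤ) : ip u u = u 0 * u 0 + u 1 * u 1 := by
  unfold ip
  rw [Fin.sum_univ_two]

theorem ip_dl_is2 (c : Fin 2 → ℤ) : ip (ee (dl d2 (is2 c))) (ee (dl d2 (is2 c))) = 2 * ip (ee c) (ee c) := by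
  rw [ip2, ip2, ee_dl_is2_zero, ee_dl_is2_one]
  ring

section

variable {W W' : Type*} [Group W] [Finite W] (cs : CoxeterSystem (CoxeterMatrix.B 2) W)
  [Group W'] (cs' : CoxeterSystem (CoxeterMatrix.B 2) W')

/-- The roots correspond. -/
theorem isRoot_is2 {c : Fin 2 → ℤ} : IsRoot cs isCartan_A2 (is2 c) ↔ IsRoot cs' (isCartan 2) c := by
  have h1 := mem_RootsJ_range_iff' (cs := cs) (h := isCartan_A2) (x := is2 c) sw2 matrix_sw2 A_sw2 cs' (isCartan 2)
  constructor
  · intro hc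
    obtain ⟨d, hd, e⟩ := h1.1 ⟨hc, fun k hk => absurd (by
      refine ⟨sw2 k, ?_⟩
      fin_cases k <;> rfl) hk⟩
    have : c = d := by
      funext j
      rw [← is2_apply c j, e]
      exact is2_apply d j
    rw [this]
    exact hd
  · intro hc
    exact (h1.2 ⟨c, hc, rfl⟩).1

theorem ray_norm {x c : Fin 2 → ℤ} (hx : Ray cs (isCartan 2) d2 x (is2 c)) : ∃ m n : ℤ, 0 < m ∧ 0 < n ∧
    m * m * ip (ee x) (ee x) = 2 * (n * n) * ip (ee c) (ee c) := by
  obtain ⟨-, m, n, hm, hn, e⟩ := hx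
  refine ⟨m, n, hm, hn, ?_⟩
  have h1 : ip (ee (m • x)) (ee (m • x)) = ip (ee (n • dl d2 (is2 c))) (ee (n • dl d2 (is2 c))) := by rw [e]
  rw [ee_smul, ee_smul, ip_smul_left, ip_smul_right, ip_smul_left, ip_smul_right, ip_dl_is2] at h1
  linarith

/-- The classical roots correspond. -/
theorem is2_mem_relR {c : Fin 2 → ℤ} : is2 c ∈ relR cs (isCartan 2) isCartan_A2 d2 (RB 2) ↔ c ∈ RC 2 := by
  constructor
  · rintro ⟨hc, x, hx, hxc⟩
    have hc' := (isRoot_is2 cs cs).1 hc
    rw [mem_RC_iff_ip cs hc']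
    rcases (isRoot_iff_mem cs).1 hc' with h1 | h1
    · exfalso
      obtain ⟨m, n, hm, hn, e⟩ := ray_norm cs hxc
      rw [(mem_RB_iff_ip cs (root_RB cs hx)).1 hx, (mem_RB_iff_ip cs hc').1 h1] at e
      -- `m² = 2 n²`
      have h2 : m * m = 2 * (n * n) := by linarith
      have h3 : IsSquare (2 : ℤ) := by
        have h4 : ((m : ℚ) / n) * ((m : ℚ) / n) = 2 := by
          have hn' : (n : ℚ) ≠ 0 := by exact_mod_cast hn.ne'
          field_simp
          have : ((m * m : ℤ) : ℚ) = ((2 * (n * n) : ℤ) : ℚ) := by rw [h2]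
          push_cast at this
          linarith
        have h5 : IsSquare ((2 : ℤ) : ℚ) := ⟨(m : ℚ) / n, by rw [h4]; norm_num⟩
        exact Rat.isSquare_intCast_iff.1 h5
      obtain ⟨r, hr⟩ := h3
      have : r * r = 2 := hr.symm
      have h6 : r ≤ 1 ∨ 2 ≤ r := by omega
      have h7 : -1 ≤ r ∨ r ≤ -2 := by omega
      rcases h6 with h6 | h6 <;> rcases h7 with h7 | h7 <;> nlinarith
    · exact (mem_RC_iff_ip cs hc').1 h1
  · intro hc
    have hr := root_RC cs hc
    refine ⟨(isRoot_is2 cs cs).2 hr, ?_⟩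
    obtain ⟨x, hx⟩ := exists_ray scal2 (cs := cs) (h := isCartan 2) ((isRoot_is2 cs cs).2 hr)
    refine ⟨x, ?_, hx⟩
    rcases (isRoot_iff_mem cs).1 hx.1 with h1 | h1
    · exact h1
    · exfalso
      obtain ⟨m, n, hm, hn, e⟩ := ray_norm cs hx
      rw [(mem_RC_iff_ip cs hx.1).1 h1, (mem_RC_iff_ip cs hr).1 hc] at e
      have h2 : m * m = 2 * (n * n) := by linarith
      have h3 : IsSquare (2 : ℤ) := by
        have h4 : ((m : ℚ) / n) * ((m : ℚ) / n) = 2 := by
          have hn' : (n : ℚ) ≠ 0 := by exact_mod_cast hn.ne'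
          field_simp
          have : ((m * m : ℤ) : ℚ) = ((2 * (n * n) : ℤ) : ℚ) := by rw [h2]
          push_cast at this
          linarith
        have h5 : IsSquare ((2 : ℤ) : ℚ) := ⟨(m : ℚ) / n, by rw [h4]; norm_num⟩
        exact Rat.isSquare_intCast_iff.1 h5
      obtain ⟨r, hr⟩ := h3
      have : r * r = 2 := hr.symm
      have h6 : r ≤ 1 ∨ 2 ≤ r := by omega
      have h7 : -1 ≤ r ∨ r ≤ -2 := by omega
      rcases h6 with h6 | h6 <;> rcases h7 with h7 | h7 <;> nlinarith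

/-- The frames correspond: `fr 2 0 = ε_0 + ε_1` is on the ray of `2ε_0`. -/
theorem ray_zero : Ray cs (isCartan 2) d2 (fr 2 0) (is2 (rt (0, true) (0, true))) := by
  refine ⟨isRoot_fr cs _, 2, 1, by norm_num, by norm_num, ?_⟩
  apply ee_injective
  rw [ee_smul, one_smul]
  funext k
  fin_cases k
  · change 2 * ee (fr 2 0) 0 = ee (dl d2 (is2 _)) 0
    rw [ee_dl_is2_zero, ee_rt, ee_fr]
    simp [wt_apply, i0, i1]
  · change 2 * ee (fr 2 0) 1 = ee (dl d2 (is2 _)) 1
    rw [ee_dl_is2_one, ee_rt, ee_fr]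
    simp [wt_apply, i0, i1]

/-- `fr 2 1 = ε_0 - ε_1` is on the ray of `2ε_1`. -/
theorem ray_one : Ray cs (isCartan 2) d2 (fr 2 1) (is2 (rt (1, true) (1, true))) := by
  refine ⟨isRoot_fr cs _, 2, 1, by norm_num, by norm_num, ?_⟩
  apply ee_injective
  rw [ee_smul, one_smul]
  funext k
  fin_cases k
  · change 2 * ee (fr 2 1) 0 = ee (dl d2 (is2 _)) 0
    rw [ee_dl_is2_zero, ee_rt, ee_fr]
    simp [wt_apply, i0, i1]
  · change 2 * ee (fr 2 1) 1 = ee (dl d2 (is2 _)) 1
    rw [ee_dl_is2_one, ee_rt, ee_fr]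
    simp [wt_apply, i0, i1]

end

/-- **The kind `B 2` is the kind `C 2`**: the root `ε_0 + ε_1` becomes `2ε_0`, `ε_0 - ε_1` becomes `2ε_1`
(see `relX_eq`, `ray_zero`, `ray_one`). -/
theorem cls_two {W W' Y : Type*} [Group W] [Fintype W] [Group W'] [Fintype W'] [Group Y]
    {cs : CoxeterSystem (CoxeterMatrix.B 2) W} {p : ℕ} {T : Subgroup Y} {ν : Fin 2 → Y}
    {X Z : (Fin 2 → ℤ) → Subgroup Y} {z : (Fin 2 → ℤ) → Y} (C : Cls cs (isCartan 2) p T ν X (RB 2) Z z)
    (cs' : CoxeterSystem (CoxeterMatrix.B 2) W') :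
    Cls cs' (isCartan 2) p T (fun j => ν (sw2 j)) (fun x => relX cs (isCartan 2) d2 X (is2 x)) (RC 2)
      (fun x => relX cs (isCartan 2) d2 Z (is2 x)) (fun x => relz cs (isCartan 2) d2 z (is2 x)) :=
  cls_levi_std (cls_relabel scal2 isCartan_A2 C) sw2 matrix_sw2 A_sw2 cs' (isCartan 2)
    (fun _ hc => root_RC cs' hc) fun _ => is2_mem_relR cs

end Two

end Cfsg.Agent.Nodes.KindB
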