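import Mathlib
import Cfsg.Agent.Nodes.KindBC
import Cfsg.Agent.Nodes.LeviStd

/-!
The kind `C n` (project CIT, ruling 5 (B3)): `Sp_{2n}`, `SU_{2n}`, `SU_{2n+1}`; classical roots `RC n` (`± 2ε_i`).

* `fr n k` : the frame `2ε_k`; `frameSys` (R1); `dom_fr`, `orth_fr`;
* `cls_block` (R2): the block of the roots orthogonal to `2ε_0` is of kind `C (n-1)`; `iu_fr`;
* `parity` (R3), `exists_orth` (R4).
-/

set_option autoImplicit false
set_option linter.unusedSectionVars false

namespace Cfsg.Agent.Nodes.KindC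

open CoxeterSystem Cfsg.Agent.ChevalleyStructure.CoxeterGeom Cfsg.Agent.Tits.Roots Cfsg.Agent.Tits.Core
  Cfsg.Agent.Tits.RootComb Cfsg.Agent.Nodes.Comb Cfsg.Agent.Nodes.SubComb Cfsg.Agent.Nodes.PosPair
  Cfsg.Agent.Nodes.Coroot Cfsg.Agent.Nodes.TypeC Cfsg.Agent.Nodes.TypeCForm Cfsg.Agent.Nodes.Sub
  Cfsg.Agent.Nodes.ClsNorm Cfsg.Agent.Nodes.StabComb Cfsg.Agent.Nodes.KindBC Cfsg.Agent.Nodes.KindBase
  Cfsg.Agent.Nodes.LeviStd Cfsg.Agent.Nodes.Chart

variable {n : ℕ}

/-- The frame. -/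
def fr (n : ℕ) (k : Fin n) : Fin n → ℤ := rt (k, true) (k, true)

theorem ee_fr (k : Fin n) : ee (fr n k) = wt (k, true) + wt (k, true) := ee_rt _ _

theorem ee_fr_apply (k i : Fin n) : ee (fr n k) i = if i = k then 2 else 0 := by
  rw [ee_fr, Pi.add_apply, wt_apply]
  simp only [if_true]
  split_ifs <;> norm_num

theorem fr_mem (k : Fin n) : fr n k ∈ RC n := rt_mem_RC _

section

variable {W : Type*} [Group W] (cs : CoxeterSystem (CoxeterMatrix.B n) W)

theorem isRoot_fr (k : Fin n) : IsRoot cs (isCartan n) (fr n k) := root_RC cs (fr_mem k)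

theorem cpr_fr [Finite W] (x : Fin n → ℤ) (k : Fin n) : cpr cs (isCartan n) x (fr n k) = ee x k := by
  unfold fr
  rw [cpr_rt_self]
  simp [sn]

theorem eq_fr_or {x : Fin n → ℤ} (hx : x ∈ RC n) : ∃ k, x = fr n k ∨ x = -fr n k := by
  obtain ⟨⟨k, s⟩, rfl⟩ := mem_RC.1 hx
  refine ⟨k, ?_⟩
  cases s
  · right
    unfold fr
    rw [← rt_ng]
    rfl
  · left; rfl

/-- **(R1)** -/
theorem frameSys [Finite W] : FrameSys cs (isCartan n) (RC n) (fr n) where
  root r hr := root_RC cs hr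
  act r hr w := act_RC cs hr w
  le_one x hx y hy h1 h2 := by
    obtain ⟨k, hk⟩ := eq_fr_or hx
    obtain ⟨l, hl⟩ := eq_fr_or hy
    have hkl : k ≠ l := by
      rintro rfl
      rcases hk with rfl | rfl <;> rcases hl with rfl | rfl <;> simp_all
    have h3 : cpr cs (isCartan n) x (fr n l) = 0 := by
      rw [cpr_fr]
      rcases hk with rfl | rfl
      · rw [ee_fr_apply, if_neg hkl.symm]
      · rw [ee_neg, Pi.neg_apply, ee_fr_apply, if_neg hkl.symm, neg_zero]
    rcases hl with rfl | rfl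
    · rw [h3]; norm_num
    · rw [cpr_neg_right cs _ _ (isRoot_fr cs l), h3]; norm_num
  mem := fr_mem
  orth k l hkl := by rw [cpr_fr, ee_fr_apply, if_neg hkl.symm]
  max x hx h0 := by
    obtain ⟨k, hk⟩ := eq_fr_or hx
    have h1 := h0 k
    rw [cpr_fr] at h1
    rcases hk with rfl | rfl
    · rw [ee_fr_apply, if_pos rfl] at h1
      omega
    · rw [ee_neg, Pi.neg_apply, ee_fr_apply, if_pos rfl] at h1
      omega

theorem dom_fr {k : Fin n} (hk : (k : ℕ) = 0) : Dom (TypeC.A n) (fr n k) := by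
  have hn : 0 < n := by have := k.2; omega
  refine (dom_RC (fr_mem k)).2 ⟨hn, ?_⟩
  have : k = ⟨0, hn⟩ := Fin.ext hk
  rw [this]; rfl

theorem orth_fr {k : Fin n} (hk : (k : ℕ) = 0) : orth cs (isCartan n) (fr n k) = Set.range (up n 1) := by
  rw [range_up]
  ext i
  rw [mem_orth, ← Cf_ee, Cf, ee_fr_apply]
  change _ ↔ 1 ≤ (i : ℕ)
  split_ifs with h1 h2 h2
  · subst h2
    rw [ee_fr_apply, if_neg (by rw [Fin.ext_iff]; simp)]
    omega
  · rw [ee_fr_apply, if_neg (by rw [Fin.ext_iff]; simp only; omega)]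
    have : (i : ℕ) ≠ k := fun e => h2 (Fin.ext e)
    omega
  · subst h2; omega
  · have : (i : ℕ) ≠ k := fun e => h2 (Fin.ext e)
    omega

theorem iu_fr (c : ℕ) (k : Fin (n - c)) : iu n c (fr (n - c) k) = fr n (up n c k) := iu_rt n c _ _

/-- **(R3)** a root is `± 2ε_k` or it is not orthogonal to exactly two members of the frame. -/
theorem parity [Finite W] {y : Fin n → ℤ} (hy : IsRoot cs (isCartan n) y) :
    (∃ k, y = fr n k ∨ y = -fr n k) ∨ ∃ i j, i ≠ j ∧ ∀ k, cpr cs (isCartan n) y (fr n k) ≠ 0 ↔ k = i ∨ k = j := by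
  rcases (isRoot_iff_mem cs).1 hy with h1 | h1
  · right
    obtain ⟨a, b, hab, rfl⟩ := mem_RB.1 h1
    refine ⟨a.1, b.1, hab, fun k => ?_⟩
    rw [cpr_fr, ee_rt, Pi.add_apply]
    by_cases ha : k = a.1
    · subst ha
      rw [wt_apply_self, wt_apply_ne hab]
      rcases sn_eq_one_or a with h | h <;> simp [h]
    · by_cases hb : k = b.1
      · subst hb
        rw [wt_apply_self, wt_apply_ne ha]
        rcases sn_eq_one_or b with h | h <;> simp [h]
      · rw [wt_apply_ne ha, wt_apply_ne hb]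
        simp [ha, hb]
  · exact Or.inl (eq_fr_or h1)

/-- **(R4)** for `n ≥ 3` every root is orthogonal to a member of the frame. -/
theorem exists_orth [Finite W] (hn : 3 ≤ n) {y : Fin n → ℤ} (hy : IsRoot cs (isCartan n) y) :
    ∃ k, cpr cs (isCartan n) y (fr n k) = 0 := by
  have key : ∃ i j : Fin n, ∀ k, cpr cs (isCartan n) y (fr n k) ≠ 0 → k = i ∨ k = j := by
    rcases parity cs hy with ⟨k, hk⟩ | ⟨i, j, -, h1⟩
    · refine ⟨k, k, fun l hl => ?_⟩
      by_contra hne
      push Not at hne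
      apply hl
      rw [cpr_fr]
      rcases hk with rfl | rfl
      · rw [ee_fr_apply, if_neg hne.1]
      · rw [ee_neg, Pi.neg_apply, ee_fr_apply, if_neg hne.1, neg_zero]
    · exact ⟨i, j, fun k hk => (h1 k).1 hk⟩
  obtain ⟨i, j, h1⟩ := key
  by_contra hcon
  push Not at hcon
  have h2 : (Finset.univ : Finset (Fin n)) ⊆ {i, j} := by
    intro k _
    rw [Finset.mem_insert, Finset.mem_singleton]
    exact h1 k (hcon k)
  have h3 := Finset.card_le_card h2
  rw [Finset.card_univ, Fintype.card_fin] at h3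
  have h4 := Finset.card_le_two (a := i) (b := j)
  omega

end

/-- **(R2)**: the block of `2ε_0`: the roots orthogonal to it form a system of kind `C (n-1)`. -/
theorem cls_block {W W' Y : Type*} [Group W] [Fintype W] [Group W'] [Fintype W'] [Group Y]
    {cs : CoxeterSystem (CoxeterMatrix.B n) W} {p : ℕ} {T : Subgroup Y} {ν : Fin n → Y}
    {X Z : (Fin n → ℤ) → Subgroup Y} {z : (Fin n → ℤ) → Y} (C : Cls cs (isCartan n) p T ν X (RC n) Z z) (c : ℕ)
    (cs' : CoxeterSystem (CoxeterMatrix.B (n - c)) W') :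
    Cls cs' (isCartan (n - c)) p T (fun j => ν (up n c j)) (fun x => X (iu n c x)) (RC (n - c))
      (fun x => Z (iu n c x)) (fun x => z (iu n c x)) :=
  cls_levi_std C (up n c) (matrix_up n c) (A_up n c) cs' (isCartan (n - c)) (fun _ hc => root_RC cs' hc)
    fun _ => iu_mem_RC

end Cfsg.Agent.Nodes.KindC
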