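import Mathlib
import Cfsg.Agent.Nodes.KindBase
import Cfsg.Agent.Nodes.Perp

/-!
# The kinds of helper474's `TypeDet/Kinds.lean` at root level (project CIT, (B3)/(B4))

`g : κ → R` a frame (`KindBase.FrameSys cs h R g`).

* `Chn cs h g A i j` : `g i`, `g j` are joined by a chain of non-orthogonal roots orthogonal to all `g k`, `k ∉ A`;
* `Conn`, `Sgl`, `Half`, `Linked`;
* `RKinds cs h R g` : the list.  `Nodes/KindsOf.lean`: `RKinds` implies `Kinds univ` for the data of a maximal frame of a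
  chart group.
-/

set_option autoImplicit false
set_option linter.unusedSectionVars false
set_option linter.dupNamespace false

namespace Cfsg.Agent.Nodes.RootKinds

open CoxeterSystem Cfsg.Agent.ChevalleyStructure.CoxeterGeom Cfsg.Agent.Tits.Roots Cfsg.Agent.Nodes.Coroot
  Cfsg.Agent.Nodes.Perp
open Relation

variable {I W κ : Type*} [Fintype I] [DecidableEq I] [Group W] [Fintype W] {M : CoxeterMatrix I}
  (cs : CoxeterSystem M W) {A : I → I → ℤ} (h : IsCartan M A) (R : Set (I → ℤ)) [Fintype κ] [DecidableEq κ]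
  (g : κ → I → ℤ)

/-- Chains of non-orthogonal roots, orthogonal to all `g k`, `k ∉ A`. -/
def Chn (A : Finset κ) (i j : κ) : Prop := ReflTransGen (Lk cs h (g '' {k | k ∉ A})) (g i) (g j)

/-- `A` is connected. -/
def Conn (A : Finset κ) : Prop := ∀ i ∈ A, ∀ j ∈ A, Chn cs h g A i j

/-- A root orthogonal to all `g k`, `k ≠ l`, is `± g l` or orthogonal to `g l`. -/
def Sgl (l : κ) : Prop :=
  ∀ x, IsRoot cs h x → (∀ k, k ≠ l → form cs h x (g k) = 0) → x ≠ g l → x ≠ -g l → form cs h x (g l) = 0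

/-- `½ ∑ g k ∈ R` -/
def Half : Prop := ∃ u ∈ R, (2 : ℤ) • u = ∑ k, g k

/-- Every `g l` is joined to another element of `R`. -/
def Linked : Prop := ∀ l, ∃ r ∈ R, r ≠ g l ∧ r ≠ -g l ∧ form cs h r (g l) ≠ 0

/-- `C n` (`n ≥ 3`), `A n` (`n ≥ 5`) -/
def RKL : Prop :=
  3 ≤ Fintype.card κ ∧ (∀ l, Conn cs h g (Finset.univ.erase l)) ∧ ∀ i j, i ≠ j → Conn cs h g {i, j}

/-- `F4`, `E6` -/
def RKF : Prop :=
  Fintype.card κ = 4 ∧ (∀ l, Conn cs h g (Finset.univ.erase l)) ∧ Half R g ∧ Linked cs h R g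

/-- `D4` -/
def RKD4 : Prop :=
  Fintype.card κ = 4 ∧ (∀ l i j, i ≠ l → j ≠ l → i ≠ j → ¬ Chn cs h g (Finset.univ.erase l) i j) ∧ Half R g ∧
    Linked cs h R g ∧ ∀ l, Sgl cs h g l

/-- `B n` (`n ≥ 4`), `D n` (`n ≥ 5` odd) -/
def RKO (p : κ → κ) : Prop :=
  4 ≤ Fintype.card κ ∧ (∀ l, p l ≠ l ∧ p (p l) = l) ∧
    (∀ l i j, i ≠ l → j ≠ l → (Chn cs h g (Finset.univ.erase l) i j ↔ (i = p l ↔ j = p l))) ∧
    (∀ i j, i ≠ j → (Conn cs h g {i, j} ↔ j = p i)) ∧ Linked cs h R g ∧ ∀ l, Sgl cs h g l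

/-- `D n` (`n ≥ 6` even) -/
def RKD (p : κ → κ) : Prop :=
  6 ≤ Fintype.card κ ∧ (∀ l, p l ≠ l ∧ p (p l) = l) ∧
    (∀ l i j, i ≠ l → j ≠ l → (Chn cs h g (Finset.univ.erase l) i j ↔ (i = p l ↔ j = p l))) ∧
    (∀ A : Finset κ, A.card = 4 → (Conn cs h g A ↔ ∀ a ∈ A, p a ∈ A)) ∧ Linked cs h R g ∧ ∀ l, Sgl cs h g l

/-- `E7` -/
def RKE7 : Prop := Fintype.card κ = 7 ∧ ∀ l, Conn cs h g (Finset.univ.erase l)

/-- `E8` (with the code of the connected sets of four elements) -/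
def RKE8 : Prop :=
  Fintype.card κ = 8 ∧ (∀ l, Conn cs h g (Finset.univ.erase l)) ∧
    ∀ x y z, x ≠ y → x ≠ z → y ≠ z → ∃! w, w ≠ x ∧ w ≠ y ∧ w ≠ z ∧ Conn cs h g {x, y, z, w}

/-- The list of kinds at root level. -/
def RKinds : Prop :=
  Fintype.card κ = 1 ∨ Fintype.card κ = 2 ∨ RKL cs h g ∨ RKF cs h R g ∨ RKD4 cs h R g ∨ (∃ p, RKO cs h R g p) ∨
    (∃ p, RKD cs h R g p) ∨ RKE7 cs h g ∨ RKE8 cs h g

end Cfsg.Agent.Nodes.RootKinds
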