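import Mathlib
import Cfsg.Agent.Nodes.KindBase
import Cfsg.Agent.Nodes.TypeD
import Cfsg.Agent.Nodes.StabComb

/-!
The root level facts (R1)-(R4) for type `D_N`, `N = n + 2` (project CIT, charts): all roots, the frame
`g (k, ±) = ε_{2k} ± ε_{2k+1}`, `k < N / 2`.

* `rD a b` : the root with `ε`-coordinates `wt a + wt b`; `cpr_rD_rD`, `dp`, `cpr_eq`;
* (R1) `frameSys : FrameSys cs h {x | IsRoot cs h x} g`; `trans` : all roots are conjugate (`N ≥ 3`);
* `theta`, `theta_dom`, `orth_theta`, `lev`, `A_lev` : the highest root and its Levi subsystem `A_1 × D_{N-2}`;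
* (R2) `RA A` : the roots orthogonal to the frame members outside `A`; `mem_RA_iff`, `mem_RA_singleton`; `rel_iff` : the
  relation "joined by a chain of non-orthogonal roots of `RA A`" on `A`; `rel_erase` (two blocks, `N ≥ 5`),
  `rel_erase_four` (`D_4`), `rel_pair` (edges), `conn_four_iff`, `rel_of_closed`, `closed_of_rel`;
* (R3) `even_pair`, `exists_odd`, `exists_odd_even`, `prod_pair`, `prod_four`; (R4) `exists_orth`, `exists_orth_five`;
  `ncard_roots`.
-/

set_option autoImplicit false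
set_option linter.unusedSectionVars false

namespace Cfsg.Agent.Nodes.KindD

open CoxeterSystem Cfsg.Agent.ChevalleyStructure.CoxeterGeom Cfsg.Agent.Tits.Roots Cfsg.Agent.Tits.Core
  Cfsg.Agent.Tits.RootComb Cfsg.Agent.Nodes.Comb Cfsg.Agent.Nodes.SubComb Cfsg.Agent.Nodes.Coroot
  Cfsg.Agent.Nodes.KindBase Cfsg.Agent.Nodes.StabComb Cfsg.Agent.Nodes.TypeD
open Cfsg.Agent.Nodes.TypeC (wt wt_apply ng ng_ng ng_fst ng_snd wt_ng wt_injective)

variable {n : ℕ}

/-! ### The scalar product -/

/-- The scalar product of `ε`-vectors. -/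
def dp (u v : Fin (n + 2) → ℤ) : ℤ := ∑ k, u k * v k

theorem dp_comm (u v : Fin (n + 2) → ℤ) : dp u v = dp v u := Finset.sum_congr rfl fun _ _ => mul_comm _ _

theorem dp_add_right (u v w : Fin (n + 2) → ℤ) : dp u (v + w) = dp u v + dp u w := by
  unfold dp
  rw [← Finset.sum_add_distrib]
  exact Finset.sum_congr rfl fun _ _ => by rw [Pi.add_apply]; ring

theorem dp_sub_smul (u v w : Fin (n + 2) → ℤ) (c : ℤ) : dp u (v - c • w) = dp u v - c * dp u w := by
  unfold dp
  rw [Finset.mul_sum, ← Finset.sum_sub_distrib]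
  exact Finset.sum_congr rfl fun _ _ => by rw [Pi.sub_apply, Pi.smul_apply, smul_eq_mul]; ring

theorem dp_sub_smul_left (u v w : Fin (n + 2) → ℤ) (c : ℤ) : dp (v - c • w) u = dp v u - c * dp w u := by
  rw [dp_comm, dp_sub_smul, dp_comm u v, dp_comm u w]

theorem dp_wt (u : Fin (n + 2) → ℤ) (a : Fin (n + 2) × Bool) : dp u (wt a) = if a.2 then u a.1 else -u a.1 := by
  unfold dp
  rw [Finset.sum_eq_single a.1]
  · rw [wt_apply, if_pos rfl]
    split_ifs <;> ring
  · intro k _ hk
    rw [wt_apply, if_neg hk, mul_zero]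
  · intro hk; exact absurd (Finset.mem_univ _) hk

theorem dp_bt (u : Fin (n + 2) → ℤ) (i : Fin (n + 2)) : dp u (bt i) = Cf i u := by
  unfold bt
  rw [dp_add_right, dp_wt, dp_wt]
  unfold nx Cf
  split_ifs with h1 <;> simp_all
  ring

theorem Cf_bt (i : Fin (n + 2)) : Cf i (bt i) = 2 := by
  have := A_apply i i
  rw [if_pos rfl] at this
  exact this

theorem dp_reflect (i : Fin (n + 2)) (u v : Fin (n + 2) → ℤ) :
    dp (u - Cf i u • bt i) (v - Cf i v • bt i) = dp u v := by
  rw [dp_sub_smul, dp_sub_smul_left, dp_sub_smul_left, dp_bt, dp_bt, dp_comm (bt i) v, dp_bt, Cf_bt]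
  ring

/-! ### The roots `rD a b` -/

/-- The pairing of two signed indices. -/
def dw (a b : Fin (n + 2) × Bool) : ℤ := if a.1 = b.1 then (if a.2 = b.2 then 1 else -1) else 0

theorem dp_wt_wt (a b : Fin (n + 2) × Bool) : dp (wt a) (wt b) = dw a b := by
  rw [dp_wt, wt_apply]
  obtain ⟨a, s⟩ := a
  obtain ⟨b, t⟩ := b
  unfold dw
  by_cases hab : a = b
  · subst hab
    cases s <;> cases t <;> simp
  · simp [hab, Ne.symm hab]

/-- The root with `ε`-coordinates `wt a + wt b`. -/
noncomputable def rD (a b : Fin (n + 2) × Bool) : Fin (n + 2) → ℤ := by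
  classical
  exact if h : ∃ x : Fin (n + 2) → ℤ, ee x = wt a + wt b then h.choose else 0

theorem ee_rD {a b : Fin (n + 2) × Bool} (hab : Ok a b) : ee (rD a b) = wt a + wt b := by
  obtain ⟨x, -, hx⟩ := rt_of_ok (cs := (M n).toCoxeterSystem) hab
  have h : ∃ x : Fin (n + 2) → ℤ, ee x = wt a + wt b := ⟨x, hx⟩
  unfold rD
  rw [dif_pos h]
  exact h.choose_spec

theorem eq_rD {x : Fin (n + 2) → ℤ} {a b : Fin (n + 2) × Bool} (hab : Ok a b) (e : ee x = wt a + wt b) :
    x = rD a b := ee_injective (e.trans (ee_rD hab).symm)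

theorem rD_comm {a b : Fin (n + 2) × Bool} (hab : Ok a b) : rD a b = rD b a :=
  eq_rD hab.symm ((ee_rD hab).trans (add_comm _ _))

theorem rD_neg {a b : Fin (n + 2) × Bool} (hab : Ok a b) : -rD a b = rD (ng a) (ng b) :=
  eq_rD hab.ng (by rw [ee_neg, ee_rD hab, wt_ng, wt_ng]; abel)

theorem rD_inj {a b c d : Fin (n + 2) × Bool} (hab : Ok a b) (hcd : Ok c d) (e : rD a b = rD c d) :
    (a = c ∧ b = d) ∨ (a = d ∧ b = c) :=
  wt_add_eq hab hcd (by rw [← ee_rD hab, ← ee_rD hcd, e])

theorem rD_add {a b c : Fin (n + 2) × Bool} (hab : Ok a b) (hbc : Ok b c) (hac : Ok a c) :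
    rD a b + rD (ng b) c = rD a c := by
  apply eq_rD hac
  have h1 : Ok (ng b) c := hbc
  rw [ee_add, ee_rD hab, ee_rD h1, wt_ng]
  abel

theorem rD_sr (i : Fin (n + 2)) : rD (i, true) (nx i) = sr i := (eq_rD (ok_nx i) (ee_sr i)).symm

section Root

variable {W : Type*} [Group W] (cs : CoxeterSystem (M n) W)

theorem isRoot_rD {a b : Fin (n + 2) × Bool} (hab : Ok a b) : IsRoot cs (isCartan n) (rD a b) :=
  isRoot_iff.2 ⟨a, b, hab, ee_rD hab⟩

theorem exists_rD {x : Fin (n + 2) → ℤ} (hx : IsRoot cs (isCartan n) x) : ∃ a b, Ok a b ∧ x = rD a b := by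
  obtain ⟨a, b, hab, e⟩ := exists_of_isRoot cs hx
  exact ⟨a, b, hab, eq_rD hab e⟩

theorem dp_rep (w : W) (x y : Fin (n + 2) → ℤ) :
    dp (ee (rep cs (isCartan n) w x)) (ee (rep cs (isCartan n) w y)) = dp (ee x) (ee y) := by
  induction w using cs.simple_induction_left with
  | one => rw [map_one]; rfl
  | mul_simple_left w j ih =>
    rw [rep_mul_apply, rep_mul_apply, rep_simple, ee_refl, ee_refl, dp_reflect, ih]

/-- The pairing with coroots is the scalar product. -/
theorem cpr_eq [Finite W] (x : Fin (n + 2) → ℤ) {y : Fin (n + 2) → ℤ} (hy : IsRoot cs (isCartan n) y) :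
    cpr cs (isCartan n) x y = dp (ee x) (ee y) := by
  obtain ⟨w, i, rfl⟩ := hy
  rw [cpr_rep_sr, ← Cf_ee, ← dp_bt, ← ee_sr, ← dp_rep cs w, ← rep_mul_apply, mul_inv_cancel, map_one]
  rfl

theorem cpr_rD [Finite W] (x : Fin (n + 2) → ℤ) {c d : Fin (n + 2) × Bool} (hcd : Ok c d) :
    cpr cs (isCartan n) x (rD c d) =
      (if c.2 then ee x c.1 else -ee x c.1) + (if d.2 then ee x d.1 else -ee x d.1) := by
  rw [cpr_eq cs x (isRoot_rD cs hcd), ee_rD hcd, dp_add_right, dp_wt, dp_wt]

theorem cpr_rD_rD [Finite W] {a b c d : Fin (n + 2) × Bool} (hab : Ok a b) (hcd : Ok c d) :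
    cpr cs (isCartan n) (rD a b) (rD c d) = dw a c + dw a d + dw b c + dw b d := by
  rw [cpr_eq cs _ (isRoot_rD cs hcd), ee_rD hab, ee_rD hcd, dp_add_right, dp_comm _ (wt c), dp_comm _ (wt d),
    dp_add_right, dp_add_right, dp_wt_wt, dp_wt_wt, dp_wt_wt, dp_wt_wt]
  have h1 : ∀ a b : Fin (n + 2) × Bool, dw a b = dw b a := fun a b => by
    rw [← dp_wt_wt, dp_comm, dp_wt_wt]
  rw [h1 c a, h1 c b, h1 d a, h1 d b]
  ring

/-- Every element of `W` permutes the signed indices. -/
theorem exists_perm (w : W) : ∃ σ : Equiv.Perm (Fin (n + 2) × Bool), (∀ a, σ (ng a) = ng (σ a)) ∧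
    ∀ a b, Ok a b → Ok (σ a) (σ b) ∧ rep cs (isCartan n) w (rD a b) = rD (σ a) (σ b) := by
  induction w using cs.simple_induction_left with
  | one => exact ⟨1, fun _ => rfl, fun a b hab => ⟨hab, by rw [map_one]; rfl⟩⟩
  | mul_simple_left w j ih =>
    obtain ⟨σ, h1, h2⟩ := ih
    refine ⟨σ.trans ⟨TypeD.sg j, TypeD.sg j, sg_sg j, sg_sg j⟩, fun a => ?_, fun a b hab => ?_⟩
    · simp only [Equiv.trans_apply, Equiv.coe_fn_mk]
      rw [h1, sg_ng]
    · simp only [Equiv.trans_apply, Equiv.coe_fn_mk]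
      obtain ⟨h3, h4⟩ := h2 a b hab
      refine ⟨h3.sg j, ?_⟩
      rw [rep_mul_apply, h4, rep_simple]
      exact eq_rD (h3.sg j) (ee_refl_of (ee_rD h3))

/-- `|⟨x, y^∨⟩| ≤ 1` for `x ≠ ± y`. -/
theorem abs_cpr_le_one [Finite W] {x y : Fin (n + 2) → ℤ} (hx : IsRoot cs (isCartan n) x)
    (hy : IsRoot cs (isCartan n) y) (h1 : x ≠ y) (h2 : x ≠ -y) : |cpr cs (isCartan n) x y| ≤ 1 := by
  obtain ⟨⟨a, s⟩, ⟨b, t⟩, hab, rfl⟩ := exists_rD cs hx
  obtain ⟨⟨c, s'⟩, ⟨d, t'⟩, hcd, rfl⟩ := exists_rD cs hy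
  rw [rD_neg hcd] at h2
  rw [cpr_rD_rD cs hab hcd, abs_le]
  have e1 : ¬ ((a, s) = (c, s') ∧ (b, t) = (d, t')) := by
    rintro ⟨e, e'⟩; rw [e, e'] at h1; exact h1 rfl
  have e2 : ¬ ((a, s) = (d, t') ∧ (b, t) = (c, s')) := by
    rintro ⟨e, e'⟩; rw [e, e'] at h1; exact h1 (rD_comm hcd.symm)
  have e3 : ¬ ((a, s) = ng (c, s') ∧ (b, t) = ng (d, t')) := by
    rintro ⟨e, e'⟩; rw [e, e'] at h2; exact h2 rfl
  have e4 : ¬ ((a, s) = ng (d, t') ∧ (b, t) = ng (c, s')) := by
    rintro ⟨e, e'⟩; rw [e, e'] at h2; exact h2 (rD_comm hcd.ng.symm)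
  have hab' : a ≠ b := hab
  have hcd' : c ≠ d := hcd
  unfold dw
  simp only [ng, Prod.mk.injEq] at e1 e2 e3 e4 ⊢
  by_cases h3 : a = c
  · subst h3
    rw [if_pos rfl, if_neg hcd', if_neg hab'.symm]
    by_cases h4 : b = d
    · subst h4
      cases s <;> cases t <;> cases s' <;> cases t' <;> simp_all
    · rw [if_neg h4]; split_ifs <;> norm_num
  · rw [if_neg h3]
    by_cases h4 : a = d
    · subst h4
      rw [if_pos rfl, if_neg hab'.symm]
      by_cases h5 : b = c
      · subst h5
        cases s <;> cases t <;> cases s' <;> cases t' <;> simp_all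
      · rw [if_neg h5]; split_ifs <;> norm_num
    · rw [if_neg h4]
      by_cases h5 : b = c
      · subst h5
        rw [if_pos rfl, if_neg hcd']; split_ifs <;> norm_num
      · rw [if_neg h5]; split_ifs <;> norm_num


/-! ### The frame -/

/-- The signed indices of the frame: pairs `{2k, 2k+1}` of indices with a sign. -/
abbrev Ix (n : ℕ) := Fin ((n + 2) / 2) × Bool

/-- The index `2k`. -/
def i0 (k : Fin ((n + 2) / 2)) : Fin (n + 2) := ⟨2 * k.val, by have := k.2; omega⟩

/-- The index `2k + 1`. -/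
def i1 (k : Fin ((n + 2) / 2)) : Fin (n + 2) := ⟨2 * k.val + 1, by have := k.2; omega⟩

theorem i0_val (k : Fin ((n + 2) / 2)) : (i0 k).val = 2 * k.val := rfl
theorem i1_val (k : Fin ((n + 2) / 2)) : (i1 k).val = 2 * k.val + 1 := rfl

theorem ok_g (l : Ix n) : Ok (i0 l.1, true) (i1 l.1, l.2) := fun e => by
  have := congrArg Fin.val e
  simp only [i0_val, i1_val] at this
  omega

/-- The standard frame `g (k, ±) = ε_{2k} ± ε_{2k+1}`. -/
noncomputable def g (l : Ix n) : Fin (n + 2) → ℤ := rD (i0 l.1, true) (i1 l.1, l.2)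

/-- The partner of a frame member. -/
def pt (l : Ix n) : Ix n := (l.1, !l.2)

theorem pt_pt (l : Ix n) : pt (pt l) = l := by unfold pt; simp

theorem pt_ne (l : Ix n) : pt l ≠ l := by unfold pt; intro e; simpa using congrArg Prod.snd e

theorem isRoot_g (l : Ix n) : IsRoot cs (isCartan n) (g l) := isRoot_rD cs (ok_g l)

theorem cpr_g [Finite W] (x : Fin (n + 2) → ℤ) (l : Ix n) : cpr cs (isCartan n) x (g l) =
    ee x (i0 l.1) + (if l.2 then ee x (i1 l.1) else -ee x (i1 l.1)) := by
  unfold g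
  rw [cpr_rD cs x (ok_g l)]
  simp

theorem cpr_g_true [Finite W] (x : Fin (n + 2) → ℤ) (k : Fin ((n + 2) / 2)) :
    cpr cs (isCartan n) x (g (k, true)) = ee x (i0 k) + ee x (i1 k) := by
  rw [cpr_g]; simp

theorem cpr_g_false [Finite W] (x : Fin (n + 2) → ℤ) (k : Fin ((n + 2) / 2)) :
    cpr cs (isCartan n) x (g (k, false)) = ee x (i0 k) - ee x (i1 k) := by
  rw [cpr_g]; simp [sub_eq_add_neg]

/-- The coordinates of a root. -/
theorem ee_rD_apply {a b : Fin (n + 2) × Bool} (hab : Ok a b) (k : Fin (n + 2)) :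
    ee (rD a b) k = (if k = a.1 then (if a.2 then 1 else -1) else 0) +
      (if k = b.1 then (if b.2 then 1 else -1) else 0) := by
  rw [ee_rD hab, Pi.add_apply, wt_apply, wt_apply]

theorem g_orth [Finite W] {l m : Ix n} (hlm : l ≠ m) : cpr cs (isCartan n) (g l) (g m) = 0 := by
  rw [cpr_g]
  unfold g
  rw [ee_rD_apply (ok_g l), ee_rD_apply (ok_g l)]
  obtain ⟨k, s⟩ := l
  obtain ⟨k', s'⟩ := m
  by_cases hk : k = k'
  · subst hk
    have h1 : i1 k ≠ i0 k := fun e => by
      have := congrArg Fin.val e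
      simp only [i0_val, i1_val] at this
      omega
    have h2 : s ≠ s' := fun e => hlm (by rw [e])
    simp only [if_true, h1, h1.symm, if_false]
    cases s <;> cases s' <;> simp_all
  · have h1 : k.val ≠ k'.val := fun e => hk (Fin.ext e)
    have e1 : i0 k' ≠ i0 k := fun e => by
      have := congrArg Fin.val e
      simp only [i0_val] at this
      omega
    have e2 : i0 k' ≠ i1 k := fun e => by
      have := congrArg Fin.val e
      simp only [i0_val, i1_val] at this
      omega
    have e3 : i1 k' ≠ i0 k := fun e => by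
      have := congrArg Fin.val e
      simp only [i0_val, i1_val] at this
      omega
    have e4 : i1 k' ≠ i1 k := fun e => by
      have := congrArg Fin.val e
      simp only [i1_val] at this
      omega
    simp [e1, e2, e3, e4]

/-- The pair of an index, if it is matched. -/
theorem exists_ix (j : Fin (n + 2)) (hj : j.val / 2 < (n + 2) / 2) :
    ∃ k : Fin ((n + 2) / 2), k.val = j.val / 2 ∧ (j = i0 k ∨ j = i1 k) := by
  refine ⟨⟨j.val / 2, hj⟩, rfl, ?_⟩
  rcases Nat.mod_two_eq_zero_or_one j.val with h | h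
  · left; exact Fin.ext (by rw [i0_val]; simp only; omega)
  · right; exact Fin.ext (by rw [i1_val]; simp only; omega)

theorem ee_ne_zero {a b : Fin (n + 2) × Bool} (hab : Ok a b) : ee (rD a b) a.1 ≠ 0 ∧ ee (rD a b) b.1 ≠ 0 := by
  have h1 : a.1 ≠ b.1 := hab
  rw [ee_rD_apply hab, ee_rD_apply hab]
  simp only [if_true, h1, h1.symm, if_false]
  constructor <;> split_ifs <;> norm_num

theorem ee_eq_zero {a b : Fin (n + 2) × Bool} (hab : Ok a b) {k : Fin (n + 2)} (h1 : k ≠ a.1) (h2 : k ≠ b.1) :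
    ee (rD a b) k = 0 := by
  rw [ee_rD_apply hab, if_neg h1, if_neg h2, add_zero]

/-- **(R1)** -/
theorem frameSys [Finite W] : FrameSys cs (isCartan n) {x | IsRoot cs (isCartan n) x} (g (n := n)) where
  root r hr := hr
  act r hr w := hr.act w
  le_one x hx y hy h1 h2 := abs_cpr_le_one cs hx hy h1 h2
  mem k := isRoot_g cs k
  orth k l hkl := g_orth cs hkl
  max x hx h0 := by
    obtain ⟨a, b, hab, rfl⟩ := exists_rD cs hx
    have key : ∀ j : Fin (n + 2), ee (rD a b) j ≠ 0 → ¬ j.val / 2 < (n + 2) / 2 := by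
      intro j hj hj2
      obtain ⟨k, -, hk⟩ := exists_ix j hj2
      have h1 := h0 (k, true)
      have h2 := h0 (k, false)
      rw [cpr_g_true] at h1
      rw [cpr_g_false] at h2
      rcases hk with rfl | rfl <;> omega
    have h1 := key a.1 (ee_ne_zero hab).1
    have h2 := key b.1 (ee_ne_zero hab).2
    have h3 := a.1.2
    have h4 := b.1.2
    exact hab (Fin.ext (by omega))

/-! ### The highest root -/

/-- The highest root `ε_0 + ε_1`. -/
noncomputable def theta (n : ℕ) : Fin (n + 2) → ℤ := g (⟨0, by omega⟩, true)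

theorem ee_theta (k : Fin (n + 2)) : ee (theta n) k = if k.val ≤ 1 then 1 else 0 := by
  unfold theta g
  rw [ee_rD_apply (ok_g _)]
  simp only [Fin.ext_iff, i0_val, i1_val, if_true]
  split_ifs <;> omega

theorem pairing_theta (i : Fin (n + 2)) : pairing (A n) i (theta n) =
    if i.val = 1 ∨ i.val = n + 1 ∧ n ≤ 1 then (if i.val = n + 1 ∧ n = 0 then 2 else 1) else 0 := by
  have hi := i.2
  rw [← Cf_ee]
  unfold Cf pd
  simp only [ee_theta]
  split_ifs <;> omega

/-- `θ` is dominant. -/
theorem theta_dom : Dom (A n) (theta n) := by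
  intro i
  rw [pairing_theta]
  split_ifs <;> norm_num

/-- The roots which are dominant: only the highest root, for `N ≥ 3`. -/
theorem eq_theta_of_dom (hn : 1 ≤ n) {x : Fin (n + 2) → ℤ} (hx : IsRoot cs (isCartan n) x) (hd : Dom (A n) x) :
    x = theta n := by
  obtain ⟨a, b, hab, rfl⟩ := exists_rD cs hx
  -- wlog `a.1 < b.1`
  have key : ∀ a b : Fin (n + 2) × Bool, Ok a b → a.1 < b.1 → Dom (A n) (rD a b) → rD a b = theta n := by
    clear hab hd hx a b
    intro a b hab hlt hd
    set u : Fin (n + 2) → ℤ := ee (rD a b) with hu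
    have h1 : ∀ i, 0 ≤ Cf i u := fun i => by rw [hu, Cf_ee]; exact hd i
    have hstep : ∀ (i : Fin (n + 2)) (hi : i.val + 1 < n + 2), u ⟨i.val + 1, hi⟩ ≤ u i := by
      intro i hi
      have := h1 i
      unfold Cf at this
      rw [dif_pos hi] at this
      linarith
    have hmono : Antitone u := by
      apply Fin.antitone_iff_succ_le.2
      intro i
      exact hstep i.castSucc (by have := i.2; simp only [Fin.val_castSucc]; omega)
    have hlast : 0 ≤ u (Fin.last (n + 1)) + u (pd n) := by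
      have := h1 (Fin.last (n + 1))
      unfold Cf at this
      rw [dif_neg (by simp)] at this
      exact this
    have hpd : 0 ≤ u (pd n) := by
      have : u (Fin.last (n + 1)) ≤ u (pd n) := hmono (Fin.le_last _)
      linarith
    have hnn : ∀ j : Fin (n + 2), j.val ≤ n → 0 ≤ u j := fun j hj =>
      hpd.trans (hmono (show j.val ≤ (pd n).val from hj))
    have hbn := b.1.2
    have hab2 : a.1.val < b.1.val := hlt
    have ha := (ee_ne_zero hab).1
    have hb := (ee_ne_zero hab).2
    rw [← hu] at ha hb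
    have ha1 : 0 < u a.1 := lt_of_le_of_ne (hnn a.1 (by omega)) (Ne.symm ha)
    have ha0 : a.1.val = 0 := by
      by_contra h0
      have h2 : u ⟨0, by omega⟩ = 0 := ee_eq_zero hab (fun e => h0 (congrArg Fin.val e).symm)
        (fun e => by have := congrArg Fin.val e; simp only at this; omega)
      have h3 : u a.1 ≤ u ⟨0, by omega⟩ := hmono (Nat.zero_le _)
      omega
    have hb1 : b.1.val = 1 := by
      by_contra h0
      have h2 : ∀ j : Fin (n + 2), 1 ≤ j.val → j.val < b.1.val → u j = 0 := fun j hj1 hj2 =>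
        ee_eq_zero hab (fun e => by have := congrArg Fin.val e; omega)
          (fun e => by have := congrArg Fin.val e; omega)
      have h3 : u b.1 ≤ u ⟨1, by omega⟩ := hmono (show 1 ≤ b.1.val by omega)
      rw [h2 ⟨1, by omega⟩ le_rfl (show 1 < b.1.val by omega)] at h3
      have h4 : u b.1 < 0 := lt_of_le_of_ne h3 hb
      have h5 : ¬ b.1.val ≤ n := fun h6 => absurd (hnn b.1 h6) (not_le.2 h4)
      have h6 : b.1 = Fin.last (n + 1) := Fin.ext (by rw [Fin.val_last]; omega)
      have h7 : u (pd n) = 0 := h2 (pd n) hn (by unfold pd; simp only; omega)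
      rw [← h6, h7] at hlast
      omega
    have hb0 : 0 < u b.1 := lt_of_le_of_ne (hnn b.1 (by omega)) (Ne.symm hb)
    apply ee_injective
    funext k
    rw [ee_theta, ← hu]
    have e1 : u a.1 = 1 := by
      rw [hu, ee_rD_apply hab, if_pos rfl, if_neg (fun e => hab e)] at ha1 ⊢
      split_ifs at ha1 ⊢ <;> omega
    have e2 : u b.1 = 1 := by
      rw [hu, ee_rD_apply hab, if_neg (fun e => hab e.symm), if_pos rfl] at hb0 ⊢
      split_ifs at hb0 ⊢ <;> omega
    by_cases hk0 : k = a.1
    · rw [hk0, e1, if_pos (by omega)]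
    by_cases hk1 : k = b.1
    · rw [hk1, e2, if_pos (by omega)]
    rw [if_neg (fun h2 => by
      have h3 : k.val ≠ a.1.val := fun e => hk0 (Fin.ext e)
      have h4 : k.val ≠ b.1.val := fun e => hk1 (Fin.ext e)
      omega)]
    exact ee_eq_zero hab hk0 hk1
  rcases lt_or_gt_of_ne (show a.1 ≠ b.1 from hab) with h1 | h1
  · exact key a b hab h1 hd
  · rw [rD_comm hab] at hd ⊢
    exact key b a hab.symm h1 hd

/-- All roots are conjugate (`N ≥ 3`). -/
theorem trans [Finite W] (hn : 1 ≤ n) {x y : Fin (n + 2) → ℤ} (hx : IsRoot cs (isCartan n) x)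
    (hy : IsRoot cs (isCartan n) y) : ∃ w, rep cs (isCartan n) w x = y := by
  obtain ⟨w, hw⟩ := exists_dom_rep cs (isCartan n) x
  obtain ⟨v, hv⟩ := exists_dom_rep cs (isCartan n) y
  have h1 := eq_theta_of_dom cs hn (hx.act w) hw
  have h2 := eq_theta_of_dom cs hn (hy.act v) hv
  refine ⟨v⁻¹ * w, ?_⟩
  rw [rep_mul_apply, h1, ← h2, ← rep_mul_apply, inv_mul_cancel, map_one]
  rfl

theorem orth_theta (hn : 2 ≤ n) : orth cs (isCartan n) (theta n) = {i | i.val ≠ 1} := by
  ext i
  rw [mem_orth, pairing_theta, Set.mem_ofPred_eq]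
  have hi := i.2
  split_ifs <;> simp <;> omega

/-- The nodes of the Levi subsystem of type `D_{N-2}` orthogonal to the highest root. -/
def lev (m : ℕ) : Fin (m + 2) ↪ Fin (m + 2 + 2) where
  toFun j := ⟨j.val + 2, by omega⟩
  inj' j k h0 := by
    have := congrArg Fin.val h0
    simp only at this
    exact Fin.ext (by omega)

theorem lev_val {m : ℕ} (j : Fin (m + 2)) : (lev m j).val = j.val + 2 := rfl

theorem range_lev {m : ℕ} : Set.range (lev m) = {i | 2 ≤ i.val} := by
  ext i
  have hi := i.2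
  constructor
  · rintro ⟨j, rfl⟩
    rw [Set.mem_ofPred_eq, lev_val]; omega
  · intro h1
    rw [Set.mem_ofPred_eq] at h1
    exact ⟨⟨i.val - 2, by omega⟩, Fin.ext (by rw [lev_val]; simp only; omega)⟩

theorem A_lev {m : ℕ} (i j : Fin (m + 2)) : A (m + 2) (lev m i) (lev m j) = A m i j := by
  rw [A_apply, A_apply]
  have h1 : ∀ i j : Fin (m + 2), TypeD.Adj (lev m i) (lev m j) ↔ TypeD.Adj i j := by
    intro i j
    have := i.2
    have := j.2
    unfold TypeD.Adj
    simp only [lev_val]
    omega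
  simp only [h1, EmbeddingLike.apply_eq_iff_eq]

/-- The node `0` (the `A_1`-factor) is orthogonal to the nodes of the Levi subsystem `D_{N-2}`. -/
theorem A_zero_lev {m : ℕ} (hm : 1 ≤ m) (j : Fin (m + 2)) : A (m + 2) ⟨0, by omega⟩ (lev m j) = 0 := by
  have := j.2
  rw [A_apply, if_neg (fun e => by have := congrArg Fin.val e; rw [lev_val] at this; simp only at this; omega),
    if_neg]
  unfold TypeD.Adj
  simp only [lev_val]
  omega


/-! ### (R2): the roots orthogonal to part of the frame -/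

/-- The roots orthogonal to all frame members outside `A`. -/
def RA (A : Set (Ix n)) : Set (Fin (n + 2) → ℤ) :=
  {x | IsRoot cs (isCartan n) x ∧ ∀ l, l ∉ A → cpr cs (isCartan n) x (g l) = 0}

/-- Both members of the pair lie in `A`. -/
def Full (A : Set (Ix n)) (k : Fin ((n + 2) / 2)) : Prop := (k, true) ∈ A ∧ (k, false) ∈ A

/-- The index is unmatched or its pair is full. -/
def Fre (A : Set (Ix n)) (j : Fin (n + 2)) : Prop := ∀ k : Fin ((n + 2) / 2), k.val = j.val / 2 → Full A k

theorem fre_i0 {A : Set (Ix n)} {k : Fin ((n + 2) / 2)} : Fre A (i0 k) ↔ Full A k := by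
  constructor
  · intro h0; exact h0 k (by rw [i0_val]; omega)
  · intro h0 k' hk'
    rw [i0_val] at hk'
    have : k' = k := Fin.ext (by omega)
    rw [this]; exact h0

theorem fre_i1 {A : Set (Ix n)} {k : Fin ((n + 2) / 2)} : Fre A (i1 k) ↔ Full A k := by
  constructor
  · intro h0; exact h0 k (by rw [i1_val]; omega)
  · intro h0 k' hk'
    rw [i1_val] at hk'
    have : k' = k := Fin.ext (by omega)
    rw [this]; exact h0

theorem i0_ne_i1 (k k' : Fin ((n + 2) / 2)) : i0 k ≠ i1 k' := fun e => by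
  have := congrArg Fin.val e
  simp only [i0_val, i1_val] at this
  omega

theorem i0_inj {k k' : Fin ((n + 2) / 2)} (e : i0 k = i0 k') : k = k' := by
  have := congrArg Fin.val e
  simp only [i0_val] at this
  exact Fin.ext (by omega)

theorem i1_inj {k k' : Fin ((n + 2) / 2)} (e : i1 k = i1 k') : k = k' := by
  have := congrArg Fin.val e
  simp only [i1_val] at this
  exact Fin.ext (by omega)

/-- The roots with the index pair `{2k, 2k + 1}` are `± g (k, ±)`. -/
theorem eq_g_of {a b : Fin (n + 2) × Bool} {k : Fin ((n + 2) / 2)} (ha : a.1 = i0 k) (hb : b.1 = i1 k) :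
    ∃ s, rD a b = g (k, s) ∨ rD a b = -g (k, s) := by
  obtain ⟨a, s⟩ := a
  obtain ⟨b, t⟩ := b
  simp only at ha hb
  subst ha hb
  cases s
  · refine ⟨!t, Or.inr ?_⟩
    unfold g
    rw [rD_neg (ok_g _)]
    cases t <;> rfl
  · exact ⟨t, Or.inl rfl⟩

theorem cpr_self_g [Finite W] (l : Ix n) : cpr cs (isCartan n) (g l) (g l) = 2 :=
  cpr_self cs (isCartan n) (isRoot_g cs l)

theorem g_mem_RA [Finite W] {A : Set (Ix n)} {l : Ix n} (hl : l ∈ A) : g l ∈ RA cs A :=
  ⟨isRoot_g cs l, fun m hm => g_orth cs (fun e => hm (e ▸ hl))⟩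

theorem neg_mem_RA [Finite W] {A : Set (Ix n)} {x : Fin (n + 2) → ℤ} (hx : x ∈ RA cs A) : -x ∈ RA cs A :=
  ⟨hx.1.neg, fun m hm => by rw [cpr_neg cs _ _ (isRoot_g cs m), hx.2 m hm, neg_zero]⟩

theorem mem_of_g_mem_RA [Finite W] {A : Set (Ix n)} {l : Ix n} (hl : g l ∈ RA cs A ∨ -g l ∈ RA cs A) : l ∈ A := by
  by_contra h0
  rcases hl with h1 | h1
  · have := h1.2 l h0
    rw [cpr_self_g] at this
    norm_num at this
  · have := h1.2 l h0
    rw [cpr_neg cs _ _ (isRoot_g cs l), cpr_self_g] at this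
    norm_num at this

/-- One half: a root of `RA A` one of whose indices is not free is a frame member. -/
theorem eq_g_of_not_fre [Finite W] {A : Set (Ix n)} {a b : Fin (n + 2) × Bool} (hab : Ok a b)
    (hx : rD a b ∈ RA cs A) (ha : ¬ Fre A a.1) : ∃ l ∈ A, rD a b = g l ∨ rD a b = -g l := by
  unfold Fre at ha
  push Not at ha
  obtain ⟨k, hk, hf⟩ := ha
  have hk2 : a.1 = i0 k ∨ a.1 = i1 k := by
    rcases Nat.mod_two_eq_zero_or_one a.1.val with h | h
    · left; exact Fin.ext (by rw [i0_val]; omega)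
    · right; exact Fin.ext (by rw [i1_val]; omega)
  -- some sign is missing
  obtain ⟨s, hs⟩ : ∃ s, (k, s) ∉ A := by
    by_contra hcon
    push Not at hcon
    exact hf ⟨hcon true, hcon false⟩
  have h1 := hx.2 _ hs
  rw [cpr_g] at h1
  dsimp only at h1
  have hne := ee_ne_zero hab
  have hb : b.1 = i0 k ∨ b.1 = i1 k := by
    by_contra hcon
    push Not at hcon
    rcases hk2 with h2 | h2
    · have h3 : ee (rD a b) (i1 k) = 0 := ee_eq_zero hab (fun e => i0_ne_i1 k k (by rw [← h2, e])) (Ne.symm hcon.2)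
      rw [h3] at h1
      rw [h2] at hne
      apply hne.1
      split_ifs at h1 <;> omega
    · have h3 : ee (rD a b) (i0 k) = 0 := ee_eq_zero hab (fun e => i0_ne_i1 k k (by rw [e, h2])) (Ne.symm hcon.1)
      rw [h3] at h1
      rw [h2] at hne
      apply hne.1
      split_ifs at h1 <;> omega
  have key : ∃ s, rD a b = g (k, s) ∨ rD a b = -g (k, s) := by
    rcases hk2 with h2 | h2
    · rcases hb with h3 | h3
      · exact absurd (h2.trans h3.symm) hab
      · exact eq_g_of h2 h3
    · rcases hb with h3 | h3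
      · rw [rD_comm hab]
        exact eq_g_of h3 h2
      · exact absurd (h2.trans h3.symm) hab
  obtain ⟨t, ht⟩ := key
  refine ⟨(k, t), mem_of_g_mem_RA cs ?_, ht⟩
  rcases ht with ht | ht
  · exact Or.inl (ht ▸ hx)
  · right; rw [← ht]; exact hx

/-- **(R2)**: the roots orthogonal to all frame members outside `A`. -/
theorem mem_RA_iff [Finite W] {A : Set (Ix n)} {x : Fin (n + 2) → ℤ} : x ∈ RA cs A ↔
    (∃ l ∈ A, x = g l ∨ x = -g l) ∨ ∃ a b, Ok a b ∧ x = rD a b ∧ Fre A a.1 ∧ Fre A b.1 := by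
  constructor
  · intro hx
    obtain ⟨a, b, hab, rfl⟩ := exists_rD cs hx.1
    by_cases ha : Fre A a.1
    · by_cases hb : Fre A b.1
      · exact Or.inr ⟨a, b, hab, rfl, ha, hb⟩
      · left
        rw [rD_comm hab] at hx ⊢
        exact eq_g_of_not_fre cs hab.symm hx hb
    · exact Or.inl (eq_g_of_not_fre cs hab hx ha)
  · rintro (⟨l, hl, rfl | rfl⟩ | ⟨a, b, hab, rfl, ha, hb⟩)
    · exact g_mem_RA cs hl
    · exact neg_mem_RA cs (g_mem_RA cs hl)
    · refine ⟨isRoot_rD cs hab, fun l hl => ?_⟩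
      have hf : ¬ Full A l.1 := by
        obtain ⟨k, s⟩ := l
        cases s
        · exact fun h0 => hl h0.2
        · exact fun h0 => hl h0.1
      have e1 : ee (rD a b) (i0 l.1) = 0 := ee_eq_zero hab (fun e => hf (by rw [← e] at ha; exact fre_i0.1 ha))
        (fun e => hf (by rw [← e] at hb; exact fre_i0.1 hb))
      have e2 : ee (rD a b) (i1 l.1) = 0 := ee_eq_zero hab (fun e => hf (by rw [← e] at ha; exact fre_i1.1 ha))
        (fun e => hf (by rw [← e] at hb; exact fre_i1.1 hb))
      rw [cpr_g, e1, e2]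
      split_ifs <;> norm_num

/-- A single frame member: `RA {l} = {± g l}`. -/
theorem mem_RA_singleton [Finite W] {l : Ix n} {x : Fin (n + 2) → ℤ} : x ∈ RA cs {l} ↔ x = g l ∨ x = -g l := by
  rw [mem_RA_iff]
  constructor
  · rintro (⟨m, hm, h0⟩ | ⟨a, b, hab, rfl, ha, hb⟩)
    · rw [Set.mem_singleton_iff] at hm
      rwa [hm] at h0
    · exfalso
      have hnf : ∀ k, ¬ Full ({l} : Set (Ix n)) k := by
        rintro k ⟨h1, h2⟩
        rw [Set.mem_singleton_iff] at h1 h2
        rw [← h1] at h2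
        simpa using congrArg Prod.snd h2
      have key : ∀ j : Fin (n + 2), Fre ({l} : Set (Ix n)) j → ¬ j.val / 2 < (n + 2) / 2 := by
        intro j hj hj2
        exact hnf ⟨j.val / 2, hj2⟩ (hj _ rfl)
      have h1 := key _ ha
      have h2 := key _ hb
      have := a.1.2
      have := b.1.2
      exact hab (Fin.ext (by omega))
  · intro h0
    exact Or.inl ⟨l, rfl, h0⟩

/-! ### Chains -/

/-- Two elements of `S` are joined by a chain of non-orthogonal elements of `S`. -/
def Chn (S : Set (Fin (n + 2) → ℤ)) (x y : Fin (n + 2) → ℤ) : Prop :=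
  Relation.ReflTransGen (fun x y => x ∈ S ∧ y ∈ S ∧ cpr cs (isCartan n) x y ≠ 0) x y

/-- There are at least three free indices. -/
def Three (A : Set (Ix n)) : Prop :=
  Odd n ∨ ∃ k k' : Fin ((n + 2) / 2), k ≠ k' ∧ Full A k ∧ Full A k'

theorem cpr_ne_zero_left [Finite W] {a b c : Fin (n + 2) × Bool} (hab : Ok a b) (hac : Ok a c) (hbc : b.1 ≠ c.1) :
    cpr cs (isCartan n) (rD a b) (rD a c) ≠ 0 := by
  rw [cpr_rD_rD cs hab hac]
  have h1 : a.1 ≠ b.1 := hab
  have h2 : a.1 ≠ c.1 := hac
  unfold dw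
  simp only [if_true, h2, hbc, h1.symm, if_false]
  norm_num

/-- A free index different from two given ones. -/
theorem exists_fre {A : Set (Ix n)} (h3 : Three A) {a b : Fin (n + 2)} (ha : Fre A a) (hb : Fre A b)
    (hab : a ≠ b) : ∃ c, Fre A c ∧ c ≠ a ∧ c ≠ b := by
  rcases h3 with ho | ⟨k, k', hkk, hk, hk'⟩
  · -- the last index is free
    have hlast : Fre A (Fin.last (n + 1)) := by
      intro k hk
      have := k.2
      rw [Fin.val_last] at hk
      obtain ⟨q, hq⟩ := ho
      omega
    by_cases h1 : Fin.last (n + 1) ≠ a ∧ Fin.last (n + 1) ≠ b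
    · exact ⟨_, hlast, h1.1, h1.2⟩
    · -- one of them is the last index: the partner of the other one
      have key : ∀ a b : Fin (n + 2), Fre A a → a ≠ b → b = Fin.last (n + 1) → ∃ c, Fre A c ∧ c ≠ a ∧ c ≠ b := by
        intro a b ha hab hb
        obtain ⟨q, hq⟩ := ho
        have h2 : a.val ≠ n + 1 := fun e => hab (by rw [hb]; exact Fin.ext (by rw [Fin.val_last, e]))
        have h3 := a.2
        obtain ⟨k, hk, hk2⟩ := exists_ix a (by omega)
        have hf := ha k hk
        have hk3 := k.2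
        rcases hk2 with rfl | rfl
        · refine ⟨i1 k, fre_i1.2 hf, (i0_ne_i1 k k).symm, ?_⟩
          rw [hb]
          intro e
          have := congrArg Fin.val e
          rw [i1_val, Fin.val_last] at this
          omega
        · refine ⟨i0 k, fre_i0.2 hf, i0_ne_i1 k k, ?_⟩
          rw [hb]
          intro e
          have := congrArg Fin.val e
          rw [i0_val, Fin.val_last] at this
          omega
      by_cases h2 : Fin.last (n + 1) = b
      · exact key a b ha hab h2.symm
      · have h4 : Fin.last (n + 1) = a := by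
          by_contra h5
          exact h1 ⟨h5, h2⟩
        obtain ⟨c, h5, h6, h7⟩ := key b a hb hab.symm h4.symm
        exact ⟨c, h5, h7, h6⟩
  · -- among the four indices of two full pairs
    by_contra hcon
    push Not at hcon
    have e1 := hcon (i0 k) (fre_i0.2 hk)
    have e2 := hcon (i1 k) (fre_i1.2 hk)
    have e3 := hcon (i0 k') (fre_i0.2 hk')
    have hne : k.val ≠ k'.val := fun e => hkk (Fin.ext e)
    simp only [Ne, Fin.ext_iff, i0_val, i1_val] at e1 e2 e3 hab
    omega

/-- Two roots with free indices are joined, if there are at least three free indices. -/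
theorem chn_of_fre [Finite W] {A : Set (Ix n)} (h3 : Three A) {a b c d : Fin (n + 2) × Bool} (hab : Ok a b)
    (hcd : Ok c d) (ha : Fre A a.1) (hb : Fre A b.1) (hc : Fre A c.1) (hd : Fre A d.1) :
    Chn cs (RA cs A) (rD a b) (rD c d) := by
  have mem : ∀ a b : Fin (n + 2) × Bool, Ok a b → Fre A a.1 → Fre A b.1 → rD a b ∈ RA cs A :=
    fun a b hab ha hb => (mem_RA_iff cs).2 (Or.inr ⟨a, b, hab, rfl, ha, hb⟩)
  -- change of the second entry
  have step1 : ∀ a b c : Fin (n + 2) × Bool, Ok a b → Ok a c → Fre A a.1 → Fre A b.1 → Fre A c.1 →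
      Chn cs (RA cs A) (rD a b) (rD a c) := by
    intro a b c hab hac ha hb hc
    by_cases hbc : b.1 = c.1
    · obtain ⟨j, hj, hja, hjb⟩ := exists_fre h3 ha hb hab
      have h1 : Ok a (j, true) := fun e => hja (by rw [e])
      refine (Relation.ReflTransGen.single ⟨mem a b hab ha hb, mem a (j, true) h1 ha hj,
        cpr_ne_zero_left cs hab h1 hjb.symm⟩).tail ⟨mem a (j, true) h1 ha hj, mem a c hac ha hc,
        cpr_ne_zero_left cs h1 hac (fun e => hjb ?_)⟩
      simp only at e
      rw [e, hbc]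
    · exact Relation.ReflTransGen.single ⟨mem a b hab ha hb, mem a c hac ha hc,
        cpr_ne_zero_left cs hab hac hbc⟩
  -- change of the first entry
  have step2 : ∀ a b c : Fin (n + 2) × Bool, Ok a b → Ok c b → Fre A a.1 → Fre A b.1 → Fre A c.1 →
      Chn cs (RA cs A) (rD a b) (rD c b) := by
    intro a b c hab hcb ha hb hc
    rw [rD_comm hab, rD_comm hcb]
    exact step1 b a c hab.symm hcb.symm hb ha hc
  by_cases h1 : a.1 = d.1
  · by_cases h2 : b.1 = c.1
    · -- `a b → d b → d c`
      have h5 : Ok d b := fun e => hab (h1.trans e)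
      rw [rD_comm hcd]
      exact (step2 a b d hab h5 ha hb hd).trans (step1 d b c h5 hcd.symm hd hb hc)
    · -- `a b → c b → c d`
      have h5 : Ok c b := fun e => h2 e.symm
      exact (step2 a b c hab h5 ha hb hc).trans (step1 c b d h5 hcd hc hb hd)
  · -- `a b → a d → c d`
    exact (step1 a b d hab h1 ha hb hd).trans (step2 a d c h1 hcd ha hd hc)

/-- The chain class of `g l` is `{± g l}` if its pair is not full or if there are only two free indices. -/
theorem eq_of_step [Finite W] {A : Set (Ix n)} {l : Ix n} (hl : ¬ (Full A l.1 ∧ Three A)) {x y : Fin (n + 2) → ℤ}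
    (hx : x = g l ∨ x = -g l) (hy : y ∈ RA cs A) (hxy : cpr cs (isCartan n) x y ≠ 0) : y = g l ∨ y = -g l := by
  have hxy' : cpr cs (isCartan n) y (g l) ≠ 0 := by
    intro h0
    apply hxy
    have h1 := (cpr_zero_comm cs (isCartan n) hy.1 (isRoot_g cs l)).1 h0
    rcases hx with rfl | rfl
    · exact h1
    · rw [cpr_neg cs _ _ hy.1, h1, neg_zero]
  have hg : ∀ m : Ix n, (y = g m ∨ y = -g m) → y = g l ∨ y = -g l := by
    intro m hm
    by_cases hml : m = l
    · rwa [hml] at hm
    · exfalso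
      rcases hm with rfl | rfl
      · exact hxy' (g_orth cs hml)
      · exact hxy' (by rw [cpr_neg cs _ _ (isRoot_g cs l), g_orth cs hml, neg_zero])
  rcases (mem_RA_iff cs).1 hy with ⟨m, -, hm⟩ | ⟨a, b, hab, rfl, ha, hb⟩
  · exact hg m hm
  · -- `y` has a common index with `g l`
    have hcom : (a.1 = i0 l.1 ∨ a.1 = i1 l.1) ∨ (b.1 = i0 l.1 ∨ b.1 = i1 l.1) := by
      by_contra hcon
      push Not at hcon
      apply hxy'
      rw [cpr_g, ee_eq_zero hab hcon.1.1.symm hcon.2.1.symm, ee_eq_zero hab hcon.1.2.symm hcon.2.2.symm]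
      split_ifs <;> norm_num
    have hf : Full A l.1 := by
      rcases hcom with (h0 | h0) | (h0 | h0)
      · rw [h0] at ha; exact fre_i0.1 ha
      · rw [h0] at ha; exact fre_i1.1 ha
      · rw [h0] at hb; exact fre_i0.1 hb
      · rw [h0] at hb; exact fre_i1.1 hb
    have h3 : ¬ Three A := fun h3 => hl ⟨hf, h3⟩
    unfold Three at h3
    push Not at h3
    have hmat : ∀ j : Fin (n + 2), Fre A j → j = i0 l.1 ∨ j = i1 l.1 := by
      intro j hj
      have h4 : j.val / 2 < (n + 2) / 2 := by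
        have := j.2
        have h5 := h3.1
        rw [Nat.not_odd_iff_even] at h5
        obtain ⟨q, hq⟩ := h5
        omega
      obtain ⟨k, hk, hk2⟩ := exists_ix j h4
      have h5 : k = l.1 := by
        by_contra h6
        exact h3.2 k l.1 h6 (hj k hk) hf
      rwa [h5] at hk2
    have h4 := hmat _ ha
    have h5 := hmat _ hb
    have key : ∃ s, rD a b = g (l.1, s) ∨ rD a b = -g (l.1, s) := by
      rcases h4 with h4 | h4 <;> rcases h5 with h5 | h5
      · exact absurd (h4.trans h5.symm) hab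
      · exact eq_g_of h4 h5
      · rw [rD_comm hab]
        exact eq_g_of h5 h4
      · exact absurd (h4.trans h5.symm) hab
    obtain ⟨s, hs⟩ := key
    exact hg _ hs

/-- **(R2)**: the relation "joined by a chain in `RA A`" on the members of the frame in `A`. -/
theorem rel_iff [Finite W] {A : Set (Ix n)} {l m : Ix n} :
    Chn cs (RA cs A) (g l) (g m) ↔ l = m ∨ (Full A l.1 ∧ Full A m.1 ∧ Three A) := by
  have hinj : Function.Injective (g (n := n)) := (frameSys cs).injective
  constructor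
  · intro hc
    by_cases hfl : Full A l.1 ∧ Three A
    · by_cases hfm : Full A m.1
      · exact Or.inr ⟨hfl.1, hfm, hfl.2⟩
      · left
        -- the class of `m` is trivial
        have h1 : ∀ x, Chn cs (RA cs A) x (g m) → x = g m ∨ x = -g m := by
          intro x hx
          induction hx using Relation.ReflTransGen.head_induction_on with
          | refl => exact Or.inl rfl
          | head hxy _ ih =>
            refine eq_of_step cs (fun h0 => hfm h0.1) ih hxy.1 ?_
            intro h0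
            exact hxy.2.2 ((cpr_zero_comm cs _ hxy.2.1.1 hxy.1.1).1 h0)
        rcases h1 _ hc with h2 | h2
        · exact hinj h2
        · exact absurd h2 ((frameSys cs).ne_neg _ _)
    · left
      have h1 : ∀ x, Chn cs (RA cs A) (g l) x → x = g l ∨ x = -g l := by
        intro x hx
        induction hx with
        | refl => exact Or.inl rfl
        | tail _ hxy ih => exact eq_of_step cs hfl ih hxy.2.1 hxy.2.2
      rcases h1 _ hc with h2 | h2
      · exact (hinj h2).symm
      · exact absurd h2 ((frameSys cs).ne_neg _ _)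
  · rintro (rfl | ⟨hfl, hfm, h3⟩)
    · exact Relation.ReflTransGen.refl
    · exact chn_of_fre cs h3 (ok_g l) (ok_g m) (fre_i0.2 hfl) (fre_i1.2 hfl) (fre_i0.2 hfm) (fre_i1.2 hfm)


/-! ### The kinds -/

theorem full_univ (k : Fin ((n + 2) / 2)) : Full (Set.univ : Set (Ix n)) k := ⟨trivial, trivial⟩

theorem full_erase {l : Ix n} {k : Fin ((n + 2) / 2)} : Full ({l}ᶜ : Set (Ix n)) k ↔ k ≠ l.1 := by
  obtain ⟨k', s⟩ := l
  unfold Full
  simp only [Set.mem_compl_iff, Set.mem_singleton_iff, Prod.mk.injEq]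
  cases s <;> simp

/-- For `N ≥ 5` removing one member of the frame leaves at least three free indices. -/
theorem three_erase {l : Ix n} (hn : 3 ≤ n) : Three ({l}ᶜ : Set (Ix n)) := by
  by_cases ho : Odd n
  · exact Or.inl ho
  right
  rw [Nat.not_odd_iff_even] at ho
  obtain ⟨q, hq⟩ := ho
  have hl := l.1.2
  have h3 : 3 ≤ (n + 2) / 2 := by omega
  by_cases h0 : l.1.val = 0
  · exact ⟨⟨1, by omega⟩, ⟨2, by omega⟩, fun e => by simp [Fin.ext_iff] at e,
      full_erase.2 fun e => by have := congrArg Fin.val e; simp only at this; omega,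
      full_erase.2 fun e => by have := congrArg Fin.val e; simp only at this; omega⟩
  by_cases h1 : l.1.val = 1
  · exact ⟨⟨0, by omega⟩, ⟨2, by omega⟩, fun e => by simp [Fin.ext_iff] at e,
      full_erase.2 fun e => by have := congrArg Fin.val e; simp only at this; omega,
      full_erase.2 fun e => by have := congrArg Fin.val e; simp only at this; omega⟩
  · exact ⟨⟨0, by omega⟩, ⟨1, by omega⟩, fun e => by simp [Fin.ext_iff] at e,
      full_erase.2 fun e => by have := congrArg Fin.val e; simp only at this; omega,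
      full_erase.2 fun e => by have := congrArg Fin.val e; simp only at this; omega⟩

/-- `PairSplit` for `N ≥ 5`: outside `l` there are two blocks, the partner of `l` and the rest. -/
theorem rel_erase [Finite W] (hn : 3 ≤ n) {l i j : Ix n} (hi : i ≠ l) (hj : j ≠ l) :
    Chn cs (RA cs {l}ᶜ) (g i) (g j) ↔ (i = pt l ↔ j = pt l) := by
  rw [rel_iff, full_erase, full_erase]
  have h3 := three_erase (l := l) hn
  have key : ∀ i : Ix n, i ≠ l → (i.1 ≠ l.1 ↔ i ≠ pt l) := by
    rintro ⟨k, s⟩ hi
    obtain ⟨k', s'⟩ := l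
    unfold pt
    simp only [Ne, Prod.mk.injEq, not_and] at hi ⊢
    constructor
    · intro h1 h2; exact absurd h2 h1
    · intro h1 h2
      have h4 := hi h2
      have h5 := h1 h2
      cases s <;> cases s' <;> simp_all
  rw [key i hi, key j hj]
  constructor
  · rintro (rfl | ⟨h1, h2, -⟩)
    · exact Iff.rfl
    · exact ⟨fun e => absurd e h1, fun e => absurd e h2⟩
  · intro h0
    by_cases h1 : i = pt l
    · exact Or.inl (h1.trans (h0.1 h1).symm)
    · exact Or.inr ⟨h1, fun e => h1 (h0.2 e), h3⟩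

/-- `D_4`: outside `l` all blocks are trivial. -/
theorem rel_erase_four [Finite W] (hn : n = 2) {l i j : Ix n} :
    Chn cs (RA cs {l}ᶜ) (g i) (g j) ↔ i = j := by
  subst hn
  rw [rel_iff]
  constructor
  · rintro (h0 | ⟨-, -, h0 | ⟨k, k', hkk, h1, h2⟩⟩)
    · exact h0
    · exact absurd h0 (by decide)
    · rw [full_erase] at h1 h2
      exfalso
      apply hkk
      have h3 : k.val ≠ l.1.val := fun e => h1 (Fin.ext e)
      have h4 : k'.val ≠ l.1.val := fun e => h2 (Fin.ext e)
      have := k.2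
      have := k'.2
      have := l.1.2
      exact Fin.ext (by omega)
  · exact Or.inl

/-- The edges: `{i, j}` is connected iff `N` is odd and `j` is the partner of `i`. -/
theorem rel_pair [Finite W] {i j : Ix n} (hij : i ≠ j) :
    Chn cs (RA cs {i, j}) (g i) (g j) ↔ Odd n ∧ j = pt i := by
  have hfull : ∀ k, Full ({i, j} : Set (Ix n)) k ↔ (k = i.1 ∧ j = pt i) := by
    intro k
    obtain ⟨a, s⟩ := i
    obtain ⟨b, t⟩ := j
    unfold Full pt
    simp only [Set.mem_insert_iff, Set.mem_singleton_iff, Prod.mk.injEq, Ne] at hij ⊢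
    cases s <;> cases t <;> simp only [reduceCtorEq, and_false, and_true, or_false, false_or, true_and, false_and,
      not_false_eq_true, Bool.not_true, Bool.not_false, Fin.ext_iff, or_self] at hij ⊢ <;> omega
  rw [rel_iff]
  constructor
  · rintro (h0 | ⟨h1, h2, h3⟩)
    · exact absurd h0 hij
    · have h4 := ((hfull _).1 h1).2
      refine ⟨?_, h4⟩
      rcases h3 with h3 | ⟨k, k', hkk, h5, h6⟩
      · exact h3
      · exact absurd (((hfull _).1 h5).1.trans ((hfull _).1 h6).1.symm) hkk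
  · rintro ⟨h1, h2⟩
    right
    refine ⟨(hfull _).2 ⟨rfl, h2⟩, (hfull _).2 ⟨?_, h2⟩, Or.inl h1⟩
    rw [h2]; rfl

/-- A nonempty set of frame members closed under partners is connected, if it has at least two pairs or `N` is odd. -/
theorem rel_of_closed [Finite W] {A : Set (Ix n)} (hA : ∀ a ∈ A, pt a ∈ A) (h3 : Three A) {i j : Ix n}
    (hi : i ∈ A) (hj : j ∈ A) : Chn cs (RA cs A) (g i) (g j) := by
  have hfull : ∀ i : Ix n, i ∈ A → Full A i.1 := by
    rintro ⟨k, s⟩ hi
    have := hA _ hi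
    unfold pt at this
    cases s
    · exact ⟨this, hi⟩
    · exact ⟨hi, this⟩
  exact (rel_iff cs).2 (Or.inr ⟨hfull i hi, hfull j hj, h3⟩)

/-- Conversely: a connected set of at least two frame members is closed under partners. -/
theorem closed_of_rel [Finite W] {A : Set (Ix n)} (hA : ∀ i ∈ A, ∀ j ∈ A, Chn cs (RA cs A) (g i) (g j))
    {a b : Ix n} (ha : a ∈ A) (hb : b ∈ A) (hab : a ≠ b) : pt a ∈ A := by
  rcases (rel_iff cs).1 (hA a ha b hb) with h0 | ⟨h1, -, -⟩
  · exact absurd h0 hab
  · obtain ⟨k, s⟩ := a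
    unfold pt
    cases s
    · exact h1.1
    · exact h1.2

/-- A set of four frame members is connected iff it is closed under partners. -/
theorem conn_four_iff [Finite W] {A : Finset (Ix n)} (hc : A.card = 4) :
    (∀ i ∈ A, ∀ j ∈ A, Chn cs (RA cs (A : Set (Ix n))) (g i) (g j)) ↔ ∀ a ∈ A, pt a ∈ A := by
  constructor
  · intro h0 a ha
    obtain ⟨b, hb, hab⟩ := Finset.exists_mem_ne (by omega : 1 < A.card) a
    exact closed_of_rel cs (A := (A : Set (Ix n))) h0 ha hb hab.symm
  · intro h0 i hi j hj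
    refine rel_of_closed cs (A := (A : Set (Ix n))) h0 (Or.inr ?_) hi hj
    -- a third member outside the pair of `i`
    obtain ⟨m, hm, hmi⟩ : ∃ m ∈ A, m ∉ ({i, pt i} : Finset (Ix n)) := by
      by_contra hcon
      push Not at hcon
      have := Finset.card_le_card (show A ⊆ {i, pt i} from hcon)
      have h4 : ({i, pt i} : Finset (Ix n)).card ≤ 2 := Finset.card_le_two
      omega
    have hfull : ∀ i : Ix n, i ∈ A → Full (A : Set (Ix n)) i.1 := by
      rintro ⟨k, s⟩ hi
      have := h0 _ hi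
      unfold pt at this
      cases s
      · exact ⟨this, hi⟩
      · exact ⟨hi, this⟩
    refine ⟨i.1, m.1, fun e => hmi ?_, hfull i hi, hfull m hm⟩
    obtain ⟨k, s⟩ := i
    obtain ⟨k', s'⟩ := m
    simp only at e
    subst e
    rw [Finset.mem_insert, Finset.mem_singleton]
    unfold pt
    simp only [Prod.mk.injEq, true_and]
    cases s <;> cases s' <;> simp

theorem card_ix : Fintype.card (Ix n) = 2 * ((n + 2) / 2) := by
  rw [Fintype.card_prod, Fintype.card_fin, Fintype.card_bool, mul_comm]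

/-! ### (R3) -/

/-- The product of the two `z` of a pair is central (parity form). -/
theorem even_pair [Finite W] (x : Fin (n + 2) → ℤ) (k : Fin ((n + 2) / 2)) :
    Even (cpr cs (isCartan n) x (g (k, true)) + cpr cs (isCartan n) x (g (k, false))) := by
  rw [cpr_g_true, cpr_g_false]
  exact ⟨ee x (i0 k), by ring⟩

/-- `z_l` is not central, and differs from the `z` of the members which are not the partner. -/
theorem exists_odd_even [Finite W] {l m : Ix n} (hlm : l.1 ≠ m.1) (hn : 3 ≤ n) : ∃ x, IsRoot cs (isCartan n) x ∧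
    Odd (cpr cs (isCartan n) x (g l)) ∧ Even (cpr cs (isCartan n) x (g m)) := by
  have hl := l.1.2
  have hm := m.1.2
  have hne : l.1.val ≠ m.1.val := fun e => hlm (Fin.ext e)
  -- an index outside both pairs
  obtain ⟨j, hj1, hj2, hj3, hj4⟩ : ∃ j : Fin (n + 2), j ≠ i0 l.1 ∧ j ≠ i1 l.1 ∧ j ≠ i0 m.1 ∧ j ≠ i1 m.1 := by
    by_contra hcon
    push Not at hcon
    have key : ∀ q, (hq : q < n + 2) → q = 2 * l.1.val ∨ q = 2 * l.1.val + 1 ∨ q = 2 * m.1.val ∨
        q = 2 * m.1.val + 1 := by
      intro q hq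
      by_contra h0
      push Not at h0
      have h1 := hcon ⟨q, hq⟩ (fun e => h0.1 (congrArg Fin.val e)) (fun e => h0.2.1 (congrArg Fin.val e))
        (fun e => h0.2.2.1 (congrArg Fin.val e))
      exact h0.2.2.2 (congrArg Fin.val h1)
    have := key 0 (by omega)
    have := key 2 (by omega)
    have := key 4 (by omega)
    omega
  have hab : Ok (i0 l.1, true) (j, true) := fun e => hj1 e.symm
  refine ⟨rD (i0 l.1, true) (j, true), isRoot_rD cs hab, ?_, ?_⟩
  · rw [cpr_g, ee_rD_apply hab, ee_rD_apply hab]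
    simp only [if_true, hj1.symm, hj2.symm, (i0_ne_i1 l.1 l.1).symm, if_false]
    split_ifs <;> decide
  · have h1 : i0 m.1 ≠ i0 l.1 := fun e => hlm (i0_inj e).symm
    have h2 : i1 m.1 ≠ i0 l.1 := (i0_ne_i1 _ _).symm
    rw [cpr_g, ee_eq_zero hab h1 hj3.symm, ee_eq_zero hab h2 hj4.symm]
    split_ifs <;> decide

/-- `z_l` is not central (`N ≥ 3`). -/
theorem exists_odd [Finite W] (l : Ix n) (hn : 1 ≤ n) : ∃ x, IsRoot cs (isCartan n) x ∧
    Odd (cpr cs (isCartan n) x (g l)) := by
  have hl := l.1.2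
  obtain ⟨j, hj1, hj2⟩ : ∃ j : Fin (n + 2), j ≠ i0 l.1 ∧ j ≠ i1 l.1 := by
    by_contra hcon
    push Not at hcon
    have key : ∀ q, (hq : q < n + 2) → q = 2 * l.1.val ∨ q = 2 * l.1.val + 1 := by
      intro q hq
      by_contra h0
      push Not at h0
      have h1 := hcon ⟨q, hq⟩ (fun e => h0.1 (congrArg Fin.val e))
      exact h0.2 (congrArg Fin.val h1)
    have := key 0 (by omega)
    have := key 1 (by omega)
    have := key 2 (by omega)
    omega
  have hab : Ok (i0 l.1, true) (j, true) := fun e => hj1 e.symm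
  refine ⟨rD (i0 l.1, true) (j, true), isRoot_rD cs hab, ?_⟩
  rw [cpr_g, ee_rD_apply hab, ee_rD_apply hab]
  simp only [if_true, hj1.symm, hj2.symm, (i0_ne_i1 l.1 l.1).symm, if_false]
  split_ifs <;> decide

/-- **(R3)**, lattice form: for a family of commuting involutions with `z (r + s) = z r * z s`, the product of the two
`z` of the index pair `{a, b}` does not change when `a` is replaced by `c`. -/
theorem prod_step {Y : Type*} [Group Y] {z : (Fin (n + 2) → ℤ) → Y} (hz2 : ∀ r, z r * z r = 1)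
    (hzc : ∀ r s, IsRoot cs (isCartan n) r → IsRoot cs (isCartan n) s → z r * z s = z s * z r)
    (hz : ∀ r s, IsRoot cs (isCartan n) r → IsRoot cs (isCartan n) s → IsRoot cs (isCartan n) (r + s) →
      z (r + s) = z r * z s)
    {a b c : Fin (n + 2)} (hab : a ≠ b) (hcb : c ≠ b) (hac : a ≠ c) :
    z (rD (a, true) (b, true)) * z (rD (a, true) (b, false)) =
      z (rD (c, true) (b, true)) * z (rD (c, true) (b, false)) := by
  have key : ∀ s : Bool, z (rD (a, true) (b, s)) = z (rD (a, true) (c, false)) * z (rD (c, true) (b, s)) := by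
    intro s
    have h1 : Ok (a, true) (c, false) := hac
    have h2 : Ok (c, false) (b, s) := hcb
    have h3 : Ok (a, true) (b, s) := hab
    have h4 : Ok (c, true) (b, s) := hcb
    have e := rD_add h1 h2 h3
    have h5 : ng (c, false) = (c, true) := rfl
    rw [h5] at e
    rw [← e]
    exact hz _ _ (isRoot_rD cs h1) (isRoot_rD cs h4) (by rw [e]; exact isRoot_rD cs h3)
  have h1 : Ok (a, true) (c, false) := hac
  have h4 : Ok (c, true) (b, true) := hcb
  rw [key true, key false, hzc _ _ (isRoot_rD cs h1) (isRoot_rD cs h4), mul_assoc,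
    ← mul_assoc (z (rD (a, true) (c, false))), hz2, one_mul]

/-- **(R3)**: the product of the two `z` of an index pair does not depend on the pair. -/
theorem prod_pair {Y : Type*} [Group Y] {z : (Fin (n + 2) → ℤ) → Y} (hz2 : ∀ r, z r * z r = 1)
    (hzn : ∀ r, z (-r) = z r)
    (hzc : ∀ r s, IsRoot cs (isCartan n) r → IsRoot cs (isCartan n) s → z r * z s = z s * z r)
    (hz : ∀ r s, IsRoot cs (isCartan n) r → IsRoot cs (isCartan n) s → IsRoot cs (isCartan n) (r + s) →
      z (r + s) = z r * z s)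
    {a b c d : Fin (n + 2)} (hab : a ≠ b) (hcd : c ≠ d) :
    z (rD (a, true) (b, true)) * z (rD (a, true) (b, false)) =
      z (rD (c, true) (d, true)) * z (rD (c, true) (d, false)) := by
  have sym : ∀ a b : Fin (n + 2), a ≠ b → z (rD (a, true) (b, true)) * z (rD (a, true) (b, false)) =
      z (rD (b, true) (a, true)) * z (rD (b, true) (a, false)) := by
    intro a b hab
    have h1 : Ok (a, true) (b, true) := hab
    have h2 : Ok (a, true) (b, false) := hab
    have e : z (rD (a, true) (b, false)) = z (rD (b, true) (a, false)) := by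
      rw [← hzn, rD_neg h2]
      have h3 : Ok (ng (a, true)) (ng (b, false)) := h2
      rw [rD_comm h3]
      rfl
    rw [rD_comm h1, e]
  have stp := fun (a b c : Fin (n + 2)) hab hcb hac => prod_step cs hz2 hzc hz (a := a) (b := b) (c := c) hab hcb hac
  -- change `a` to `c`
  have key : ∀ a b c : Fin (n + 2), a ≠ b → c ≠ b → z (rD (a, true) (b, true)) * z (rD (a, true) (b, false)) =
      z (rD (c, true) (b, true)) * z (rD (c, true) (b, false)) := by
    intro a b c hab hcb
    by_cases hac : a = c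
    · rw [hac]
    · exact stp a b c hab hcb hac
  by_cases h1 : c = b
  · -- `c = b`: `(a, b) ~ (b, a) ~ (b, d)`
    subst h1
    rw [sym a c hab]
    by_cases h2 : a = d
    · rw [h2]
    · rw [sym c a hab.symm, sym c d hcd]
      -- `(a, c) ~ (d, c)`
      exact key a c d hab hcd.symm
  · rw [key a b c hab h1, sym c b h1, sym c d hcd]
    exact key b c d (Ne.symm h1) hcd.symm

/-- **(R3)** for two pairs of the frame: the product of the four `z` is `1`. -/
theorem prod_four {Y : Type*} [Group Y] {z : (Fin (n + 2) → ℤ) → Y} (hz2 : ∀ r, z r * z r = 1)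
    (hzn : ∀ r, z (-r) = z r)
    (hzc : ∀ r s, IsRoot cs (isCartan n) r → IsRoot cs (isCartan n) s → z r * z s = z s * z r)
    (hz : ∀ r s, IsRoot cs (isCartan n) r → IsRoot cs (isCartan n) s → IsRoot cs (isCartan n) (r + s) →
      z (r + s) = z r * z s) (k m : Fin ((n + 2) / 2)) :
    z (g (k, true)) * z (g (k, false)) * (z (g (m, true)) * z (g (m, false))) = 1 := by
  have h1 := prod_pair cs hz2 hzn hzc hz (i0_ne_i1 k k) (i0_ne_i1 m m)
  unfold g
  dsimp only
  rw [h1]
  have h2 := hzc _ _ (isRoot_g cs (m, true)) (isRoot_g cs (m, false))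
  unfold g at h2
  dsimp only at h2
  calc _ = z (rD (i0 m, true) (i1 m, true)) * (z (rD (i0 m, true) (i1 m, false)) * z (rD (i0 m, true) (i1 m, true))) *
        z (rD (i0 m, true) (i1 m, false)) := by group
    _ = z (rD (i0 m, true) (i1 m, true)) * (z (rD (i0 m, true) (i1 m, true)) * z (rD (i0 m, true) (i1 m, false))) *
        z (rD (i0 m, true) (i1 m, false)) := by rw [h2]
    _ = (z (rD (i0 m, true) (i1 m, true)) * z (rD (i0 m, true) (i1 m, true))) * (z (rD (i0 m, true) (i1 m, false)) *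
        z (rD (i0 m, true) (i1 m, false))) := by group
    _ = 1 := by rw [hz2, hz2, one_mul]

/-! ### (R4) and the number of roots -/

/-- **(R4)**: for `N ≥ 6` every root is orthogonal to both members of some pair. -/
theorem exists_orth [Finite W] (hn : 4 ≤ n) {x : Fin (n + 2) → ℤ} (hx : IsRoot cs (isCartan n) x) :
    ∃ k, ∀ s, cpr cs (isCartan n) x (g (k, s)) = 0 := by
  obtain ⟨a, b, hab, rfl⟩ := exists_rD cs hx
  by_contra hcon
  push Not at hcon
  have key : ∀ k : Fin ((n + 2) / 2), k.val = a.1.val / 2 ∨ k.val = b.1.val / 2 := by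
    intro k
    by_contra h0
    push Not at h0
    obtain ⟨s, hs⟩ := hcon k
    apply hs
    have h1 : ∀ j : Fin (n + 2), (j = i0 k ∨ j = i1 k) → j ≠ a.1 ∧ j ≠ b.1 := by
      intro j hj
      have hj2 : j.val / 2 = k.val := by
        rcases hj with rfl | rfl
        · rw [i0_val]; omega
        · rw [i1_val]; omega
      exact ⟨fun e => h0.1 (by rw [← e]; exact hj2.symm), fun e => h0.2 (by rw [← e]; exact hj2.symm)⟩
    obtain ⟨h2, h3⟩ := h1 _ (Or.inl rfl)
    obtain ⟨h4, h5⟩ := h1 _ (Or.inr rfl)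
    rw [cpr_g, ee_eq_zero hab h2 h3, ee_eq_zero hab h4 h5]
    split_ifs <;> norm_num
  have h0 := key ⟨0, by omega⟩
  have h1 := key ⟨1, by omega⟩
  have h2 := key ⟨2, by omega⟩
  simp only at h0 h1 h2
  omega

/-- **(R4)** for `N = 5`: every root is orthogonal to both members of some pair or is the sum of two such roots. -/
theorem exists_orth_five [Finite W] (hn : n = 3) {x : Fin (n + 2) → ℤ} (hx : IsRoot cs (isCartan n) x) :
    (∃ k, ∀ s, cpr cs (isCartan n) x (g (k, s)) = 0) ∨ ∃ y z, x = y + z ∧ IsRoot cs (isCartan n) y ∧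
      IsRoot cs (isCartan n) z ∧ (∃ k, ∀ s, cpr cs (isCartan n) y (g (k, s)) = 0) ∧
      ∃ k, ∀ s, cpr cs (isCartan n) z (g (k, s)) = 0 := by
  obtain ⟨a, b, hab, rfl⟩ := exists_rD cs hx
  have hval : ∀ (a b : Fin (n + 2) × Bool), Ok a b → ∀ k : Fin ((n + 2) / 2), a.1.val / 2 ≠ k.val →
      b.1.val / 2 ≠ k.val → ∀ s, cpr cs (isCartan n) (rD a b) (g (k, s)) = 0 := by
    intro a b hab k h1 h2 s
    rw [cpr_g, ee_eq_zero hab, ee_eq_zero hab]
    · split_ifs <;> norm_num
    · intro e; apply h1; rw [← e]; simp only [i1_val]; omega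
    · intro e; apply h2; rw [← e]; simp only [i1_val]; omega
    · intro e; apply h1; rw [← e]; simp only [i0_val]; omega
    · intro e; apply h2; rw [← e]; simp only [i0_val]; omega
  subst hn
  by_cases h0 : a.1.val / 2 ≠ 0 ∧ b.1.val / 2 ≠ 0
  · exact Or.inl ⟨⟨0, by omega⟩, hval a b hab _ h0.1 h0.2⟩
  by_cases h1 : a.1.val / 2 ≠ 1 ∧ b.1.val / 2 ≠ 1
  · exact Or.inl ⟨⟨1, by omega⟩, hval a b hab _ h1.1 h1.2⟩
  right
  have ha := a.1.2
  have hb := b.1.2
  have hab' : a.1.val / 2 < 2 ∧ b.1.val / 2 < 2 ∧ a.1.val / 2 ≠ b.1.val / 2 := by omega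
  have h2 : Ok a (⟨4, by omega⟩, true) := fun e => by
    have := congrArg Fin.val e; simp only at this; omega
  have h3 : Ok (⟨4, by omega⟩, true) b := fun e => by
    have := congrArg Fin.val e; simp only at this; omega
  have h4 : Ok (ng (⟨4, by omega⟩, true)) b := h3
  refine ⟨_, _, (rD_add h2 h3 hab).symm, isRoot_rD cs h2, isRoot_rD cs h4, ⟨⟨b.1.val / 2, by omega⟩, ?_⟩,
    ⟨a.1.val / 2, by omega⟩, ?_⟩
  · exact hval _ _ h2 _ (by simp only; omega) (by simp only; omega)
  · exact hval _ _ h4 _ (by simp only [ng_fst]; omega) (by simp only; omega)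

/-- The number of roots is `2 N (N - 1)`. -/
theorem ncard_roots : {x | IsRoot cs (isCartan n) x}.ncard = 2 * (n + 2) * (n + 1) := by
  classical
  let S : Finset ((Fin (n + 2) × Bool) × (Fin (n + 2) × Bool)) := Finset.univ.filter fun q => q.1.1 < q.2.1
  have h1 : {x | IsRoot cs (isCartan n) x} = (fun q : (Fin (n + 2) × Bool) × (Fin (n + 2) × Bool) => rD q.1 q.2) ''
      (S : Set ((Fin (n + 2) × Bool) × (Fin (n + 2) × Bool))) := by
    ext x
    constructor
    · intro hx
      obtain ⟨a, b, hab, rfl⟩ := exists_rD cs hx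
      rcases lt_or_gt_of_ne (show a.1 ≠ b.1 from hab) with h0 | h0
      · exact ⟨(a, b), by simpa [S] using h0, rfl⟩
      · exact ⟨(b, a), by simpa [S] using h0, (rD_comm hab).symm⟩
    · rintro ⟨q, hq, rfl⟩
      have hq' : q.1.1 < q.2.1 := by simpa [S] using hq
      exact isRoot_rD cs hq'.ne
  have h2 : Set.InjOn (fun q : (Fin (n + 2) × Bool) × (Fin (n + 2) × Bool) => rD q.1 q.2)
      (S : Set ((Fin (n + 2) × Bool) × (Fin (n + 2) × Bool))) := by
    rintro ⟨a, b⟩ hq ⟨c, d⟩ hq' e
    have hab : a.1 < b.1 := by simpa [S] using hq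
    have hcd : c.1 < d.1 := by simpa [S] using hq'
    rcases rD_inj (show Ok a b from hab.ne) (show Ok c d from hcd.ne) e with ⟨rfl, rfl⟩ | ⟨rfl, rfl⟩
    · rfl
    · exact absurd hab (not_lt.2 hcd.le)
  rw [h1, h2.ncard_image, Set.ncard_coe_finset]
  -- count
  have h3 : S.card = ∑ j : Fin (n + 2), 4 * j.val := by
    have h4 : S = Finset.univ.biUnion fun j : Fin (n + 2) =>
        ((Finset.Iio j ×ˢ (Finset.univ : Finset Bool)) ×ˢ ({j} ×ˢ (Finset.univ : Finset Bool))) := by
      ext ⟨⟨a, s⟩, ⟨b, t⟩⟩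
      simp only [S, Finset.mem_filter, Finset.mem_univ, true_and, Finset.mem_biUnion, Finset.mem_product,
        Finset.mem_Iio, and_true, Finset.mem_singleton]
      constructor
      · intro h0; exact ⟨b, h0, rfl⟩
      · rintro ⟨c, h0, rfl⟩; exact h0
    rw [h4, Finset.card_biUnion]
    · refine Finset.sum_congr rfl fun j _ => ?_
      rw [Finset.card_product, Finset.card_product, Finset.card_product, Fin.card_Iio, Finset.card_univ,
        Fintype.card_bool, Finset.card_singleton]
      ring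
    · intro i _ j _ hij
      simp only [Function.onFun]
      rw [Finset.disjoint_left]
      rintro ⟨⟨a, s⟩, ⟨b, t⟩⟩ hq hq'
      simp only [Finset.mem_product, Finset.mem_univ, and_true, Finset.mem_singleton] at hq hq'
      exact hij (hq.2.symm.trans hq'.2)
  rw [h3, Fin.sum_univ_eq_sum_range (fun j => 4 * j) (n + 2), ← Finset.mul_sum]
  have h5 := Finset.sum_range_id_mul_two (n + 2)
  have h6 : 4 * ∑ i ∈ Finset.range (n + 2), i = 2 * ((∑ i ∈ Finset.range (n + 2), i) * 2) := by ring
  rw [h6, h5]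
  have h7 : n + 2 - 1 = n + 1 := rfl
  rw [h7]
  ring

end Root

end Cfsg.Agent.Nodes.KindD
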