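import Cfsg.Agent.Nodes.RootKinds
import Cfsg.Agent.Nodes.KindD

/-!
helper866: `RKinds` (helper197's root level kinds) for type `D_N`, `N = n + 2`, standard frame `KindD.g`.
-/

set_option autoImplicit false
set_option linter.unusedSectionVars false

namespace Cfsg.Agent.Nodes.RootKindsD

open CoxeterSystem Cfsg.Agent.ChevalleyStructure.CoxeterGeom Cfsg.Agent.Tits.Roots Cfsg.Agent.Tits.Core
  Cfsg.Agent.Tits.RootComb Cfsg.Agent.Nodes.Comb Cfsg.Agent.Nodes.Coroot Cfsg.Agent.Nodes.KindBase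
  Cfsg.Agent.Nodes.StabComb Cfsg.Agent.Nodes.RootKinds Cfsg.Agent.Nodes.Perp Cfsg.Agent.Nodes.TypeD
open Cfsg.Agent.Nodes.KindD (Ix g pt RA Full Three rD i0 i1 isRoot_g isRoot_rD frameSys ok_g pt_pt pt_ne card_ix)
open Relation

variable {n : ℕ} {W : Type*} [Group W] [Fintype W] (cs : CoxeterSystem (M n) W)

/-- All roots. -/
abbrev RR (cs : CoxeterSystem (M n) W) : Set (Fin (n + 2) → ℤ) := {x | IsRoot cs (isCartan n) x}

theorem mem_perp_iff {A : Finset (Ix n)} {x : Fin (n + 2) → ℤ} :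
    x ∈ Perp cs (isCartan n) (g '' {k | k ∉ A}) ↔ x ∈ RA cs (A : Set (Ix n)) := by
  constructor
  · rintro ⟨h1, h2⟩
    refine ⟨h1, fun l hl => ?_⟩
    rw [cpr_zero_iff cs _ x (isRoot_g cs l)]
    exact h2 _ ⟨l, fun h3 => hl h3, rfl⟩
  · rintro ⟨h1, h2⟩
    refine ⟨h1, ?_⟩
    rintro _ ⟨l, hl, rfl⟩
    rw [← cpr_zero_iff cs _ x (isRoot_g cs l)]
    exact h2 l hl

theorem chn_iff {A : Finset (Ix n)} {i j : Ix n} :
    RootKinds.Chn cs (isCartan n) g A i j ↔ KindD.Chn cs (RA cs (A : Set (Ix n))) (g i) (g j) := by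
  have h1 : ∀ x y, Lk cs (isCartan n) (g '' {k | k ∉ A}) x y ↔
      (x ∈ RA cs (A : Set (Ix n)) ∧ y ∈ RA cs (A : Set (Ix n)) ∧ cpr cs (isCartan n) x y ≠ 0) := by
    intro x y
    unfold Lk
    rw [mem_perp_iff, mem_perp_iff]
    constructor
    · rintro ⟨h1, h2, h3⟩
      exact ⟨h1, h2, by rw [Ne, cpr_zero_iff cs _ x h2.1]; exact h3⟩
    · rintro ⟨h1, h2, h3⟩
      exact ⟨h1, h2, by rw [Ne, ← cpr_zero_iff cs _ x h2.1]; exact h3⟩
  constructor
  · intro hc
    exact hc.lift id fun x y hxy => (h1 x y).1 hxy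
  · intro hc
    exact hc.lift id fun x y hxy => (h1 x y).2 hxy

theorem coe_erase (l : Ix n) : ((Finset.univ.erase l : Finset (Ix n)) : Set (Ix n)) = {l}ᶜ := by
  ext k
  simp

theorem coe_pair (i j : Ix n) : (({i, j} : Finset (Ix n)) : Set (Ix n)) = {i, j} := by
  simp

theorem sgl (l : Ix n) : Sgl cs (isCartan n) g l := by
  intro x hx h0 h1 h2
  exfalso
  have h3 : x ∈ RA cs {l} := ⟨hx, fun k hk => by
    rw [cpr_zero_iff cs _ x (isRoot_g cs k)]
    exact h0 k hk⟩
  rcases (KindD.mem_RA_singleton cs).1 h3 with h4 | h4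
  · exact h1 h4
  · exact h2 h4

theorem linked (hn : 1 ≤ n) : Linked cs (isCartan n) (RR cs) g := by
  intro l
  obtain ⟨x, hx, ho⟩ := KindD.exists_odd cs l hn
  have h2 : cpr cs (isCartan n) (g l) (g l) = 2 := KindD.cpr_self_g cs l
  refine ⟨x, hx, ?_, ?_, ?_⟩
  · rintro rfl
    rw [h2] at ho
    exact absurd ho (by decide)
  · rintro rfl
    rw [cpr_neg cs _ _ (isRoot_g cs l), h2] at ho
    exact absurd ho (by decide)
  · rw [Ne, ← cpr_zero_iff cs _ x (isRoot_g cs l)]
    intro h0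
    rw [h0] at ho
    exact absurd ho (by decide)

theorem pt_spec (l : Ix n) : pt l ≠ l ∧ pt (pt l) = l := ⟨pt_ne l, pt_pt l⟩

theorem conn_pair_iff {i j : Ix n} (hij : i ≠ j) :
    RootKinds.Conn cs (isCartan n) g {i, j} ↔ Odd n ∧ j = pt i := by
  have hs : ∀ {x y : Ix n}, RootKinds.Chn cs (isCartan n) g {i, j} x y →
      RootKinds.Chn cs (isCartan n) g {i, j} y x := fun h => lk_symm h
  rw [← KindD.rel_pair cs hij, ← coe_pair, ← chn_iff]
  constructor
  · intro hc
    exact hc i (by simp) j (by simp)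
  · intro hc x hx y hy
    rw [Finset.mem_insert, Finset.mem_singleton] at hx hy
    rcases hx with rfl | rfl <;> rcases hy with rfl | rfl
    · exact ReflTransGen.refl
    · exact hc
    · exact hs hc
    · exact ReflTransGen.refl

/-- **`D_N`, `N ≥ 5` odd** -/
theorem rko (hn : 3 ≤ n) (ho : Odd n) : RKO cs (isCartan n) (RR cs) g pt := by
  refine ⟨?_, pt_spec, fun l i j hi hj => ?_, fun i j hij => ?_, linked cs (by omega), sgl cs⟩
  · rw [card_ix]; omega
  · rw [chn_iff, coe_erase]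
    exact KindD.rel_erase cs hn hi hj
  · rw [conn_pair_iff cs hij]
    exact and_iff_right ho

/-- **`D_N`, `N ≥ 6` even** -/
theorem rkd (hn : 4 ≤ n) : RKD cs (isCartan n) (RR cs) g pt := by
  refine ⟨?_, pt_spec, fun l i j hi hj => ?_, fun A hA => ?_, linked cs (by omega), sgl cs⟩
  · rw [card_ix]; omega
  · rw [chn_iff, coe_erase]
    exact KindD.rel_erase cs (by omega) hi hj
  · rw [← KindD.conn_four_iff cs hA]
    unfold RootKinds.Conn
    simp only [chn_iff]

/-- The half sum of the frame of `D_4`. -/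
theorem half (hn : n = 2) : Half (RR cs) g := by
  subst hn
  have hab : Ok (i0 (⟨0, by omega⟩ : Fin ((2 + 2) / 2)), true) (i0 (⟨1, by omega⟩ : Fin ((2 + 2) / 2)), true) := fun e => by
    have := congrArg Fin.val e
    simp [KindD.i0_val] at this
  refine ⟨rD (i0 ⟨0, by omega⟩, true) (i0 ⟨1, by omega⟩, true), isRoot_rD cs hab, ?_⟩
  apply ee_injective
  have hsum : ee (∑ k : Ix 2, g k) = ∑ k : Ix 2, ee (g k) := by
    have : ∀ s : Finset (Ix 2), ee (∑ k ∈ s, g k) = ∑ k ∈ s, ee (g k) := by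
      intro s
      induction s using Finset.induction_on with
      | empty =>
        rw [Finset.sum_empty, Finset.sum_empty]
        have := ee_smul (n := 2) 0 0
        rwa [zero_smul, zero_smul] at this
      | insert a s ha ih => rw [Finset.sum_insert ha, Finset.sum_insert ha, ee_add, ih]
    exact this _
  rw [hsum, ee_smul]
  funext j
  rw [Finset.sum_apply, Pi.smul_apply, smul_eq_mul, KindD.ee_rD_apply hab]
  unfold g
  simp only [KindD.ee_rD_apply (ok_g _)]
  rw [Fintype.sum_prod_type]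
  have h2 : (Finset.univ : Finset (Fin ((2 + 2) / 2))) = {⟨0, by omega⟩, ⟨1, by omega⟩} := by decide
  rw [h2, Finset.sum_pair (by decide)]
  simp only [Fintype.sum_bool, Fin.ext_iff, KindD.i0_val, KindD.i1_val]
  fin_cases j <;> simp

/-- **`D_4`** -/
theorem rkd4 (hn : n = 2) : RKD4 cs (isCartan n) (RR cs) g := by
  refine ⟨?_, fun l i j hi hj hij => ?_, half cs hn, linked cs (by omega), sgl cs⟩
  · rw [card_ix]; omega
  · rw [chn_iff, coe_erase, KindD.rel_erase_four cs hn]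
    exact hij

/-- **The kinds of type `D_N`.** -/
theorem rkinds (hn : 1 ≤ n) : RKinds cs (isCartan n) (RR cs) g := by
  by_cases h1 : n = 1
  · exact Or.inr (Or.inl (by rw [card_ix, h1]))
  by_cases h2 : n = 2
  · exact Or.inr (Or.inr (Or.inr (Or.inr (Or.inl (rkd4 cs h2)))))
  rcases Nat.even_or_odd n with he | ho
  · have : n ≠ 3 := by rintro rfl; exact absurd he (by decide)
    exact Or.inr (Or.inr (Or.inr (Or.inr (Or.inr (Or.inr (Or.inl ⟨pt, rkd cs (by omega)⟩))))))
  · exact Or.inr (Or.inr (Or.inr (Or.inr (Or.inr (Or.inl ⟨pt, rko cs (by omega) ho⟩)))))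

end Cfsg.Agent.Nodes.RootKindsD
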