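import Cfsg.Agent.Nodes.Ty

/-!
The Coxeter groups of the types of charts are finite: `Ty.finite_group`, `Ty.finite_W`.

For `E₆, E₇, E₈, F₄, G₂` by an invariant positive definite form (this avoids the heavy tables of `RGDChev`).
-/

set_option autoImplicit false

namespace Cfsg.Agent.Nodes.TyCox

open Cfsg.Agent.Tits.Roots Cfsg.Agent.ChevalleyStructure.CoxeterGeom
open Cfsg.Agent.ChevalleyStructure.CoxeterGeomTypes

section General

variable {n : ℕ} {A : Fin n → Fin n → ℤ}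

/-- the quadratic form `∑ d_i A_ij x_i x_j` -/
def qf (d : Fin n → ℤ) (A : Fin n → Fin n → ℤ) (x : Fin n → ℤ) : ℤ := ∑ i, ∑ j, d i * A i j * x i * x j

theorem qf_refl {M : CoxeterMatrix (Fin n)} (h : IsCartan M A) {d : Fin n → ℤ}
    (hs : ∀ i j, d i * A i j = d j * A j i) (k : Fin n) (x : Fin n → ℤ) :
    qf d A (x - pairing A k x • sr k) = qf d A x := by
  classical
  set p := pairing A k x with hp
  have hsr : ∀ i, (sr k : Fin n → ℤ) i = if i = k then 1 else 0 := by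
    intro i
    by_cases hi : i = k
    · rw [hi, sr_self, if_pos rfl]
    · rw [sr_ne hi, if_neg hi]
  have e1 : ∀ i, (x - p • sr k) i = x i - p * (if i = k then 1 else 0) := by
    intro i
    rw [Pi.sub_apply, Pi.smul_apply, smul_eq_mul, hsr]
  have hB1 : ∑ i, d i * A i k * x i = d k * p := by
    rw [hp]
    unfold pairing
    rw [Finset.mul_sum]
    refine Finset.sum_congr rfl fun i _ => ?_
    rw [hs i k, mul_assoc]
  have hB2 : ∑ j, d k * A k j * x j = d k * p := by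
    rw [hp]
    unfold pairing
    rw [Finset.mul_sum]
    refine Finset.sum_congr rfl fun i _ => ?_
    rw [mul_assoc]
  unfold qf
  have e2 : ∀ i j, d i * A i j * (x - p • sr k) i * (x - p • sr k) j =
      d i * A i j * x i * x j - p * (d i * A i j * x i) * (if j = k then 1 else 0) -
        p * (d i * A i j * x j) * (if i = k then 1 else 0) +
        p * p * (d i * A i j) * (if i = k then 1 else 0) * (if j = k then 1 else 0) := by
    intro i j
    rw [e1, e1]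
    ring
  simp only [e2, Finset.sum_add_distrib, Finset.sum_sub_distrib, mul_ite, mul_one, mul_zero,
    Finset.sum_ite_eq', Finset.mem_univ, if_true]
  have e3 : ∑ i, ∑ j, (if i = k then p * (d i * A i j * x j) else 0) = p * (d k * p) := by
    rw [Finset.sum_eq_single k]
    · simp only [if_true]
      rw [← hB2, Finset.mul_sum]
    · intro i _ hi
      simp [hi]
    · intro h; exact absurd (Finset.mem_univ _) h
  have e4 : ∑ i, p * (d i * A i k * x i) = p * (d k * p) := by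
    rw [← hB1, Finset.mul_sum]
  have e5 : d k * A k k = 2 * d k := by rw [h.diag]; ring
  rw [e3, e4, e5]
  ring

theorem qf_sr {M : CoxeterMatrix (Fin n)} (h : IsCartan M A) (d : Fin n → ℤ) (k : Fin n) :
    qf d A (sr k) = 2 * d k := by
  classical
  have hsr : ∀ i, (sr k : Fin n → ℤ) i = if i = k then 1 else 0 := by
    intro i
    by_cases hi : i = k
    · rw [hi, sr_self, if_pos rfl]
    · rw [sr_ne hi, if_neg hi]
  unfold qf
  simp only [hsr, mul_ite, mul_one, mul_zero, Finset.sum_ite_eq', Finset.mem_univ, if_true]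
  rw [h.diag]
  ring

/-- **a positive definite invariant form makes the Coxeter group finite** -/
theorem finite_of_form {M : CoxeterMatrix (Fin n)} (h : IsCartan M A) {W : Type*} [Group W]
    (cs : CoxeterSystem M W) (d : Fin n → ℤ) (hs : ∀ i j, d i * A i j = d j * A j i) (K N : ℤ)
    (hK : ∀ x : Fin n → ℤ, ∀ i, x i ^ 2 ≤ K * qf d A x) (hN : ∀ i, K * (2 * d i) ≤ N) : Finite W := by
  have hinv : ∀ (w : W) (x : Fin n → ℤ), qf d A (rep cs h w x) = qf d A x := by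
    intro w
    obtain ⟨ω, rfl⟩ := cs.wordProd_surjective w
    induction ω with
    | nil => intro x; rw [CoxeterSystem.wordProd_nil, map_one, Module.End.one_apply]
    | cons j ω ih =>
      intro x
      rw [CoxeterSystem.wordProd_cons, rep_mul_apply, rep_simple_eq, qf_refl h hs, ih]
  have hb : ∀ (w : W) (i j : Fin n), rep cs h w (sr i) j ∈ Set.Icc (-N) N := by
    intro w i j
    have h1 := hK (rep cs h w (sr i)) j
    rw [hinv, qf_sr h] at h1
    have h2 := h1.trans (hN i)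
    have h3 : |rep cs h w (sr i) j| ≤ rep cs h w (sr i) j ^ 2 := by
      rw [← sq_abs]
      exact Int.le_self_sq _
    exact abs_le.1 (h3.trans h2)
  let f : W → (Fin n → Fin n → Set.Icc (-N) N) := fun w i j => ⟨_, hb w i j⟩
  refine Finite.of_injective f ?_
  intro u v huv
  have h2 : u⁻¹ * v = 1 := by
    refine eq_one_of_fix cs h _ fun i => ?_
    have h3 : rep cs h v (sr i) = rep cs h u (sr i) := by
      funext j
      exact (congrArg Subtype.val (congrFun (congrFun huv i) j)).symm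
    show rep cs h (u⁻¹ * v) (sr i) = sr i
    rw [rep_mul_apply, h3, rep_inv_apply]
  exact (inv_mul_eq_one.1 h2)

end General

/-! ### The exceptional types -/

section Exc

theorem eqE6 : cartanOf Cfsg.Lie.chevE6 6 = ![![2, 0, -1, 0, 0, 0], ![0, 2, 0, -1, 0, 0], ![-1, 0, 2, -1, 0, 0], ![0, -1, -1, 2, -1, 0], ![0, 0, 0, -1,
    2, -1], ![0, 0, 0, 0, -1, 2]] := by
  have h : ∀ i j, cartanOf Cfsg.Lie.chevE6 6 i j = (![![2, 0, -1, 0, 0, 0], ![0, 2, 0, -1, 0, 0], ![-1, 0, 2, -1, 0, 0], ![0, -1, -1, 2, -1, 0], ![0, 0, 0, -1,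
    2, -1], ![0, 0, 0, 0, -1, 2]] :
      Fin 6 → Fin 6 → ℤ) i j := by decide +kernel
  funext i j
  exact h i j

theorem posE6 (x : Fin 6 → ℤ) (i : Fin 6) :
    x i ^ 2 ≤ 15 * qf (fun _ => 1) (cartanOf Cfsg.Lie.chevE6 6) x := by
  have key : ∑ i, x i ^ 2 ≤ 15 * qf (fun _ => 1) (cartanOf Cfsg.Lie.chevE6 6) x := by
    unfold qf
    rw [eqE6]
    simp only [Fin.sum_univ_succ, Fin.sum_univ_zero]
    simp
    linarith [sq_nonneg (29 * x 0 + (-15) * x 2), sq_nonneg (29 * x 1 + (-15) * x 3),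
      sq_nonneg (616 * x 2 + (-435) * x 3), sq_nonneg (190231 * x 3 + (-267960) * x 4),
      sq_nonneg (1497299 * x 4 + (-2853465) * x 5), sq_nonneg (x 5)]
  exact (Finset.single_le_sum (f := fun i => x i ^ 2) (fun i _ => sq_nonneg _) (Finset.mem_univ i)).trans key

theorem symE6 : ∀ i j : Fin 6, (fun _ => 1) i * cartanOf Cfsg.Lie.chevE6 6 i j =
    (fun _ => 1) j * cartanOf Cfsg.Lie.chevE6 6 j i := by
  rw [eqE6]
  decide +kernel

theorem finiteE6 {W : Type*} [Group W] (cs : CoxeterSystem CoxeterMatrix.E₆ W) : Finite W :=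
  finite_of_form isCartan_E6 cs (fun _ => 1) symE6 15 30 posE6 (by decide)

theorem eqE7 : cartanOf Cfsg.Lie.chevE7 7 = ![![2, 0, -1, 0, 0, 0, 0], ![0, 2, 0, -1, 0, 0, 0], ![-1, 0, 2, -1, 0, 0, 0], ![0, -1, -1, 2, -1, 0, 0], ![0,
    0, 0, -1, 2, -1, 0], ![0, 0, 0, 0, -1, 2, -1], ![0, 0, 0, 0, 0, -1, 2]] := by
  have h : ∀ i j, cartanOf Cfsg.Lie.chevE7 7 i j = (![![2, 0, -1, 0, 0, 0, 0], ![0, 2, 0, -1, 0, 0, 0], ![-1, 0, 2, -1, 0, 0, 0], ![0, -1, -1, 2, -1, 0, 0], ![0,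
    0, 0, -1, 2, -1, 0], ![0, 0, 0, 0, -1, 2, -1], ![0, 0, 0, 0, 0, -1, 2]] :
      Fin 7 → Fin 7 → ℤ) i j := by decide +kernel
  funext i j
  exact h i j

theorem posE7 (x : Fin 7 → ℤ) (i : Fin 7) :
    x i ^ 2 ≤ 33 * qf (fun _ => 1) (cartanOf Cfsg.Lie.chevE7 7) x := by
  have key : ∑ i, x i ^ 2 ≤ 33 * qf (fun _ => 1) (cartanOf Cfsg.Lie.chevE7 7) x := by
    unfold qf
    rw [eqE7]
    simp only [Fin.sum_univ_succ, Fin.sum_univ_zero]
    simp
    linarith [sq_nonneg (65 * x 0 + (-33) * x 2), sq_nonneg (65 * x 1 + (-33) * x 3),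
      sq_nonneg (3136 * x 2 + (-2145) * x 3), sq_nonneg (5233471 * x 3 + (-6726720) * x 4),
      sq_nonneg (118193855 * x 4 + (-172704543) * x 5), sq_nonneg (1983350656 * x 5 + (-3900397215) * x 6),
      sq_nonneg (x 6)]
  exact (Finset.single_le_sum (f := fun i => x i ^ 2) (fun i _ => sq_nonneg _) (Finset.mem_univ i)).trans key

theorem symE7 : ∀ i j : Fin 7, (fun _ => 1) i * cartanOf Cfsg.Lie.chevE7 7 i j =
    (fun _ => 1) j * cartanOf Cfsg.Lie.chevE7 7 j i := by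
  rw [eqE7]
  decide +kernel

theorem finiteE7 {W : Type*} [Group W] (cs : CoxeterSystem CoxeterMatrix.E₇ W) : Finite W :=
  finite_of_form isCartan_E7 cs (fun _ => 1) symE7 33 66 posE7 (by decide)

theorem eqE8 : cartanOf Cfsg.Lie.chevE8 8 = ![![2, 0, -1, 0, 0, 0, 0, 0], ![0, 2, 0, -1, 0, 0, 0, 0], ![-1, 0, 2, -1, 0, 0, 0, 0], ![0, -1, -1, 2, -1, 0,
    0, 0], ![0, 0, 0, -1, 2, -1, 0, 0], ![0, 0, 0, 0, -1, 2, -1, 0], ![0, 0, 0, 0, 0, -1, 2, -1], ![0, 0, 0, 0,
    0, 0, -1, 2]] := by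
  have h : ∀ i j, cartanOf Cfsg.Lie.chevE8 8 i j = (![![2, 0, -1, 0, 0, 0, 0, 0], ![0, 2, 0, -1, 0, 0, 0, 0], ![-1, 0, 2, -1, 0, 0, 0, 0], ![0, -1, -1, 2, -1, 0,
    0, 0], ![0, 0, 0, -1, 2, -1, 0, 0], ![0, 0, 0, 0, -1, 2, -1, 0], ![0, 0, 0, 0, 0, -1, 2, -1], ![0, 0, 0, 0,
    0, 0, -1, 2]] :
      Fin 8 → Fin 8 → ℤ) i j := by decide +kernel
  funext i j
  exact h i j

theorem posE8 (x : Fin 8 → ℤ) (i : Fin 8) :
    x i ^ 2 ≤ 92 * qf (fun _ => 1) (cartanOf Cfsg.Lie.chevE8 8) x := by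
  have key : ∑ i, x i ^ 2 ≤ 92 * qf (fun _ => 1) (cartanOf Cfsg.Lie.chevE8 8) x := by
    unfold qf
    rw [eqE8]
    simp only [Fin.sum_univ_succ, Fin.sum_univ_zero]
    simp
    linarith [sq_nonneg (183 * x 0 + (-92) * x 2), sq_nonneg (183 * x 1 + (-92) * x 3),
      sq_nonneg (25025 * x 2 + (-16836) * x 3), sq_nonneg (342799729 * x 3 + (-421320900) * x 4),
      sq_nonneg (23970827607 * x 4 + (-31537575068) * x 5),
      sq_nonneg (1485204545825 * x 5 + (-2205316139844) * x 6),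
      sq_nonneg (68903347020327 * x 6 + (-136638818215900) * x 7), sq_nonneg (x 7)]
  exact (Finset.single_le_sum (f := fun i => x i ^ 2) (fun i _ => sq_nonneg _) (Finset.mem_univ i)).trans key

theorem symE8 : ∀ i j : Fin 8, (fun _ => 1) i * cartanOf Cfsg.Lie.chevE8 8 i j =
    (fun _ => 1) j * cartanOf Cfsg.Lie.chevE8 8 j i := by
  rw [eqE8]
  decide +kernel

theorem finiteE8 {W : Type*} [Group W] (cs : CoxeterSystem CoxeterMatrix.E₈ W) : Finite W :=
  finite_of_form isCartan_E8 cs (fun _ => 1) symE8 92 184 posE8 (by decide)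

theorem eqF4 : cartanOf Cfsg.Lie.chevF4 4 = ![![2, -1, 0, 0], ![-1, 2, -2, 0], ![0, -1, 2, -1], ![0, 0, -1, 2]] := by
  have h : ∀ i j, cartanOf Cfsg.Lie.chevF4 4 i j = (![![2, -1, 0, 0], ![-1, 2, -2, 0], ![0, -1, 2, -1], ![0, 0, -1, 2]] :
      Fin 4 → Fin 4 → ℤ) i j := by decide +kernel
  funext i j
  exact h i j

theorem posF4 (x : Fin 4 → ℤ) (i : Fin 4) :
    x i ^ 2 ≤ 12 * qf ![1, 1, 2, 2] (cartanOf Cfsg.Lie.chevF4 4) x := by
  have key : ∑ i, x i ^ 2 ≤ 12 * qf ![1, 1, 2, 2] (cartanOf Cfsg.Lie.chevF4 4) x := by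
    unfold qf
    rw [eqF4]
    simp only [Fin.sum_univ_succ, Fin.sum_univ_zero]
    simp
    linarith [sq_nonneg (23 * x 0 + (-12) * x 1), sq_nonneg (385 * x 1 + (-552) * x 2),
      sq_nonneg (4847 * x 2 + (-9240) * x 3), sq_nonneg (x 3)]
  exact (Finset.single_le_sum (f := fun i => x i ^ 2) (fun i _ => sq_nonneg _) (Finset.mem_univ i)).trans key

theorem symF4 : ∀ i j : Fin 4, ![1, 1, 2, 2] i * cartanOf Cfsg.Lie.chevF4 4 i j =
    ![1, 1, 2, 2] j * cartanOf Cfsg.Lie.chevF4 4 j i := by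
  rw [eqF4]
  decide +kernel

theorem finiteF4 {W : Type*} [Group W] (cs : CoxeterSystem CoxeterMatrix.F₄ W) : Finite W :=
  finite_of_form isCartan_F4 cs ![1, 1, 2, 2] symF4 12 48 posF4 (by decide)

theorem eqG2 : cartanOf Cfsg.Lie.chevG2 2 = ![![2, -3], ![-1, 2]] := by
  have h : ∀ i j, cartanOf Cfsg.Lie.chevG2 2 i j = (![![2, -3], ![-1, 2]] :
      Fin 2 → Fin 2 → ℤ) i j := by decide +kernel
  funext i j
  exact h i j

theorem posG2 (x : Fin 2 → ℤ) (i : Fin 2) :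
    x i ^ 2 ≤ 3 * qf ![1, 3] (cartanOf Cfsg.Lie.chevG2 2) x := by
  have key : ∑ i, x i ^ 2 ≤ 3 * qf ![1, 3] (cartanOf Cfsg.Lie.chevG2 2) x := by
    unfold qf
    rw [eqG2]
    simp only [Fin.sum_univ_succ, Fin.sum_univ_zero]
    simp
    linarith [sq_nonneg (5 * x 0 + (-9) * x 1), sq_nonneg (x 1)]
  exact (Finset.single_le_sum (f := fun i => x i ^ 2) (fun i _ => sq_nonneg _) (Finset.mem_univ i)).trans key

theorem symG2 : ∀ i j : Fin 2, ![1, 3] i * cartanOf Cfsg.Lie.chevG2 2 i j =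
    ![1, 3] j * cartanOf Cfsg.Lie.chevG2 2 j i := by
  rw [eqG2]
  decide +kernel

theorem finiteG2 {W : Type*} [Group W] (cs : CoxeterSystem CoxeterMatrix.G₂ W) : Finite W :=
  finite_of_form isCartan_G2 cs ![1, 3] symG2 3 18 posG2 (by decide)

end Exc

end Cfsg.Agent.Nodes.TyCox

namespace Cfsg.Agent.Nodes.Chart.Ty

open Cfsg.Agent.ChevalleyStructure.CoxeterGeom

/-- the Coxeter groups of the types are finite -/
theorem finite_W : (τ : Ty) → {W : Type*} → [Group W] → (cs : CoxeterSystem τ.M W) → Finite W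
  | A n, _, _, cs => RootsA.finite_W cs (RootsA.isCartan n)
  | B _, _, _, cs => TypeC.finite_W cs
  | C _, _, _, cs => TypeC.finite_W cs
  | D _, _, _, cs => TypeD.finite_W cs
  | E6, _, _, cs => TyCox.finiteE6 cs
  | E7, _, _, cs => TyCox.finiteE7 cs
  | E8, _, _, cs => TyCox.finiteE8 cs
  | F4, _, _, cs => TyCox.finiteF4 cs
  | G2, _, _, cs => TyCox.finiteG2 cs

/-- the Coxeter group of a type is finite -/
theorem finite_group (τ : Ty) : Finite τ.M.Group := finite_W τ τ.M.toCoxeterSystem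

end Cfsg.Agent.Nodes.Chart.Ty
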