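import Mathlib
import Cfsg.Agent.Nodes.RelFrame
import Cfsg.Agent.Nodes.KindBase
import Cfsg.Agent.Cit.TypeDet.Piece

/-!
# Frames of chart groups (project CIT, (B4) (K1), (K2))

`C : Chart Om p L`.

* `rel_frame` : members of `Om` in `L`, pairwise commuting and commuting with the `KK (r i)` (`r i ∈ R` pairwise
  orthogonal), are moved by `DD (range r)` to `KK (s j)`, `s j ∈ R ∩ Perp (range r)`; (K1) = `frame`;
* `omF_eq` : `{K ∈ Om : K ≤ L, K commutes with the KK (r i)} = OmF (range r)`;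
* `FrameIn C K s d` : `d K_k d⁻¹ = KK (s k)`; `exists_frameIn`, `FrameIn.act`, `FrameIn.exists_std`;
* `FrameIn.rel_iff` : helper474's block system `data (OmIn Om L) K` in terms of chains of non-orthogonal roots;
* `FrameIn.sgl`.
-/

set_option autoImplicit false
set_option linter.unusedSectionVars false
set_option linter.dupNamespace false

namespace Cfsg.Agent.Nodes.ChartFrame

open CoxeterSystem Cfsg.Agent.ChevalleyStructure.CoxeterGeom Cfsg.Agent.Tits.Roots Cfsg.Agent.Tits.Core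
  Cfsg.Agent.Tits.RootComb Cfsg.Agent.Nodes.Comb Cfsg.Agent.Nodes.Reps Cfsg.Agent.Nodes.BNOf
  Cfsg.Agent.Nodes.RGDLib Cfsg.Agent.Nodes.Chart Cfsg.Agent.Nodes.Bruhat Cfsg.Agent.Nodes.Coroot
  Cfsg.Agent.Nodes.Perp
open Cfsg.Agent.Cit.TypeDet (cm stp chn cm_symm cm_iff_le_centralizer cm_mono OmA YA data OmIn)
open Relation

variable {G : Type*} [Group G] {Om : Set (Subgroup G)} {p : ℕ} {L : Subgroup G} (C : Chart.Chart Om p L)

/-- `GG = L`. -/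
theorem GG_eq : GG C.cs C.h C.T C.X = L := by
  have h1 : G1 C.cs C.h C.X = L := C.gen
  unfold GG
  unfold G1 at h1
  rw [h1]
  exact sup_eq_right.2 C.T_le

theorem DD_empty : DD C.cs C.h C.X ∅ = L := by
  refine Eq.trans ?_ C.gen
  unfold DD Perp G1
  congr 1
  ext x
  simp

theorem DD_le (F : Set (C.I → ℤ)) : DD C.cs C.h C.X F ≤ L :=
  (DD_mono (Set.empty_subset F)).trans (DD_empty C).le

theorem X_le {x : C.I → ℤ} (hx : IsRoot C.cs C.h x) : C.X x ≤ L := (X_le_G1 hx).trans C.gen.le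

theorem KK_le {r : C.I → ℤ} (hr : r ∈ C.R) : KK C.Z r ≤ L :=
  sup_le ((C.cls.le r hr).trans (X_le C (C.cls.root r hr)))
    ((C.cls.le _ (ClsNorm.neg_mem C.cls hr)).trans (X_le C (C.cls.root r hr).neg))

theorem KK_mem_Om {r : C.I → ℤ} (hr : r ∈ C.R) : KK C.Z r ∈ Om := C.om r hr

theorem exists_isCls {K : Subgroup G} (hK : K ∈ Om) (hKL : K ≤ L) :
    ∃ P Q, Frame.IsCls C.cs C.h C.T C.X C.R C.Z P ∧ Frame.IsCls C.cs C.h C.T C.X C.R C.Z Q ∧
      ¬ IsPGroup p ↥(P ⊔ Q) ∧ K = P ⊔ Q := by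
  obtain ⟨r, hr, g, hg, rfl⟩ := C.om_conj K hK hKL
  refine ⟨cj g (C.Z r), cj g (C.Z (-r)), ⟨r, hr, g, by rw [GG_eq]; exact hg, rfl⟩,
    ⟨-r, ClsNorm.neg_mem C.cls hr, g, by rw [GG_eq]; exact hg, rfl⟩, ?_, cj_sup _ _ _⟩
  intro hp
  rw [← cj_sup] at hp
  exact C.cls.notp r hr (hp.of_equiv ((C.Z r ⊔ C.Z (-r)).equivMapOfInjective (MulAut.conj g).toMonoidHom
    (MulAut.conj g).injective).symm)

/-- **The relative frame lemma** for charts. -/
theorem rel_frame {ι κ : Type*} [Finite ι] [Finite κ] (r : ι → C.I → ℤ) (hr : ∀ i, r i ∈ C.R)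
    (ho : ∀ i j, i ≠ j → form C.cs C.h (r i) (r j) = 0) (K : κ → Subgroup G) (hK : ∀ j, K j ∈ Om)
    (hKL : ∀ j, K j ≤ L) (hc : ∀ i j, i ≠ j → cm (K i) (K j)) (hcr : ∀ j i, cm (K j) (KK C.Z (r i))) :
    ∃ d ∈ DD C.cs C.h C.X (Set.range r), ∃ s : κ → C.I → ℤ, (∀ j, s j ∈ C.R) ∧
      (∀ j, s j ∈ Perp C.cs C.h (Set.range r)) ∧ (∀ j, cj d (K j) = KK C.Z (s j)) ∧
      ∀ i j, i ≠ j → form C.cs C.h (s i) (s j) = 0 := by
  obtain ⟨m, ⟨e⟩⟩ := Finite.exists_equiv_fin ι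
  obtain ⟨m', ⟨e'⟩⟩ := Finite.exists_equiv_fin κ
  have h1 := fun j => exists_isCls C (hK j) (hKL j)
  choose P Q hP hQ hnp hPQ using h1
  have hrange : Set.range (fun i => r (e.symm i)) = Set.range r := by
    ext x
    constructor
    · rintro ⟨i, rfl⟩; exact ⟨_, rfl⟩
    · rintro ⟨i, rfl⟩; exact ⟨e i, by simp⟩
  obtain ⟨d, hd, s, h2, h3, h4, h5, h6⟩ := RelFrame.rel_frame C.cls (fun i => r (e.symm i)) (fun i => hr _)
    (fun i j hij => ho _ _ fun h0 => hij (e.symm.injective h0)) (fun j => P (e'.symm j)) (fun j => Q (e'.symm j))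
    (fun j => hP _) (fun j => hQ _) (fun j => hnp _)
    (fun i j hij => by
      rw [← hPQ, ← hPQ]
      exact hc _ _ fun h0 => hij (e'.symm.injective h0))
    (fun j i => by rw [← hPQ]; exact hcr _ _)
  rw [hrange] at hd
  refine ⟨d, hd, fun j => s (e' j), fun j => h2 _, fun j => ?_, fun j => ?_, fun i j hij => ?_⟩
  · have := h3 (e' j)
    rwa [hrange] at this
  · have h7 := h4 (e' j)
    have h8 := h5 (e' j)
    rw [Equiv.symm_apply_apply] at h7 h8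
    rw [hPQ j, cj_sup, h7, h8]
    rfl
  · exact h6 _ _ fun h0 => hij (e'.injective h0)

/-- **(K1)** -/
theorem frame {κ : Type*} [Finite κ] (K : κ → Subgroup G) (hK : ∀ j, K j ∈ Om)
    (hKL : ∀ j, K j ≤ L) (hc : ∀ i j, i ≠ j → cm (K i) (K j)) :
    ∃ d ∈ L, ∃ s : κ → C.I → ℤ, (∀ j, s j ∈ C.R) ∧ (∀ j, cj d (K j) = KK C.Z (s j)) ∧
      ∀ i j, i ≠ j → form C.cs C.h (s i) (s j) = 0 := by
  obtain ⟨d, hd, s, h1, -, h2, h3⟩ := rel_frame C (ι := Empty) (fun i => i.elim) (fun i => i.elim)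
    (fun i => i.elim) K hK hKL hc (fun _ i => i.elim)
  exact ⟨d, DD_le C _ hd, s, h1, h2, h3⟩

/-- **(K2)** The members of `Om` in `L` commuting with the members `KK (r i)` of a frame. -/
theorem omF_eq {ι : Type*} [Finite ι] (hO : ∀ K ∈ Om, ∀ g, cj g K ∈ Om) (r : ι → C.I → ℤ)
    (hr : ∀ i, r i ∈ C.R) (ho : ∀ i j, i ≠ j → form C.cs C.h (r i) (r j) = 0) :
    {K | K ∈ Om ∧ K ≤ L ∧ ∀ i, cm K (KK C.Z (r i))} = OmF C.cs C.h C.X C.R C.Z (Set.range r) := by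
  ext K
  constructor
  · rintro ⟨h1, h2, h3⟩
    obtain ⟨d, hd, s, h4, h5, h6, -⟩ := rel_frame C r hr ho (fun _ : Unit => K) (fun _ => h1) (fun _ => h2)
      (fun i j hij => absurd (Subsingleton.elim i j) hij) (fun _ i => h3 i)
    refine ⟨s (), h4 _, h5 _, d⁻¹, inv_mem hd, ?_⟩
    rw [← h6 (), cj_inv_cj]
  · rintro ⟨s, hs, hsF, l, hl, rfl⟩
    refine ⟨hO _ (KK_mem_Om C hs) l, ?_, fun i => ?_⟩
    · intro x hx
      rw [mem_cj] at hx
      have h1 := KK_le C hs hx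
      have hlL := DD_le C _ hl
      have h2 : x = l * (l⁻¹ * x * l) * l⁻¹ := by group
      rw [h2]
      exact mul_mem (mul_mem hlL h1) (inv_mem hlL)
    · have h1 : cm (KK C.Z s) (KK C.Z (r i)) := RelFrame.cm_KK C.cls hs (hr i) (hsF.2 _ ⟨i, rfl⟩)
      have h2 := cj_DD_KK C.cls (hr i) (F := Set.range r) ⟨i, rfl⟩ hl
      rw [← h2, cm_cj']
      exact h1

/-! ### Frames -/

section Data

variable {κ : Type*} {K : κ → Subgroup G}

/-- The frame `K_k` is carried by `d` to the `KK (s k)`. -/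
structure FrameIn (K : κ → Subgroup G) (s : κ → C.I → ℤ) (d : G) : Prop where
  mem : d ∈ L
  R : ∀ k, s k ∈ C.R
  eq : ∀ k, cj d (K k) = KK C.Z (s k)
  orth : ∀ k l, k ≠ l → form C.cs C.h (s k) (s l) = 0

theorem exists_frameIn [Finite κ] (hK : ∀ i, K i ∈ OmIn Om L) (hc : ∀ i j, i ≠ j → cm (K i) (K j)) :
    ∃ s d, FrameIn C K s d := by
  obtain ⟨d, hd, s, h1, h2, h3⟩ := frame C K (fun k => (hK k).1) (fun k => (hK k).2) hc
  exact ⟨s, d, hd, h1, h2, h3⟩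

variable {C} {s : κ → C.I → ℤ} {d : G}

/-- The frame vectors may be moved by the Weyl group. -/
theorem FrameIn.act (F : FrameIn C K s d) (w : C.W) : ∃ d', FrameIn C K (fun k => rep C.cs C.h w (s k)) d' := by
  obtain ⟨k, hk⟩ := exists_rp C.cs C.cls.rgd.nsys w
  refine ⟨k * d, ?_, fun i => C.cls.act _ (F.R i) w, fun i => ?_, fun i j hij => ?_⟩
  · refine mul_mem ?_ F.mem
    have h1 : k ∈ GG C.cs C.h C.T C.X := NN_le_GG C.cls.rgd ⟨_, hk⟩
    rwa [GG_eq] at h1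
  · rw [cj_mul, F.eq i, conj_KK C.cls hk (F.R i)]
  · rw [form_rep]; exact F.orth i j hij

theorem cj_Om_iff (hO : ∀ K ∈ Om, ∀ g, cj g K ∈ Om) {K : Subgroup G} (g : G) : cj g K ∈ Om ↔ K ∈ Om := by
  constructor
  · intro h1
    have := hO _ h1 g⁻¹
    rwa [cj_inv_cj] at this
  · intro h1
    exact hO _ h1 g

theorem cj_le_iff {K L : Subgroup G} {g : G} (hg : g ∈ L) : cj g K ≤ L ↔ K ≤ L := by
  rw [← cj_le_cj_iff g (A := K) (B := L), cj_eq_of_mem hg]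

/-- A maximal frame of members of `Om` gives a maximal family of orthogonal roots. -/
theorem FrameIn.max (F : FrameIn C K s d) (hO : ∀ K ∈ Om, ∀ g, cj g K ∈ Om)
    (hmax : ∀ L' ∈ OmIn Om L, ¬ ∀ k, cm L' (K k)) :
    ∀ x ∈ C.R, (∀ k, form C.cs C.h x (s k) = 0) → False := by
  intro x hx h0
  refine hmax (cj d⁻¹ (KK C.Z x)) ⟨hO _ (KK_mem_Om C hx) _, (cj_le_iff (inv_mem F.mem)).2 (KK_le C hx)⟩
    fun k => ?_
  have h2 := RelFrame.cm_KK C.cls hx (F.R k) (h0 k)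
  rw [← F.eq k] at h2
  rw [← cm_cj' (g := d), cj_cj_inv]
  exact h2

/-- **(K1)**: a maximal frame is carried to the standard frame. -/
theorem FrameIn.exists_std [Finite κ] (F : FrameIn C K s d) (hO : ∀ K ∈ Om, ∀ g, cj g K ∈ Om)
    (hmax : ∀ L' ∈ OmIn Om L, ¬ ∀ k, cm L' (K k)) {κ' : Type*} [Finite κ'] {g : κ' → C.I → ℤ}
    (FS : KindBase.FrameSys C.cs C.h C.R g) : ∃ (σ : κ ≃ κ') (d' : G), FrameIn C K (fun k => g (σ k)) d' := by
  have F' : KindBase.FrameSys C.cs C.h C.R s :=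
    ⟨FS.root, FS.act, FS.le_one, F.R,
      fun k l hkl => (cpr_zero_iff C.cs C.h _ (C.cls.root _ (F.R l))).2 (F.orth k l hkl),
      fun x hx h0 => F.max hO hmax x hx fun k =>
        (cpr_zero_iff C.cs C.h _ (C.cls.root _ (F.R k))).1 (h0 k)⟩
  obtain ⟨w, σ, h1⟩ := FS.exists_equiv F'
  obtain ⟨d', F''⟩ := F.act w
  refine ⟨σ, d', F''.mem, fun k => ?_, fun k => ?_, fun k l hkl => ?_⟩
  · rw [← h1]; exact F''.R k
  · rw [← h1]; exact F''.eq k
  · rw [← h1, ← h1]; exact F''.orth k l hkl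

/-- The sets `OmA` in terms of roots. -/
theorem FrameIn.mem_OmA [Finite κ] (F : FrameIn C K s d) (hO : ∀ K ∈ Om, ∀ g, cj g K ∈ Om) {A : Finset κ}
    (L' : Subgroup G) :
    L' ∈ OmA (OmIn Om L) K A ↔ cj d L' ∈ OmF C.cs C.h C.X C.R C.Z (s '' {k | k ∉ A}) := by
  have h1 := omF_eq C hO (fun k : {k // k ∉ A} => s k) (fun k => F.R k)
    (fun i j hij => F.orth _ _ fun h0 => hij (Subtype.ext h0))
  have h2 : Set.range (fun k : {k // k ∉ A} => s k) = s '' {k | k ∉ A} := by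
    ext x
    constructor
    · rintro ⟨k, rfl⟩; exact ⟨k, k.2, rfl⟩
    · rintro ⟨k, hk, rfl⟩; exact ⟨⟨k, hk⟩, rfl⟩
  rw [h2] at h1
  rw [← h1]
  constructor
  · rintro ⟨⟨h3, h4⟩, h5⟩
    refine ⟨(cj_Om_iff hO _).2 h3, (cj_le_iff F.mem).2 h4, fun k => ?_⟩
    rw [← F.eq k, cm_cj']
    exact h5 k k.2
  · rintro ⟨h3, h4, h5⟩
    refine ⟨⟨(cj_Om_iff hO _).1 h3, (cj_le_iff F.mem).1 h4⟩, fun k hk => ?_⟩
    have := h5 ⟨k, hk⟩
    rwa [← F.eq k, cm_cj'] at this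

theorem chn_cj_iff {S S' : Set (Subgroup G)} {g : G} (hg : ∀ K, K ∈ S ↔ cj g K ∈ S') {K L : Subgroup G} :
    chn S K L ↔ chn S' (cj g K) (cj g L) := by
  constructor
  · intro h1
    exact h1.lift (cj g) fun _ _ h0 => ⟨(hg _).1 h0.1, (hg _).1 h0.2.1, fun h2 => h0.2.2 (cm_cj'.1 h2)⟩
  · intro h1
    have h2 : ReflTransGen (stp S) (cj g⁻¹ (cj g K)) (cj g⁻¹ (cj g L)) := h1.lift (cj g⁻¹) fun a b h0 =>
      ⟨(hg _).2 (by rw [cj_cj_inv]; exact h0.1), (hg _).2 (by rw [cj_cj_inv]; exact h0.2.1),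
        fun h2 => h0.2.2 (cm_cj'.1 h2)⟩
    rwa [cj_inv_cj, cj_inv_cj] at h2

/-- **The block system of a frame of a chart group.** -/
theorem FrameIn.rel_iff [Fintype κ] (F : FrameIn C K s d) (hO : ∀ K ∈ Om, ∀ g, cj g K ∈ Om)
    (hK : ∀ i, K i ∈ OmIn Om L) (hc : ∀ i j, i ≠ j → cm (K i) (K j))
    {A : Finset κ} {i j : κ} :
    (data (OmIn Om L) K hK hc).rel A i j ↔
      i ∈ A ∧ j ∈ A ∧ ReflTransGen (Lk C.cs C.h (s '' {k | k ∉ A})) (s i) (s j) := by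
  have h1 : (data (OmIn Om L) K hK hc).rel A i j ↔ i ∈ A ∧ j ∈ A ∧ chn (OmA (OmIn Om L) K A) (K i) (K j) :=
    Iff.rfl
  rw [h1]
  refine and_congr_right fun hi => and_congr_right fun hj => ?_
  have hp : ∀ k ∈ A, s k ∈ Perp C.cs C.h (s '' {k | k ∉ A}) := by
    intro k hk
    refine ⟨C.cls.root _ (F.R k), ?_⟩
    rintro _ ⟨l, hl, rfl⟩
    exact F.orth k l fun h0 => hl (h0 ▸ hk)
  rw [chn_cj_iff (fun L' => F.mem_OmA hO L'), F.eq i, F.eq j]
  have h2 := chn_iff C.cls C.prime C.odd (F.R i) (hp i hi) (F.R j) (hp j hj)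
    (l := 1) (l' := 1) (one_mem _) (one_mem _)
  rwa [cj_one, cj_one] at h2

/-- `Y_{l} = K_l` if every root orthogonal to the other members of the frame is orthogonal to `s l` or is `± s l`. -/
theorem FrameIn.sgl [Fintype κ] (F : FrameIn C K s d) (hO : ∀ K ∈ Om, ∀ g, cj g K ∈ Om)
    (hK : ∀ i, K i ∈ OmIn Om L) (hc : ∀ i j, i ≠ j → cm (K i) (K j))
    (hXZ : ∀ r ∈ C.R, C.X r = C.Z r) {l : κ}
    (h0 : ∀ x, IsRoot C.cs C.h x → (∀ k, k ≠ l → form C.cs C.h x (s k) = 0) → x ≠ s l → x ≠ -s l →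
      form C.cs C.h x (s l) = 0)
    (hmax : ∀ x ∈ C.R, (∀ k, form C.cs C.h x (s k) = 0) → False) :
    (data (OmIn Om L) K hK hc).sgl l := by
  intro L' hL'
  have hset : {k | k ∉ ({l} : Finset κ)} = {k | k ≠ l} := by
    ext k; simp
  have h1 := (F.mem_OmA hO L').1 hL'
  rw [hset] at h1
  obtain ⟨r, hr, hrF, g, hg, e⟩ := h1
  have h0' : ∀ x ∈ Perp C.cs C.h (s '' {k | k ≠ l}), x ≠ s l → x ≠ -s l → form C.cs C.h x (s l) = 0 :=
    fun x hx => h0 x hx.1 fun k hk => hx.2 _ ⟨k, hk, rfl⟩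
  -- `r = ± s l`
  have h2 : r = s l ∨ r = -s l := by
    by_contra h3
    push Not at h3
    refine hmax r hr fun k => ?_
    by_cases hkl : k = l
    · rw [hkl]; exact h0' r hrF h3.1 h3.2
    · exact hrF.2 _ ⟨k, hkl, rfl⟩
  have h3 : KK C.Z r = KK C.Z (s l) := by
    rcases h2 with h2 | h2
    · rw [h2]
    · rw [h2, KK_neg]
  -- `DD` normalises `KK (s l)`
  have hsl := F.R l
  have h4 : DD C.cs C.h C.X (s '' {k | k ≠ l}) ≤ Subgroup.normalizer (KK C.Z (s l) : Set G) := by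
    refine RGD.Sup_le fun x hx => ?_
    by_cases hx1 : x = s l
    · rw [hx1, hXZ _ hsl]
      exact (le_sup_left : C.Z (s l) ≤ KK C.Z (s l)).trans Subgroup.le_normalizer
    by_cases hx2 : x = -s l
    · rw [hx2, hXZ _ (ClsNorm.neg_mem C.cls hsl)]
      exact (le_sup_right : C.Z (-s l) ≤ KK C.Z (s l)).trans Subgroup.le_normalizer
    · exact (cm_iff_le_centralizer.1 (X_cm_KK C.cls hsl hx.1 (h0' x hx hx1 hx2))).trans
        (ClsNorm.centralizer_le_normalizer' _)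
  rw [h3, mem_normalizer_iff_cj.1 (h4 hg), ← F.eq l] at e
  have h5 := congrArg (cj d⁻¹) e
  rwa [cj_inv_cj, cj_inv_cj] at h5

end Data

end Cfsg.Agent.Nodes.ChartFrame
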