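import Mathlib
import Cfsg.Agent.Nodes.ChartFrame
import Cfsg.Agent.Nodes.RootKinds
import Cfsg.Agent.Nodes.ZRel

/-!
# From root level kinds to the kinds of frames of chart groups (project CIT, (B4))

`C : Chart Om p L`, `g` a frame (`FrameSys`) of the root system, `K` a maximal commuting family of members of `Om` in `L`:

* `kl`, `kf`, `kd4`, `ko`, `kd`, `ke7`, `ke8` : from `RKL`, `RKF`, ... to `KL univ`, `KF univ`, ... for
  `data (OmIn Om L) K hK hc`;
* `kinds` : from `RKinds` to `Kinds univ`; `card_eq`, `exists_std`.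
-/

set_option autoImplicit false
set_option linter.unusedSectionVars false
set_option linter.dupNamespace false

namespace Cfsg.Agent.Nodes.KindsOf

open CoxeterSystem Cfsg.Agent.ChevalleyStructure.CoxeterGeom Cfsg.Agent.Tits.Roots Cfsg.Agent.Tits.Core
  Cfsg.Agent.Tits.RootComb Cfsg.Agent.Nodes.Comb Cfsg.Agent.Nodes.Reps Cfsg.Agent.Nodes.BNOf
  Cfsg.Agent.Nodes.RGDLib Cfsg.Agent.Nodes.Chart Cfsg.Agent.Nodes.Coroot Cfsg.Agent.Nodes.Perp
  Cfsg.Agent.Nodes.ChartFrame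
open Cfsg.Agent.Cit.TypeDet (cm OmA YA data OmIn)
open Relation

/-! ### Root level -/

section Root

variable {I W κ : Type*} [Fintype I] [DecidableEq I] [Group W] [Fintype W] {M : CoxeterMatrix I}
  {cs : CoxeterSystem M W} {A : I → I → ℤ} {h : IsCartan M A} {R : Set (I → ℤ)}
  {g : κ → I → ℤ}

theorem cpr_mul_cpr (FS : KindBase.FrameSys cs h R g) {r s : I → ℤ} (hr : r ∈ R) (hs : s ∈ R) (h1 : s ≠ r)
    (h2 : s ≠ -r) (h3 : form cs h s r ≠ 0) : cpr cs h s r * cpr cs h r s = 1 := by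
  have hrr := FS.root r hr
  have hss := FS.root s hs
  have h4 := FS.le_one s hs r hr h1 h2
  have h5 := FS.le_one r hr s hs (Ne.symm h1) (fun e => h2 (by rw [e, neg_neg]))
  have h6 : cpr cs h s r ≠ 0 := fun h0 => h3 ((cpr_zero_iff cs h s hrr).1 h0)
  have h7 : cpr cs h r s ≠ 0 := fun h0 => h3 (by rw [form_comm]; exact (cpr_zero_iff cs h r hss).1 h0)
  have h8 := two_form_cpr cs h s hrr
  have h9 := two_form_cpr cs h r hss
  rw [form_comm cs h r s] at h9
  have p1 := form_pos cs h hrr.ne_zero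
  have p2 := form_pos cs h hss.ne_zero
  rw [abs_le] at h4 h5
  have c1 : cpr cs h s r = 1 ∨ cpr cs h s r = -1 := by omega
  have c2 : cpr cs h r s = 1 ∨ cpr cs h r s = -1 := by omega
  rcases c1 with c1 | c1 <;> rcases c2 with c2 | c2 <;> rw [c1] at h8 <;> rw [c2] at h9 <;> rw [c1, c2] <;>
    first | (exfalso; linarith) | norm_num

/-- If all roots of `Perp F` not orthogonal to `x` are `± x` then `x` is joined only to `± x`. -/
theorem eq_of_isolated {F : Set (I → ℤ)} {x y : I → ℤ}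
    (h0 : ∀ y ∈ Perp cs h F, form cs h y x ≠ 0 → y = x ∨ y = -x) (hl : ReflTransGen (Lk cs h F) x y) :
    y = x ∨ y = -x := by
  induction hl with
  | refl => exact Or.inl rfl
  | @tail y z _ h2 ih =>
    apply h0 z h2.2.1
    rw [form_comm]
    rcases ih with e | e
    · rw [e] at h2; exact h2.2.2
    · rw [e] at h2
      have := h2.2.2
      rw [form_neg_left] at this
      exact fun h3 => this (by rw [h3, neg_zero])

end Root

variable {G : Type*} [Group G] [Finite G] {Om : Set (Subgroup G)} {p : ℕ} {L : Subgroup G}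
  {C : Chart.Chart Om p L} {κ : Type*} {K : κ → Subgroup G} {s : κ → C.I → ℤ} {d : G}

theorem form_eq (C : Chart.Chart Om p L) : ∀ x ∈ C.R, ∀ y ∈ C.R, form C.cs C.h x x = form C.cs C.h y y := by
  intro x hx y hy
  obtain ⟨w, rfl⟩ := C.trans x hx y hy
  rw [form_rep]

/-- If one element of `R` is joined to another one then all are. -/
theorem z_ne_one (C : Chart.Chart Om p L) {r x : C.I → ℤ} (hr : r ∈ C.R) (hx : x ∈ C.R) (h1 : x ≠ r) (h2 : x ≠ -r)
    (h3 : form C.cs C.h x r ≠ 0) : ∀ r ∈ C.R, C.z r ≠ 1 := by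
  intro y hy
  obtain ⟨w, rfl⟩ := C.trans r hr y hy
  refine StdConn.z_ne_one C.cls C.prime C.odd hy (C.cls.root _ (C.cls.act _ hx w)) (fun e => h1 ?_)
    (fun e => h2 ?_) (by rw [form_rep]; exact h3)
  · exact rep_injective_apply C.cs C.h w e
  · rw [← map_neg] at e
    exact rep_injective_apply C.cs C.h w e

theorem uniq (hyp : Cfsg.Agent.Cit.Hyp Om) (C : Chart.Chart Om p L) (h1 : ∀ r ∈ C.R, C.z r ≠ 1) :
    ZRel.Uniq C.R C.Z C.z := by
  intro r hr x hx h2 h3
  rw [hyp.eq_zz (C.om r hr) hx h2 h3, StdConn.zz_eq hyp C hr (h1 r hr)]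

/-- The involutions of the frame. -/
theorem FrameIn_zz (hyp : Cfsg.Agent.Cit.Hyp Om) (F : FrameIn C K s d) (hK : ∀ i, K i ∈ OmIn Om L)
    (h1 : ∀ r ∈ C.R, C.z r ≠ 1) (k : κ) : d * Cfsg.Agent.Cit.zz (K k) * d⁻¹ = C.z (s k) := by
  rw [← hyp.zz_cj (hK k).1 d]
  have h2 : Cfsg.Agent.Cit.cj d (K k) = KK C.Z (s k) := F.eq k
  rw [h2]
  exact StdConn.zz_eq hyp C (F.R k) (h1 _ (F.R k))

/-- The product of the four involutions. -/
theorem prod4 (hyp : Cfsg.Agent.Cit.Hyp Om) (F : FrameIn C K s d) (hK : ∀ i, K i ∈ OmIn Om L)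
    (h1 : ∀ r ∈ C.R, C.z r ≠ 1) {a b c e : κ} (hab : a ≠ b) (hac : a ≠ c) (hae : a ≠ e) (hbc : b ≠ c)
    (hbe : b ≠ e) (hce : c ≠ e) {u : C.I → ℤ} (hu : u ∈ C.R) (h2 : (2 : ℤ) • u = s a + s b + s c + s e) :
    Cfsg.Agent.Cit.zz (K a) * Cfsg.Agent.Cit.zz (K b) * Cfsg.Agent.Cit.zz (K c) * Cfsg.Agent.Cit.zz (K e) = 1 := by
  have h3 := ZRel.prod4 C.cls C.prime C.odd (uniq hyp C h1) (form_eq C) hu (F.R a) (F.R b) (F.R c) (F.R e)
    (F.orth a b hab) (F.orth a c hac) (F.orth a e hae) (F.orth b c hbc) (F.orth b e hbe) (F.orth c e hce) h2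
  rw [← FrameIn_zz hyp F hK h1, ← FrameIn_zz hyp F hK h1, ← FrameIn_zz hyp F hK h1,
    ← FrameIn_zz hyp F hK h1] at h3
  have h4 : d * (Cfsg.Agent.Cit.zz (K a) * Cfsg.Agent.Cit.zz (K b) * Cfsg.Agent.Cit.zz (K c) *
      Cfsg.Agent.Cit.zz (K e)) * d⁻¹ = 1 := by
    rw [← h3]; group
  exact conj_eq_one_iff.1 h4

/-- Members of the frame joined to another member have different involutions from the orthogonal ones. -/
theorem zz_ne (hyp : Cfsg.Agent.Cit.Hyp Om) (F : FrameIn C K s d) (hK : ∀ i, K i ∈ OmIn Om L)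
    (h1 : ∀ r ∈ C.R, C.z r ≠ 1) {i j k : κ} (hik : i ≠ k)
    (hc : ReflTransGen (Lk C.cs C.h {s j}) (s i) (s k)) : Cfsg.Agent.Cit.zz (K i) ≠ Cfsg.Agent.Cit.zz (K j) := by
  intro e
  have h2 : C.z (s i) = C.z (s j) := by
    rw [← FrameIn_zz hyp F hK h1, ← FrameIn_zz hyp F hK h1, e]
  obtain ⟨x, hx, hx1, hx2⟩ : ∃ x ∈ Perp C.cs C.h {s j}, form C.cs C.h x (s i) ≠ 0 ∧ ¬ (x = s i ∨ x = -s i) := by
    by_contra h3
    push Not at h3
    have h4 := eq_of_isolated (F := {s j}) (x := s i) h3 hc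
    have h5 := F.orth i k hik
    have h6 := form_pos C.cs C.h (C.cls.root _ (F.R i)).ne_zero
    rcases h4 with h4 | h4
    · rw [h4] at h5; omega
    · rw [h4, form_neg_right] at h5; omega
  rw [not_or] at hx2
  exact ZRel.z_ne C.cls C.prime C.odd (F.R i) (F.R j) hx.1 (hx.2 _ rfl) hx1 hx2.1 hx2.2 h2

/-- `z_l` is not central if `s l` is joined to another element of `R`. -/
theorem not_cen [Fintype κ] (hyp : Cfsg.Agent.Cit.Hyp Om) (F : FrameIn C K s d)
    (hK : ∀ i, K i ∈ OmIn Om L) (hc : ∀ i j, i ≠ j → cm (K i) (K j))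
    (h1 : ∀ r ∈ C.R, C.z r ≠ 1) {l : κ} {r : C.I → ℤ} (hr : r ∈ C.R) (hr1 : r ≠ s l) (hr2 : r ≠ -s l)
    (hr3 : form C.cs C.h r (s l) ≠ 0) : ¬ (data (OmIn Om L) K hK hc).cen Finset.univ l := by
  intro h2
  have h3 : ∀ x ∈ YA (OmIn Om L) K Finset.univ, x * Cfsg.Agent.Cit.zz (K l) = Cfsg.Agent.Cit.zz (K l) * x := h2
  have h4 : cj d⁻¹ (KK C.Z r) ≤ YA (OmIn Om L) K Finset.univ := by
    refine le_sSup ⟨⟨hyp.conj _ (KK_mem_Om C hr) _, (cj_le_iff (inv_mem F.mem)).2 (KK_le C hr)⟩, fun k hk => ?_⟩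
    exact absurd (Finset.mem_univ k) hk
  obtain ⟨e, he, he1⟩ := Z_ne_bot' C.cls hr
  apply he1
  apply ZRel.eq_one_of_inv C.cls C.prime C.odd (C.cls.root r hr) (C.cls.le r hr he)
  have h5 : d⁻¹ * e * d ∈ cj d⁻¹ (KK C.Z r) := by
    rw [mem_cj]
    have : (d⁻¹)⁻¹ * (d⁻¹ * e * d) * d⁻¹ = e := by group
    rw [this]
    exact (le_sup_left : C.Z r ≤ KK C.Z r) he
  have h6 := h3 _ (h4 h5)
  have h7 : e * C.z (s l) = C.z (s l) * e := by
    rw [← FrameIn_zz hyp F hK h1 l]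
    calc e * (d * Cfsg.Agent.Cit.zz (K l) * d⁻¹) = d * ((d⁻¹ * e * d) * Cfsg.Agent.Cit.zz (K l)) * d⁻¹ := by group
      _ = d * (Cfsg.Agent.Cit.zz (K l) * (d⁻¹ * e * d)) * d⁻¹ := by rw [h6]
      _ = _ := by group
  have h8 := C.cls.z_inv (s l) (F.R l) r (C.cls.root r hr) hr1 hr2 hr3 e (C.cls.le r hr he)
  rw [← h7, mul_assoc, C.cls.z_sq _ (F.R l), mul_one] at h8
  exact h8

/-- `X r = Z r` for all `r ∈ R`, if two of them are joined. -/
theorem X_eq_Z (hyp : Cfsg.Agent.Cit.Hyp Om) {κ' : Type*} {g : κ' → C.I → ℤ}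
    (FS : KindBase.FrameSys C.cs C.h C.R g) {r x : C.I → ℤ} (hr : r ∈ C.R) (hx : x ∈ C.R) (h1 : x ≠ r) (h2 : x ≠ -r)
    (h3 : form C.cs C.h x r ≠ 0) : ∀ r ∈ C.R, C.X r = C.Z r := by
  have h4 := z_ne_one C hr hx h1 h2 h3
  have h5 := ZRel.X_eq_Z C.cls C.prime C.odd (uniq hyp C h4) hr hx h1 h2 (cpr_mul_cpr FS hr hx h1 h2 h3)
  intro y hy
  obtain ⟨w, rfl⟩ := C.trans r hr y hy
  obtain ⟨k, hk⟩ := exists_rp C.cs C.cls.rgd.nsys w
  rw [← C.cls.rgd.conj_rp hk (C.cls.root r hr), ← ClsNorm.conj_Z C.cls hk hr, h5]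

section Final

open Finset RootKinds

variable [Fintype κ]

theorem conn_iff [DecidableEq κ] (F : FrameIn C K s d) (hO : ∀ K ∈ Om, ∀ g, cj g K ∈ Om)
    (hK : ∀ i, K i ∈ OmIn Om L) (hc : ∀ i j, i ≠ j → cm (K i) (K j)) (A : Finset κ) :
    (data (OmIn Om L) K hK hc).Conn A ↔ RootKinds.Conn C.cs C.h s A := by
  constructor
  · intro h1 i hi j hj
    exact ((F.rel_iff hO hK hc).1 (h1 i hi j hj)).2.2
  · intro h1 i hi j hj
    exact (F.rel_iff hO hK hc).2 ⟨hi, hj, h1 i hi j hj⟩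

/-! ### The single kinds, for a frame carried to the standard frame -/

section Single

variable (hyp : Cfsg.Agent.Cit.Hyp Om) (F : FrameIn C K s d) (FS : KindBase.FrameSys C.cs C.h C.R s)
  (hK : ∀ i, K i ∈ OmIn Om L) (hc : ∀ i j, i ≠ j → cm (K i) (K j))

include hyp F FS

/-- Consequences of `Linked`. -/
theorem of_linked (hl : Linked C.cs C.h C.R s) (hne : Nonempty κ) :
    (∀ r ∈ C.R, C.z r ≠ 1) ∧ (∀ r ∈ C.R, C.X r = C.Z r) := by
  obtain ⟨l⟩ := hne
  obtain ⟨r, hr, h1, h2, h3⟩ := hl l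
  exact ⟨z_ne_one C (F.R l) hr h1 h2 h3, X_eq_Z hyp FS (F.R l) hr h1 h2 h3⟩

omit FS in
open Classical in
theorem prod4_univ (h1 : ∀ r ∈ C.R, C.z r ≠ 1) (h4 : Fintype.card κ = 4) (hh : Half C.R s) :
    (data (OmIn Om L) K hK hc).Prod4 univ := by
  obtain ⟨u, hu, h2⟩ := hh
  intro a b c e habce
  have hcard : ({a, b, c, e} : Finset κ).card = 4 := by rw [← habce, card_univ, h4]
  have hab : a ≠ b := by
    rintro rfl
    rw [Finset.insert_eq_of_mem (by simp)] at hcard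
    have := Finset.card_le_three (a := a) (b := c) (c := e)
    omega
  have hac : a ≠ c := by
    rintro rfl
    rw [Finset.insert_eq_of_mem (by simp)] at hcard
    have := Finset.card_le_three (a := b) (b := a) (c := e)
    omega
  have hae : a ≠ e := by
    rintro rfl
    rw [Finset.insert_eq_of_mem (by simp)] at hcard
    have := Finset.card_le_three (a := b) (b := c) (c := a)
    omega
  have hbc : b ≠ c := by
    rintro rfl
    rw [show ({a, b, b, e} : Finset κ) = {a, b, e} by simp] at hcard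
    have := Finset.card_le_three (a := a) (b := b) (c := e)
    omega
  have hbe : b ≠ e := by
    rintro rfl
    rw [show ({a, b, c, b} : Finset κ) = {a, b, c} by ext x; simp; tauto] at hcard
    have := Finset.card_le_three (a := a) (b := b) (c := c)
    omega
  have hce : c ≠ e := by
    rintro rfl
    rw [show ({a, b, c, c} : Finset κ) = {a, b, c} by simp] at hcard
    have := Finset.card_le_three (a := a) (b := b) (c := c)
    omega
  refine prod4 hyp F hK h1 hab hac hae hbc hbe hce hu ?_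
  rw [h2, habce, sum_insert, sum_insert, sum_insert, sum_singleton]
  · abel
  · simpa using hce
  · simp [hbc, hbe]
  · simp [hab, hac, hae]

theorem sgl_univ (hl : Linked C.cs C.h C.R s) (h1 : ∀ l, Sgl C.cs C.h s l) (l : κ) :
    (data (OmIn Om L) K hK hc).sgl l :=
  F.sgl hyp.conj hK hc (of_linked hyp F FS hl ⟨l⟩).2 (h1 l) fun x hx h0 =>
    FS.max x hx fun k => (cpr_zero_iff C.cs C.h _ (C.cls.root _ (F.R k))).2 (h0 k)

omit FS in
theorem rel_iff (A : Finset κ) (i j : κ) : (data (OmIn Om L) K hK hc).rel A i j ↔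
    i ∈ A ∧ j ∈ A ∧ Chn C.cs C.h s A i j := F.rel_iff hyp.conj hK hc

omit FS in
open Classical in
theorem split_univ (p : κ → κ)
    (h1 : ∀ l i j, i ≠ l → j ≠ l → (Chn C.cs C.h s (univ.erase l) i j ↔ (i = p l ↔ j = p l))) :
    (data (OmIn Om L) K hK hc).PairSplit univ p := by
  intro l _ i _ j _ hi hj
  rw [← h1 l i j hi hj, rel_iff hyp F hK hc]
  simp [hi, hj]

omit FS in
open Classical in
theorem kl_aux (hR : RKL C.cs C.h s) : (data (OmIn Om L) K hK hc).KL univ := by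
  obtain ⟨h1, h2, h3⟩ := hR
  refine ⟨by rw [card_univ]; exact h1, fun l _ => ?_, fun i _ j _ hij => ?_⟩
  · rw [conn_iff F hyp.conj hK hc]; exact h2 l
  · rw [conn_iff F hyp.conj hK hc]; exact h3 i j hij

open Classical in
theorem kf_aux (hR : RKF C.cs C.h C.R s) : (data (OmIn Om L) K hK hc).KF univ := by
  obtain ⟨h1, h2, h3, h4⟩ := hR
  have hne : Nonempty κ := Fintype.card_pos_iff.1 (by omega)
  obtain ⟨hz1, -⟩ := of_linked hyp F FS h4 hne
  refine ⟨by rw [card_univ, h1], fun l _ => ?_, prod4_univ hyp F hK hc hz1 h1 h3, fun i _ j _ hij => ?_⟩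
  · rw [conn_iff F hyp.conj hK hc]; exact h2 l
  · by_contra hne'
    obtain ⟨k, -, hk⟩ := Cfsg.Agent.Cit.TypeDet.exists_mem_four (B := (univ : Finset κ)) (n := 4)
      (by rw [card_univ, h1]) {i, j} (lt_of_le_of_lt card_le_two (by norm_num))
    rw [mem_insert, mem_singleton, not_or] at hk
    have h5 := h2 j i (by simp [hne']) k (by simp [hk.2])
    have h6 : ReflTransGen (Lk C.cs C.h {s j}) (s i) (s k) := by
      have h7 : s '' {k | k ∉ (univ : Finset κ).erase j} = {s j} := by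
        ext x; simp
      unfold Chn at h5
      rwa [h7] at h5
    exact zz_ne hyp F hK hz1 (fun e => hk.1 e.symm) h6 hij

open Classical in
theorem kd4_aux (hR : RKD4 C.cs C.h C.R s) : (data (OmIn Om L) K hK hc).KD4 univ := by
  obtain ⟨h1, h2, h3, h4, h5⟩ := hR
  have hne : Nonempty κ := Fintype.card_pos_iff.1 (by omega)
  obtain ⟨hz1, -⟩ := of_linked hyp F FS h4 hne
  refine ⟨by rw [card_univ, h1], fun l _ i hi j hj hij hr => ?_, prod4_univ hyp F hK hc hz1 h1 h3, fun l _ => ?_,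
    fun l _ => sgl_univ hyp F FS hK hc h4 h5 l⟩
  · exact h2 l i j (ne_of_mem_erase hi) (ne_of_mem_erase hj) hij ((rel_iff hyp F hK hc _ _ _).1 hr).2.2
  · obtain ⟨r, hr, hr1, hr2, hr3⟩ := h4 l
    exact not_cen hyp F hK hc hz1 hr hr1 hr2 hr3

open Classical in
theorem ko_aux {p : κ → κ} (hR : RKO C.cs C.h C.R s p) : (data (OmIn Om L) K hK hc).KO univ p := by
  obtain ⟨h1, h2, h3, h4, h5, h6⟩ := hR
  refine ⟨by rw [card_univ]; exact h1, fun l _ => ⟨mem_univ _, (h2 l).1, (h2 l).2⟩, split_univ hyp F hK hc p h3,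
    fun i _ j _ hij => ?_, fun l _ => sgl_univ hyp F FS hK hc h5 h6 l⟩
  rw [conn_iff F hyp.conj hK hc]; exact h4 i j hij

open Classical in
theorem kd_aux {p : κ → κ} (hR : RKD C.cs C.h C.R s p) : (data (OmIn Om L) K hK hc).KD univ p := by
  obtain ⟨h1, h2, h3, h4, h5, h6⟩ := hR
  refine ⟨by rw [card_univ]; exact h1, fun l _ => ⟨mem_univ _, (h2 l).1, (h2 l).2⟩, split_univ hyp F hK hc p h3,
    fun A _ hA => ?_, fun l _ => sgl_univ hyp F FS hK hc h5 h6 l⟩
  rw [conn_iff F hyp.conj hK hc]; exact h4 A hA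

omit FS in
open Classical in
theorem ke7_aux (hR : RKE7 C.cs C.h s) : (data (OmIn Om L) K hK hc).KE7 univ := by
  refine ⟨by rw [card_univ, hR.1], fun l _ => ?_⟩
  rw [conn_iff F hyp.conj hK hc]; exact hR.2 l

omit FS in
open Classical in
theorem ke8_aux (hR : RKE8 C.cs C.h s) : (data (OmIn Om L) K hK hc).KE8 univ := by
  obtain ⟨h1, -, h3⟩ := hR
  refine ⟨by rw [card_univ, h1], fun x _ y _ z _ hxy hxz hyz => ?_⟩
  obtain ⟨w, ⟨hw1, hw2, hw3, hw4⟩, hw⟩ := h3 x y z hxy hxz hyz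
  refine ⟨w, mem_univ _, hw1, hw2, hw3, (conn_iff F hyp.conj hK hc _).2 hw4, fun w' _ h4 h5 h6 h7 => ?_⟩
  exact hw w' ⟨h4, h5, h6, (conn_iff F hyp.conj hK hc _).1 h7⟩

end Single

/-! ### Transport along a bijection of the index sets -/

section Transport

variable {I W κ' : Type*} [Fintype I] [DecidableEq I] [Group W] [Fintype W] {M : CoxeterMatrix I}
  {cs : CoxeterSystem M W} {A : I → I → ℤ} {h : IsCartan M A} {R : Set (I → ℤ)} [Fintype κ'] [DecidableEq κ]
  [DecidableEq κ'] {g : κ' → I → ℤ} (σ : κ ≃ κ')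

theorem chn_comp {A : Finset κ} {i j : κ} :
    Chn cs h (fun k => g (σ k)) A i j ↔ Chn cs h g (A.map σ.toEmbedding) (σ i) (σ j) := by
  have h1 : (fun k => g (σ k)) '' {k | k ∉ A} = g '' {k | k ∉ A.map σ.toEmbedding} := by
    ext x
    constructor
    · rintro ⟨k, hk, rfl⟩
      refine ⟨σ k, fun h0 => hk ?_, rfl⟩
      rw [mem_map_equiv, Equiv.symm_apply_apply] at h0
      exact h0
    · rintro ⟨k, hk, rfl⟩
      refine ⟨σ.symm k, fun h0 => hk ?_, by simp⟩
      rw [mem_map_equiv]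
      exact h0
  unfold Chn
  rw [h1]

theorem conn_comp {A : Finset κ} :
    RootKinds.Conn cs h (fun k => g (σ k)) A ↔ RootKinds.Conn cs h g (A.map σ.toEmbedding) := by
  constructor
  · intro h1 i hi j hj
    rw [mem_map_equiv] at hi hj
    have h2 := (chn_comp σ).1 (h1 _ hi _ hj)
    rwa [Equiv.apply_symm_apply, Equiv.apply_symm_apply] at h2
  · intro h1 i hi j hj
    rw [chn_comp]
    exact h1 _ (by rw [mem_map_equiv, Equiv.symm_apply_apply]; exact hi) _
      (by rw [mem_map_equiv, Equiv.symm_apply_apply]; exact hj)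

theorem map_erase_univ (l : κ) : ((univ : Finset κ).erase l).map σ.toEmbedding = univ.erase (σ l) := by
  ext x
  rw [mem_map_equiv]
  simp [Equiv.symm_apply_eq]

theorem sgl_comp {l : κ} : Sgl cs h (fun k => g (σ k)) l ↔ Sgl cs h g (σ l) := by
  unfold Sgl
  constructor
  · intro h1 x hx h2 h3 h4
    exact h1 x hx (fun k hk => h2 _ fun h0 => hk (σ.injective h0)) h3 h4
  · intro h1 x hx h2 h3 h4
    refine h1 x hx (fun k hk => ?_) h3 h4
    have := h2 (σ.symm k) (fun h0 => hk (by rw [← h0]; simp))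
    simpa using this

theorem half_comp : Half R (fun k => g (σ k)) ↔ Half R g := by
  unfold Half
  rw [Equiv.sum_comp σ g]

theorem linked_comp : Linked cs h R (fun k => g (σ k)) ↔ Linked cs h R g := by
  unfold Linked
  constructor
  · intro h1 l
    have := h1 (σ.symm l)
    simpa using this
  · intro h1 l
    exact h1 (σ l)

theorem pair_comp (i j : κ) : ({i, j} : Finset κ).map σ.toEmbedding = {σ i, σ j} := by simp

theorem pairing_comp {p : κ' → κ'} (h1 : ∀ l, p l ≠ l ∧ p (p l) = l) (l : κ) :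
    σ.symm (p (σ l)) ≠ l ∧ σ.symm (p (σ (σ.symm (p (σ l))))) = l := by
  refine ⟨fun h0 => (h1 (σ l)).1 ?_, ?_⟩
  · rw [Equiv.symm_apply_eq] at h0; exact h0
  · rw [Equiv.apply_symm_apply, (h1 (σ l)).2, Equiv.symm_apply_apply]

theorem split_comp {p : κ' → κ'}
    (h1 : ∀ l i j, i ≠ l → j ≠ l → (Chn cs h g (univ.erase l) i j ↔ (i = p l ↔ j = p l))) (l i j : κ)
    (hi : i ≠ l) (hj : j ≠ l) : Chn cs h (fun k => g (σ k)) (univ.erase l) i j ↔
      (i = σ.symm (p (σ l)) ↔ j = σ.symm (p (σ l))) := by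
  rw [chn_comp, map_erase_univ, h1 _ _ _ (fun h0 => hi (σ.injective h0)) (fun h0 => hj (σ.injective h0)),
    Equiv.eq_symm_apply, Equiv.eq_symm_apply]

theorem rkl_comp (hR : RKL cs h g) : RKL cs h (fun k => g (σ k)) := by
  obtain ⟨h1, h2, h3⟩ := hR
  refine ⟨by rw [Fintype.card_congr σ]; exact h1, fun l => ?_, fun i j hij => ?_⟩
  · rw [conn_comp, map_erase_univ]; exact h2 _
  · rw [conn_comp, pair_comp]; exact h3 _ _ fun h0 => hij (σ.injective h0)

theorem rkf_comp (hR : RKF cs h R g) : RKF cs h R (fun k => g (σ k)) := by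
  obtain ⟨h1, h2, h3, h4⟩ := hR
  refine ⟨by rw [Fintype.card_congr σ, h1], fun l => ?_, (half_comp σ).2 h3, (linked_comp σ).2 h4⟩
  rw [conn_comp, map_erase_univ]; exact h2 _

theorem rkd4_comp (hR : RKD4 cs h R g) : RKD4 cs h R (fun k => g (σ k)) := by
  obtain ⟨h1, h2, h3, h4, h5⟩ := hR
  refine ⟨by rw [Fintype.card_congr σ, h1], fun l i j hi hj hij => ?_,
    (half_comp σ).2 h3, (linked_comp σ).2 h4, fun l => (sgl_comp σ).2 (h5 _)⟩
  rw [chn_comp, map_erase_univ]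
  exact h2 _ _ _ (fun h0 => hi (σ.injective h0)) (fun h0 => hj (σ.injective h0)) fun h0 => hij (σ.injective h0)

theorem rko_comp {p : κ' → κ'} (hR : RKO cs h R g p) : RKO cs h R (fun k => g (σ k)) fun l => σ.symm (p (σ l)) := by
  obtain ⟨h1, h2, h3, h4, h5, h6⟩ := hR
  refine ⟨by rw [Fintype.card_congr σ]; exact h1, pairing_comp σ h2, split_comp σ h3, fun i j hij => ?_,
    (linked_comp σ).2 h5, fun l => (sgl_comp σ).2 (h6 _)⟩
  rw [conn_comp, pair_comp, h4 _ _ fun h0 => hij (σ.injective h0), Equiv.eq_symm_apply]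

theorem rkd_comp {p : κ' → κ'} (hR : RKD cs h R g p) : RKD cs h R (fun k => g (σ k)) fun l => σ.symm (p (σ l)) := by
  obtain ⟨h1, h2, h3, h4, h5, h6⟩ := hR
  refine ⟨by rw [Fintype.card_congr σ]; exact h1, pairing_comp σ h2, split_comp σ h3, fun A hA => ?_,
    (linked_comp σ).2 h5, fun l => (sgl_comp σ).2 (h6 _)⟩
  rw [conn_comp, h4 _ (by rw [card_map]; exact hA)]
  constructor
  · intro h7 a ha
    have h8 := h7 (σ a) (by rw [mem_map_equiv, Equiv.symm_apply_apply]; exact ha)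
    rwa [mem_map_equiv] at h8
  · intro h7 a ha
    rw [mem_map_equiv] at ha ⊢
    have h8 : σ.symm (p (σ (σ.symm a))) ∈ A := h7 _ ha
    rwa [Equiv.apply_symm_apply] at h8

theorem rke7_comp (hR : RKE7 cs h g) : RKE7 cs h (fun k => g (σ k)) := by
  refine ⟨by rw [Fintype.card_congr σ, hR.1], fun l => ?_⟩
  rw [conn_comp, map_erase_univ]; exact hR.2 _

theorem rke8_comp (hR : RKE8 cs h g) : RKE8 cs h (fun k => g (σ k)) := by
  obtain ⟨h1, h2, h3⟩ := hR
  refine ⟨by rw [Fintype.card_congr σ, h1], fun l => ?_, fun x y z hxy hxz hyz => ?_⟩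
  · rw [conn_comp, map_erase_univ]; exact h2 _
  · obtain ⟨w, ⟨hw1, hw2, hw3, hw4⟩, hw⟩ := h3 (σ x) (σ y) (σ z) (fun h0 => hxy (σ.injective h0))
      (fun h0 => hxz (σ.injective h0)) (fun h0 => hyz (σ.injective h0))
    have hq : ∀ v : κ, ({x, y, z, v} : Finset κ).map σ.toEmbedding = {σ x, σ y, σ z, σ v} := by
      intro v; simp
    refine ⟨σ.symm w, ⟨?_, ?_, ?_, ?_⟩, ?_⟩
    · intro h0; apply hw1; rw [← h0, Equiv.apply_symm_apply]
    · intro h0; apply hw2; rw [← h0, Equiv.apply_symm_apply]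
    · intro h0; apply hw3; rw [← h0, Equiv.apply_symm_apply]
    · rw [conn_comp, hq, Equiv.apply_symm_apply]; exact hw4
    · rintro w' ⟨h4, h5, h6, h7⟩
      rw [conn_comp, hq] at h7
      rw [Equiv.eq_symm_apply]
      exact hw _ ⟨fun h0 => h4 (σ.injective h0), fun h0 => h5 (σ.injective h0),
        fun h0 => h6 (σ.injective h0), h7⟩

end Transport

/-! ### The kinds of maximal frames of chart groups -/

section Main

variable (hyp : Cfsg.Agent.Cit.Hyp Om) (C : Chart.Chart Om p L) {κ' : Type*} [Fintype κ'] [DecidableEq κ']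
  {g : κ' → C.I → ℤ} (FS : KindBase.FrameSys C.cs C.h C.R g)
  (hK : ∀ i, K i ∈ OmIn Om L) (hc : ∀ i j, i ≠ j → cm (K i) (K j))
  (hmax : ∀ L' ∈ OmIn Om L, ∃ k, ¬ cm L' (K k))

include hyp FS hK hc hmax

/-- A maximal frame is carried to the standard frame. -/
theorem exists_std : ∃ (σ : κ ≃ κ') (d : G), FrameIn C K (fun k => g (σ k)) d ∧
    KindBase.FrameSys C.cs C.h C.R (fun k => g (σ k)) := by
  obtain ⟨s, d, F⟩ := exists_frameIn C hK hc
  obtain ⟨σ, d', F'⟩ := F.exists_std hyp.conj (fun L' hL' h0 => by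
    obtain ⟨k, hk⟩ := hmax L' hL'
    exact hk (h0 k)) FS
  refine ⟨σ, d', F', FS.root, FS.act, FS.le_one, fun k => FS.mem _,
    fun k l hkl => FS.orth _ _ fun h0 => hkl (σ.injective h0), fun x hx h0 => FS.max x hx fun k => ?_⟩
  have := h0 (σ.symm k)
  rwa [Equiv.apply_symm_apply] at this

theorem card_eq : Fintype.card κ = Fintype.card κ' := by
  obtain ⟨σ, -⟩ := exists_std hyp C FS hK hc hmax
  exact Fintype.card_congr σ

theorem kl (hR : RKL C.cs C.h g) : (data (OmIn Om L) K hK hc).KL univ := by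
  classical
  obtain ⟨σ, d, F, FS'⟩ := exists_std hyp C FS hK hc hmax
  exact kl_aux hyp F hK hc (by convert rkl_comp σ hR)

theorem kf (hR : RKF C.cs C.h C.R g) : (data (OmIn Om L) K hK hc).KF univ := by
  classical
  obtain ⟨σ, d, F, FS'⟩ := exists_std hyp C FS hK hc hmax
  exact kf_aux hyp F FS' hK hc (by convert rkf_comp σ hR)

theorem kd4 (hR : RKD4 C.cs C.h C.R g) : (data (OmIn Om L) K hK hc).KD4 univ := by
  classical
  obtain ⟨σ, d, F, FS'⟩ := exists_std hyp C FS hK hc hmax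
  exact kd4_aux hyp F FS' hK hc (by convert rkd4_comp σ hR)

theorem ko {p : κ' → κ'} (hR : RKO C.cs C.h C.R g p) : ∃ q, (data (OmIn Om L) K hK hc).KO univ q := by
  classical
  obtain ⟨σ, d, F, FS'⟩ := exists_std hyp C FS hK hc hmax
  exact ⟨_, ko_aux hyp F FS' hK hc (by convert rko_comp σ hR)⟩

theorem kd {p : κ' → κ'} (hR : RKD C.cs C.h C.R g p) : ∃ q, (data (OmIn Om L) K hK hc).KD univ q := by
  classical
  obtain ⟨σ, d, F, FS'⟩ := exists_std hyp C FS hK hc hmax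
  exact ⟨_, kd_aux hyp F FS' hK hc (by convert rkd_comp σ hR)⟩

theorem ke7 (hR : RKE7 C.cs C.h g) : (data (OmIn Om L) K hK hc).KE7 univ := by
  classical
  obtain ⟨σ, d, F, FS'⟩ := exists_std hyp C FS hK hc hmax
  exact ke7_aux hyp F hK hc (by convert rke7_comp σ hR)

theorem ke8 (hR : RKE8 C.cs C.h g) : (data (OmIn Om L) K hK hc).KE8 univ := by
  classical
  obtain ⟨σ, d, F, FS'⟩ := exists_std hyp C FS hK hc hmax
  exact ke8_aux hyp F hK hc (by convert rke8_comp σ hR)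

/-- **The kinds of maximal frames of chart groups.** -/
theorem kinds (hRK : RKinds C.cs C.h C.R g) : (data (OmIn Om L) K hK hc).Kinds univ := by
  have hcard := card_eq hyp C FS hK hc hmax
  rcases hRK with h1 | h1 | h1 | h1 | h1 | ⟨p, h1⟩ | ⟨p, h1⟩ | h1 | h1
  · exact Or.inl (by rw [card_univ, hcard, h1])
  · exact Or.inr (Or.inl (by rw [card_univ, hcard, h1]))
  · exact Or.inr (Or.inr (Or.inl (kl hyp C FS hK hc hmax h1)))
  · exact Or.inr (Or.inr (Or.inr (Or.inl (kf hyp C FS hK hc hmax h1))))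
  · exact Or.inr (Or.inr (Or.inr (Or.inr (Or.inl (kd4 hyp C FS hK hc hmax h1)))))
  · exact Or.inr (Or.inr (Or.inr (Or.inr (Or.inr (Or.inl (ko hyp C FS hK hc hmax h1))))))
  · exact Or.inr (Or.inr (Or.inr (Or.inr (Or.inr (Or.inr (Or.inl (kd hyp C FS hK hc hmax h1)))))))
  · exact Or.inr (Or.inr (Or.inr (Or.inr (Or.inr (Or.inr (Or.inr (Or.inl (ke7 hyp C FS hK hc hmax h1))))))))
  · exact Or.inr (Or.inr (Or.inr (Or.inr (Or.inr (Or.inr (Or.inr (Or.inr (ke8 hyp C FS hK hc hmax h1))))))))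

end Main

end Final

end Cfsg.Agent.Nodes.KindsOf
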