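import Cfsg.Agent.Nodes.KindChev
import Cfsg.Agent.Nodes.TypeD
import Cfsg.Agent.Nodes.RootsA

/-!
helper617: root level facts (R1)-(R4) for `E6`, `E7`, `E8` (project CIT, ruling 5 (B3)), cascade frames.
-/

set_option autoImplicit false
set_option linter.unusedSectionVars false

namespace Cfsg.Agent.Nodes.KindE

open CoxeterSystem Cfsg.Agent.ChevalleyStructure.CoxeterGeom Cfsg.Agent.Tits.Roots Cfsg.Agent.Tits.Core
  Cfsg.Agent.Tits.RootComb Cfsg.Agent.Nodes.Comb Cfsg.Agent.Nodes.SubComb Cfsg.Agent.Nodes.PosPair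
  Cfsg.Agent.Nodes.Coroot Cfsg.Agent.Nodes.KindBase Cfsg.Agent.Nodes.KindChev Cfsg.Agent.Nodes.StabComb
open Cfsg.Lie Cfsg.Agent.ChevalleyStructure Cfsg.Agent.ChevalleyStructure.CoxeterGeomTypes Cfsg.Agent.Nodes.RGDChev
open Relation

/-! ### E6 -/

/-- The frame of `E6`. -/
def fr6 : Fin 4 → Fin 6 → ℤ := ![![1, 2, 2, 3, 2, 1], ![1, 0, 1, 1, 1, 1], ![0, 0, 1, 1, 1, 0], ![0, 0, 0, 1, 0, 0]]

/-- The functionals `⟨·, (fr6 k)^∨⟩`. -/
def cf6 : Fin 4 → Fin 6 → ℤ :=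
  ![![0, 1, 0, 0, 0, 0], ![1, -1, 0, 0, 0, 1], ![-1, -1, 1, 0, 1, -1], ![0, -1, -1, 2, -1, 0]]

theorem isType6 : IsType chevE6 6 CoxeterMatrix.E₆ := by simp [IsType, typeList]

set_option backward.isDefEq.respectTransparency false in
theorem kd6 : KD chevE6 6 4 2 (fun _ => 1) fr6 cf6 ![71, 60, 44, 39] := by
  constructor <;> decide +kernel

section Facts6

variable {W : Type*} [Group W] [Finite W] (cs : CoxeterSystem CoxeterMatrix.E₆ W)
  (h : IsCartan CoxeterMatrix.E₆ (cartanOf chevE6 6))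

/-- The roots of `E6`. -/
abbrev R6 : Set (Fin 6 → ℤ) := {x | IsRoot cs h x}

theorem RN6 : RN cs h 2 (fun _ => 1) = R6 cs h := RN_const kd6.hd

theorem frameSys6 : FrameSys cs h (R6 cs h) fr6 := by
  rw [← RN6]
  exact kd6.frameSys isType6

theorem isRoot_fr6 (k : Fin 4) : IsRoot cs h (fr6 k) := kd6.isRoot isType6 k

theorem trans6 {x y : Fin 6 → ℤ} (hx : IsRoot cs h x) (hy : IsRoot cs h y) : ∃ w : W, rep cs h w x = y := by
  have hx' : x ∈ RN cs h 2 (fun _ => 1) := by rw [RN6]; exact hx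
  have hy' : y ∈ RN cs h 2 (fun _ => 1) := by rw [RN6]; exact hy
  exact kd6.trans isType6 hx' hy'

/-- The roots are the orbit of each simple root. -/
theorem mem_R6_iff (i : Fin 6) (x : Fin 6 → ℤ) : x ∈ R6 cs h ↔ ∃ w : W, x = rep cs h w (sr i) := by
  constructor
  · intro hx
    obtain ⟨w, hw⟩ := trans6 cs h (isRoot_sr cs h i) hx
    exact ⟨w, hw.symm⟩
  · rintro ⟨w, rfl⟩
    exact (isRoot_sr cs h i).act w

/-- `⟨x, (fr6 k)^∨⟩` for every vector `x`. -/
theorem cpr_fr6 (x : Fin 6 → ℤ) (k : Fin 4) : cpr cs h x (fr6 k) = ∑ i, x i * cf6 k i :=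
  kd6.cpr isType6 x k

set_option backward.isDefEq.respectTransparency false in
theorem pairing_theta6 : ∀ i, pairing (cartanOf chevE6 6) i (fr6 0) = if i = 1 then 1 else 0 := by
  decide +kernel

theorem dom_theta6 : Dom (cartanOf chevE6 6) (fr6 0) := by
  intro i
  rw [pairing_theta6]
  split_ifs <;> norm_num

/-- The Levi subsystem orthogonal to the highest root. -/
def lev6 : Fin 5 → Fin 6 := ![0, 2, 3, 4, 5]

theorem lev6_injective : Function.Injective lev6 := by decide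

set_option backward.isDefEq.respectTransparency false in
/-- It is of type `A5`. -/
theorem cartan_lev6 : ∀ a b, cartanOf chevE6 6 (lev6 a) (lev6 b) = RootsA.AA 5 a b := by decide +kernel

theorem orth_theta6 : orth cs h (fr6 0) = Set.range lev6 := by
  refine orth_eq lev6 fun i => ?_
  rw [pairing_theta6]
  revert i
  decide

set_option backward.isDefEq.respectTransparency false in
/-- **(R2)** : the roots orthogonal to a frame root are joined by chains. -/
theorem conn6 (k : Fin 4) {x y : Fin 6 → ℤ} (hx : IsRoot cs h x) (hy : IsRoot cs h y)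
    (hxk : cpr cs h x (fr6 k) = 0) (hyk : cpr cs h y (fr6 k) = 0) : ReflTransGen (Ch cs h (fr6 k)) x y := by
  refine kd6.conn isType6 0 (fun x y hx hy h1 h2 => ?_) k hx hy hxk hyk
  exact conn_of_tree cs h (kd6.isRoot isType6 0) dom_theta6 3 ![2, 1, 3, 3, 3, 4] ![2, 0, 1, 0, 1, 2]
    (by decide +kernel) hx hy h1 h2

/-- **(R3)** : `Σ_k ⟨x, g_k^∨⟩` is even. -/
theorem even6 (x : Fin 6 → ℤ) : Even (∑ k, cpr cs h x (fr6 k)) := kd6.even isType6 Finset.univ (by decide) x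

/-- The parity functionals are different. -/
theorem exists_odd_even6 {k m : Fin 4} (hkm : k ≠ m) :
    ∃ x, IsRoot cs h x ∧ Odd (cpr cs h x (fr6 k)) ∧ Even (cpr cs h x (fr6 m)) :=
  kd6.exists_odd_even isType6 hkm

set_option backward.isDefEq.respectTransparency false in
/-- **(R4)** -/
theorem gen6 {x : Fin 6 → ℤ} (hx : IsRoot cs h x) :
    (∃ k, cpr cs h x (fr6 k) = 0) ∨ ∃ y z, IsRoot cs h y ∧ IsRoot cs h z ∧ x = y + z ∧
      (∃ k, cpr cs h y (fr6 k) = 0) ∧ ∃ k, cpr cs h z (fr6 k) = 0 := kd6.gen isType6 (by decide +kernel) hx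

theorem ncard6 : Set.ncard {x | IsRoot cs h x} = 72 := ncard_isRoot isType6

end Facts6

/-! ### E7 -/

/-- The frame of `E7`. -/
def fr7 : Fin 7 → Fin 7 → ℤ := ![![2, 2, 3, 4, 3, 2, 1], ![0, 1, 1, 2, 2, 2, 1], ![0, 0, 0, 0, 0, 0, 1],
  ![0, 1, 1, 2, 1, 0, 0], ![0, 1, 0, 0, 0, 0, 0], ![0, 0, 1, 0, 0, 0, 0], ![0, 0, 0, 0, 1, 0, 0]]

/-- The functionals `⟨·, (fr7 k)^∨⟩`. -/
def cf7 : Fin 7 → Fin 7 → ℤ := ![![1, 0, 0, 0, 0, 0, 0], ![-1, 0, 0, 0, 0, 1, 0], ![0, 0, 0, 0, 0, -1, 2],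
  ![-1, 0, 0, 1, 0, -1, 0], ![0, 2, 0, -1, 0, 0, 0], ![-1, 0, 2, -1, 0, 0, 0], ![0, 0, 0, -1, 2, -1, 0]]

theorem isType7 : IsType chevE7 7 CoxeterMatrix.E₇ := by simp [IsType, typeList]

set_option backward.isDefEq.respectTransparency false in
theorem kd7 : KD chevE7 7 7 2 (fun _ => 1) fr7 cf7 ![125, 92, 63, 87, 78, 73, 66] := by
  constructor <;> decide +kernel

section Facts7

variable {W : Type*} [Group W] [Finite W] (cs : CoxeterSystem CoxeterMatrix.E₇ W)
  (h : IsCartan CoxeterMatrix.E₇ (cartanOf chevE7 7))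

/-- The roots of `E7`. -/
abbrev R7 : Set (Fin 7 → ℤ) := {x | IsRoot cs h x}

theorem RN7 : RN cs h 2 (fun _ => 1) = R7 cs h := RN_const kd7.hd

theorem frameSys7 : FrameSys cs h (R7 cs h) fr7 := by
  rw [← RN7]
  exact kd7.frameSys isType7

theorem isRoot_fr7 (k : Fin 7) : IsRoot cs h (fr7 k) := kd7.isRoot isType7 k

theorem trans7 {x y : Fin 7 → ℤ} (hx : IsRoot cs h x) (hy : IsRoot cs h y) : ∃ w : W, rep cs h w x = y := by
  have hx' : x ∈ RN cs h 2 (fun _ => 1) := by rw [RN7]; exact hx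
  have hy' : y ∈ RN cs h 2 (fun _ => 1) := by rw [RN7]; exact hy
  exact kd7.trans isType7 hx' hy'

/-- The roots are the orbit of each simple root. -/
theorem mem_R7_iff (i : Fin 7) (x : Fin 7 → ℤ) : x ∈ R7 cs h ↔ ∃ w : W, x = rep cs h w (sr i) := by
  constructor
  · intro hx
    obtain ⟨w, hw⟩ := trans7 cs h (isRoot_sr cs h i) hx
    exact ⟨w, hw.symm⟩
  · rintro ⟨w, rfl⟩
    exact (isRoot_sr cs h i).act w

/-- `⟨x, (fr7 k)^∨⟩` for every vector `x`. -/
theorem cpr_fr7 (x : Fin 7 → ℤ) (k : Fin 7) : cpr cs h x (fr7 k) = ∑ i, x i * cf7 k i :=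
  kd7.cpr isType7 x k

set_option backward.isDefEq.respectTransparency false in
theorem pairing_theta7 : ∀ i, pairing (cartanOf chevE7 7) i (fr7 0) = if i = 0 then 1 else 0 := by
  decide +kernel

theorem dom_theta7 : Dom (cartanOf chevE7 7) (fr7 0) := by
  intro i
  rw [pairing_theta7]
  split_ifs <;> norm_num

/-- The Levi subsystem orthogonal to the highest root. -/
def lev7 : Fin 6 → Fin 7 := ![6, 5, 4, 3, 2, 1]

theorem lev7_injective : Function.Injective lev7 := by decide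

set_option backward.isDefEq.respectTransparency false in
/-- It is of type `D6`. -/
theorem cartan_lev7 : ∀ a b, cartanOf chevE7 7 (lev7 a) (lev7 b) = TypeD.A 4 a b := by decide +kernel

theorem orth_theta7 : orth cs h (fr7 0) = Set.range lev7 := by
  refine orth_eq lev7 fun i => ?_
  rw [pairing_theta7]
  revert i
  decide

set_option backward.isDefEq.respectTransparency false in
/-- **(R2)** : the roots orthogonal to a frame root are joined by chains. -/
theorem conn7 (k : Fin 7) {x y : Fin 7 → ℤ} (hx : IsRoot cs h x) (hy : IsRoot cs h y)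
    (hxk : cpr cs h x (fr7 k) = 0) (hyk : cpr cs h y (fr7 k) = 0) : ReflTransGen (Ch cs h (fr7 k)) x y := by
  refine kd7.conn isType7 0 (fun x y hx hy h1 h2 => ?_) k hx hy hxk hyk
  exact conn_of_tree cs h (kd7.isRoot isType7 0) dom_theta7 3 ![0, 3, 3, 3, 3, 4, 5] ![0, 1, 1, 0, 1, 2, 3]
    (by decide +kernel) hx hy h1 h2

/-- The supports of the words of the code: `Σ_{k ∈ S} ⟨x, g_k^∨⟩` is even for these `S`. -/
def quads7 : List (Finset (Fin 7)) := [{0, 1, 3, 5}, {0, 1, 4, 6}, {0, 2, 3, 4}, {0, 2, 5, 6}, {1, 2, 3, 6}, {1, 2, 4, 5}, {3, 4, 5, 6}]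

/-- **(R3)** : `Σ_{k ∈ S} ⟨x, g_k^∨⟩` is even for the quadruples `S` of `quads7`. -/
theorem even7 : ∀ S ∈ quads7, ∀ x : Fin 7 → ℤ, Even (∑ k ∈ S, cpr cs h x (fr7 k)) := by
  intro S hS x
  refine kd7.even isType7 S ?_ x
  revert S
  decide +kernel

/-- Every frame index lies in a quadruple. -/
theorem exists_quad7 : ∀ k : Fin 7, ∃ S ∈ quads7, k ∈ S ∧ S.card = 4 := by decide +kernel

/-- The parity functionals are different. -/
theorem exists_odd_even7 {k m : Fin 7} (hkm : k ≠ m) :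
    ∃ x, IsRoot cs h x ∧ Odd (cpr cs h x (fr7 k)) ∧ Even (cpr cs h x (fr7 m)) :=
  kd7.exists_odd_even isType7 hkm

set_option backward.isDefEq.respectTransparency false in
theorem gen7_aux : ∀ r < chevE7.nroots, ∃ k : Fin 7, ∑ i, vec chevE7 7 r i * cf7 k i = 0 := by
  decide +kernel

/-- **(R4)** : every root is orthogonal to a frame root. -/
theorem gen7 {x : Fin 7 → ℤ} (hx : IsRoot cs h x) : ∃ k, cpr cs h x (fr7 k) = 0 := by
  simp only [cpr_fr7]
  exact forall_root (P := fun x => ∃ k, ∑ i, x i * cf7 k i = 0) isType7 gen7_aux hx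

theorem ncard7 : Set.ncard {x | IsRoot cs h x} = 126 := ncard_isRoot isType7

end Facts7

/-! ### E8 -/

/-- The frame of `E8`. -/
def fr8 : Fin 8 → Fin 8 → ℤ := ![![2, 3, 4, 6, 5, 4, 3, 2], ![2, 2, 3, 4, 3, 2, 1, 0], ![0, 1, 1, 2, 2, 2, 1, 0],
  ![0, 0, 0, 0, 0, 0, 1, 0], ![0, 1, 1, 2, 1, 0, 0, 0], ![0, 1, 0, 0, 0, 0, 0, 0], ![0, 0, 1, 0, 0, 0, 0, 0],
  ![0, 0, 0, 0, 1, 0, 0, 0]]

/-- The functionals `⟨·, (fr8 k)^∨⟩`. -/
def cf8 : Fin 8 → Fin 8 → ℤ := ![![0, 0, 0, 0, 0, 0, 0, 1], ![1, 0, 0, 0, 0, 0, 0, -1], ![-1, 0, 0, 0, 0, 1, 0, -1],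
  ![0, 0, 0, 0, 0, -1, 2, -1], ![-1, 0, 0, 1, 0, -1, 0, 0], ![0, 2, 0, -1, 0, 0, 0, 0], ![-1, 0, 2, -1, 0, 0, 0, 0],
  ![0, 0, 0, -1, 2, -1, 0, 0]]

theorem isType8 : IsType chevE8 8 CoxeterMatrix.E₈ := by simp [IsType, typeList]

set_option backward.isDefEq.respectTransparency false in
theorem kd8 : KD chevE8 8 8 2 (fun _ => 1) fr8 cf8 ![239, 226, 159, 121, 152, 141, 135, 126] := by
  constructor <;> decide +kernel

section Facts8

variable {W : Type*} [Group W] [Finite W] (cs : CoxeterSystem CoxeterMatrix.E₈ W)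
  (h : IsCartan CoxeterMatrix.E₈ (cartanOf chevE8 8))

/-- The roots of `E8`. -/
abbrev R8 : Set (Fin 8 → ℤ) := {x | IsRoot cs h x}

theorem RN8 : RN cs h 2 (fun _ => 1) = R8 cs h := RN_const kd8.hd

theorem frameSys8 : FrameSys cs h (R8 cs h) fr8 := by
  rw [← RN8]
  exact kd8.frameSys isType8

theorem isRoot_fr8 (k : Fin 8) : IsRoot cs h (fr8 k) := kd8.isRoot isType8 k

theorem trans8 {x y : Fin 8 → ℤ} (hx : IsRoot cs h x) (hy : IsRoot cs h y) : ∃ w : W, rep cs h w x = y := by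
  have hx' : x ∈ RN cs h 2 (fun _ => 1) := by rw [RN8]; exact hx
  have hy' : y ∈ RN cs h 2 (fun _ => 1) := by rw [RN8]; exact hy
  exact kd8.trans isType8 hx' hy'

/-- The roots are the orbit of each simple root. -/
theorem mem_R8_iff (i : Fin 8) (x : Fin 8 → ℤ) : x ∈ R8 cs h ↔ ∃ w : W, x = rep cs h w (sr i) := by
  constructor
  · intro hx
    obtain ⟨w, hw⟩ := trans8 cs h (isRoot_sr cs h i) hx
    exact ⟨w, hw.symm⟩
  · rintro ⟨w, rfl⟩
    exact (isRoot_sr cs h i).act w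

/-- `⟨x, (fr8 k)^∨⟩` for every vector `x`. -/
theorem cpr_fr8 (x : Fin 8 → ℤ) (k : Fin 8) : cpr cs h x (fr8 k) = ∑ i, x i * cf8 k i :=
  kd8.cpr isType8 x k

set_option backward.isDefEq.respectTransparency false in
theorem pairing_theta8 : ∀ i, pairing (cartanOf chevE8 8) i (fr8 0) = if i = 7 then 1 else 0 := by
  decide +kernel

theorem dom_theta8 : Dom (cartanOf chevE8 8) (fr8 0) := by
  intro i
  rw [pairing_theta8]
  split_ifs <;> norm_num

/-- The Levi subsystem orthogonal to the highest root. -/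
def lev8 : Fin 7 → Fin 8 := ![0, 1, 2, 3, 4, 5, 6]

theorem lev8_injective : Function.Injective lev8 := by decide

set_option backward.isDefEq.respectTransparency false in
/-- It is of type `E7`. -/
theorem cartan_lev8 : ∀ a b, cartanOf chevE8 8 (lev8 a) (lev8 b) = cartanOf chevE7 7 a b := by decide +kernel

theorem orth_theta8 : orth cs h (fr8 0) = Set.range lev8 := by
  refine orth_eq lev8 fun i => ?_
  rw [pairing_theta8]
  revert i
  decide

set_option backward.isDefEq.respectTransparency false in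
/-- **(R2)** : the roots orthogonal to a frame root are joined by chains. -/
theorem conn8 (k : Fin 8) {x y : Fin 8 → ℤ} (hx : IsRoot cs h x) (hy : IsRoot cs h y)
    (hxk : cpr cs h x (fr8 k) = 0) (hyk : cpr cs h y (fr8 k) = 0) : ReflTransGen (Ch cs h (fr8 k)) x y := by
  refine kd8.conn isType8 0 (fun x y hx hy h1 h2 => ?_) k hx hy hxk hyk
  exact conn_of_tree cs h (kd8.isRoot isType8 0) dom_theta8 3 ![2, 3, 3, 3, 3, 4, 5, 7] ![2, 1, 1, 0, 1, 2, 3, 0]
    (by decide +kernel) hx hy h1 h2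

/-- The supports of the words of the code: `Σ_{k ∈ S} ⟨x, g_k^∨⟩` is even for these `S`. -/
def quads8 : List (Finset (Fin 8)) := [{0, 1, 2, 3}, {0, 1, 4, 7}, {0, 1, 5, 6}, {0, 2, 4, 5}, {0, 2, 6, 7}, {0, 3, 4, 6}, {0, 3, 5, 7},
  {1, 2, 4, 6}, {1, 2, 5, 7}, {1, 3, 4, 5}, {1, 3, 6, 7}, {2, 3, 4, 7}, {2, 3, 5, 6}, {4, 5, 6, 7}]

/-- **(R3)** : `Σ_{k ∈ S} ⟨x, g_k^∨⟩` is even for the quadruples `S` of `quads8`. -/
theorem even8 : ∀ S ∈ quads8, ∀ x : Fin 8 → ℤ, Even (∑ k ∈ S, cpr cs h x (fr8 k)) := by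
  intro S hS x
  refine kd8.even isType8 S ?_ x
  revert S
  decide +kernel

/-- Every frame index lies in a quadruple. -/
theorem exists_quad8 : ∀ k : Fin 8, ∃ S ∈ quads8, k ∈ S ∧ S.card = 4 := by decide +kernel

/-- The parity functionals are different. -/
theorem exists_odd_even8 {k m : Fin 8} (hkm : k ≠ m) :
    ∃ x, IsRoot cs h x ∧ Odd (cpr cs h x (fr8 k)) ∧ Even (cpr cs h x (fr8 m)) :=
  kd8.exists_odd_even isType8 hkm

set_option backward.isDefEq.respectTransparency false in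
theorem gen8_aux : ∀ r < chevE8.nroots, ∃ k : Fin 8, ∑ i, vec chevE8 8 r i * cf8 k i = 0 := by
  decide +kernel

/-- **(R4)** : every root is orthogonal to a frame root. -/
theorem gen8 {x : Fin 8 → ℤ} (hx : IsRoot cs h x) : ∃ k, cpr cs h x (fr8 k) = 0 := by
  simp only [cpr_fr8]
  exact forall_root (P := fun x => ∃ k, ∑ i, x i * cf8 k i = 0) isType8 gen8_aux hx

theorem ncard8 : Set.ncard {x | IsRoot cs h x} = 240 := ncard_isRoot isType8

end Facts8

end Cfsg.Agent.Nodes.KindE
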