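import Cfsg.Agent.Nodes.KindChev
import Cfsg.Agent.Nodes.TypeC

/-!
helper617: root level facts (R1)-(R4) for `F4` (project CIT, ruling 5 (B3)): the frame of the four orthogonal long roots
`θ = 2432, 2210, 0210, 0010` (the nodes `0, 1` are short, `2, 3` long).
-/

set_option autoImplicit false
set_option linter.unusedSectionVars false

namespace Cfsg.Agent.Nodes.KindF

open CoxeterSystem Cfsg.Agent.ChevalleyStructure.CoxeterGeom Cfsg.Agent.Tits.Roots Cfsg.Agent.Tits.Core
  Cfsg.Agent.Tits.RootComb Cfsg.Agent.Nodes.Comb Cfsg.Agent.Nodes.SubComb Cfsg.Agent.Nodes.PosPair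
  Cfsg.Agent.Nodes.Coroot Cfsg.Agent.Nodes.KindBase Cfsg.Agent.Nodes.KindChev Cfsg.Agent.Nodes.StabComb
open Cfsg.Lie Cfsg.Agent.ChevalleyStructure Cfsg.Agent.ChevalleyStructure.CoxeterGeomTypes Cfsg.Agent.Nodes.RGDChev
open Relation

/-- The squared lengths (halved) of the simple roots. -/
def d : Fin 4 → ℤ := ![1, 1, 2, 2]

/-- The frame. -/
def fr : Fin 4 → Fin 4 → ℤ := ![![2, 4, 3, 2], ![2, 2, 1, 0], ![0, 2, 1, 0], ![0, 0, 1, 0]]

/-- The functionals `⟨·, (fr k)^∨⟩`. -/
def cf : Fin 4 → Fin 4 → ℤ := ![![0, 0, 0, 1], ![1, 0, 0, -1], ![-1, 1, 0, -1], ![0, -1, 2, -1]]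

/-- The indices of the frame roots. -/
def idx : Fin 4 → ℕ := ![47, 41, 30, 25]

theorem isType : IsType chevF4 4 CoxeterMatrix.F₄ := by simp [IsType, typeList]

set_option backward.isDefEq.respectTransparency false in
theorem kd : KD chevF4 4 4 4 d fr cf idx := by
  constructor <;> decide +kernel

section Facts

variable {W : Type*} [Group W] [Finite W] (cs : CoxeterSystem CoxeterMatrix.F₄ W)
  (h : IsCartan CoxeterMatrix.F₄ (cartanOf chevF4 4))

/-- The long roots. -/
abbrev R : Set (Fin 4 → ℤ) := RN cs h 4 d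

/-- The long roots are the orbit of the simple root `α_3`. -/
theorem mem_R_iff (x : Fin 4 → ℤ) : x ∈ R cs h ↔ ∃ w : W, x = rep cs h w (sr 3) := kd.mem_RN_iff isType rfl x

theorem mem_R_iff' (x : Fin 4 → ℤ) : x ∈ R cs h ↔ ∃ w : W, x = rep cs h w (sr 2) := kd.mem_RN_iff isType rfl x

theorem frameSys : FrameSys cs h (R cs h) fr := kd.frameSys isType

theorem trans {x y : Fin 4 → ℤ} (hx : x ∈ R cs h) (hy : y ∈ R cs h) : ∃ w : W, rep cs h w x = y :=
  kd.trans isType hx hy

/-- `⟨x, (fr k)^∨⟩` for every vector `x`. -/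
theorem cpr_fr (x : Fin 4 → ℤ) (k : Fin 4) : cpr cs h x (fr k) = ∑ i, x i * cf k i := kd.cpr isType x k

set_option backward.isDefEq.respectTransparency false in
theorem pairing_theta : ∀ i, pairing (cartanOf chevF4 4) i (fr 0) = if i = 3 then 1 else 0 := by decide +kernel

theorem dom_theta : Dom (cartanOf chevF4 4) (fr 0) := by
  intro i
  rw [pairing_theta]
  split_ifs <;> norm_num

/-- The Levi subsystem orthogonal to `θ`: nodes `0, 1, 2`. -/
def lev : Fin 3 → Fin 4 := ![0, 1, 2]

theorem lev_injective : Function.Injective lev := by decide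

set_option backward.isDefEq.respectTransparency false in
/-- It is of type `C3`. -/
theorem cartan_lev : ∀ a b, cartanOf chevF4 4 (lev a) (lev b) = TypeC.A 3 a b := by decide +kernel

theorem orth_theta : orth cs h (fr 0) = Set.range lev := by
  refine orth_eq lev fun i => ?_
  rw [pairing_theta]
  revert i
  decide

set_option backward.isDefEq.respectTransparency false in
/-- **(R2)** : the roots orthogonal to a frame root are joined by chains. -/
theorem conn (k : Fin 4) {x y : Fin 4 → ℤ} (hx : IsRoot cs h x) (hy : IsRoot cs h y)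
    (hxk : cpr cs h x (fr k) = 0) (hyk : cpr cs h y (fr k) = 0) : ReflTransGen (Ch cs h (fr k)) x y := by
  refine kd.conn isType 0 (fun x y hx hy h1 h2 => ?_) k hx hy hxk hyk
  exact conn_of_tree cs h (kd.isRoot isType 0) dom_theta 1 (fun _ => 1) (fun i => if i = 1 then 0 else 1)
    (by decide +kernel) hx hy h1 h2

/-- **(R3)** : `Σ_k ⟨x, g_k^∨⟩` is even. -/
theorem even (x : Fin 4 → ℤ) : Even (∑ k, cpr cs h x (fr k)) := kd.even isType Finset.univ (by decide) x

/-- The parity functionals are different. -/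
theorem exists_odd_even {k m : Fin 4} (hkm : k ≠ m) :
    ∃ x, IsRoot cs h x ∧ Odd (cpr cs h x (fr k)) ∧ Even (cpr cs h x (fr m)) := kd.exists_odd_even isType hkm

set_option backward.isDefEq.respectTransparency false in
/-- **(R4)** -/
theorem gen {x : Fin 4 → ℤ} (hx : IsRoot cs h x) :
    (∃ k, cpr cs h x (fr k) = 0) ∨ ∃ y z, IsRoot cs h y ∧ IsRoot cs h z ∧ x = y + z ∧
      (∃ k, cpr cs h y (fr k) = 0) ∧ ∃ k, cpr cs h z (fr k) = 0 := kd.gen isType (by decide +kernel) hx

theorem ncard : Set.ncard {x | IsRoot cs h x} = 48 := ncard_isRoot isType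

end Facts

end Cfsg.Agent.Nodes.KindF
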