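import Mathlib
import Cfsg.Agent.Nodes.Coroot
import Cfsg.Agent.Nodes.RootsA
import Cfsg.Agent.Nodes.KindBase
import Cfsg.Agent.Nodes.Sub

/-!
The root level facts (R1)-(R4) for type `A_n` (project CIT, charts): all roots, the frame
`g n k = ε_{2k} - ε_{2k+1}`, `k < (n + 1) / 2`.

* `exists_perm`, `exists_w` : `W` acts as the group of all permutations of the indices; `trans`;
* `pairing_rtA`, `cpr_rtA` : the pairings; `cpr_eq_zero_iff`; `abs_cpr_le_one`;
* (R1) `frameSys : FrameSys cs h {x | IsRoot cs h x} (g n)`; `exists_signed` : all signed permutations of the frame;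
* `theta`, `pairing_theta`, `theta_dom`, `lev`, `range_lev`, `leviMatrix_lev`, `AA_lev` : the highest root and the
  Levi subsystem orthogonal to it, of type `A_{n-2}`;
* `exists_link` : block connectivity; (R2) `beta`, `exists_subSys`, `beta_base`, `orth_iff`, `iota_g` : the subsystem
  of type `A_{n-2}` of the roots orthogonal to `g_l`;
* (R3) `even_odds`, `eq_of_even_odds`; (R4) `support_le_two`, `exists_orth_g`.
-/

set_option autoImplicit false
set_option linter.unusedSectionVars false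

namespace Cfsg.Agent.Nodes.KindA

open CoxeterSystem Cfsg.Agent.ChevalleyStructure.CoxeterGeom Cfsg.Agent.Tits.Roots Cfsg.Agent.Tits.Core
  Cfsg.Agent.Tits.RootComb Cfsg.Agent.Nodes.Comb Cfsg.Agent.Nodes.SubComb Cfsg.Agent.Nodes.Coroot
  Cfsg.Agent.Nodes.RootsA Cfsg.Agent.Nodes.KindBase Cfsg.Agent.Nodes.Sub
open Cfsg.Agent.LieRecognition.BNCox (cA cA_apply)

variable {n : ℕ} {W : Type*} [Group W] (cs : CoxeterSystem (cA n) W) {A : Fin n → Fin n → ℤ}
  (h : IsCartan (cA n) A)

/-! ### Permutations -/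

/-- Every element of `W` permutes the indices. -/
theorem exists_perm (w : W) : ∃ σ : Equiv.Perm (Fin (n + 1)), ∀ a b, rep cs h w (rtA a b) = rtA (σ a) (σ b) := by
  obtain ⟨ω, rfl⟩ := cs.wordProd_surjective w
  induction ω with
  | nil => exact ⟨1, fun a b => by rw [wordProd_nil, map_one]; rfl⟩
  | cons j ω ih =>
    obtain ⟨σ, hσ⟩ := ih
    refine ⟨Equiv.swap j.castSucc j.succ * σ, fun a b => ?_⟩
    rw [wordProd_cons, rep_mul_apply, hσ, rep_simple_rtA]
    rfl

/-- Every permutation of the indices comes from `W`. -/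
theorem exists_w (σ : Equiv.Perm (Fin (n + 1))) : ∃ w : W, ∀ a b, rep cs h w (rtA a b) = rtA (σ a) (σ b) := by
  have h1 : σ ∈ Submonoid.closure (Set.range fun i : Fin n ↦ Equiv.swap i.castSucc i.succ) := by
    rw [Equiv.Perm.mclosure_swap_castSucc_succ]
    exact Submonoid.mem_top _
  induction h1 using Submonoid.closure_induction with
  | mem x hx =>
    obtain ⟨i, rfl⟩ := hx
    exact ⟨cs.simple i, fun a b => rep_simple_rtA cs h i a b⟩
  | one => exact ⟨1, fun a b => by rw [map_one]; rfl⟩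
  | mul x y _ _ hx hy =>
    obtain ⟨w, hw⟩ := hx
    obtain ⟨v, hv⟩ := hy
    exact ⟨w * v, fun a b => by rw [rep_mul_apply, hv, hw]; rfl⟩

/-- The pairing with a simple coroot. -/
theorem pairing_rtA (h : IsCartan (cA n) A) (i : Fin n) (a b : Fin (n + 1)) : pairing A i (rtA a b) =
    (if a = i.castSucc then 1 else 0) - (if a = i.succ then 1 else 0) -
      (if b = i.castSucc then 1 else 0) + (if b = i.succ then 1 else 0) := by
  have hb := b.2
  have ha := a.2
  have hi := i.2
  have hp := pairing_eq h i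
    (fun k => (if a.val ≤ k then 1 else 0) - (if b.val ≤ k then 1 else 0))
    (by rw [if_pos (by omega), if_pos (by omega), sub_self])
  have e1 : (fun k : Fin n => (fun k : ℕ => ((if a.val ≤ k then 1 else 0) -
      (if b.val ≤ k then 1 else 0) : ℤ)) k.val) = rtA a b := rfl
  rw [e1] at hp
  rw [hp]
  have key : ∀ c : Fin (n + 1), (if c = i.castSucc then 1 else 0 : ℤ) - (if c = i.succ then 1 else 0) =
      2 * (if c.val ≤ i.val then 1 else 0) - (if c.val ≤ i.val + 1 then 1 else 0) -
        (if i.val = 0 then 0 else if c.val ≤ i.val - 1 then 1 else 0) := by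
    intro c
    simp only [Fin.ext_iff, Fin.val_castSucc, Fin.val_succ]
    split_ifs <;> omega
  have h1 := key a
  have h2 := key b
  by_cases h0 : i.val = 0
  · rw [if_pos h0] at h1 h2
    rw [if_pos h0]
    linarith
  · rw [if_neg h0] at h1 h2
    rw [if_neg h0]
    linarith

/-- The pairing of two roots. -/
theorem cpr_rtA [Finite W] (a b : Fin (n + 1)) {c d : Fin (n + 1)} (hcd : c ≠ d) :
    cpr cs h (rtA a b) (rtA c d) =
    (if a = c then 1 else 0) - (if a = d then 1 else 0) - (if b = c then 1 else 0) + (if b = d then 1 else 0) := by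
  obtain ⟨w, i, hw⟩ := isRoot_rtA cs h hcd
  obtain ⟨σ, hσ⟩ := exists_perm cs h w
  have h1 : rtA c d = rtA (σ i.castSucc) (σ i.succ) := by rw [hw, ← hσ, rtA_sr]
  obtain ⟨h2, h3⟩ := rtA_inj hcd h1
  have h4 : rep cs h w⁻¹ (rtA a b) = rtA (σ⁻¹ a) (σ⁻¹ b) := by
    have := hσ (σ⁻¹ a) (σ⁻¹ b)
    rw [← Equiv.Perm.mul_apply, ← Equiv.Perm.mul_apply, mul_inv_cancel, Equiv.Perm.one_apply,
      Equiv.Perm.one_apply] at this
    rw [← this, ← rep_mul_apply, inv_mul_cancel, map_one]
    rfl
  rw [hw, cpr_rep_sr, h4, pairing_rtA h]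
  simp only [Equiv.Perm.inv_eq_iff_eq, ← h2, ← h3]

/-- All roots are conjugate. -/
theorem trans {x y : Fin n → ℤ} (hx : IsRoot cs h x) (hy : IsRoot cs h y) : ∃ w, rep cs h w x = y := by
  obtain ⟨a, b, hab, rfl⟩ := exists_of_isRoot cs h hx
  obtain ⟨c, d, hcd, rfl⟩ := exists_of_isRoot cs h hy
  have h1 : (Equiv.swap a c b) ≠ c := by
    intro e
    have h2 : Equiv.swap a c b = Equiv.swap a c a := by rw [e, Equiv.swap_apply_left]
    exact hab ((Equiv.swap a c).injective h2).symm
  obtain ⟨w, hw⟩ := exists_w cs h (Equiv.swap (Equiv.swap a c b) d * Equiv.swap a c)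
  refine ⟨w, ?_⟩
  rw [hw, Equiv.Perm.mul_apply, Equiv.Perm.mul_apply, Equiv.swap_apply_left, Equiv.swap_apply_left,
    Equiv.swap_apply_of_ne_of_ne h1.symm hcd]

/-- `|⟨x, y^∨⟩| ≤ 1` for `x ≠ ± y`. -/
theorem abs_cpr_le_one [Finite W] {x y : Fin n → ℤ} (hx : IsRoot cs h x) (hy : IsRoot cs h y) (h1 : x ≠ y)
    (h2 : x ≠ -y) : |cpr cs h x y| ≤ 1 := by
  obtain ⟨a, b, hab, rfl⟩ := exists_of_isRoot cs h hx
  obtain ⟨c, d, hcd, rfl⟩ := exists_of_isRoot cs h hy
  rw [rtA_neg] at h2
  rw [cpr_rtA cs h a b hcd, abs_le]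
  have e1 : ¬ (a = c ∧ b = d) := by
    rintro ⟨rfl, rfl⟩; exact h1 rfl
  have e2 : ¬ (a = d ∧ b = c) := by
    rintro ⟨rfl, rfl⟩; exact h2 rfl
  split_ifs <;> simp_all

/-- Orthogonal roots have disjoint pairs of indices. -/
theorem cpr_eq_zero_iff [Finite W] {a b c d : Fin (n + 1)} (hab : a ≠ b) (hcd : c ≠ d) :
    cpr cs h (rtA a b) (rtA c d) = 0 ↔ a ≠ c ∧ a ≠ d ∧ b ≠ c ∧ b ≠ d := by
  rw [cpr_rtA cs h a b hcd]
  constructor
  · intro h0
    split_ifs at h0 <;> simp_all
  · rintro ⟨h1, h2, h3, h4⟩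
    rw [if_neg h1, if_neg h2, if_neg h3, if_neg h4]
    norm_num

/-! ### The frame -/

/-- The index `2k + e`, `e ∈ {0, 1}`. -/
def fi (n : ℕ) (k : Fin ((n + 1) / 2)) (e : Fin 2) : Fin (n + 1) :=
  ⟨2 * k.val + e.val, by have := k.2; have := e.2; omega⟩

theorem fi_val (k : Fin ((n + 1) / 2)) (e : Fin 2) : (fi n k e).val = 2 * k.val + e.val := rfl

theorem fi_inj {k l : Fin ((n + 1) / 2)} {e e' : Fin 2} (h0 : fi n k e = fi n l e') : k = l ∧ e = e' := by
  have h1 := congrArg Fin.val h0
  rw [fi_val, fi_val] at h1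
  have := e.2
  have := e'.2
  exact ⟨Fin.ext (by omega), Fin.ext (by omega)⟩

theorem fi_ne (k : Fin ((n + 1) / 2)) : fi n k 0 ≠ fi n k 1 := fun h0 => by
  have := (fi_inj h0).2
  simp at this

/-- Every index with at most one exception belongs to the frame. -/
theorem exists_fi (a : Fin (n + 1)) (ha : a.val < 2 * ((n + 1) / 2)) : ∃ k e, a = fi n k e := by
  refine ⟨⟨a.val / 2, by omega⟩, ⟨a.val % 2, by omega⟩, Fin.ext ?_⟩
  rw [fi_val]
  simp only
  omega

/-- The standard frame `g_k = ε_{2k} - ε_{2k+1}`. -/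
def g (n : ℕ) (k : Fin ((n + 1) / 2)) : Fin n → ℤ := rtA (fi n k 0) (fi n k 1)

theorem isRoot_g (k : Fin ((n + 1) / 2)) : IsRoot cs h (g n k) := isRoot_rtA cs h (fi_ne k)

theorem g_orth [Finite W] {k l : Fin ((n + 1) / 2)} (hkl : k ≠ l) : cpr cs h (g n k) (g n l) = 0 := by
  unfold g
  rw [cpr_eq_zero_iff cs h (fi_ne k) (fi_ne l)]
  refine ⟨fun e => hkl (fi_inj e).1, fun e => hkl (fi_inj e).1, fun e => hkl (fi_inj e).1,
    fun e => hkl (fi_inj e).1⟩

theorem cpr_g_zero_iff [Finite W] {a b : Fin (n + 1)} (hab : a ≠ b) (k : Fin ((n + 1) / 2)) :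
    cpr cs h (rtA a b) (g n k) = 0 ↔ (∀ e, a ≠ fi n k e) ∧ ∀ e, b ≠ fi n k e := by
  unfold g
  rw [cpr_eq_zero_iff cs h hab (fi_ne k), Fin.forall_fin_two, Fin.forall_fin_two]
  tauto

/-- **(R1)** -/
theorem frameSys [Finite W] : FrameSys cs h {x | IsRoot cs h x} (g n) where
  root r hr := hr
  act r hr w := hr.act w
  le_one x hx y hy h1 h2 := abs_cpr_le_one cs h hx hy h1 h2
  mem k := isRoot_g cs h k
  orth k l hkl := g_orth cs h hkl
  max x hx h0 := by
    obtain ⟨a, b, hab, rfl⟩ := exists_of_isRoot cs h hx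
    have ha := a.2
    have hb := b.2
    have h1 : ¬ a.val < 2 * ((n + 1) / 2) := by
      intro h1
      obtain ⟨k, e, h2⟩ := exists_fi a h1
      exact ((cpr_g_zero_iff cs h hab k).1 (h0 k)).1 e h2
    have h3 : ¬ b.val < 2 * ((n + 1) / 2) := by
      intro h1
      obtain ⟨k, e, h2⟩ := exists_fi b h1
      exact ((cpr_g_zero_iff cs h hab k).1 (h0 k)).2 e h2
    exact hab (Fin.ext (by omega))

/-- Signed permutations of the frame. -/
theorem exists_signed (σ : Equiv.Perm (Fin ((n + 1) / 2))) (s : Fin ((n + 1) / 2) → Bool) :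
    ∃ w : W, ∀ k, rep cs h w (g n k) = if s k then g n (σ k) else -g n (σ k) := by
  classical
  let τ : Fin (n + 1) → Fin (n + 1) := fun a => if ha : a.val < 2 * ((n + 1) / 2) then
    fi n (σ ⟨a.val / 2, by omega⟩) (if s ⟨a.val / 2, by omega⟩ then ⟨a.val % 2, by omega⟩
      else ⟨1 - a.val % 2, by omega⟩) else a
  have hτ1 : ∀ k e, τ (fi n k e) = fi n (σ k) (if s k then e else ⟨1 - e.val, by omega⟩) := by
    intro k e
    have hk := k.2
    have he := e.2
    have h1 : (fi n k e).val < 2 * ((n + 1) / 2) := by rw [fi_val]; omega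
    have h2 : (⟨(fi n k e).val / 2, by omega⟩ : Fin ((n + 1) / 2)) = k := Fin.ext (by
      simp only [fi_val]; omega)
    have h3 : (⟨(fi n k e).val % 2, by omega⟩ : Fin 2) = e := Fin.ext (by
      simp only [fi_val]; omega)
    have h4 : (⟨1 - (fi n k e).val % 2, by omega⟩ : Fin 2) = ⟨1 - e.val, by omega⟩ := Fin.ext (by
      simp only [fi_val]; omega)
    simp only [τ]
    rw [dif_pos h1, h2, h3, h4]
  have hinj : Function.Injective τ := by
    intro a b hab
    by_cases ha : a.val < 2 * ((n + 1) / 2)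
    · obtain ⟨k, e, rfl⟩ := exists_fi a ha
      by_cases hb : b.val < 2 * ((n + 1) / 2)
      · obtain ⟨l, e', rfl⟩ := exists_fi b hb
        rw [hτ1, hτ1] at hab
        obtain ⟨h1, h2⟩ := fi_inj hab
        obtain rfl := σ.injective h1
        congr 1
        split_ifs at h2 with h3
        · exact h2
        · have := congrArg Fin.val h2
          simp only at this
          exact Fin.ext (by omega)
      · have h1 : τ b = b := dif_neg hb
        rw [hτ1, h1] at hab
        rw [← hab, fi_val] at hb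
        have := (σ k).2
        exact absurd (by omega) hb
    · have h1 : τ a = a := dif_neg ha
      by_cases hb : b.val < 2 * ((n + 1) / 2)
      · obtain ⟨l, e', rfl⟩ := exists_fi b hb
        rw [hτ1, h1] at hab
        rw [hab, fi_val] at ha
        have := (σ l).2
        exact absurd (by omega) ha
      · have h2 : τ b = b := dif_neg hb
        rwa [h1, h2] at hab
  obtain ⟨w, hw⟩ := exists_w cs h (Equiv.ofBijective τ (Finite.injective_iff_bijective.1 hinj))
  refine ⟨w, fun k => ?_⟩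
  unfold g
  rw [hw, Equiv.ofBijective_apply, Equiv.ofBijective_apply, hτ1, hτ1]
  split_ifs with h1
  · rfl
  · rw [rtA_neg]; rfl

/-! ### (R2): the highest root and its Levi subsystem -/

/-- The highest root `ε_0 - ε_n`. -/
def theta (n : ℕ) : Fin n → ℤ := rtA 0 (Fin.last n)

theorem theta_apply (k : Fin n) : theta n k = 1 := by
  have := k.2
  have h0 : (0 : Fin (n + 1)).val ≤ k.val := Nat.zero_le _
  unfold theta
  rw [rtA_apply, if_pos h0, if_neg (by rw [Fin.val_last]; omega)]
  norm_num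

theorem isRoot_theta (hn : 0 < n) : IsRoot cs h (theta n) :=
  isRoot_rtA cs h (fun e => by have := congrArg Fin.val e; simp at this; omega)

theorem pairing_theta (h : IsCartan (cA n) A) (i : Fin n) :
    pairing A i (theta n) = (if i.val = 0 then 1 else 0) + (if i.val + 1 = n then 1 else 0) := by
  unfold theta
  rw [pairing_rtA h]
  have hi := i.2
  have e1 : (0 : Fin (n + 1)) = i.castSucc ↔ i.val = 0 := by
    rw [Fin.ext_iff, Fin.val_castSucc]; exact eq_comm
  have e2 : ¬ (0 : Fin (n + 1)) = i.succ := by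
    rw [Fin.ext_iff, Fin.val_succ]; exact (Nat.succ_ne_zero _).symm
  have e3 : ¬ Fin.last n = i.castSucc := by
    rw [Fin.ext_iff, Fin.val_last, Fin.val_castSucc]; omega
  have e4 : Fin.last n = i.succ ↔ i.val + 1 = n := by
    rw [Fin.ext_iff, Fin.val_last, Fin.val_succ]; exact eq_comm
  simp only [e1, e2, e3, e4, if_false]
  ring

/-- `θ` is dominant. -/
theorem theta_dom (h : IsCartan (cA n) A) (i : Fin n) : 0 ≤ pairing A i (theta n) := by
  rw [pairing_theta h]
  split_ifs <;> norm_num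

theorem pairing_theta_zero_iff (h : IsCartan (cA n) A) (i : Fin n) :
    pairing A i (theta n) = 0 ↔ i.val ≠ 0 ∧ i.val + 1 ≠ n := by
  rw [pairing_theta h]
  split_ifs <;> simp_all

/-- The embedding of the nodes of the Levi subsystem of type `A_m` orthogonal to the highest root of `A_{m+2}`. -/
def lev (m : ℕ) : Fin m ↪ Fin (m + 2) where
  toFun j := ⟨j.val + 1, by omega⟩
  inj' j k h0 := by
    have := congrArg Fin.val h0
    simp only at this
    exact Fin.ext (by omega)

theorem lev_val {m : ℕ} (j : Fin m) : (lev m j).val = j.val + 1 := rfl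

/-- `orth θ` = the inner nodes. -/
theorem range_lev {m : ℕ} {A : Fin (m + 2) → Fin (m + 2) → ℤ} (h : IsCartan (cA (m + 2)) A) :
    Set.range (lev m) = {i | pairing A i (theta (m + 2)) = 0} := by
  ext i
  change _ ↔ pairing A i (theta (m + 2)) = 0
  rw [pairing_theta_zero_iff h]
  have hi := i.2
  constructor
  · rintro ⟨j, rfl⟩
    have := j.2
    rw [lev_val]
    omega
  · rintro ⟨h1, h2⟩
    exact ⟨⟨i.val - 1, by omega⟩, Fin.ext (by rw [lev_val]; simp only; omega)⟩

theorem leviMatrix_lev (m : ℕ) : leviMatrix (lev m) (cA (m + 2)) = cA m := by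
  ext i j
  rw [leviMatrix_apply, cA_apply, cA_apply]
  unfold Cfsg.Agent.LieRecognition.CoxClass.mA
  simp only [lev_val]
  split_ifs <;> simp_all

theorem AA_lev {m : ℕ} (i j : Fin m) : AA (m + 2) (lev m i) (lev m j) = AA m i j := by
  unfold AA
  simp only [lev_val, EmbeddingLike.apply_eq_iff_eq]
  split_ifs <;> first | rfl | omega

/-! ### (R2): the roots orthogonal to a given root -/

/-- Connectivity: two roots orthogonal to all members of a set `P` of roots are both non-orthogonal to a third one. -/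
theorem exists_link_set [Finite W] {P : Set (Fin n → ℤ)} (hP : ∀ r ∈ P, IsRoot cs h r) {x y : Fin n → ℤ}
    (hx : IsRoot cs h x) (hy : IsRoot cs h y) (hxr : ∀ r ∈ P, cpr cs h x r = 0)
    (hyr : ∀ r ∈ P, cpr cs h y r = 0) :
    ∃ z, IsRoot cs h z ∧ (∀ r ∈ P, cpr cs h z r = 0) ∧ cpr cs h x z ≠ 0 ∧ cpr cs h z y ≠ 0 := by
  obtain ⟨a, b, hab, rfl⟩ := exists_of_isRoot cs h hx
  obtain ⟨c, d, hcd, rfl⟩ := exists_of_isRoot cs h hy
  by_cases h0 : cpr cs h (rtA a b) (rtA c d) = 0
  · rw [cpr_eq_zero_iff cs h hab hcd] at h0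
    have hbc : b ≠ c := h0.2.2.1
    refine ⟨rtA b c, isRoot_rtA cs h hbc, fun r hr => ?_, ?_, ?_⟩
    · obtain ⟨e, f, hef, rfl⟩ := exists_of_isRoot cs h (hP r hr)
      have h1 := (cpr_eq_zero_iff cs h hab hef).1 (hxr _ hr)
      have h2 := (cpr_eq_zero_iff cs h hcd hef).1 (hyr _ hr)
      rw [cpr_eq_zero_iff cs h hbc hef]
      exact ⟨h1.2.2.1, h1.2.2.2, h2.1, h2.2.1⟩
    · rw [Ne, cpr_eq_zero_iff cs h hab hbc]
      exact fun hc => hc.2.2.1 rfl
    · rw [Ne, cpr_eq_zero_iff cs h hbc hcd]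
      exact fun hc => hc.2.2.1 rfl
  · refine ⟨rtA a b, hx, hxr, ?_, h0⟩
    rw [cpr_self cs h hx]
    norm_num

/-- Block connectivity: two roots orthogonal to `r` are both non-orthogonal to a third one. -/
theorem exists_link [Finite W] {r x y : Fin n → ℤ} (hr : IsRoot cs h r) (hx : IsRoot cs h x) (hy : IsRoot cs h y)
    (hxr : cpr cs h x r = 0) (hyr : cpr cs h y r = 0) :
    ∃ z, IsRoot cs h z ∧ cpr cs h z r = 0 ∧ cpr cs h x z ≠ 0 ∧ cpr cs h z y ≠ 0 := by
  obtain ⟨z, hz, h1, h2, h3⟩ := exists_link_set cs h (P := {r}) (fun s hs => by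
    rw [Set.mem_singleton_iff.1 hs]; exact hr) hx hy (fun s hs => by
    rw [Set.mem_singleton_iff.1 hs]; exact hxr) (fun s hs => by
    rw [Set.mem_singleton_iff.1 hs]; exact hyr)
  exact ⟨z, hz, h1 r rfl, h2, h3⟩

/-- The increasing map `Fin (m + 1) → Fin (m + 3)` whose image omits `2l`, `2l + 1`. -/
def sk (m l : ℕ) (a : Fin (m + 1)) : Fin (m + 3) := ⟨if a.val < 2 * l then a.val else a.val + 2, by split_ifs <;> omega⟩

theorem sk_val (m l : ℕ) (a : Fin (m + 1)) : (sk m l a).val = if a.val < 2 * l then a.val else a.val + 2 := rfl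

theorem sk_lt {m l : ℕ} {a b : Fin (m + 1)} (hab : a < b) : sk m l a < sk m l b := by
  have h1 : a.val < b.val := hab
  change (sk m l a).val < (sk m l b).val
  rw [sk_val, sk_val]
  split_ifs <;> omega

theorem sk_le_iff {m l : ℕ} {a b : Fin (m + 1)} : sk m l a ≤ sk m l b ↔ a ≤ b := by
  constructor
  · intro h0
    by_contra h1
    exact absurd h0 (not_le.2 (sk_lt (not_le.1 h1)))
  · intro h0
    rcases h0.lt_or_eq with h1 | h1
    · exact (sk_lt h1).le
    · rw [h1]

theorem sk_inj {m l : ℕ} : Function.Injective (sk m l) := fun _ _ hab =>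
  le_antisymm (sk_le_iff.1 hab.le) (sk_le_iff.1 hab.ge)

/-- The base of the subsystem. -/
def beta (m l : ℕ) (j : Fin m) : Fin (m + 2) → ℤ := rtA (sk m l j.castSucc) (sk m l j.succ)

theorem iota_beta (m l : ℕ) (a b : Fin (m + 1)) : iota (beta m l) (rtA a b) = rtA (sk m l a) (sk m l b) := by
  have key : ∀ (d : ℕ) (a b : Fin (m + 1)), a.val + d = b.val →
      iota (beta m l) (rtA a b) = rtA (sk m l a) (sk m l b) := by
    intro d
    induction d with
    | zero =>
      intro a b hd
      obtain rfl : a = b := Fin.ext (by omega)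
      rw [rtA_self, rtA_self, map_zero]
    | succ d ih =>
      intro a b hd
      have hb := b.2
      have han : a.val < m := by omega
      have e1 : (⟨a.val, han⟩ : Fin m).castSucc = a := rfl
      have h1 := ih (⟨a.val, han⟩ : Fin m).succ b (by rw [Fin.val_succ]; simp only; omega)
      have h2 : rtA a b = rtA (⟨a.val, han⟩ : Fin m).castSucc (⟨a.val, han⟩ : Fin m).succ +
          rtA (⟨a.val, han⟩ : Fin m).succ b := by rw [rtA_add, e1]
      rw [h2, map_add, h1, rtA_sr, iota_sr]
      unfold beta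
      rw [rtA_add, e1]
  rcases le_total a b with h0 | h0
  · have : a.val ≤ b.val := h0
    exact key (b.val - a.val) a b (by omega)
  · have : b.val ≤ a.val := h0
    rw [← rtA_neg b a, map_neg, key (a.val - b.val) b a (by omega), rtA_neg]

/-- The coefficient of `β_j` is the coordinate `sk j`. -/
theorem iota_beta_apply (m l : ℕ) (c : Fin m → ℤ) (j : Fin m) (k : Fin (m + 2))
    (hk : k.val = (sk m l j.castSucc).val) : iota (beta m l) c k = c j := by
  rw [iota_apply, Finset.sum_apply, Finset.sum_eq_single j]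
  · have h1 : (sk m l j.castSucc).val < (sk m l j.succ).val := sk_lt Fin.castSucc_lt_succ
    rw [Pi.smul_apply, beta, rtA_apply, if_pos hk.ge, if_neg (by omega), smul_eq_mul]
    ring
  · intro i _ hi
    rw [Pi.smul_apply, beta, rtA_apply, smul_eq_mul]
    rcases lt_or_gt_of_ne hi with h1 | h1
    · have h2 : sk m l i.castSucc ≤ sk m l j.castSucc := sk_le_iff.2 (le_of_lt (by simpa using h1))
      have h3 : sk m l i.succ ≤ sk m l j.castSucc := sk_le_iff.2 (by
        change i.val + 1 ≤ j.val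
        exact h1)
      have h2' : (sk m l i.castSucc).val ≤ (sk m l j.castSucc).val := h2
      have h3' : (sk m l i.succ).val ≤ (sk m l j.castSucc).val := h3
      rw [if_pos (by omega), if_pos (by omega)]
      ring
    · have h2 : sk m l j.castSucc < sk m l i.castSucc := sk_lt (by simpa using h1)
      have h3 : sk m l j.castSucc < sk m l i.succ := sk_lt (by
        change j.val < i.val + 1
        have : j.val < i.val := h1
        omega)
      have h2' : (sk m l j.castSucc).val < (sk m l i.castSucc).val := h2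
      have h3' : (sk m l j.castSucc).val < (sk m l i.succ).val := h3
      rw [if_neg (by omega), if_neg (by omega)]
      ring
  · intro hj; exact absurd (Finset.mem_univ j) hj

theorem exists_sk {m l : ℕ} (hl : 2 * l + 1 ≤ m + 2) (a : Fin (m + 3)) (h1 : a.val ≠ 2 * l)
    (h2 : a.val ≠ 2 * l + 1) : ∃ b, sk m l b = a := by
  have ha := a.2
  by_cases h0 : a.val < 2 * l
  · refine ⟨⟨a.val, by omega⟩, Fin.ext ?_⟩
    rw [sk_val, if_pos h0]
  · refine ⟨⟨a.val - 2, by omega⟩, Fin.ext ?_⟩
    rw [sk_val, if_neg (by simp only; omega)]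
    simp only
    omega

theorem sk_ne {m l : ℕ} (b : Fin (m + 1)) : (sk m l b).val ≠ 2 * l ∧ (sk m l b).val ≠ 2 * l + 1 := by
  rw [sk_val]
  split_ifs <;> omega

section Block

variable {m : ℕ} {W : Type*} [Group W] (cs : CoxeterSystem (cA (m + 2)) W) {A : Fin (m + 2) → Fin (m + 2) → ℤ}
  (h : IsCartan (cA (m + 2)) A)

/-- **(R2)**: the subsystem of type `A_m` orthogonal to `g_l`. -/
theorem exists_subSys [Finite W] (l : ℕ) : ∃ (w : Fin m → W) (i : Fin m → Fin (m + 2)),
    SubSys cs h (AA m) (beta m l) w i := by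
  have h1 : ∀ j : Fin m, IsRoot cs h (beta m l j) := fun j =>
    isRoot_rtA cs h fun e => (Fin.castSucc_lt_succ (i := j)).ne (sk_inj e)
  choose w i hw using h1
  refine ⟨w, i, ⟨hw, fun j k => ?_, fun c hc => ?_⟩⟩
  · rw [← cpr_rep_sr, ← hw]
    unfold beta
    rw [cpr_rtA cs h _ _ (fun e => (Fin.castSucc_lt_succ (i := j)).ne (sk_inj e))]
    simp only [sk_inj.eq_iff, Fin.castSucc_inj, Fin.succ_inj]
    unfold AA
    have e1 : (k.castSucc = j.succ) ↔ j.val + 1 = k.val := by
      rw [Fin.ext_iff, Fin.val_castSucc, Fin.val_succ]; exact eq_comm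
    have e2 : (k.succ = j.castSucc) ↔ k.val + 1 = j.val := by
      rw [Fin.ext_iff, Fin.val_castSucc, Fin.val_succ]
    simp only [e1, e2, Fin.ext_iff]
    split_ifs <;> omega
  · funext j
    have h2 := (sk m l j.castSucc).2
    have h3 : (sk m l j.castSucc).val < m + 2 := by
      have h4 : (sk m l j.castSucc).val < (sk m l j.succ).val := sk_lt Fin.castSucc_lt_succ
      have := (sk m l j.succ).2
      omega
    rw [← iota_beta_apply m l c j ⟨_, h3⟩ rfl, hc]
    rfl

theorem co_add {n : ℕ} (x y : Fin n → ℤ) (j : ℕ) : co (x + y) j = co x j + co y j := by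
  unfold co
  split_ifs <;> (try simp only [Pi.add_apply]) <;> ring

theorem co_smul {n : ℕ} (q : ℤ) (x : Fin n → ℤ) (j : ℕ) : co (q • x) j = q * co x j := by
  unfold co
  split_ifs <;> (try simp only [Pi.smul_apply, smul_eq_mul]) <;> ring

theorem co_iota_beta (l : ℕ) (c : Fin m → ℤ) (a : Fin (m + 3)) (ha : ∀ b, sk m l b ≠ a) :
    co (iota (beta m l) c) a = 0 := by
  rw [iota_apply]
  induction (Finset.univ : Finset (Fin m)) using Finset.induction_on with
  | empty =>
    rw [Finset.sum_empty]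
    unfold co
    split_ifs <;> rfl
  | insert j s hj ih =>
    rw [Finset.sum_insert hj, co_add, ih, co_smul]
    unfold beta
    rw [co_rtA, if_neg (fun e => ha _ e.symm), if_neg (fun e => ha _ e.symm)]
    ring

/-- Every root in the rational span of the `β_j` is an integral combination with coefficients of one sign. -/
theorem beta_base (l : ℕ) : ∀ z, IsRoot cs h z → ∀ q : ℤ, 0 < q → ∀ c, q • z = iota (beta m l) c →
    ∃ d, z = iota (beta m l) d ∧ (0 ≤ d ∨ d ≤ 0) := by
  intro z hz q hq c e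
  obtain ⟨a, b, hab, rfl⟩ := exists_of_isRoot cs h hz
  have h1 : ∃ a', sk m l a' = a := by
    by_contra hcon
    push Not at hcon
    have h2 := co_iota_beta l c a hcon
    rw [← e, co_smul, co_rtA, if_pos rfl, if_neg hab] at h2
    omega
  have h1' : ∃ b', sk m l b' = b := by
    by_contra hcon
    push Not at hcon
    have h2 := co_iota_beta l c b hcon
    rw [← e, co_smul, co_rtA, if_pos rfl, if_neg hab.symm] at h2
    omega
  obtain ⟨a', rfl⟩ := h1
  obtain ⟨b', rfl⟩ := h1'
  refine ⟨rtA a' b', (iota_beta m l a' b').symm, ?_⟩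
  rcases le_total a' b' with h2 | h2
  · exact Or.inl (rtA_nonneg_iff.2 h2)
  · have := rtA_nonneg_iff.2 h2
    rw [← rtA_neg a' b'] at this
    exact Or.inr (neg_nonneg.1 this)

theorem fi_val_zero {n : ℕ} (k : Fin ((n + 1) / 2)) : (fi n k 0).val = 2 * k.val := rfl
theorem fi_val_one {n : ℕ} (k : Fin ((n + 1) / 2)) : (fi n k 1).val = 2 * k.val + 1 := rfl

/-- **(R2)**: the roots orthogonal to `g_l`. -/
theorem orth_iff [Finite W] {W' : Type*} [Group W'] (cs' : CoxeterSystem (cA m) W')
    (l : Fin ((m + 2 + 1) / 2)) {x : Fin (m + 2) → ℤ} : (IsRoot cs h x ∧ cpr cs h x (g (m + 2) l) = 0) ↔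
      ∃ c, IsRoot cs' (isCartan m) c ∧ x = iota (beta m l) c := by
  have hl := l.2
  constructor
  · rintro ⟨hx, h0⟩
    obtain ⟨a, b, hab, rfl⟩ := exists_of_isRoot cs h hx
    rw [cpr_g_zero_iff cs h hab] at h0
    have key : ∀ c : Fin (m + 3), (∀ e, c ≠ fi (m + 2) l e) → ∃ d, sk m l d = c := by
      intro c hc
      refine exists_sk (by omega) c (fun e => hc 0 (Fin.ext ?_)) (fun e => hc 1 (Fin.ext ?_))
      · rw [fi_val_zero]; exact e
      · rw [fi_val_one]; exact e
    obtain ⟨a', rfl⟩ := key a h0.1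
    obtain ⟨b', rfl⟩ := key b h0.2
    exact ⟨rtA a' b', isRoot_rtA cs' _ (fun e => hab (by rw [e])), (iota_beta m l a' b').symm⟩
  · rintro ⟨c, hc, rfl⟩
    obtain ⟨a, b, hab, rfl⟩ := exists_of_isRoot cs' _ hc
    have hab' : sk m l a ≠ sk m l b := fun e => hab (sk_inj e)
    rw [iota_beta]
    refine ⟨isRoot_rtA cs h hab', ?_⟩
    rw [cpr_g_zero_iff cs h hab']
    have key : ∀ (b : Fin (m + 1)) (e : Fin 2), sk m l b ≠ fi (m + 2) l e := by
      intro b e h0
      have h1 := congrArg Fin.val h0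
      rw [fi_val] at h1
      have h2 := sk_ne (m := m) (l := l) b
      have := e.2
      omega
    exact ⟨key a, key b⟩

/-- The frame of the subsystem consists of the other members of the frame. -/
theorem iota_g (l : Fin ((m + 2 + 1) / 2)) (k : Fin ((m + 1) / 2)) :
    iota (beta m l) (g m k) = g (m + 2) ⟨if k.val < l.val then k.val else k.val + 1, by
      have := k.2; split_ifs <;> omega⟩ := by
  unfold g
  rw [iota_beta]
  congr 1 <;> apply Fin.ext
  · rw [sk_val, fi_val_zero, fi_val_zero]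
    simp only
    split_ifs <;> omega
  · rw [sk_val, fi_val_one, fi_val_one]
    simp only
    split_ifs <;> omega

end Block

/-! ### (R3), (R4) -/

/-- **(R4)**: a root is not orthogonal to at most two members of the frame. -/
theorem support_le_two [Finite W] {x : Fin n → ℤ} (hx : IsRoot cs h x) (hn : 0 < n) :
    ∃ k l, ∀ m, cpr cs h x (g n m) ≠ 0 → m = k ∨ m = l := by
  obtain ⟨a, b, hab, rfl⟩ := exists_of_isRoot cs h hx
  have ha := a.2
  have hb := b.2
  refine ⟨if ha : a.val / 2 < (n + 1) / 2 then ⟨a.val / 2, ha⟩ else ⟨0, by omega⟩,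
    if hb : b.val / 2 < (n + 1) / 2 then ⟨b.val / 2, hb⟩ else ⟨0, by omega⟩, fun k hk => ?_⟩
  have hk2 := k.2
  have key : ∀ (c : Fin (n + 1)) (e : Fin 2), c = fi n k e →
      k = if hc : c.val / 2 < (n + 1) / 2 then ⟨c.val / 2, hc⟩ else ⟨0, by omega⟩ := by
    intro c e h0
    have h1 := congrArg Fin.val h0
    rw [fi_val] at h1
    have := e.2
    have h2 : c.val / 2 = k.val := by omega
    rw [dif_pos (by omega)]
    exact Fin.ext h2.symm
  rw [Ne, cpr_g_zero_iff cs h hab k, not_and_or] at hk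
  push Not at hk
  rcases hk with ⟨e, h1⟩ | ⟨e, h1⟩
  · exact Or.inl (key a e h1)
  · exact Or.inr (key b e h1)

/-- **(R4)**: for `f ≥ 3` every root is orthogonal to some member of the frame. -/
theorem exists_orth_g [Finite W] {x : Fin n → ℤ} (hx : IsRoot cs h x) (hf : 3 ≤ (n + 1) / 2) :
    ∃ m, cpr cs h x (g n m) = 0 := by
  obtain ⟨k, l, h0⟩ := support_le_two cs h hx (by omega)
  by_contra hcon
  push Not at hcon
  have h1 := h0 ⟨0, by omega⟩ (hcon _)
  have h2 := h0 ⟨1, by omega⟩ (hcon _)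
  have h3 := h0 ⟨2, by omega⟩ (hcon _)
  simp only [Fin.ext_iff] at h1 h2 h3
  omega

/-- The members of the frame not orthogonal to `x`, different from `± x`. -/
noncomputable def odds [Finite W] (S : Finset (Fin ((n + 1) / 2))) (x : Fin n → ℤ) : Finset (Fin ((n + 1) / 2)) := by
  classical
  exact S.filter fun k => cpr cs h x (g n k) ≠ 0 ∧ x ≠ g n k ∧ x ≠ -g n k

theorem mem_odds [Finite W] {S : Finset (Fin ((n + 1) / 2))} {x : Fin n → ℤ} {k : Fin ((n + 1) / 2)} :
    k ∈ odds cs h S x ↔ k ∈ S ∧ cpr cs h x (g n k) ≠ 0 ∧ x ≠ g n k ∧ x ≠ -g n k := by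
  unfold odds
  rw [Finset.mem_filter]

theorem mem_odds_rtA [Finite W] {S : Finset (Fin ((n + 1) / 2))} {k l m : Fin ((n + 1) / 2)} {e e' : Fin 2}
    (hkl : k ≠ l) : m ∈ odds cs h S (rtA (fi n k e) (fi n l e')) ↔ m ∈ S ∧ (m = k ∨ m = l) := by
  have hne : fi n k e ≠ fi n l e' := fun h0 => hkl (fi_inj h0).1
  rw [mem_odds, Ne, cpr_g_zero_iff cs h hne]
  constructor
  · rintro ⟨hm, h1, -⟩
    refine ⟨hm, ?_⟩
    by_contra hcon
    push Not at hcon
    exact h1 ⟨fun e1 h2 => hcon.1 (fi_inj h2).1.symm, fun e1 h2 => hcon.2 (fi_inj h2).1.symm⟩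
  · rintro ⟨hm, h1⟩
    refine ⟨hm, fun h2 => ?_, fun h2 => ?_, fun h2 => ?_⟩
    · rcases h1 with rfl | rfl
      · exact h2.1 e rfl
      · exact h2.2 e' rfl
    · obtain ⟨h3, h4⟩ := rtA_inj hne h2
      exact hkl ((fi_inj h3).1.trans (fi_inj h4).1.symm)
    · unfold g at h2
      rw [rtA_neg] at h2
      obtain ⟨h3, h4⟩ := rtA_inj hne h2
      exact hkl ((fi_inj h3).1.trans (fi_inj h4).1.symm)

/-- **(R3)**: for odd `n` the product of all `z_{g_k}` is central (parity form). -/
theorem even_odds [Finite W] (hn : Odd n) {x : Fin n → ℤ} (hx : IsRoot cs h x) :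
    Even (odds cs h Finset.univ x).card := by
  obtain ⟨a, b, hab, rfl⟩ := exists_of_isRoot cs h hx
  obtain ⟨q, hq⟩ := hn
  obtain ⟨k, e, rfl⟩ := exists_fi a (by have := a.2; omega)
  obtain ⟨l, e', rfl⟩ := exists_fi b (by have := b.2; omega)
  by_cases hkl : k = l
  · subst hkl
    have h1 : odds cs h Finset.univ (rtA (fi n k e) (fi n k e')) = ∅ := by
      rw [Finset.eq_empty_iff_forall_notMem]
      intro m hm
      rw [mem_odds, Ne, cpr_g_zero_iff cs h hab] at hm
      obtain ⟨-, h1, h2, h3⟩ := hm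
      have hmk : m = k := by
        by_contra hcon
        exact h1 ⟨fun _ h2 => hcon (fi_inj h2).1.symm, fun _ h2 => hcon (fi_inj h2).1.symm⟩
      subst hmk
      have hee : e ≠ e' := fun h0 => hab (by rw [h0])
      have h4 : (e = 0 ∧ e' = 1) ∨ (e = 1 ∧ e' = 0) := by
        rcases e with ⟨e, he⟩
        rcases e' with ⟨e', he'⟩
        simp only [Ne, Fin.ext_iff, Fin.val_zero, Fin.val_one] at hee ⊢
        omega
      rcases h4 with ⟨rfl, rfl⟩ | ⟨rfl, rfl⟩
      · exact h2 rfl
      · exact h3 (by unfold g; rw [rtA_neg])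
    rw [h1]
    exact ⟨0, rfl⟩
  · have h1 : odds cs h Finset.univ (rtA (fi n k e) (fi n l e')) = {k, l} := by
      ext m
      rw [mem_odds_rtA cs h hkl, Finset.mem_insert, Finset.mem_singleton]
      simp
    rw [h1, Finset.card_pair hkl]
    exact ⟨1, rfl⟩

/-- **(R3)**, converse: the only other product of `z_{g_k}` which is central is the empty one. -/
theorem eq_of_even_odds [Finite W] {S : Finset (Fin ((n + 1) / 2))}
    (hS : ∀ x, IsRoot cs h x → Even (odds cs h S x).card) : S = ∅ ∨ (Odd n ∧ S = Finset.univ) := by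
  rcases S.eq_empty_or_nonempty with h0 | ⟨k, hk⟩
  · exact Or.inl h0
  right
  constructor
  · rw [← Nat.not_even_iff_odd]
    rintro ⟨q, hq⟩
    have hne : fi n k 0 ≠ Fin.last n := by
      intro e
      have := congrArg Fin.val e
      rw [fi_val_zero, Fin.val_last] at this
      have := k.2
      omega
    have h1 : odds cs h S (rtA (fi n k 0) (Fin.last n)) = {k} := by
      ext m
      rw [mem_odds, Ne, cpr_g_zero_iff cs h hne, Finset.mem_singleton]
      have hl : ∀ (m : Fin ((n + 1) / 2)) (e : Fin 2), Fin.last n ≠ fi n m e := by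
        intro m e h2
        have h3 := congrArg Fin.val h2
        rw [fi_val, Fin.val_last] at h3
        have := m.2
        have := e.2
        omega
      constructor
      · rintro ⟨-, h1, -⟩
        by_contra hcon
        exact h1 ⟨fun e h2 => hcon (fi_inj h2).1.symm, hl m⟩
      · rintro rfl
        refine ⟨hk, fun h2 => h2.1 0 rfl, fun h2 => ?_, fun h2 => ?_⟩
        · exact hl m 1 (rtA_inj hne h2).2
        · unfold g at h2
          rw [rtA_neg] at h2
          exact hl m 0 (rtA_inj hne h2).2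
    have h2 := hS _ (isRoot_rtA cs h hne)
    rw [h1, Finset.card_singleton] at h2
    exact absurd h2 (by decide)
  · rw [Finset.eq_univ_iff_forall]
    intro l
    by_contra hl
    have hkl : k ≠ l := fun e => hl (e ▸ hk)
    have h1 : odds cs h S (rtA (fi n k 0) (fi n l 0)) = {k} := by
      ext m
      rw [mem_odds_rtA cs h hkl, Finset.mem_singleton]
      constructor
      · rintro ⟨h1, h2 | h2⟩
        · exact h2
        · exact absurd (h2 ▸ h1) hl
      · rintro rfl
        exact ⟨hk, Or.inl rfl⟩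
    have h2 := hS (rtA (fi n k 0) (fi n l 0)) (isRoot_rtA cs h (fun e => hkl (fi_inj e).1))
    rw [h1, Finset.card_singleton] at h2
    exact absurd h2 (by decide)

end Cfsg.Agent.Nodes.KindA
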