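import Mathlib
import Cfsg.Agent.Nodes.ShortSum
import Cfsg.Agent.Nodes.KindA
import Cfsg.Agent.Nodes.KindB
import Cfsg.Agent.Nodes.KindC
import Cfsg.Agent.Nodes.KindD
import Cfsg.Agent.Nodes.KindE
import Cfsg.Agent.Nodes.KindF
import Cfsg.Agent.Nodes.OrthRoot

/-!
# Generation of a chart group by the centralisers of the members of a frame: the root part (project CIT, (K4))

`GenS S` : the set `S` of roots contains the classical roots orthogonal to a member of the frame, the roots linked to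
such a root inside the orthogonal of a member of the frame, and is closed under the reflections in its members and
(if `ok`) under `LEMMA SH` (`ShortSum`). For all types with a frame of at least three members, except `D 4`, such a
set contains all roots.
-/

set_option autoImplicit false
set_option linter.unusedSectionVars false
set_option linter.dupNamespace false

namespace Cfsg.Agent.Nodes.GenSet

open CoxeterSystem Cfsg.Agent.ChevalleyStructure.CoxeterGeom Cfsg.Agent.Tits.Roots Cfsg.Agent.Tits.Core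
  Cfsg.Agent.Tits.RootComb Cfsg.Agent.Nodes.Comb Cfsg.Agent.Nodes.Reps Cfsg.Agent.Nodes.BNOf
  Cfsg.Agent.Nodes.RGDLib Cfsg.Agent.Nodes.Chart Cfsg.Agent.Nodes.Coroot Cfsg.Agent.Nodes.Perp
  Cfsg.Agent.Nodes.ShortSum Cfsg.Agent.Nodes.SubComb

section Gen

variable {I W : Type*} [Fintype I] [DecidableEq I] [Group W] [Fintype W] {M : CoxeterMatrix I}
  (cs : CoxeterSystem M W) {A : I → I → ℤ} (h : IsCartan M A)

/-- The closure properties. -/
structure GenS (R : Set (I → ℤ)) (ok : Prop) {ι : Type*} (g : ι → I → ℤ) (S : Set (I → ℤ)) : Prop where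
  self : ∀ k, ∀ x ∈ R, form cs h x (g k) = 0 → x ∈ S
  link : ∀ k, ∀ x, IsRoot cs h x → form cs h x (g k) = 0 → ∀ r ∈ R, form cs h r (g k) = 0 → x ≠ r → x ≠ -r →
    form cs h x r ≠ 0 → x ∈ S
  refl : ∀ y z, IsRoot cs h y → IsRoot cs h z → y ∈ S → -y ∈ S → z ∈ S → z - cpr cs h z y • y ∈ S
  half : ok → ∀ (m : ℤ) (y₁ y₂ x b : I → ℤ), Sq cs h m y₁ y₂ x b → x ∈ R → b ∈ R → y₁ ∈ S → y₂ ∈ S → x ∈ S

variable {cs h} {R : Set (I → ℤ)} {ok : Prop} {ι : Type*} {g : ι → I → ℤ} {S : Set (I → ℤ)}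

/-- The sum of two roots of `S` and `-S`. -/
theorem GenS.add (H : GenS cs h R ok g S) {y z : I → ℤ} (hy : IsRoot cs h y) (hz : IsRoot cs h z) (hyS : y ∈ S)
    (hyS' : -y ∈ S) (hzS : z ∈ S) (hc : cpr cs h z y = -1) : y + z ∈ S := by
  have h1 := H.refl y z hy hz hyS hyS' hzS
  rw [hc, neg_one_smul, sub_neg_eq_add, add_comm] at h1
  exact h1

/-- The sum of two roots of the same length, if it is a root of the same length. -/
theorem cpr_eq_neg_one {y z : I → ℤ} (hy : IsRoot cs h y) (h1 : form cs h z z = form cs h y y)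
    (h2 : form cs h (y + z) (y + z) = form cs h y y) : cpr cs h z y = -1 := by
  apply cpr_eq_of_form cs h hy
  rw [form_add_left, form_add_right, form_add_right, h1, form_comm cs h y z] at h2
  linarith

theorem GenS.add' (H : GenS cs h R ok g S) {y z : I → ℤ} (hy : IsRoot cs h y) (hz : IsRoot cs h z) (hyS : y ∈ S)
    (hyS' : -y ∈ S) (hzS : z ∈ S) (h1 : form cs h z z = form cs h y y)
    (h2 : form cs h (y + z) (y + z) = form cs h y y) : y + z ∈ S :=
  H.add hy hz hyS hyS' hzS (cpr_eq_neg_one hy h1 h2)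

/-- The general sum, for root systems with two root lengths `q`, `2 q`. -/
theorem GenS.sum (H : GenS cs h R ok g S) (hok : ok) {q : ℤ} (hq : 0 < q)
    (hlen : ∀ x, IsRoot cs h x → form cs h x x = q ∨ form cs h x x = 2 * q)
    (hact : ∀ r ∈ R, ∀ w, rep cs h w r ∈ R)
    (hR : ∀ x, IsRoot cs h x → form cs h x x = 2 * q → x ∈ R) {y z : I → ℤ} (hy : IsRoot cs h y)
    (hz : IsRoot cs h z) (hx : IsRoot cs h (y + z)) (hyS : y ∈ S)
    (hyS' : -y ∈ S) (hzS : z ∈ S) (hzS' : -z ∈ S) : y + z ∈ S := by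
  have e1 := two_form_cpr cs h z hy
  have e2 := two_form_cpr cs h y hz
  have e3 : form cs h (y + z) (y + z) = form cs h y y + form cs h z z + 2 * form cs h z y := by
    rw [form_add_left, form_add_right, form_add_right, form_comm cs h y z]
    ring
  rw [form_comm cs h y z] at e2
  have k1 : ∀ c : ℤ, c * (2 * q) = -(3 * q) → False := by
    intro c hc
    have : (2 * c + 3) * q = 0 := by linarith
    rcases mul_eq_zero.1 this with h0 | h0 <;> omega
  have k2 : ∀ c : ℤ, c * (2 * q) = -q → False := by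
    intro c hc
    have : (2 * c + 1) * q = 0 := by linarith
    rcases mul_eq_zero.1 this with h0 | h0 <;> omega
  rcases hlen y hy with h1 | h1 <;> rcases hlen z hz with h2 | h2 <;> rcases hlen _ hx with h3 | h3
  · exact H.add' hy hz hyS hyS' hzS (by rw [h1, h2]) (by rw [h1, h3])
  · -- two short orthogonal roots
    have h4 : form cs h z y = 0 := by
      rw [h3, h1, h2] at e3; linarith
    have hxR := hR _ hx h3
    have hSq : Sq cs h 1 y z (y + z) ((y + z) - cpr cs h (y + z) y • y) :=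
      Sq.of_add one_pos hy hz hx (by rw [form_comm]; exact h4) (by rw [h1, h2]) (one_smul _ _)
    refine H.half hok 1 y z (y + z) _ hSq hxR ?_ hyS hzS
    obtain ⟨w, i, rfl⟩ := hy
    have := hact _ hxR (rfl' cs w i)
    rwa [rep_rfl'_eq] at this
  · -- `y` short, `z` long, `y + z` short
    have h4 : cpr cs h y z = -1 := by
      apply cpr_eq_of_form cs h hz
      rw [h2, form_comm]
      rw [h3, h1, h2] at e3
      linarith
    rw [add_comm]
    exact H.add hz hy hzS hzS' hyS h4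
  · exfalso
    rw [h3, h1, h2] at e3
    rw [h2] at e2
    exact k2 _ (by rw [← e2]; linarith)
  · have h4 : cpr cs h z y = -1 := by
      apply cpr_eq_of_form cs h hy
      rw [h1]
      rw [h3, h1, h2] at e3
      linarith
    exact H.add hy hz hyS hyS' hzS h4
  · exfalso
    rw [h3, h1, h2] at e3
    rw [h1] at e1
    exact k2 _ (by rw [← e1]; linarith)
  · exfalso
    rw [h3, h1, h2] at e3
    rw [h1] at e1
    exact k1 _ (by rw [← e1]; linarith)
  · exact H.add' hy hz hyS hyS' hzS (by rw [h1, h2]) (by rw [h1, h3])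

end Gen

/-! ### The types -/

section TypeA

open Cfsg.Agent.Nodes.RootsA Cfsg.Agent.LieRecognition.BNCox

variable {n : ℕ} {W : Type*} [Group W] [Fintype W] (cs : CoxeterSystem (cA n) W) {A : Fin n → Fin n → ℤ}
  (h : IsCartan (cA n) A) {ok : Prop} {S : Set (Fin n → ℤ)}

theorem gen_A (H : GenS cs h {x | IsRoot cs h x} ok (KindA.g n) S) (hf : 3 ≤ (n + 1) / 2) :
    ∀ x, IsRoot cs h x → x ∈ S := by
  intro x hx
  obtain ⟨k, hk⟩ := KindA.exists_orth_g cs h hx hf
  exact H.self k x hx ((cpr_zero_iff cs h x (KindA.isRoot_g cs h k)).1 hk)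

end TypeA

section TypeC

open KindBC

variable {n : ℕ} {W : Type*} [Group W] [Fintype W] (cs : CoxeterSystem (CoxeterMatrix.B n) W) {ok : Prop}
  {S : Set (Fin n → ℤ)}

theorem gen_C (H : GenS cs (TypeC.isCartan n) (RC n) ok (KindC.fr n) S) (hn : 3 ≤ n) :
    ∀ x, IsRoot cs (TypeC.isCartan n) x → x ∈ S := by
  intro x hx
  obtain ⟨k, hk⟩ := KindC.exists_orth cs hn hx
  have hk' := (cpr_zero_iff cs (TypeC.isCartan n) x (KindC.isRoot_fr cs k)).1 hk
  obtain ⟨a, b, hab | rfl, rfl⟩ := exists_rt hx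
  · have h1 : a.1 ≠ k := by
      intro h0
      rw [KindC.cpr_fr, ee_rt, Pi.add_apply, ← h0, wt_apply_self, wt_apply_ne hab] at hk
      rcases sn_eq_one_or a with h1 | h1 <;> rw [h1] at hk <;> norm_num at hk
    have h2 : cpr cs (TypeC.isCartan n) (rt a a) (KindC.fr n k) = 0 := by
      rw [KindC.cpr_fr, ee_rt, Pi.add_apply, wt_apply_ne (Ne.symm h1)]; norm_num
    have h3 : cpr cs (TypeC.isCartan n) (rt a b) (rt a a) ≠ 0 := by
      rw [cpr_rt_self, ee_rt, Pi.add_apply, wt_apply_self, wt_apply_ne hab]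
      rcases sn_eq_one_or a with h1 | h1 <;> rw [h1] <;> norm_num
    have h4 : ∀ c, rt a b ≠ rt c c := by
      intro c e
      have h5 : rt a b ∈ RC n := by rw [e]; exact rt_mem_RC c
      rw [mem_RC_iff_ip cs hx, ee_rt, ip_rt_ne hab] at h5
      norm_num at h5
    refine H.link k _ hx hk' (rt a a) (rt_mem_RC a)
      ((cpr_zero_iff cs _ _ (KindC.isRoot_fr cs k)).1 h2) (h4 a) ?_ fun h0 => h3 ?_
    · rw [← rt_ng]; exact h4 _
    · exact (cpr_zero_iff cs _ _ (root_RC cs (rt_mem_RC a))).2 h0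
  · exact H.self k _ (rt_mem_RC a) hk'

end TypeC

section TypeB

open KindBC

variable {n : ℕ} {W : Type*} [Group W] [Fintype W] (cs : CoxeterSystem (CoxeterMatrix.B n) W) {ok : Prop}
  {S : Set (Fin n → ℤ)}

/-- Roots orthogonal to a member of the frame. -/
theorem orth_B (H : GenS cs (TypeC.isCartan n) (RB n) ok (KindB.fr n) S) (hn : 4 ≤ n) {x : Fin n → ℤ}
    (hx : IsRoot cs (TypeC.isCartan n) x) {k : Fin (2 * (n / 2))}
    (hk : cpr cs (TypeC.isCartan n) x (KindB.fr n k) = 0) : x ∈ S := by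
  have hk' := (cpr_zero_iff cs (TypeC.isCartan n) x (KindB.isRoot_fr cs k)).1 hk
  rcases (isRoot_iff_mem cs).1 hx with h0 | h0
  · exact H.self k _ h0 hk'
  obtain ⟨a, rfl⟩ := mem_RC.1 h0
  have ha0 : a.1 ≠ KindB.i0 k := by
    intro h1
    rw [KindB.cpr_fr, ee_rt, Pi.add_apply, Pi.add_apply, ← h1, wt_apply_self,
      wt_apply_ne (a := a) (k := KindB.i1 k) (by rw [h1]; exact (KindB.i0_ne_i1 k k).symm)] at hk
    rcases sn_eq_one_or a with h2 | h2 <;> rw [h2] at hk <;> norm_num at hk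
  have ha1 : a.1 ≠ KindB.i1 k := by
    intro h1
    rw [KindB.cpr_fr, ee_rt, Pi.add_apply, Pi.add_apply, ← h1, wt_apply_self,
      wt_apply_ne (a := a) (k := KindB.i0 k) (by rw [h1]; exact KindB.i0_ne_i1 k k)] at hk
    have h3 := KindB.sgn_mul_self k
    rcases sn_eq_one_or a with h2 | h2 <;> rw [h2] at hk
    · have : KindB.sgn k = 0 := by linarith
      rw [this] at h3; norm_num at h3
    · have : KindB.sgn k = 0 := by linarith
      rw [this] at h3; norm_num at h3
  obtain ⟨b, hb⟩ : ∃ b : Fin n, b ∉ ({a.1, KindB.i0 k, KindB.i1 k} : Finset (Fin n)) := by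
    by_contra hcon
    push Not at hcon
    have h1 : (Finset.univ : Finset (Fin n)) ⊆ {a.1, KindB.i0 k, KindB.i1 k} := fun b _ => hcon b
    have h2 := (Finset.card_le_card h1).trans (Finset.card_le_three)
    rw [Finset.card_univ, Fintype.card_fin] at h2
    omega
  simp only [Finset.mem_insert, Finset.mem_singleton, not_or] at hb
  obtain ⟨hb1, hb2, hb3⟩ := hb
  have hab : a.1 ≠ (b, true).1 := fun h1 => hb1 h1.symm
  have h1 : cpr cs (TypeC.isCartan n) (rt a (b, true)) (KindB.fr n k) = 0 :=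
    KindB.cpr_fr_eq_zero cs (Ne.symm ha0) (Ne.symm ha1) (fun h => hb2 h.symm) (fun h => hb3 h.symm)
  have h2 : cpr cs (TypeC.isCartan n) (rt a a) (rt a (b, true)) ≠ 0 := by
    rw [cpr_rt cs _ hab, ee_rt, Pi.add_apply, Pi.add_apply, wt_apply_self,
      wt_apply_ne (a := a) (k := (b, true).1) (Ne.symm hab)]
    rcases sn_eq_one_or a with h1 | h1 <;> rw [h1] <;> norm_num
  have h3 : ∀ c d : Fin n × Bool, c.1 ≠ d.1 → rt a a ≠ rt c d := by
    intro c d hcd e
    have h5 : rt c d ∈ RC n := by rw [← e]; exact rt_mem_RC a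
    rw [mem_RC_iff_ip cs (root_RB cs (rt_mem_RB hcd)), ee_rt, ip_rt_ne hcd] at h5
    norm_num at h5
  refine H.link k _ hx hk' (rt a (b, true)) (rt_mem_RB hab)
    ((cpr_zero_iff cs _ _ (KindB.isRoot_fr cs k)).1 h1) (h3 _ _ hab) ?_ fun h0 => h2 ?_
  · rw [← rt_ng]; exact h3 _ _ hab
  · exact (cpr_zero_iff cs _ _ (root_RB cs (rt_mem_RB hab))).2 h0

theorem form_RB {x y : Fin n → ℤ} (hx : x ∈ RB n) (hy : y ∈ RB n) :
    form cs (TypeC.isCartan n) x x = form cs (TypeC.isCartan n) y y := by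
  obtain ⟨w, rfl⟩ := trans_RB cs x hx y hy
  rw [form_rep]

theorem gen_B (H : GenS cs (TypeC.isCartan n) (RB n) ok (KindB.fr n) S) (hok : ok) (hn : 4 ≤ n) :
    ∀ x, IsRoot cs (TypeC.isCartan n) x → x ∈ S := by
  intro x hx
  rcases Nat.lt_or_ge n 5 with h5 | h5
  · by_cases h0 : ∀ k, cpr cs (TypeC.isCartan n) x (KindB.fr n k) ≠ 0
    · obtain ⟨a, b, hab, rfl, e⟩ := KindB.exists_half cs hn hx h0
      have ra : IsRoot cs (TypeC.isCartan n) (rt a a) := root_RC cs (rt_mem_RC a)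
      have rb : IsRoot cs (TypeC.isCartan n) (rt b b) := root_RC cs (rt_mem_RC b)
      have hS : ∀ c, rt c c ∈ S := fun c => by
        obtain ⟨k, hk⟩ := KindB.exists_orth_RC cs hn (rt_mem_RC c)
        exact orth_B cs H hn (root_RC cs (rt_mem_RC c)) hk
      have hlen : form cs (TypeC.isCartan n) (rt a a) (rt a a) = form cs (TypeC.isCartan n) (rt b b) (rt b b) := by
        obtain ⟨w, hw⟩ := trans_RC cs _ (rt_mem_RC a) _ (rt_mem_RC b)
        rw [hw, form_rep]
      have horth : form cs (TypeC.isCartan n) (rt a a) (rt b b) = 0 := by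
        rw [← cpr_zero_iff cs _ _ rb, cpr_rt_self, ee_rt, Pi.add_apply, wt_apply_ne (Ne.symm hab)]
        norm_num
      have hSq := Sq.of_add (cs := cs) (h := TypeC.isCartan n) two_pos ra rb hx horth hlen e
      refine H.half hok 2 (rt a a) (rt b b) (rt a b) _ hSq (rt_mem_RB hab) ?_ (hS a) (hS b)
      obtain ⟨w, i, hwi⟩ := ra
      have := act_RB cs (rt_mem_RB hab) (rfl' cs w i)
      rw [rep_rfl'_eq, ← hwi] at this
      exact this
    · push Not at h0
      obtain ⟨k, hk⟩ := h0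
      exact orth_B cs H hn hx hk
  · rcases KindB.exists_add cs h5 hx with ⟨k, hk⟩ | ⟨r, hr, s, hs, rfl, hxR, ⟨k, hk⟩, l, hl⟩
    · exact orth_B cs H hn hx hk
    · have rr := root_RB cs hr
      have rs := root_RB cs hs
      refine H.add' rr rs (orth_B cs H hn rr hk) (orth_B cs H hn rr.neg (k := k) ?_) (orth_B cs H hn rs hl)
        (form_RB cs hs hr) (form_RB cs hxR hr)
      rw [cpr_neg cs _ _ (KindB.isRoot_fr cs k), hk, neg_zero]

end TypeB

section TypeD

variable {n : ℕ} {W : Type*} [Group W] [Fintype W] (cs : CoxeterSystem (TypeD.M n) W) {ok : Prop}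
  {S : Set (Fin (n + 2) → ℤ)}

theorem gen_D (H : GenS cs (TypeD.isCartan n) {x | IsRoot cs (TypeD.isCartan n) x} ok (KindD.g (n := n)) S)
    (hn : 3 ≤ n) : ∀ x, IsRoot cs (TypeD.isCartan n) x → x ∈ S := by
  intro x hx
  have key : ∀ x, IsRoot cs (TypeD.isCartan n) x → (∃ k, ∀ s, cpr cs (TypeD.isCartan n) x (KindD.g (k, s)) = 0) →
      x ∈ S ∧ -x ∈ S := by
    rintro x hx ⟨k, hk⟩
    have h1 := (cpr_zero_iff cs _ x (KindD.isRoot_g cs (k, true))).1 (hk true)
    exact ⟨H.self (k, true) x hx h1, H.self (k, true) (-x) hx.neg (by rw [form_neg_left, h1, neg_zero])⟩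
  rcases Nat.lt_or_ge n 4 with h4 | h4
  · rcases KindD.exists_orth_five cs (by omega) hx with h0 | ⟨y, z, rfl, hy, hz, hy', hz'⟩
    · exact (key x hx h0).1
    · have hlen : ∀ x y, IsRoot cs (TypeD.isCartan n) x → IsRoot cs (TypeD.isCartan n) y →
          form cs (TypeD.isCartan n) x x = form cs (TypeD.isCartan n) y y := by
        intro x y hx hy
        obtain ⟨w, hw⟩ := KindD.trans cs (by omega) hx hy
        rw [← hw, form_rep]
      exact H.add' hy hz (key y hy hy').1 (key y hy hy').2 (key z hz hz').1 (hlen _ _ hz hy) (hlen _ _ hx hy)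
  · exact (key x hx (KindD.exists_orth cs h4 hx)).1

end TypeD

section TypeE

open Cfsg.Lie Cfsg.Agent.ChevalleyStructure Cfsg.Agent.ChevalleyStructure.CoxeterGeomTypes

variable {W : Type*} [Group W] [Fintype W] {ok : Prop}

theorem gen_E7 (cs : CoxeterSystem CoxeterMatrix.E₇ W) (h : IsCartan CoxeterMatrix.E₇ (cartanOf chevE7 7))
    {S : Set (Fin 7 → ℤ)} (H : GenS cs h (KindE.R7 cs h) ok KindE.fr7 S) : ∀ x, IsRoot cs h x → x ∈ S := by
  intro x hx
  obtain ⟨k, hk⟩ := KindE.gen7 cs h hx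
  exact H.self k x hx ((cpr_zero_iff cs h x (KindE.isRoot_fr7 cs h k)).1 hk)

theorem gen_E8 (cs : CoxeterSystem CoxeterMatrix.E₈ W) (h : IsCartan CoxeterMatrix.E₈ (cartanOf chevE8 8))
    {S : Set (Fin 8 → ℤ)} (H : GenS cs h (KindE.R8 cs h) ok KindE.fr8 S) : ∀ x, IsRoot cs h x → x ∈ S := by
  intro x hx
  obtain ⟨k, hk⟩ := KindE.gen8 cs h hx
  exact H.self k x hx ((cpr_zero_iff cs h x (KindE.isRoot_fr8 cs h k)).1 hk)

theorem gen_E6 (cs : CoxeterSystem CoxeterMatrix.E₆ W) (h : IsCartan CoxeterMatrix.E₆ (cartanOf chevE6 6))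
    {S : Set (Fin 6 → ℤ)} (H : GenS cs h (KindE.R6 cs h) ok KindE.fr6 S) : ∀ x, IsRoot cs h x → x ∈ S := by
  intro x hx
  have key : ∀ x, IsRoot cs h x → (∃ k, cpr cs h x (KindE.fr6 k) = 0) → x ∈ S ∧ -x ∈ S := by
    rintro x hx ⟨k, hk⟩
    have h1 := (cpr_zero_iff cs _ x (KindE.isRoot_fr6 cs h k)).1 hk
    exact ⟨H.self k x hx h1, H.self k (-x) hx.neg (by rw [form_neg_left, h1, neg_zero])⟩
  have hlen : ∀ x y, IsRoot cs h x → IsRoot cs h y → form cs h x x = form cs h y y := by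
    intro x y hx hy
    obtain ⟨w, hw⟩ := KindE.trans6 cs h hx hy
    rw [← hw, form_rep]
  rcases KindE.gen6 cs h hx with h0 | ⟨y, z, hy, hz, rfl, hy', hz'⟩
  · exact (key x hx h0).1
  · exact H.add' hy hz (key y hy hy').1 (key y hy hy').2 (key z hz hz').1 (hlen _ _ hz hy) (hlen _ _ hx hy)

end TypeE

section TypeF

open Cfsg.Lie Cfsg.Agent.ChevalleyStructure Cfsg.Agent.ChevalleyStructure.CoxeterGeomTypes

variable {W : Type*} [Group W] [Fintype W] {ok : Prop} (cs : CoxeterSystem CoxeterMatrix.F₄ W)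
  (h : IsCartan CoxeterMatrix.F₄ (cartanOf chevF4 4))

theorem len_F4 : ∃ q : ℤ, 0 < q ∧ (∀ x, IsRoot cs h x → form cs h x x = q ∨ form cs h x x = 2 * q) ∧
    ∀ x, IsRoot cs h x → form cs h x x = 2 * q → x ∈ KindF.R cs h := by
  have h0 : ∀ i j, 2 * form cs h (sr j) (sr i) = cartanOf chevF4 4 i j * form cs h (sr i) (sr i) := by
    intro i j
    rw [two_form, OrthRoot.pairing_sr]
  have e01 := h0 0 1
  have e10 := h0 1 0
  have e12 := h0 1 2
  have e21 := h0 2 1
  have e23 := h0 2 3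
  have e32 := h0 3 2
  rw [form_comm cs h (sr 0) (sr 1)] at e10
  rw [form_comm cs h (sr 1) (sr 2)] at e21
  rw [form_comm cs h (sr 2) (sr 3)] at e32
  have a01 : cartanOf chevF4 4 0 1 = -1 := by decide +kernel
  have a10 : cartanOf chevF4 4 1 0 = -1 := by decide +kernel
  have a12 : cartanOf chevF4 4 1 2 = -2 := by decide +kernel
  have a21 : cartanOf chevF4 4 2 1 = -1 := by decide +kernel
  have a23 : cartanOf chevF4 4 2 3 = -1 := by decide +kernel
  have a32 : cartanOf chevF4 4 3 2 = -1 := by decide +kernel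
  rw [a01] at e01
  rw [a10] at e10
  rw [a12] at e12
  rw [a21] at e21
  rw [a23] at e23
  rw [a32] at e32
  have hq := form_pos cs h (isRoot_sr cs h 0).ne_zero
  refine ⟨form cs h (sr 0) (sr 0), hq, ?_, ?_⟩
  · rintro x ⟨w, i, rfl⟩
    rw [form_rep]
    fin_cases i
    · left; rfl
    · left; change form cs h (sr 1) (sr 1) = _; linarith
    · right; change form cs h (sr 2) (sr 2) = _; linarith
    · right; change form cs h (sr 3) (sr 3) = _; linarith
  · rintro x ⟨w, i, rfl⟩ h1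
    rw [form_rep] at h1
    fin_cases i
    · change form cs h (sr 0) (sr 0) = _ at h1; omega
    · change form cs h (sr 1) (sr 1) = _ at h1; linarith
    · exact (KindF.mem_R_iff' cs h _).2 ⟨w, rfl⟩
    · exact (KindF.mem_R_iff cs h _).2 ⟨w, rfl⟩

/-- Roots orthogonal to a member of the frame. -/
theorem orth_F {S : Set (Fin 4 → ℤ)} (H : GenS cs h (KindF.R cs h) ok KindF.fr S) {x : Fin 4 → ℤ}
    (hx : IsRoot cs h x) {k : Fin 4} (hk : cpr cs h x (KindF.fr k) = 0) : x ∈ S := by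
  have FS := KindF.frameSys cs h
  have hf : ∀ k, IsRoot cs h (KindF.fr k) := fun k => FS.root _ (FS.mem k)
  have hk' := (cpr_zero_iff cs h x (hf k)).1 hk
  by_cases hxR : x ∈ KindF.R cs h
  · exact H.self k x hxR hk'
  obtain ⟨l, hl⟩ : ∃ l : Fin 4, l ≠ k := by
    by_cases h0 : k = 0
    · exact ⟨1, by rw [h0]; decide⟩
    · exact ⟨0, Ne.symm h0⟩
  have h1 := KindF.conn cs h k (hf l) hx (FS.orth l k hl) hk
  have h2 : Relation.ReflTransGen (Lk cs h {KindF.fr k}) (KindF.fr l) x := by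
    refine h1.lift id fun a b hab => ?_
    obtain ⟨ha, hb, hak, hbk, hab⟩ := hab
    refine ⟨⟨ha, ?_⟩, ⟨hb, ?_⟩, fun h0 => hab ((cpr_zero_iff cs h _ hb).2 h0)⟩
    · rintro f rfl; exact (cpr_zero_iff cs h _ (hf k)).1 hak
    · rintro f rfl; exact (cpr_zero_iff cs h _ (hf k)).1 hbk
  obtain ⟨r, hr, hrF, hrx, -⟩ := chain_R (cs := cs) (h := h) (R := KindF.R cs h) FS.act (Q := fun _ _ => True)
    (FS.mem l) ⟨hf l, by rintro f rfl; exact (cpr_zero_iff cs h _ (hf k)).1 (FS.orth l k hl)⟩ trivial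
    (fun _ _ _ _ _ _ _ => trivial) h2
  refine H.link k x hx hk' r hr (hrF.2 _ rfl) (fun e => hxR (e ▸ hr)) (fun e => hxR (e ▸ FS.neg_mem hr)) ?_
  rw [form_comm]; exact hrx

theorem gen_F4 {S : Set (Fin 4 → ℤ)} (H : GenS cs h (KindF.R cs h) ok KindF.fr S) (hok : ok) :
    ∀ x, IsRoot cs h x → x ∈ S := by
  intro x hx
  have FS := KindF.frameSys cs h
  have hf : ∀ k, IsRoot cs h (KindF.fr k) := fun k => FS.root _ (FS.mem k)
  have key : ∀ x, IsRoot cs h x → (∃ k, cpr cs h x (KindF.fr k) = 0) → x ∈ S ∧ -x ∈ S := by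
    rintro x hx ⟨k, hk⟩
    exact ⟨orth_F cs h H hx hk, orth_F cs h H hx.neg (k := k) (by rw [cpr_neg cs h _ (hf k), hk, neg_zero])⟩
  obtain ⟨q, hq, h1, h2⟩ := len_F4 cs h
  rcases KindF.gen cs h hx with h0 | ⟨y, z, hy, hz, rfl, hy', hz'⟩
  · exact (key x hx h0).1
  · exact H.sum hok hq h1 FS.act h2 hy hz hx (key y hy hy').1 (key y hy hy').2 (key z hz hz').1 (key z hz hz').2

end TypeF

end Cfsg.Agent.Nodes.GenSet
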