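import Mathlib
import Cfsg.Agent.Nodes.GenSet
import Cfsg.Agent.Nodes.KindsOf
import Cfsg.Agent.Nodes.TyStd
import Cfsg.Agent.Nodes.RKindsBC
import Cfsg.Agent.Cit.TypeDet.KindsEF
import Cfsg.Agent.Cit.TypeDet.KindsD

/-!
# Generation of a chart group by the members commuting with a member of a frame (project CIT, (K4), (GEN))

`gen` : `c` a chart of type `τ ≠ D 4` of `L`, `K` a maximal commuting family of members of `Om` in `L`, at least
three of them. Every subgroup `N` containing all members of `Om` in `L` which commute with some `K k` contains `L`.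
-/

set_option autoImplicit false
set_option linter.unusedSectionVars false
set_option linter.dupNamespace false

namespace Cfsg.Agent.Nodes.GenFrame

open CoxeterSystem Cfsg.Agent.ChevalleyStructure.CoxeterGeom Cfsg.Agent.Tits.Roots Cfsg.Agent.Tits.Core
  Cfsg.Agent.Tits.RootComb Cfsg.Agent.Nodes.Comb Cfsg.Agent.Nodes.Reps Cfsg.Agent.Nodes.BNOf
  Cfsg.Agent.Nodes.RGDLib Cfsg.Agent.Nodes.Chart Cfsg.Agent.Nodes.Coroot Cfsg.Agent.Nodes.Perp
  Cfsg.Agent.Nodes.ShortSum Cfsg.Agent.Nodes.GenSet Cfsg.Agent.Nodes.ChartFrame Cfsg.Agent.Nodes.TyStd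
open Cfsg.Agent.Cit.TypeDet (cm OmIn)
open Cfsg.Agent.Nodes.FreeTorus (LL)

section Cls

variable {I W Y : Type*} [Fintype I] [DecidableEq I] [Group W] [Fintype W] [Group Y] {M : CoxeterMatrix I}
  {cs : CoxeterSystem M W} {A : I → I → ℤ} {h : IsCartan M A} {p : ℕ} {T : Subgroup Y} {n : I → Y}
  {X : (I → ℤ) → Subgroup Y} {R : Set (I → ℤ)} {Z : (I → ℤ) → Subgroup Y} {z : (I → ℤ) → Y}

/-- The roots whose root groups lie in `N`. -/
theorem genS (C : Cls cs h p T n X R Z z) (hp : p.Prime) (hodd : p ≠ 2) {ok : Prop}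
    (hX : ok → ∀ r ∈ R, X r = Z r) {ι : Type*} {g : ι → I → ℤ} {N : Subgroup Y}
    (hN : ∀ k, ∀ K ∈ OmF cs h X R Z {g k}, K ≤ N) : GenS cs h R ok g {x | X x ≤ N} := by
  have hperp : ∀ (k : ι) (x : I → ℤ), IsRoot cs h x → form cs h x (g k) = 0 → x ∈ Perp cs h {g k} := by
    intro k x hx h0
    exact ⟨hx, by rintro f rfl; exact h0⟩
  -- conjugates of `z r`
  have key : ∀ k, ∀ x, IsRoot cs h x → form cs h x (g k) = 0 → ∀ r ∈ R, form cs h r (g k) = 0 → ∀ u ∈ X x,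
      u * z r * u⁻¹ ∈ N := by
    intro k x hx h0 r hr h1 u hu
    have h2 : cj u (KK Z r) ≤ N := hN k _ ⟨r, hr, hperp k r (C.root r hr) h1, u,
      X_le_DD (hperp k x hx h0) hu, rfl⟩
    exact h2 (conj_mem_cj.2 (C.z_mem r hr))
  refine ⟨fun k x hx h0 u hu => ?_, fun k x hx h0 r hr h1 h2 h3 h4 u hu => ?_,
    fun y z hy hz hyS hyS' hzS => ?_, fun hok m y₁ y₂ x b S hx hb h1 h2 => ?_⟩
  · have hxx := C.root x hx
    have h1 := key k x hxx h0 x hx h0 u hu
    have h2 := key k x hxx h0 x hx h0 1 (one_mem _)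
    rw [inv_one, mul_one, one_mul] at h2
    have h3 := C.z_inv_self x hx u hu
    have h4 : Z x ≤ N := le_trans (le_sup_left : Z x ≤ KK Z x)
      (hN k _ ⟨x, hx, hperp k x hxx h0, 1, one_mem _, (cj_one _).symm⟩)
    have h5 := C.z_sq x hx
    have h6 : (z x)⁻¹ = z x := inv_eq_of_mul_eq_one_left h5
    refine mem_of_sq_mem C hp hodd hxx hu ?_
    have h7 : u * u = (u * z x * u⁻¹) * z x * (z x * u * z x * u) := by
      calc u * u = u * 1 * u := by group
        _ = u * (z x * z x) * u := by rw [h5]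
        _ = u * z x * u⁻¹ * 1 * u * z x * u := by group
        _ = u * z x * u⁻¹ * (z x * z x) * u * z x * u := by rw [h5]
        _ = _ := by group
    rw [h7]
    exact mul_mem (mul_mem h1 h2) (h4 h3)
  · have h5 := key k x hx h0 r hr h1 u hu
    have h6 := key k x hx h0 r hr h1 1 (one_mem _)
    rw [inv_one, mul_one, one_mul] at h6
    have h7 := C.z_inv r hr x hx h2 h3 h4 u⁻¹ (inv_mem hu)
    rw [inv_inv] at h7
    refine mem_of_sq_mem C hp hodd hx hu ?_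
    have h8 : u * u = (u * z r * u⁻¹) * z r := by
      calc u * u = u * (z r * u⁻¹ * z r) := by rw [h7]
        _ = _ := by group
    rw [h8]
    exact mul_mem h5 h6
  · obtain ⟨m, hm, w, hw, e⟩ := exists_refl C hy
    have h1 : m ∈ N := (sup_le hyS hyS' : LL X y ≤ N) hm
    change X (z - cpr cs h z y • y) ≤ N
    rw [← e z, ← C.rgd.conj_rp hw hz]
    intro v hv
    rw [mem_cj] at hv
    have h2 : v = m * (m⁻¹ * v * m) * m⁻¹ := by group
    rw [h2]
    exact mul_mem (mul_mem h1 (hzS hv)) (inv_mem h1)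
  · refine (le_commutator C hp hodd S hx hb (hX hok x hx) (hX hok b hb)).trans ?_
    rw [Subgroup.commutator_le]
    intro a ha b hb
    rw [commutatorElement_def]
    exact mul_mem (mul_mem (mul_mem (h1 ha) (h2 hb)) (inv_mem (h1 ha))) (inv_mem (h2 hb))

end Cls

/-! ### Linked classical roots -/

section Linked

theorem linked_of_cpr {I W : Type*} [Fintype I] [DecidableEq I] [Group W] [Fintype W] {M : CoxeterMatrix I}
    {cs : CoxeterSystem M W} {A : I → I → ℤ} {h : IsCartan M A} {x r : I → ℤ} (hr : IsRoot cs h r)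
    (e : cpr cs h x r = 1 ∨ cpr cs h x r = -1) : x ≠ r ∧ x ≠ -r ∧ form cs h x r ≠ 0 := by
  have e2 := cpr_self cs h hr
  refine ⟨?_, ?_, ?_⟩
  · rintro rfl
    rw [e2] at e
    omega
  · rintro rfl
    rw [cpr_neg cs h _ hr, e2] at e
    omega
  · intro h0
    rw [(cpr_zero_iff cs h x hr).2 h0] at e
    omega

theorem linked_B {n : ℕ} {W : Type*} [Group W] [Fintype W] (cs : CoxeterSystem (CoxeterMatrix.B n) W)
    (hn : 3 ≤ n) : ∃ r ∈ KindBC.RB n, ∃ x ∈ KindBC.RB n, x ≠ r ∧ x ≠ -r ∧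
      form cs (TypeC.isCartan n) x r ≠ 0 := by
  let i0 : Fin n × Bool := (⟨0, by omega⟩, true)
  let i1 : Fin n × Bool := (⟨1, by omega⟩, true)
  let i2 : Fin n × Bool := (⟨2, by omega⟩, true)
  have h01 : i0.1 ≠ i1.1 := by simp [i0, i1, Fin.ext_iff]
  have h12 : i1.1 ≠ i2.1 := by simp [i1, i2, Fin.ext_iff]
  have h02 : i0.1 ≠ i2.1 := by simp [i0, i2, Fin.ext_iff]
  refine ⟨_, KindBC.rt_mem_RB h01, _, KindBC.rt_mem_RB h12,
    linked_of_cpr (KindBC.root_RB cs (KindBC.rt_mem_RB h01)) (Or.inl ?_)⟩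
  rw [KindBC.cpr_rt cs _ h01, KindBC.ee_rt, Pi.add_apply, Pi.add_apply,
    KindBC.wt_apply_ne (a := i1) (k := i0.1) h01, KindBC.wt_apply_ne (a := i2) (k := i0.1) h02,
    KindBC.wt_apply_self, KindBC.wt_apply_ne (a := i2) (k := i1.1) h12]
  simp [TypeCForm.sn, i1]

theorem linked_F4 {W : Type*} [Group W] [Fintype W] (cs : CoxeterSystem CoxeterMatrix.F₄ W)
    (h : IsCartan CoxeterMatrix.F₄ (Cfsg.Agent.ChevalleyStructure.CoxeterGeomTypes.cartanOf Cfsg.Lie.chevF4 4)) :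
    ∃ r ∈ KindF.R cs h, ∃ x ∈ KindF.R cs h, x ≠ r ∧ x ≠ -r ∧ form cs h x r ≠ 0 := by
  refine ⟨sr 3, (KindF.mem_R_iff cs _ _).2 ⟨1, by rw [map_one, Module.End.one_apply]⟩, sr 2,
    (KindF.mem_R_iff' cs _ _).2 ⟨1, by rw [map_one, Module.End.one_apply]⟩,
    linked_of_cpr (isRoot_sr cs h 3) (Or.inr ?_)⟩
  rw [cpr_sr, OrthRoot.pairing_sr]
  decide +kernel

end Linked

/-! ### Charts -/

section Chart

variable {G : Type*} [Group G] [Finite G] {Om : Set (Subgroup G)} {p : ℕ} {L : Subgroup G}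
  {κ : Type*} [Fintype κ] {K : κ → Subgroup G}

/-- The group part, for a chart with a frame system. -/
theorem gen_aux (hyp : Cfsg.Agent.Cit.Hyp Om) (C : Chart.Chart Om p L) {κ' : Type*} [Fintype κ']
    [DecidableEq κ'] {g : κ' → C.I → ℤ} (FS : KindBase.FrameSys C.cs C.h C.R g)
    (hK : ∀ i, K i ∈ OmIn Om L) (hc : ∀ i j, i ≠ j → cm (K i) (K j))
    (hmax : ∀ L' ∈ OmIn Om L, ∃ k, ¬ cm L' (K k)) {ok : Prop} (hX : ok → ∀ r ∈ C.R, C.X r = C.Z r)
    (hgen : ∀ S : Set (C.I → ℤ), GenS C.cs C.h C.R ok g S → ∀ x, IsRoot C.cs C.h x → x ∈ S)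
    {N : Subgroup G} (hN : ∀ L' ∈ OmIn Om L, ∀ k, cm L' (K k) → L' ≤ N) : L ≤ N := by
  obtain ⟨σ, d, F, -⟩ := KindsOf.exists_std hyp C FS hK hc hmax
  have hR : ∀ k, g k ∈ C.R := FS.mem
  have h1 : ∀ k, ∀ K' ∈ OmF C.cs C.h C.X C.R C.Z {g k}, K' ≤ cj d N := by
    intro k K' hK'
    have h2 := omF_eq C hyp.conj (ι := Unit) (fun _ => g k) (fun _ => hR k)
      (fun i j hij => absurd (Subsingleton.elim i j) hij)
    have h3 : Set.range (fun _ : Unit => g k) = {g k} := Set.range_const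
    rw [h3] at h2
    rw [← h2] at hK'
    obtain ⟨h4, h5, h6⟩ := hK'
    have h7 : cm (cj d⁻¹ K') (K (σ.symm k)) := by
      rw [← cm_cj' (g := d), cj_cj_inv, F.eq (σ.symm k)]
      simp only [Equiv.apply_symm_apply]
      exact h6 ()
    have h8 := hN (cj d⁻¹ K') ⟨hyp.conj _ h4 _, (cj_le_iff (inv_mem F.mem)).2 h5⟩ _ h7
    have h9 := cj_mono d h8
    rwa [cj_cj_inv] at h9
  have h2 := hgen _ (genS C.cls C.prime C.odd hX (N := cj d N) h1)
  have h3 : L ≤ cj d N := by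
    rw [← C.gen]
    exact iSup_le fun x => h2 x.1 x.2
  have h4 := cj_mono d⁻¹ h3
  rwa [cj_inv_cj, cj_eq_of_mem (inv_mem F.mem)] at h4

variable (hyp : Cfsg.Agent.Cit.Hyp Om) (c : Chart.Chart Om p L)
  (hK : ∀ i, K i ∈ OmIn Om L) (hc : ∀ i j, i ≠ j → cm (K i) (K j))
  (hmax : ∀ L' ∈ OmIn Om L, ∃ k, ¬ cm L' (K k)) (h3 : 3 ≤ Fintype.card κ) {N : Subgroup G}
  (hN : ∀ L' ∈ OmIn Om L, ∀ k, cm L' (K k) → L' ≤ N)

include hyp c hK hc hmax h3 hN

open RootsA LieRecognition.BNCox in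
theorem gen_A {n : ℕ} (hτ : c.IsTy (.A n)) : L ≤ N := by
  classical
  let cs' : CoxeterSystem (cA n) (cA n).Group := (cA n).toCoxeterSystem
  have hf : Finite (cA n).Group := finite_of_isTy c hτ cs'
  let _ : Fintype (cA n).Group := Fintype.ofFinite _
  have F : KindBase.FrameSys cs' (Ty.A n).isCartan {x | IsRoot cs' (Ty.A n).isCartan x} (KindA.g n) :=
    KindA.frameSys cs' (Ty.A n).isCartan
  have T : ∀ r ∈ {x | IsRoot cs' (Ty.A n).isCartan x}, ∀ s ∈ {x | IsRoot cs' (Ty.A n).isCartan x},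
      ∃ w, s = rep cs' (Ty.A n).isCartan w r := by
    intro r hr s hs
    obtain ⟨w, hw⟩ := KindA.trans cs' (Ty.A n).isCartan hr hs
    exact ⟨w, hw.symm⟩
  obtain ⟨e, hM, hA, hR, h1⟩ := exists_chart_of_isTy c hτ (W' := (cA n).Group) cs'
    (R' := {x | IsRoot cs' (Ty.A n).isCartan x}) F.root F.act
    (fun i => ⟨fun _ => trivial, fun _ => isRoot_sr _ _ i⟩) T
  let c' := reindex c e hM hA cs' (Ty.A n).isCartan F.root F.act hR T
  have hcard := KindsOf.card_eq hyp c' F hK hc hmax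
  rw [Fintype.card_fin] at hcard
  exact gen_aux hyp c' F hK hc hmax (ok := False) (fun h0 => h0.elim)
    (fun S hS => GenSet.gen_A cs' (Ty.A n).isCartan hS (by omega)) hN

theorem gen_C {n : ℕ} (hτ : c.IsTy (.C n)) : L ≤ N := by
  classical
  let cs' : CoxeterSystem (CoxeterMatrix.B n) (CoxeterMatrix.B n).Group := (CoxeterMatrix.B n).toCoxeterSystem
  have hf : Finite (CoxeterMatrix.B n).Group := finite_of_isTy c hτ cs'
  let _ : Fintype (CoxeterMatrix.B n).Group := Fintype.ofFinite _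
  obtain ⟨e, hM, hA, hR, h1⟩ := exists_chart_of_isTy c hτ (W' := (CoxeterMatrix.B n).Group) cs'
    (R' := KindBC.RC n) (fun r hr => KindBC.root_RC cs' hr) (fun r hr w => KindBC.act_RC cs' hr w)
    (fun i => RKindsBC.sr_mem_RC) (KindBC.trans_RC cs')
  let c' := reindex c e hM hA cs' (Ty.C n).isCartan (fun r hr => KindBC.root_RC cs' hr)
    (fun r hr w => KindBC.act_RC cs' hr w) hR (KindBC.trans_RC cs')
  have F : KindBase.FrameSys c'.cs c'.h c'.R (KindC.fr n) := KindC.frameSys cs'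
  have hcard := KindsOf.card_eq hyp c' F hK hc hmax
  rw [Fintype.card_fin] at hcard
  exact gen_aux hyp c' F hK hc hmax (ok := False) (fun h0 => h0.elim)
    (fun S hS => GenSet.gen_C cs' hS (by omega)) hN

theorem gen_B {n : ℕ} (hτ : c.IsTy (.B n)) : L ≤ N := by
  classical
  let cs' : CoxeterSystem (CoxeterMatrix.B n) (CoxeterMatrix.B n).Group := (CoxeterMatrix.B n).toCoxeterSystem
  have hf : Finite (CoxeterMatrix.B n).Group := finite_of_isTy c hτ cs'
  let _ : Fintype (CoxeterMatrix.B n).Group := Fintype.ofFinite _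
  obtain ⟨e, hM, hA, hR, h1⟩ := exists_chart_of_isTy c hτ (W' := (CoxeterMatrix.B n).Group) cs'
    (R' := KindBC.RB n) (fun r hr => KindBC.root_RB cs' hr) (fun r hr w => KindBC.act_RB cs' hr w)
    (fun i => RKindsBC.sr_mem_RB) (KindBC.trans_RB cs')
  let c' := reindex c e hM hA cs' (Ty.B n).isCartan (fun r hr => KindBC.root_RB cs' hr)
    (fun r hr w => KindBC.act_RB cs' hr w) hR (KindBC.trans_RB cs')
  have F : KindBase.FrameSys c'.cs c'.h c'.R (KindB.fr n) := KindB.frameSys cs'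
  have hcard := KindsOf.card_eq hyp c' F hK hc hmax
  rw [Fintype.card_fin] at hcard
  have hn : 4 ≤ n := by omega
  obtain ⟨r, hr, x, hx, k1, k2, k3⟩ := linked_B cs' (by omega : 3 ≤ n)
  exact gen_aux hyp c' F hK hc hmax (ok := True)
    (fun _ => KindsOf.X_eq_Z hyp F (C := c') (r := r) (x := x) hr hx k1 k2 k3)
    (fun S hS => GenSet.gen_B cs' hS trivial hn) hN

theorem gen_D {n : ℕ} (hτ : c.IsTy (.D n)) (hD : n ≠ 4) : L ≤ N := by
  classical
  obtain ⟨_, e, hM, hA, hroot, hact, hR, htr, -⟩ := Cfsg.Agent.Cit.TypeDet.KindsD.exists_std c hτ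
  let c' := reindex c e hM hA (TypeD.M (n - 2)).toCoxeterSystem (Ty.D n).isCartan hroot hact hR htr
  have F : KindBase.FrameSys c'.cs c'.h c'.R (KindD.g (n := n - 2)) :=
    KindD.frameSys (TypeD.M (n - 2)).toCoxeterSystem
  have hcard := KindsOf.card_eq hyp c' F hK hc hmax
  rw [KindD.card_ix] at hcard
  exact gen_aux hyp c' F hK hc hmax (ok := False) (fun h0 => h0.elim)
    (fun S hS => GenSet.gen_D (TypeD.M (n - 2)).toCoxeterSystem hS (by omega)) hN

theorem gen_E6 (hτ : c.IsTy .E6) : L ≤ N := by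
  classical
  let cs' : CoxeterSystem CoxeterMatrix.E₆ CoxeterMatrix.E₆.Group := CoxeterMatrix.E₆.toCoxeterSystem
  have hf : Finite CoxeterMatrix.E₆.Group := finite_of_isTy c hτ cs'
  let _ : Fintype CoxeterMatrix.E₆.Group := Fintype.ofFinite _
  have F := KindE.frameSys6 cs' Ty.E6.isCartan
  have T : ∀ r ∈ KindE.R6 cs' Ty.E6.isCartan, ∀ s ∈ KindE.R6 cs' Ty.E6.isCartan, ∃ w, s = rep cs' Ty.E6.isCartan w r := by
    intro r hr s hs
    obtain ⟨w, hw⟩ := KindE.trans6 cs' Ty.E6.isCartan hr hs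
    exact ⟨w, hw.symm⟩
  obtain ⟨e, hM, hA, hR, h1⟩ := exists_chart_of_isTy c hτ (W' := CoxeterMatrix.E₆.Group) cs'
    (R' := KindE.R6 cs' Ty.E6.isCartan) F.root F.act (fun i => ⟨fun _ => trivial, fun _ => isRoot_sr _ _ i⟩) T
  let c' := reindex c e hM hA cs' Ty.E6.isCartan F.root F.act hR T
  exact gen_aux hyp c' F hK hc hmax (ok := False) (fun h0 => h0.elim)
    (fun S hS => GenSet.gen_E6 cs' Ty.E6.isCartan hS) hN

theorem gen_E7 (hτ : c.IsTy .E7) : L ≤ N := by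
  classical
  let cs' : CoxeterSystem CoxeterMatrix.E₇ CoxeterMatrix.E₇.Group := CoxeterMatrix.E₇.toCoxeterSystem
  have hf : Finite CoxeterMatrix.E₇.Group := finite_of_isTy c hτ cs'
  let _ : Fintype CoxeterMatrix.E₇.Group := Fintype.ofFinite _
  have F := KindE.frameSys7 cs' Ty.E7.isCartan
  have T : ∀ r ∈ KindE.R7 cs' Ty.E7.isCartan, ∀ s ∈ KindE.R7 cs' Ty.E7.isCartan, ∃ w, s = rep cs' Ty.E7.isCartan w r := by
    intro r hr s hs
    obtain ⟨w, hw⟩ := KindE.trans7 cs' Ty.E7.isCartan hr hs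
    exact ⟨w, hw.symm⟩
  obtain ⟨e, hM, hA, hR, h1⟩ := exists_chart_of_isTy c hτ (W' := CoxeterMatrix.E₇.Group) cs'
    (R' := KindE.R7 cs' Ty.E7.isCartan) F.root F.act (fun i => ⟨fun _ => trivial, fun _ => isRoot_sr _ _ i⟩) T
  let c' := reindex c e hM hA cs' Ty.E7.isCartan F.root F.act hR T
  exact gen_aux hyp c' F hK hc hmax (ok := False) (fun h0 => h0.elim)
    (fun S hS => GenSet.gen_E7 cs' Ty.E7.isCartan hS) hN

theorem gen_E8 (hτ : c.IsTy .E8) : L ≤ N := by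
  classical
  let cs' : CoxeterSystem CoxeterMatrix.E₈ CoxeterMatrix.E₈.Group := CoxeterMatrix.E₈.toCoxeterSystem
  have hf : Finite CoxeterMatrix.E₈.Group := finite_of_isTy c hτ cs'
  let _ : Fintype CoxeterMatrix.E₈.Group := Fintype.ofFinite _
  have F := KindE.frameSys8 cs' Ty.E8.isCartan
  have T : ∀ r ∈ KindE.R8 cs' Ty.E8.isCartan, ∀ s ∈ KindE.R8 cs' Ty.E8.isCartan, ∃ w, s = rep cs' Ty.E8.isCartan w r := by
    intro r hr s hs
    obtain ⟨w, hw⟩ := KindE.trans8 cs' Ty.E8.isCartan hr hs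
    exact ⟨w, hw.symm⟩
  obtain ⟨e, hM, hA, hR, h1⟩ := exists_chart_of_isTy c hτ (W' := CoxeterMatrix.E₈.Group) cs'
    (R' := KindE.R8 cs' Ty.E8.isCartan) F.root F.act (fun i => ⟨fun _ => trivial, fun _ => isRoot_sr _ _ i⟩) T
  let c' := reindex c e hM hA cs' Ty.E8.isCartan F.root F.act hR T
  exact gen_aux hyp c' F hK hc hmax (ok := False) (fun h0 => h0.elim)
    (fun S hS => GenSet.gen_E8 cs' Ty.E8.isCartan hS) hN

theorem gen_F4 (hτ : c.IsTy .F4) : L ≤ N := by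
  classical
  let cs' : CoxeterSystem CoxeterMatrix.F₄ CoxeterMatrix.F₄.Group := CoxeterMatrix.F₄.toCoxeterSystem
  have hf : Finite CoxeterMatrix.F₄.Group := finite_of_isTy c hτ cs'
  let _ : Fintype CoxeterMatrix.F₄.Group := Fintype.ofFinite _
  have F := KindF.frameSys cs' Ty.F4.isCartan
  have T : ∀ r ∈ KindF.R cs' Ty.F4.isCartan, ∀ s ∈ KindF.R cs' Ty.F4.isCartan, ∃ w, s = rep cs' Ty.F4.isCartan w r := by
    intro r hr s hs
    obtain ⟨w, hw⟩ := KindF.trans cs' Ty.F4.isCartan hr hs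
    exact ⟨w, hw.symm⟩
  obtain ⟨e, hM, hA, hR, h1⟩ := exists_chart_of_isTy c hτ (W' := CoxeterMatrix.F₄.Group) cs'
    (R' := KindF.R cs' Ty.F4.isCartan) F.root F.act
    (Cfsg.Agent.Cit.TypeDet.KindsEF.long_F4 cs' Ty.F4.isCartan) T
  let c' := reindex c e hM hA cs' Ty.F4.isCartan F.root F.act hR T
  obtain ⟨r, hr, x, hx, k1, k2, k3⟩ := linked_F4 cs' Ty.F4.isCartan
  exact gen_aux hyp c' F hK hc hmax (ok := True)
    (fun _ => KindsOf.X_eq_Z hyp F (C := c') (r := r) (x := x) hr hx k1 k2 k3)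
    (fun S hS => GenSet.gen_F4 cs' Ty.F4.isCartan hS trivial) hN

theorem not_G2 (hτ : c.IsTy .G2) : False := by
  classical
  obtain ⟨c', g, -, F⟩ := Cfsg.Agent.Cit.TypeDet.KindsEF.exists_frame_G2 c hτ
  have := KindsOf.card_eq hyp c' F hK hc hmax
  rw [Fintype.card_fin] at this
  omega

/-- **(K4), (GEN)** -/
theorem gen {τ : Ty} (hτ : c.IsTy τ) (hD : τ ≠ .D 4) : L ≤ N := by
  cases τ with
  | A n => exact gen_A hyp c hK hc hmax h3 hN hτ
  | B n => exact gen_B hyp c hK hc hmax h3 hN hτ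
  | C n => exact gen_C hyp c hK hc hmax h3 hN hτ
  | D n => exact gen_D hyp c hK hc hmax h3 hN hτ fun h => hD (by rw [h])
  | E6 => exact gen_E6 hyp c hK hc hmax h3 hN hτ
  | E7 => exact gen_E7 hyp c hK hc hmax h3 hN hτ
  | E8 => exact gen_E8 hyp c hK hc hmax h3 hN hτ
  | F4 => exact gen_F4 hyp c hK hc hmax h3 hN hτ
  | G2 => exact (not_G2 hyp c hK hc hmax h3 hN hτ).elim

end Chart

end Cfsg.Agent.Nodes.GenFrame
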