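import Mathlib
import Cfsg.Agent.Cit.TypeDet.KindsD

/-!
# The centre of a group of type `D 4`

`zz_mul_comm` : `c` a chart of type `D 4` of `L`, `K` a maximal commuting family of members of `Om` in `L`. Then the
products `zz (K i) * zz (K j)` centralise `L`.
-/

set_option autoImplicit false
set_option linter.unusedSectionVars false
set_option linter.dupNamespace false

namespace Cfsg.Agent.Nodes.DFourCen

open CoxeterSystem Cfsg.Agent.ChevalleyStructure.CoxeterGeom Cfsg.Agent.Tits.Roots Cfsg.Agent.Tits.Core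
  Cfsg.Agent.Tits.RootComb Cfsg.Agent.Nodes.Comb Cfsg.Agent.Nodes.Reps Cfsg.Agent.Nodes.BNOf
  Cfsg.Agent.Nodes.RGDLib Cfsg.Agent.Nodes.Chart Cfsg.Agent.Nodes.Coroot Cfsg.Agent.Nodes.Perp
  Cfsg.Agent.Nodes.ChartFrame Cfsg.Agent.Nodes.TyStd Cfsg.Agent.Nodes.RootKinds Cfsg.Agent.Nodes.KindsOf
open Cfsg.Agent.Cit.TypeDet (cm OmIn)
open Cfsg.Agent.Nodes.RootKindsD (RR rkd4)
open Relation

/-! ### Roots -/

section Root

variable {I W κ : Type*} [Fintype I] [DecidableEq I] [Group W] [Fintype W] {M : CoxeterMatrix I}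
  {cs : CoxeterSystem M W} {A : I → I → ℤ} {h : IsCartan M A} {R : Set (I → ℤ)} [Fintype κ] [DecidableEq κ]
  {g : κ → I → ℤ}

/-- a root different from all `± g k` is orthogonal to no `g k` -/
theorem form_ne (hR : RKD4 cs h R g) (hmax : ∀ x, IsRoot cs h x → ∃ k, form cs h x (g k) ≠ 0)
    (hr : ∀ k, IsRoot cs h (g k)) (ho : ∀ i j, i ≠ j → form cs h (g i) (g j) = 0) {y : I → ℤ}
    (hy : IsRoot cs h y) (h1 : ∀ k, y ≠ g k ∧ y ≠ -g k) (l : κ) : form cs h y (g l) ≠ 0 := by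
  intro h0
  obtain ⟨-, hch, -, -, hsgl⟩ := hR
  obtain ⟨k, hk⟩ := hmax y hy
  have hkl : k ≠ l := by rintro rfl; exact hk h0
  refine hk (hsgl k y hy (fun j hj => ?_) (h1 k).1 (h1 k).2)
  by_contra hj0
  have hjl : j ≠ l := by rintro rfl; exact hj0 h0
  have hF : g '' {k | k ∉ Finset.univ.erase l} = {g l} := by
    ext x
    simp
  have hp : ∀ i, i ≠ l → g i ∈ Perp cs h {g l} := fun i hi => ⟨hr i, by rintro _ rfl; exact ho i l hi⟩
  have hyp' : y ∈ Perp cs h {g l} := ⟨hy, by rintro _ rfl; exact h0⟩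
  refine hch l k j hkl hjl (Ne.symm hj) ?_
  unfold Chn
  rw [hF]
  have e1 : Lk cs h {g l} (g k) y := ⟨hp k hkl, hyp', by rw [form_comm]; exact hk⟩
  have e2 : Lk cs h {g l} y (g j) := ⟨hyp', hp j hjl, hj0⟩
  exact (ReflTransGen.single e1).tail e2

end Root

/-! ### Charts -/

section Chart

variable {G : Type*} [Group G] [Finite G] {Om : Set (Subgroup G)} {p : ℕ} {L : Subgroup G}
  {κ : Type*} [Fintype κ] {K : κ → Subgroup G}

theorem zz_mul_comm (hyp : Cfsg.Agent.Cit.Hyp Om) (c : Chart.Chart Om p L) (hτ : c.IsTy (.D 4))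
    (hK : ∀ i, K i ∈ OmIn Om L) (hc : ∀ i j, i ≠ j → cm (K i) (K j))
    (hmax : ∀ L' ∈ OmIn Om L, ∃ k, ¬ cm L' (K k)) (i j : κ) {x : G} (hx : x ∈ L) :
    x * (Cfsg.Agent.Cit.zz (K i) * Cfsg.Agent.Cit.zz (K j)) =
      Cfsg.Agent.Cit.zz (K i) * Cfsg.Agent.Cit.zz (K j) * x := by
  classical
  obtain ⟨_, e, hM, hA, hroot, hact, hR, htr, -⟩ := Cfsg.Agent.Cit.TypeDet.KindsD.exists_std c hτ
  let C := reindex c e hM hA (TypeD.M (4 - 2)).toCoxeterSystem (Ty.D 4).isCartan hroot hact hR htr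
  have FS : KindBase.FrameSys C.cs C.h C.R (KindD.g (n := 4 - 2)) :=
    KindD.frameSys (TypeD.M (4 - 2)).toCoxeterSystem
  have R4 : RKD4 C.cs C.h C.R (KindD.g (n := 4 - 2)) := rkd4 (TypeD.M (4 - 2)).toCoxeterSystem rfl
  have hRR : ∀ y, IsRoot C.cs C.h y → y ∈ C.R := fun y hy => hy
  obtain ⟨σ, d, F, FS'⟩ := KindsOf.exists_std hyp C FS hK hc hmax
  have R4' : RKD4 C.cs C.h C.R (fun k => KindD.g (n := 4 - 2) (σ k)) := by convert rkd4_comp σ R4
  set s : κ → C.I → ℤ := fun k => KindD.g (n := 4 - 2) (σ k) with hs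
  obtain ⟨r, hr, hr1, hr2, hr3⟩ := R4'.2.2.2.1 i
  have hXZ : ∀ r ∈ C.R, C.X r = C.Z r := KindsOf.X_eq_Z hyp FS (F.R i) hr hr1 hr2 hr3
  have hz1 : ∀ r ∈ C.R, C.z r ≠ 1 := z_ne_one C (F.R i) hr hr1 hr2 hr3
  -- the products centralise all root groups
  have key : ∀ y, IsRoot C.cs C.h y → ∀ a ∈ C.X y, a * (C.z (s i) * C.z (s j)) = C.z (s i) * C.z (s j) * a := by
    intro y hy a ha
    by_cases h1 : ∀ k, y ≠ s k ∧ y ≠ -s k
    · have h2 : ∀ l, form C.cs C.h y (s l) ≠ 0 := form_ne R4' (fun x hx => by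
        by_contra hcon
        push Not at hcon
        exact FS'.max x (hRR x hx) fun k => (cpr_zero_iff C.cs C.h x (C.cls.root _ (F.R k))).2 (hcon k))
        (fun k => C.cls.root _ (F.R k)) F.orth hy h1
      have h3 : ∀ l, ∀ a ∈ C.X y, C.z (s l) * a = a⁻¹ * C.z (s l) := by
        intro l a ha
        have h4 := C.cls.z_inv (s l) (F.R l) y hy (h1 l).1 (h1 l).2 (h2 l) a ha
        rw [← h4, mul_assoc, C.cls.z_sq _ (F.R l), mul_one]
      have h5 := h3 i _ (inv_mem ha)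
      rw [inv_inv] at h5
      rw [mul_assoc, h3 j a ha, ← mul_assoc, ← mul_assoc, h5]
    · push Not at h1
      obtain ⟨k, hk⟩ := h1
      have hyk : y = s k ∨ y = -s k := by
        by_cases h2 : y = s k
        · exact Or.inl h2
        · exact Or.inr (hk h2)
      have h3 : ∀ l, a * C.z (s l) = C.z (s l) * a := by
        intro l
        by_cases hkl : k = l
        · subst hkl
          have h4 : a ∈ C.Z y := by rw [← hXZ y (hRR y hy)]; exact ha
          have h5 := C.cls.z_cent y (hRR y hy) a h4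
          rcases hyk with h6 | h6
          · rw [← h6]; exact h5.symm
          · have h7 : C.z y = C.z (s k) := by rw [h6]; exact C.cls.z_neg _ (F.R k)
            rw [← h7]; exact h5.symm
        · refine ZRel.z_cent_of_orth C.cls (F.R l) hy ?_ ha
          rcases hyk with h6 | h6
          · rw [h6]; exact F.orth k l hkl
          · rw [h6, form_neg_left, F.orth k l hkl, neg_zero]
      rw [← mul_assoc, h3 i, mul_assoc, h3 j, mul_assoc]
  have key2 : L ≤ Subgroup.centralizer {C.z (s i) * C.z (s j)} := by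
    refine C.gen.ge.trans (iSup_le fun y a ha => ?_)
    exact Subgroup.mem_centralizer_singleton_iff.2 (key y.1 y.2 a ha)
  have h4 := Subgroup.mem_centralizer_singleton_iff.1
    (key2 (mul_mem (mul_mem F.mem hx) (inv_mem F.mem)))
  rw [← FrameIn_zz hyp F hK hz1 i, ← FrameIn_zz hyp F hK hz1 j] at h4
  have h5 : d * (x * (Cfsg.Agent.Cit.zz (K i) * Cfsg.Agent.Cit.zz (K j))) * d⁻¹ =
      d * (Cfsg.Agent.Cit.zz (K i) * Cfsg.Agent.Cit.zz (K j) * x) * d⁻¹ := by
    calc _ = d * x * d⁻¹ * (d * Cfsg.Agent.Cit.zz (K i) * d⁻¹ * (d * Cfsg.Agent.Cit.zz (K j) * d⁻¹)) := by group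
      _ = _ := h4
      _ = _ := by group
  exact mul_left_cancel (mul_right_cancel h5)

end Chart

end Cfsg.Agent.Nodes.DFourCen
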