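import Mathlib
import Cfsg.Agent.Nodes.KindsOf

/-!
# Three commuting members with the same involution (project CIT, helper717's (KF), chart part)

`C : Chart Om p L`, `K` a commuting family of members of `Om` in `L`:

* `zz_ne_of_rel` : `K_i`, `K_k` in one block of the complement of `j` ⟹ `zz (K i) ≠ zz (K j)`;
* `three_eq` : the kinds of a maximal commuting family are known, and three different members of it have the same
  involution ⟹ the family has exactly four members and all of them have the same involution (type `D 4`).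
-/

set_option autoImplicit false
set_option linter.unusedSectionVars false
set_option linter.dupNamespace false

namespace Cfsg.Agent.Nodes.ThreeEq

open CoxeterSystem Cfsg.Agent.ChevalleyStructure.CoxeterGeom Cfsg.Agent.Tits.Roots Cfsg.Agent.Tits.Core
  Cfsg.Agent.Tits.RootComb Cfsg.Agent.Nodes.Comb Cfsg.Agent.Nodes.Reps Cfsg.Agent.Nodes.BNOf
  Cfsg.Agent.Nodes.RGDLib Cfsg.Agent.Nodes.Chart Cfsg.Agent.Nodes.Coroot Cfsg.Agent.Nodes.Perp
  Cfsg.Agent.Nodes.ChartFrame Cfsg.Agent.Nodes.KindsOf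
open Cfsg.Agent.Cit.TypeDet (cm OmA YA data OmIn)
open Relation Finset Classical

variable {G : Type*} [Group G] [Finite G] {Om : Set (Subgroup G)} {p : ℕ} {L : Subgroup G}
  {κ : Type*} [Fintype κ] {K : κ → Subgroup G}

/-- If one root of `R` is not orthogonal to another root then `z ≠ 1` on `R`. -/
theorem z_ne_one' (C : Chart.Chart Om p L) {r x : C.I → ℤ} (hr : r ∈ C.R) (hx : IsRoot C.cs C.h x) (h1 : x ≠ r)
    (h2 : x ≠ -r) (h3 : form C.cs C.h x r ≠ 0) : ∀ r ∈ C.R, C.z r ≠ 1 := by
  intro y hy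
  obtain ⟨w, rfl⟩ := C.trans r hr y hy
  refine StdConn.z_ne_one C.cls C.prime C.odd hy (hx.act w) (fun e => h1 ?_)
    (fun e => h2 ?_) (by rw [form_rep]; exact h3)
  · exact rep_injective_apply C.cs C.h w e
  · rw [← map_neg] at e
    exact rep_injective_apply C.cs C.h w e

/-- Members of a block in the complement of `j` have involutions different from `z_j`. -/
theorem zz_ne_of_rel (hyp : Cfsg.Agent.Cit.Hyp Om) (C : Chart.Chart Om p L) (hK : ∀ i, K i ∈ OmIn Om L)
    (hc : ∀ i j, i ≠ j → cm (K i) (K j)) {i j k : κ} (hik : i ≠ k)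
    (h : (data (OmIn Om L) K hK hc).rel (univ.erase j) i k) :
    Cfsg.Agent.Cit.zz (K i) ≠ Cfsg.Agent.Cit.zz (K j) := by
  obtain ⟨s, d, F⟩ := exists_frameIn C hK hc
  have h1 := ((F.rel_iff hyp.conj hK hc).1 h).2.2
  have hset : s '' {k | k ∉ (univ : Finset κ).erase j} = {s j} := by
    have : {k | k ∉ (univ : Finset κ).erase j} = {j} := by
      ext k; simp
    rw [this, Set.image_singleton]
  rw [hset] at h1
  obtain ⟨x, hx, hx1, hx2⟩ : ∃ x ∈ Perp C.cs C.h {s j}, form C.cs C.h x (s i) ≠ 0 ∧ ¬ (x = s i ∨ x = -s i) := by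
    by_contra h3
    push Not at h3
    have h4 := eq_of_isolated (F := {s j}) (x := s i) h3 h1
    have h5 := F.orth i k hik
    have h6 := form_pos C.cs C.h (C.cls.root _ (F.R i)).ne_zero
    rcases h4 with h4 | h4
    · rw [h4] at h5; omega
    · rw [h4, form_neg_right] at h5; omega
  rw [not_or] at hx2
  exact zz_ne hyp F hK (z_ne_one' C (F.R i) hx.1 hx2.1 hx2.2 hx1) hik h1

/-- A block system with the pairing `p`: all blocks in the complement of `l` have at least two elements, except for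
`{p l}`. -/
theorem false_of_split (hyp : Cfsg.Agent.Cit.Hyp Om) (C : Chart.Chart Om p L) (hK : ∀ i, K i ∈ OmIn Om L)
    (hc : ∀ i j, i ≠ j → cm (K i) (K j)) {pt : κ → κ} (hcard : 4 ≤ Fintype.card κ)
    (hs : (data (OmIn Om L) K hK hc).PairSplit univ pt) {i j l : κ} (hij : i ≠ j) (hil : i ≠ l) (hjl : j ≠ l)
    (h1 : Cfsg.Agent.Cit.zz (K i) = Cfsg.Agent.Cit.zz (K l))
    (h2 : Cfsg.Agent.Cit.zz (K j) = Cfsg.Agent.Cit.zz (K l)) : False := by
  have key : ∀ a, a ≠ l → a ≠ pt l → Cfsg.Agent.Cit.zz (K a) ≠ Cfsg.Agent.Cit.zz (K l) := by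
    intro a ha ha'
    obtain ⟨k, -, hk⟩ := Cfsg.Agent.Cit.TypeDet.exists_mem_four (B := (univ : Finset κ)) (n := 4)
      (by rw [card_univ]; exact hcard) {a, l, pt l} (lt_of_le_of_lt card_le_three (by norm_num))
    simp only [mem_insert, mem_singleton, not_or] at hk
    exact zz_ne_of_rel hyp C hK hc (Ne.symm hk.1)
      ((hs l (mem_univ _) a (mem_univ _) k (mem_univ _) ha hk.2.1).2 (by simp [ha', hk.2.2]))
  by_cases hi : i = pt l
  · exact key j hjl (fun e => hij (hi.trans e.symm)) h2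
  · exact key i hil hi h1

/-- **Three members with the same involution** occur only in type `D 4`. -/
theorem three_eq (hyp : Cfsg.Agent.Cit.Hyp Om) (C : Chart.Chart Om p L) (hK : ∀ i, K i ∈ OmIn Om L)
    (hc : ∀ i j, i ≠ j → cm (K i) (K j)) (hkinds : (data (OmIn Om L) K hK hc).Kinds univ)
    {i j l : κ} (hij : i ≠ j) (hil : i ≠ l) (hjl : j ≠ l)
    (h1 : Cfsg.Agent.Cit.zz (K i) = Cfsg.Agent.Cit.zz (K l))
    (h2 : Cfsg.Agent.Cit.zz (K j) = Cfsg.Agent.Cit.zz (K l)) :
    (data (OmIn Om L) K hK hc).KD4 univ ∧ ∀ k, Cfsg.Agent.Cit.zz (K k) = Cfsg.Agent.Cit.zz (K l) := by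
  have h3 : ({i, j, l} : Finset κ).card = 3 := by
    rw [card_insert_of_notMem (by simp [hij, hil]), card_insert_of_notMem (by simp [hjl]), card_singleton]
  have h4 : 3 ≤ (univ : Finset κ).card := by rw [← h3]; exact card_le_card (subset_univ _)
  have hconn : (data (OmIn Om L) K hK hc).Conn (univ.erase l) → False := fun h =>
    zz_ne_of_rel hyp C hK hc hij (h i (by simp [hil]) j (by simp [hjl])) h1
  have hmain : (data (OmIn Om L) K hK hc).KD4 univ := by
    rcases hkinds with h | h | h | h | h | ⟨q, h⟩ | ⟨q, h⟩ | h | h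
    · omega
    · omega
    · exact (hconn (h.2.1 l (mem_univ _))).elim
    · exact (hconn (h.2.1 l (mem_univ _))).elim
    · exact h
    · exact (false_of_split hyp C hK hc (by rw [← card_univ]; exact h.1) h.2.2.1 hij hil hjl h1 h2).elim
    · exact (false_of_split hyp C hK hc (by rw [← card_univ]; exact le_trans (by norm_num) h.1) h.2.2.1
        hij hil hjl h1 h2).elim
    · exact (hconn (h.2 l (mem_univ _))).elim
    · exact (hconn (h.conn_erase l (mem_univ _))).elim
  refine ⟨hmain, fun k => ?_⟩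
  by_cases hk1 : k = i
  · rw [hk1, h1]
  by_cases hk2 : k = j
  · rw [hk2, h2]
  by_cases hk3 : k = l
  · rw [hk3]
  have h5 : (univ : Finset κ) = {i, j, l, k} := by
    symm
    rw [eq_univ_iff_forall]
    have h6 : ({i, j, l, k} : Finset κ).card = (univ : Finset κ).card := by
      rw [hmain.1, card_insert_of_notMem (by simp [hij, hil, Ne.symm hk1]),
        card_insert_of_notMem (by simp [hjl, Ne.symm hk2]), card_insert_of_notMem (by simp [Ne.symm hk3]),
        card_singleton]
    have h7 := eq_of_subset_of_card_le (subset_univ ({i, j, l, k} : Finset κ)) h6.ge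
    intro x
    rw [h7]; exact mem_univ x
  have h8 : Cfsg.Agent.Cit.zz (K i) * Cfsg.Agent.Cit.zz (K j) * Cfsg.Agent.Cit.zz (K l) *
      Cfsg.Agent.Cit.zz (K k) = 1 := hmain.2.2.1 i j l k h5
  have h9 : Cfsg.Agent.Cit.zz (K l) * Cfsg.Agent.Cit.zz (K l) = 1 := by
    have := hyp.orderOf_zz (hK l).1
    rw [← pow_two, ← this, pow_orderOf_eq_one]
  rw [h1, h2, h9, one_mul] at h8
  calc Cfsg.Agent.Cit.zz (K k) = Cfsg.Agent.Cit.zz (K l) * (Cfsg.Agent.Cit.zz (K l) * Cfsg.Agent.Cit.zz (K k)) := by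
        rw [← mul_assoc, h9, one_mul]
    _ = Cfsg.Agent.Cit.zz (K l) := by rw [h8, mul_one]

end Cfsg.Agent.Nodes.ThreeEq
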