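import Mathlib
import Cfsg.Agent.Nodes.ChartLoc
import Cfsg.Agent.Nodes.Slope
import Cfsg.Agent.Nodes.OrthRoot
import Cfsg.Agent.Nodes.Coroot

/-!
# (EX-3): central extensions of chart groups of odd order are `p'`

`f : E → Y` with range `GG` and central kernel of odd order, `C : Cls cs h p T n X R Z z` in `Y`, irreducible,
for every `r ∈ R` a subgroup `Q r` of `E` mapped isomorphically onto `VV r` (the join of the root groups `X y`,
`(y, r) > 0`), normalised by the elements of `E` whose images normalise `Z r` and `Z (-r)` (structure `Lft`).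
If `E` is perfect, then `p` does not divide `|ker f|` (`not_dvd_card_ker`).

* `exists_form_pos` : `R` spans; `exists_nonneg_pair`;
* `Lft.XX_eq` : the lifts `XX y r = f⁻¹(X y) ⊓ Q r` of `X y` do not depend on `r`; `Lft.comm` : they satisfy the
  commutator relations; `Lft.inj_Sup` : `f` is injective on the join of the lifts of the positive root groups;
* `split` : transfer.
-/

set_option autoImplicit false
set_option linter.unusedSectionVars false

namespace Cfsg.Agent.Nodes.ExactLift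

open CoxeterSystem Cfsg.Agent.ChevalleyStructure.CoxeterGeom Cfsg.Agent.Tits.Roots Cfsg.Agent.Tits.Core
  Cfsg.Agent.Tits.RootComb Cfsg.Agent.Tits.Exchange Cfsg.Agent.Nodes.Comb Cfsg.Agent.Nodes.Reps
  Cfsg.Agent.Nodes.BNOf Cfsg.Agent.Nodes.RGDLib Cfsg.Agent.Nodes.Chart Cfsg.Agent.Nodes.StabComb
  Cfsg.Agent.Nodes.Bruhat Cfsg.Agent.Nodes.ClsNorm Cfsg.Agent.Nodes.ChartLoc Cfsg.Agent.Nodes.Coroot
open scoped commutatorElement

variable {I W Y : Type*} [Fintype I] [DecidableEq I] [Group W] [Fintype W] [Group Y] {M : CoxeterMatrix I}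
  {cs : CoxeterSystem M W} {A : I → I → ℤ} {h : IsCartan M A} {p : ℕ} {T : Subgroup Y} {n : I → Y}
  {X : (I → ℤ) → Subgroup Y} {R : Set (I → ℤ)} {Z : (I → ℤ) → Subgroup Y} {z : (I → ℤ) → Y}

/-! ### The roots of `R` span -/

section Span

variable (C : Cls cs h p T n X R Z z)
  (hirr : ∀ J : Set I, J.Nonempty → J ≠ Set.univ → ∃ a ∈ J, ∃ b, b ∉ J ∧ M a b ≠ 2) (hR : R.Nonempty)

omit [Fintype W] in
/-- `(α_a, α_b) ≠ 0` for a bond -/
theorem form_sr_ne_zero [Fintype W] {a b : I} (hab : a ≠ b) (hm : M a b ≠ 2) : form cs h (sr a) (sr b) ≠ 0 := by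
  have h1 := Nodes.OrthRoot.two_form_sr cs h b a
  have h2 := form_pos cs h (sr_ne_zero b)
  intro h0
  rw [h0, mul_zero] at h1
  have h3 : A b a = 0 := (mul_eq_zero.1 h1.symm).resolve_right h2.ne'
  have h4 := Nodes.OrthRoot.two_form_sr cs h a b
  rw [form_comm, h0, mul_zero] at h4
  have h5 : A a b = 0 := (mul_eq_zero.1 h4.symm).resolve_right (form_pos cs h (sr_ne_zero a)).ne'
  rcases h.rel a b hab with ⟨m1, -, -⟩ | ⟨m1, a1, a2⟩ | ⟨m1, ⟨a1, a2⟩ | ⟨a1, a2⟩⟩ | ⟨m1, ⟨a1, a2⟩ | ⟨a1, a2⟩⟩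
  · exact hm m1
  all_goals (rw [h5] at a1; omega)

include C hirr hR

/-- `R` spans: for `v ≠ 0` there is `r ∈ R` with `(v, r) > 0`. -/
theorem exists_form_pos {v : I → ℤ} (hv : v ≠ 0) : ∃ r ∈ R, 0 < form cs h v r := by
  by_contra hcon
  push Not at hcon
  have h0 : ∀ r ∈ R, form cs h v r = 0 := by
    intro r hr
    have h1 := hcon _ (Nodes.ClsNorm.neg_mem C hr)
    rw [form_neg_right] at h1
    have h2 := hcon r hr
    omega
  -- the nodes moved by `R`
  have hrefl : ∀ r ∈ R, ∀ i, r - pairing A i r • sr i ∈ R := by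
    intro r hr i
    have := C.act r hr (cs.simple i)
    rwa [rep_simple_eq cs h i] at this
  have hJ : ∀ i, (∃ r ∈ R, form cs h r (sr i) ≠ 0) → form cs h v (sr i) = 0 := by
    rintro i ⟨r, hr, h1⟩
    have h2 := h0 _ (hrefl r hr i)
    rw [form_sub_right, form_smul_right, h0 r hr, zero_sub, neg_eq_zero, mul_eq_zero] at h2
    refine h2.resolve_left fun h3 => h1 ?_
    have h4 := two_form cs h i r
    rw [h3, zero_mul] at h4
    linarith
  have huniv : {i | ∃ r ∈ R, form cs h r (sr i) ≠ 0} = Set.univ := by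
    by_contra hne
    obtain ⟨r₀, hr₀⟩ := hR
    obtain ⟨a, ⟨r, hr, h1⟩, b, hb, hm⟩ := hirr {i | ∃ r ∈ R, form cs h r (sr i) ≠ 0} (by
      by_contra hemp
      rw [Set.not_nonempty_iff_eq_empty] at hemp
      have h1 : ∀ i, form cs h r₀ (sr i) = 0 := by
        intro i
        by_contra h2
        have : i ∈ (∅ : Set I) := by rw [← hemp]; exact ⟨r₀, hr₀, h2⟩
        exact this
      have h2 := form_pos cs h (C.root r₀ hr₀).ne_zero
      have h3 : form cs h r₀ r₀ = 0 := by
        rw [form_eq_sum]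
        exact Finset.sum_eq_zero fun k _ => by rw [h1, mul_zero]
      omega) hne
    have hb0 : ∀ s ∈ R, form cs h s (sr b) = 0 := by
      intro s hs
      by_contra h2
      exact hb ⟨s, hs, h2⟩
    have hab : a ≠ b := by
      rintro rfl
      exact hb ⟨r, hr, h1⟩
    have h2 := hb0 _ (hrefl r hr a)
    rw [form_sub_left, form_smul_left, hb0 r hr, zero_sub, neg_eq_zero, mul_eq_zero] at h2
    rcases h2 with h2 | h2
    · have h4 := two_form cs h a r
      rw [h2, zero_mul] at h4
      exact h1 (by linarith)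
    · exact form_sr_ne_zero hab hm h2
  have hv0 : ∀ i, form cs h v (sr i) = 0 := fun i => hJ i (by
    have : i ∈ {i | ∃ r ∈ R, form cs h r (sr i) ≠ 0} := by rw [huniv]; trivial
    exact this)
  have h2 := form_pos cs h hv
  have h3 : form cs h v v = 0 := by
    rw [form_eq_sum]
    exact Finset.sum_eq_zero fun k _ => by rw [hv0, mul_zero]
  omega

/-- For `y ≠ ± y'` there is `r ∈ R` with `(y, r), (y', r) ≥ 0`, not both zero. -/
theorem exists_nonneg_pair {y y' : I → ℤ} (hy : IsRoot cs h y) (hy' : IsRoot cs h y') (h1 : y ≠ y') (h2 : y ≠ -y') :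
    ∃ r ∈ R, 0 ≤ form cs h y r ∧ 0 ≤ form cs h y' r ∧ (0 < form cs h y r ∨ 0 < form cs h y' r) := by
  have hfin : R.Finite := (RGD.finite_roots (cs := cs) (h := h)).subset C.root
  have key : ∀ a b : ℤ, 0 < a → 0 < b → 0 < form cs h (a • y + b • y') y → 0 < form cs h (a • y + b • y') y' →
      ∃ r ∈ R, 0 ≤ form cs h y r ∧ 0 ≤ form cs h y' r ∧ (0 < form cs h y r ∨ 0 < form cs h y' r) := by
    intro a b ha hb hvy hvy'
    set v := a • y + b • y' with hv
    have hv0 : v ≠ 0 := by
      intro h0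
      rw [h0, ← zero_smul ℤ (0 : I → ℤ), form_smul_left, zero_mul] at hvy
      exact lt_irrefl _ hvy
    obtain ⟨r₁, hr₁, hr₁p⟩ := exists_form_pos C hirr hR hv0
    obtain ⟨r, hr, hmax⟩ := Set.exists_max_image R (fun r => form cs h v r) hfin hR
    have hrp : 0 < form cs h v r := lt_of_lt_of_le hr₁p (hmax r₁ hr₁)
    have hnn : ∀ x, IsRoot cs h x → 0 < form cs h v x → 0 ≤ form cs h x r := by
      intro x hx hvx
      by_contra hneg
      push Not at hneg
      have h3 : r - cpr cs h r x • x ∈ R := by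
        obtain ⟨w, i, rfl⟩ := hx
        rw [← rep_rfl'_eq]
        exact C.act r hr _
      have h4 := hmax _ h3
      simp only [form_sub_right, form_smul_right] at h4
      have h5 : cpr cs h r x < 0 := by
        have h6 := (cpr_pos_iff cs h (-r) hx).2 (by rw [form_neg_left, form_comm cs h r x]; omega)
        rw [cpr_neg cs h r hx] at h6
        omega
      have h6 := mul_pos_of_neg_of_neg h5 (show -form cs h v x < 0 by omega)
      have h7 : cpr cs h r x * form cs h v x < 0 := mul_neg_of_neg_of_pos h5 hvx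
      omega
    have h3 := hnn y hy hvy
    have h4 := hnn y' hy' hvy'
    refine ⟨r, hr, h3, h4, ?_⟩
    by_contra hcon
    push Not at hcon
    have h5 : form cs h y r = 0 := le_antisymm hcon.1 h3
    have h6 : form cs h y' r = 0 := le_antisymm hcon.2 h4
    rw [hv, form_add_left, form_smul_left, form_smul_left, h5, h6] at hrp
    simp at hrp
  have hyy := form_pos cs h hy.ne_zero
  have hyy' := form_pos cs h hy'.ne_zero
  by_cases hc : 0 ≤ form cs h y y'
  · refine key 1 1 one_pos one_pos ?_ ?_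
    · rw [one_smul, one_smul, form_add_left, form_comm cs h y' y]; omega
    · rw [one_smul, one_smul, form_add_left]; omega
  · push Not at hc
    have hg := Nodes.PosPair.gram_pos cs h hy hy' h1 h2
    refine key (form cs h y' y' - form cs h y y') (form cs h y y - form cs h y y') (by omega) (by omega) ?_ ?_
    · rw [form_add_left, form_smul_left, form_smul_left, form_comm cs h y' y]
      nlinarith
    · rw [form_add_left, form_smul_left, form_smul_left]
      nlinarith

end Span

/-! ### Lifts -/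

variable {E : Type*} [Group E]

/-- **The lifts of the groups `VV r`.** -/
structure Lft (cs : CoxeterSystem M W) (h : IsCartan M A) (T : Subgroup Y) (X : (I → ℤ) → Subgroup Y)
    (R : Set (I → ℤ)) (Z : (I → ℤ) → Subgroup Y) (f : E →* Y) (Q : (I → ℤ) → Subgroup E) : Prop where
  rng : f.range = GG cs h T X
  cen : f.ker ≤ Subgroup.center E
  odd : Odd (Nat.card f.ker)
  inj : ∀ r ∈ R, ∀ a ∈ Q r, f a = 1 → a = 1
  map : ∀ r ∈ R, (Q r).map f = VV cs h X r
  nor : ∀ r ∈ R, ∀ g, f g ∈ Subgroup.normalizer (Z r : Set Y) → f g ∈ Subgroup.normalizer (Z (-r) : Set Y) →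
    ∀ a ∈ Q r, g * a * g⁻¹ ∈ Q r

namespace Lft

variable {f : E →* Y} {Q : (I → ℤ) → Subgroup E}

/-- The lift of the root group `X y`. -/
def XL (cs : CoxeterSystem M W) (h : IsCartan M A) (X : (I → ℤ) → Subgroup Y) (R : Set (I → ℤ)) (f : E →* Y)
    (Q : (I → ℤ) → Subgroup E) (y : I → ℤ) : Subgroup E :=
  (X y).comap f ⊓ ⨅ r : {r : I → ℤ // r ∈ R ∧ 0 < form cs h y r}, Q r.1

theorem mem_XL {y : I → ℤ} {a : E} :
    a ∈ XL cs h X R f Q y ↔ f a ∈ X y ∧ ∀ r ∈ R, 0 < form cs h y r → a ∈ Q r := by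
  unfold XL
  rw [Subgroup.mem_inf, Subgroup.mem_comap, Subgroup.mem_iInf]
  exact and_congr_right fun _ => ⟨fun h1 r hr hy => h1 ⟨r, hr, hy⟩, fun h1 r => h1 r.1 r.2.1 r.2.2⟩

variable (F : Lft cs h T X R Z f Q)

include F

theorem comm_ker {a : E} (ha : f a = 1) (b : E) : a * b = b * a :=
  (Subgroup.mem_center_iff.1 (F.cen ha) b).symm

theorem eq_one_of_sq {a : E} (ha : f a = 1) (h2 : a * a = 1) : a = 1 := by
  have h1 : orderOf a ∣ Nat.card f.ker := Subgroup.orderOf_dvd_natCard f.ker (MonoidHom.mem_ker.2 ha)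
  have h3 : orderOf a ∣ 2 := orderOf_dvd_of_pow_eq_one (by rw [pow_two, h2])
  have h4 : orderOf a ∣ 1 := by
    rw [← Nat.Coprime.gcd_eq_one (Nat.coprime_two_left.2 F.odd)]
    exact Nat.dvd_gcd h3 h1
  exact orderOf_eq_one_iff.1 (Nat.dvd_one.1 h4)

variable (C : Cls cs h p T n X R Z z)

include C

/-- an element over `z q` normalises all `Q r` -/
theorem nor_z {r q : I → ℤ} (hr : r ∈ R) (hq : q ∈ R) {t : E} (ht : f t = z q) {a : E} (ha : a ∈ Q r) :
    t * a * t⁻¹ ∈ Q r := by
  refine F.nor r hr t ?_ ?_ a ha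
  · rw [ht, mem_normalizer_iff_cj]
    exact C.tor r hr _ (C.z_torus q hq)
  · rw [ht, mem_normalizer_iff_cj]
    exact C.tor _ (neg_mem C hr) _ (C.z_torus q hq)

/-- elements over `X x`, `(x, r) = 0`, normalise `Q r` -/
theorem nor_X {r x : I → ℤ} (hr : r ∈ R) (hx : IsRoot cs h x) (h0 : form cs h x r = 0) {t : E} (ht : f t ∈ X x)
    {a : E} (ha : a ∈ Q r) : t * a * t⁻¹ ∈ Q r := by
  refine F.nor r hr t ?_ ?_ a ha
  · exact centralizer_le_normalizer' _ (X_le_centralizer C hr hx h0.ge ht)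
  · exact centralizer_le_normalizer' _ (X_le_centralizer C (neg_mem C hr) hx (by
      rw [form_neg_right, h0, neg_zero]) ht)

/-- an element of `Q r` over an element inverted by `z q` is inverted by the elements over `z q` -/
theorem inv_of {r q : I → ℤ} (hr : r ∈ R) (hq : q ∈ R) {t : E} (ht : f t = z q) {a : E} (ha : a ∈ Q r)
    (hz : z q * f a * z q = (f a)⁻¹) : t * a * t⁻¹ = a⁻¹ := by
  have h1 := F.nor_z C hr hq ht ha
  have h2 : t * a * t⁻¹ * a = 1 := by
    refine F.inj r hr _ (mul_mem h1 ha) ?_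
    have h3 : (z q)⁻¹ = z q := inv_eq_of_mul_eq_one_left (C.z_sq q hq)
    rw [map_mul, map_mul, map_mul, map_inv, ht, h3, hz, inv_mul_cancel]
  exact eq_inv_of_mul_eq_one_left h2

/-- **Independence of `r`.** -/
theorem mem_of_mem {r s y : I → ℤ} (hr : r ∈ R) (hs : s ∈ R) (hy : IsRoot cs h y) (hyr : 0 < form cs h y r)
    (hys : 0 < form cs h y s) {a : E} (ha : a ∈ Q r) (hfa : f a ∈ X y) : a ∈ Q s := by
  have h1 : f a ∈ (Q s).map f := by
    rw [F.map s hs]
    exact (RGD.le_Sup (S := {y | IsRoot cs h y ∧ 0 < form cs h y s}) ⟨hy, hys⟩) hfa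
  obtain ⟨b, hb, hab⟩ := h1
  -- it is enough to find an involution inverting `X y`
  have key : ∀ q ∈ R, y ≠ q → 0 < form cs h y q → a ∈ Q s := by
    intro q hq hyq hpos
    obtain ⟨t, ht⟩ : ∃ t, f t = z q := by
      have h0 : z q ∈ f.range := by
        rw [F.rng]
        exact (le_sup_left : T ≤ GG cs h T X) (C.z_torus q hq)
      exact h0
    have hne : y ≠ -q := by
      rintro rfl
      rw [form_neg_left] at hpos
      have := form_nonneg cs h q
      omega
    have hz := C.z_inv q hq y hy hyq hne hpos.ne' (f a) hfa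
    have e1 := F.inv_of C hr hq ht ha hz
    have e2 := F.inv_of C hs hq ht hb (by rw [hab]; exact hz)
    have hc : f (b⁻¹ * a) = 1 := by rw [map_mul, map_inv, hab, inv_mul_cancel]
    have hcc := F.comm_ker hc
    have e3 : b⁻¹ * a * (b⁻¹ * a) = 1 := by
      have h3 : t * a * t⁻¹ = (t * b * t⁻¹) * (b⁻¹ * a) := by
        calc t * a * t⁻¹ = t * b * ((b⁻¹ * a) * t⁻¹) := by group
          _ = t * b * (t⁻¹ * (b⁻¹ * a)) := by rw [hcc]
          _ = (t * b * t⁻¹) * (b⁻¹ * a) := by group
      rw [e1, e2] at h3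
      calc b⁻¹ * a * (b⁻¹ * a) = (b⁻¹ * a * b⁻¹) * a := by group
        _ = (b⁻¹ * (b⁻¹ * a)) * a := by rw [hcc]
        _ = a⁻¹ * a := by rw [← h3]
        _ = 1 := inv_mul_cancel a
    have e4 := F.eq_one_of_sq hc e3
    have e5 : a = b := (inv_mul_eq_one.1 e4).symm
    rw [e5]
    exact hb
  by_cases h2 : y = r
  · by_cases h3 : y = s
    · rw [← h3, h2]; exact ha
    · exact key s hs h3 hys
  · exact key r hr h2 hyr

theorem mem_XL_of {r y : I → ℤ} (hr : r ∈ R) (hy : IsRoot cs h y) (hyr : 0 < form cs h y r) {a : E}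
    (ha : a ∈ Q r) (hfa : f a ∈ X y) : a ∈ XL cs h X R f Q y :=
  mem_XL.2 ⟨hfa, fun _ hs hys => F.mem_of_mem C hr hs hy hyr hys ha hfa⟩

variable (hirr : ∀ J : Set I, J.Nonempty → J ≠ Set.univ → ∃ a ∈ J, ∃ b, b ∉ J ∧ M a b ≠ 2) (hR : R.Nonempty)

include hirr hR

theorem map_XL {y : I → ℤ} (hy : IsRoot cs h y) : (XL cs h X R f Q y).map f = X y := by
  apply le_antisymm
  · rintro _ ⟨a, ha, rfl⟩
    exact (mem_XL.1 ha).1
  · intro v hv
    obtain ⟨r, hr, hyr⟩ := exists_form_pos C hirr hR hy.ne_zero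
    have h1 : v ∈ (Q r).map f := by
      rw [F.map r hr]
      exact (RGD.le_Sup (S := {y | IsRoot cs h y ∧ 0 < form cs h y r}) ⟨hy, hyr⟩) hv
    obtain ⟨a, ha, rfl⟩ := h1
    exact ⟨a, F.mem_XL_of C hr hy hyr ha hv, rfl⟩

theorem XL_inj {y : I → ℤ} (hy : IsRoot cs h y) {a : E} (ha : a ∈ XL cs h X R f Q y) (h1 : f a = 1) : a = 1 := by
  obtain ⟨r, hr, hyr⟩ := exists_form_pos C hirr hR hy.ne_zero
  exact F.inj r hr a ((mem_XL.1 ha).2 r hr hyr) h1

/-- **The commutator relations.** -/
theorem comm {x y : I → ℤ} (hx : IsRoot cs h x) (hy : IsRoot cs h y) (hxy : x ≠ y) (hxy' : x ≠ -y) {a b : E}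
    (ha : a ∈ XL cs h X R f Q x) (hb : b ∈ XL cs h X R f Q y) : ⁅a, b⁆ ∈ btw cs h (XL cs h X R f Q) x y := by
  obtain ⟨r, hr, h1, h2, h3⟩ := exists_nonneg_pair C hirr hR hx hy hxy hxy'
  have key : ∀ {x : I → ℤ} {a : E}, IsRoot cs h x → 0 ≤ form cs h x r → a ∈ XL cs h X R f Q x →
      ∀ q ∈ Q r, a * q * a⁻¹ ∈ Q r := by
    intro x a hx h1 ha q hq
    rcases h1.lt_or_eq with h4 | h4
    · have h5 := (mem_XL.1 ha).2 r hr h4
      exact mul_mem (mul_mem h5 hq) (inv_mem h5)
    · exact F.nor_X C hr hx h4.symm (mem_XL.1 ha).1 hq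
  have hc : ⁅a, b⁆ ∈ Q r := by
    rcases h3 with h3 | h3
    · have h4 := (mem_XL.1 ha).2 r hr h3
      have h5 : ⁅a, b⁆ = a * (b * a⁻¹ * b⁻¹) := by rw [commutatorElement_def]; group
      rw [h5]
      exact mul_mem h4 (key hy h2 hb _ (inv_mem h4))
    · have h4 := (mem_XL.1 hb).2 r hr h3
      rw [commutatorElement_def]
      exact mul_mem (key hx h1 ha _ h4) (inv_mem h4)
  have hf : f ⁅a, b⁆ ∈ (btw cs h (XL cs h X R f Q) x y).map f := by
    rw [btw_map]
    have h4 : btw cs h (fun z => (XL cs h X R f Q z).map f) x y = btw cs h X x y := by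
      unfold Reps.btw
      exact iSup_congr fun z => F.map_XL C hirr hR z.2.1
    rw [h4, map_commutatorElement]
    exact C.rgd.comm x y hx hy hxy hxy' _ (mem_XL.1 ha).1 _ (mem_XL.1 hb).1
  obtain ⟨e, he, hef⟩ := hf
  have heQ : e ∈ Q r := by
    have h4 : btw cs h (XL cs h X R f Q) x y ≤ Q r := by
      unfold Reps.btw
      refine iSup_le ?_
      rintro ⟨v, hv⟩
      intro u hu
      refine (mem_XL.1 hu).2 r hr ?_
      obtain ⟨-, m, a', b', hm, ha', hb', he'⟩ := hv
      have h5 : m * form cs h v r = a' * form cs h x r + b' * form cs h y r := by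
        rw [← form_smul_left, he', form_add_left, form_smul_left, form_smul_left]
      have h6 : 0 < m * form cs h v r := by
        rw [h5]
        rcases h3 with h3 | h3
        · have := mul_pos ha' h3
          have := mul_nonneg hb'.le h2
          linarith
        · have := mul_pos hb' h3
          have := mul_nonneg ha'.le h1
          linarith
      exact (pos_iff_pos_of_mul_pos h6).1 hm
    exact h4 he
  have h7 : e⁻¹ * ⁅a, b⁆ = 1 := F.inj r hr _ (mul_mem (inv_mem heQ) hc) (by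
    rw [map_mul, map_inv, hef, inv_mul_cancel])
  rw [← inv_mul_eq_one.1 h7]
  exact he

/-- `XL x` normalises the join over a set absorbing the intervals. -/
theorem le_normalizer {x : I → ℤ} {S : Set (I → ℤ)} (hx : IsRoot cs h x)
    (hS : ∀ y ∈ S, IsRoot cs h y ∧ (x ≠ y ∧ x ≠ -y ∧ ∀ z, Btwn cs h x y z → z ∈ S)) :
    XL cs h X R f Q x ≤ Subgroup.normalizer (RGD.Sup (XL cs h X R f Q) S : Set E) := by
  have key : ∀ a ∈ XL cs h X R f Q x, cj a (RGD.Sup (XL cs h X R f Q) S) ≤ RGD.Sup (XL cs h X R f Q) S := by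
    intro a ha
    rw [RGD.cj_Sup]
    refine iSup_le ?_
    rintro ⟨y, hy⟩
    obtain ⟨hyr, hxy, hxy', hz⟩ := hS y hy
    intro b hb
    rw [mem_cj] at hb
    have h1 := F.comm C hirr hR hx hyr hxy hxy' ha hb
    have h2 : b = ⁅a, a⁻¹ * b * a⁆ * (a⁻¹ * b * a) := by
      rw [commutatorElement_def]; group
    rw [h2]
    refine mul_mem ?_ (RGD.le_Sup hy hb)
    have h3 : btw cs h (XL cs h X R f Q) x y ≤ RGD.Sup (XL cs h X R f Q) S := by
      unfold Reps.btw
      exact iSup_le fun z => RGD.le_Sup (hz z.1 z.2)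
    exact h3 h1
  intro a ha
  rw [mem_normalizer_iff_cj]
  apply le_antisymm (key a ha)
  have h1 := key a⁻¹ (inv_mem ha)
  have h2 := cj_mono a h1
  rwa [cj_cj_inv] at h2

/-- **`f` is injective on the join over a closed set of positive roots.** -/
theorem inj_Sup {S : Set (I → ℤ)} (hS : Nodes.Slope.Closed cs h S) (lam : (I → ℤ) →+ ℤ) (hl : ∀ x ∈ S, 0 < lam x)
    {u : E} (hu : u ∈ RGD.Sup (XL cs h X R f Q) S) (hfu : f u = 1) : u = 1 := by
  obtain ⟨mu, hmu⟩ := Nodes.Slope.exists_sep (cs := cs) (h := h) hS.root lam hl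
  have hfin := hS.finite
  have key : ∀ k : ℕ, ∀ S' : Set (I → ℤ), S' ⊆ S → Nodes.Slope.Closed cs h S' → S'.ncard = k →
      ∀ u ∈ RGD.Sup (XL cs h X R f Q) S', f u = 1 → u = 1 := by
    intro k
    induction k with
    | zero =>
      intro S' hsub hS' hk u hu hfu
      rw [Set.ncard_eq_zero (hfin.subset hsub)] at hk
      subst hk
      have h1 : RGD.Sup (XL cs h X R f Q) ∅ ≤ ⊥ := RGD.Sup_le fun x hx => absurd hx (by simp)
      exact Subgroup.mem_bot.1 (h1 hu)
    | succ k ih =>
      intro S' hsub hS' hk u hu hfu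
      have hfin' := hfin.subset hsub
      have hne : S'.Nonempty := by
        rw [Set.nonempty_iff_ne_empty]
        rintro rfl
        rw [Set.ncard_empty] at hk
        exact absurd hk (by omega)
      obtain ⟨r, hr, hmax⟩ := Nodes.Slope.exists_extreme hfin' hne lam 0 mu (fun x hx => hl x (hsub hx))
      have hmax' : ∀ x ∈ S', mu x * lam r ≤ mu r * lam x := by
        intro x hx
        rcases hmax x hx with h1 | h1
        · simp at h1
        · exact h1.2
      have hne' : ∀ x ∈ S', ∀ y ∈ S', Btwn cs h x y r → x = r ∧ y = r := by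
        intro x hx y hy hz
        obtain ⟨h1, h2⟩ := Nodes.Slope.extreme_ne hz (hmax x hx) (hmax y hy)
        exact ⟨hmu x (hsub hx) r (hsub hr) h1, hmu y (hsub hy) r (hsub hr) h2⟩
      have hcl : Nodes.Slope.Closed cs h (S' \ {r}) := by
        refine ⟨fun x hx => hS'.root x hx.1, fun x hx y hy z hz => ⟨hS'.btw x hx.1 y hy.1 z hz, ?_⟩⟩
        rintro rfl
        exact hx.2 (hne' x hx.1 y hy.1 hz).1
      have hcard : (S' \ {r}).ncard = k := by
        have := Set.ncard_sdiff_singleton_add_one hr hfin'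
        omega
      have hnorm : XL cs h X R f Q r ≤ Subgroup.normalizer (RGD.Sup (XL cs h X R f Q) (S' \ {r}) : Set E) := by
        refine F.le_normalizer C hirr hR (hS'.root r hr) ?_
        rintro y ⟨hy, hyr⟩
        refine ⟨hS'.root y hy, fun he => hyr he.symm, ?_, fun z hz => ⟨hS'.btw r hr y hy z hz, ?_⟩⟩
        · intro he
          have h1 := hl r (hsub hr)
          have h2 := hl y (hsub hy)
          rw [he, map_neg] at h1
          linarith
        · rintro rfl
          exact hyr (hne' _ hr y hy hz).2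
      have hsup : RGD.Sup (XL cs h X R f Q) S' = XL cs h X R f Q r ⊔ RGD.Sup (XL cs h X R f Q) (S' \ {r}) := by
        apply le_antisymm
        · refine RGD.Sup_le fun z hz => ?_
          by_cases hz0 : z = r
          · subst hz0; exact le_sup_left
          · exact le_trans (RGD.le_Sup (S := S' \ {r}) ⟨hz, hz0⟩) le_sup_right
        · exact sup_le (RGD.le_Sup hr) (RGD.Sup_mono Set.sdiff_subset)
      have h1 : u ∈ ((XL cs h X R f Q r ⊔ RGD.Sup (XL cs h X R f Q) (S' \ {r}) : Subgroup E) : Set E) := by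
        rw [← hsup]; exact hu
      rw [Subgroup.coe_mul_of_left_le_normalizer_right _ _ hnorm, Set.mem_mul] at h1
      obtain ⟨v, hv, u', hu', rfl⟩ := h1
      -- `f v = 1`
      have hfv : f v = 1 := by
        -- a functional positive at `r` and not positive on the rest
        obtain ⟨N, hN⟩ : ∃ N : ℤ, ∀ x ∈ S', lam x ≤ N := by
          refine ⟨∑ x ∈ hfin'.toFinset, |lam x|, fun x hx => ?_⟩
          exact (le_abs_self _).trans (Finset.single_le_sum (f := fun x : I → ℤ => |lam x|)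
            (fun i _ => abs_nonneg _) (hfin'.mem_toFinset.2 hx))
        let ell : (I → ℤ) →+ ℤ := (N * lam r) • mu - (N * mu r) • lam + lam
        have hell : ∀ x, ell x = N * (mu x * lam r - mu r * lam x) + lam x := fun x => by
          change (N * lam r) • mu x - (N * mu r) • lam x + lam x = _
          rw [smul_eq_mul, smul_eq_mul]; ring
        refine Nodes.Slope.sup_inf_sup' C.rgd ell lam (u := f v) ?_ ?_
        · refine (RGD.le_Sup (X := X) (S := {x | IsRoot cs h x ∧ 0 < ell x}) ⟨hS'.root r hr, ?_⟩)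
            (mem_XL.1 hv).1
          rw [hell, sub_self, mul_zero, zero_add]
          exact hl r (hsub hr)
        · have h2 : f v = f u'⁻¹ := by
            rw [map_mul] at hfu
            rw [map_inv]
            exact eq_inv_of_mul_eq_one_left hfu
          rw [h2]
          have h3 : (RGD.Sup (XL cs h X R f Q) (S' \ {r})).map f ≤
              RGD.Sup X {x | IsRoot cs h x ∧ ell x ≤ 0 ∧ 0 < lam x} := by
            unfold RGD.Sup
            rw [Subgroup.map_iSup]
            refine iSup_le ?_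
            rintro ⟨x, hx, hxr⟩
            rintro _ ⟨a, ha, rfl⟩
            have hlx := hl x (hsub hx)
            refine (le_iSup (fun z : {x | IsRoot cs h x ∧ ell x ≤ 0 ∧ 0 < lam x} => X z.1)
              ⟨x, hS'.root x hx, ?_, hlx⟩) (mem_XL.1 ha).1
            rw [hell]
            have h4 : mu x * lam r - mu r * lam x ≤ -1 := by
              have h5 := hmax' x hx
              have h6 : mu x * lam r ≠ mu r * lam x := fun h7 => hxr (hmu x (hsub hx) r (hsub hr) h7)
              omega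
            have h5 := hN x hx
            nlinarith
          exact h3 ⟨u'⁻¹, inv_mem hu', rfl⟩
      have hv1 : v = 1 := F.XL_inj C hirr hR (hS'.root r hr) hv hfv
      subst hv1
      rw [one_mul] at hfu ⊢
      exact ih (S' \ {r}) (fun x hx => hsub hx.1) hcl hcard u' hu' hfu
  exact key _ S subset_rfl hS rfl u hu hfu

/-! ### Transfer -/

open scoped IsMulCommutative in
omit F C hirr hR in
/-- Let `f : E → Y` be surjective with central kernel, `V ≤ E` mapped isomorphically onto `U`. If `E` is perfect then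
`a ^ |Y : U| = 1` for every `a ∈ ker f`. -/
theorem pow_index [Finite E] {f : E →* Y} (hs : Function.Surjective f) (hc : f.ker ≤ Subgroup.center E)
    (hE : commutator E = ⊤) {V : Subgroup E} (hV : ∀ a ∈ V, f a = 1 → a = 1) {a : E} (ha : f a = 1) :
    a ^ (V.map f).index = 1 := by
  classical
  set H : Subgroup E := (V.map f).comap f with hH
  have hex : ∀ u : H, ∃ v ∈ V, f v = f u := fun u => u.2
  choose s hsV hsf using hex
  have hker : ∀ u : H, (s u)⁻¹ * u ∈ Subgroup.center E := fun u => hc (by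
    rw [MonoidHom.mem_ker, map_mul, map_inv, hsf, inv_mul_cancel])
  have huniq : ∀ v ∈ V, ∀ v' ∈ V, f v = f v' → v = v' := by
    intro v hv v' hv' he
    have h1 := hV _ (mul_mem (inv_mem hv) hv') (by rw [map_mul, map_inv, he, inv_mul_cancel])
    exact inv_mul_eq_one.1 h1
  let φ : H →* Subgroup.center E :=
    MonoidHom.mk' (fun u => ⟨(s u)⁻¹ * u, hker u⟩) (by
      intro u u'
      apply Subtype.ext
      have h1 : s (u * u') = s u * s u' := huniq _ (hsV _) _ (mul_mem (hsV _) (hsV _)) (by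
        rw [hsf, map_mul, hsf, hsf, Subgroup.coe_mul, map_mul])
      have h2 := Subgroup.mem_center_iff.1 (hker u) (s u')⁻¹
      change (s (u * u'))⁻¹ * ((u : E) * u') = (s u)⁻¹ * u * ((s u')⁻¹ * u')
      rw [h1]
      calc (s u * s u')⁻¹ * ((u : E) * u') = (s u')⁻¹ * ((s u)⁻¹ * u) * u' := by group
        _ = (s u)⁻¹ * u * (s u')⁻¹ * u' := by rw [h2]
        _ = (s u)⁻¹ * u * ((s u')⁻¹ * u') := by group)
  have hφ : ∀ u : H, ((φ u : Subgroup.center E) : E) = (s u)⁻¹ * u := fun _ => rfl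
  have key : ∀ (k : ℕ) (g₀ : E), g₀⁻¹ * a ^ k * g₀ ∈ H → g₀⁻¹ * a ^ k * g₀ = a ^ k := by
    intro k g₀ _
    have h1 : a ^ k ∈ Subgroup.center E := pow_mem (hc ha) k
    rw [mul_assoc, ← Subgroup.mem_center_iff.1 h1 g₀, inv_mul_cancel_left]
  have h1 : MonoidHom.transfer φ a = φ ⟨a ^ H.index, MonoidHom.transfer_eq_pow_aux a key⟩ :=
    MonoidHom.transfer_eq_pow φ a key
  have h2 : MonoidHom.transfer φ a = 1 := by
    have h3 : commutator E ≤ (MonoidHom.transfer φ).ker := Abelianization.commutator_subset_ker _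
    rw [hE] at h3
    exact h3 (Subgroup.mem_top a)
  rw [h2] at h1
  have h3 := congrArg (Subtype.val) h1
  rw [hφ] at h3
  have h4 : f (s ⟨a ^ H.index, MonoidHom.transfer_eq_pow_aux a key⟩) = 1 := by
    rw [hsf]
    change f (a ^ H.index) = 1
    rw [map_pow, ha, one_pow]
  rw [hV _ (hsV _) h4, inv_one, one_mul] at h3
  have h5 : H.index = (V.map f).index := Subgroup.index_comap_of_surjective _ hs
  rw [← h5]
  exact h3.symm

/-- **(EX-3)**: `p` does not divide the order of the kernel. -/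
theorem not_dvd_card_ker [Finite E] [Finite Y] [Fact p.Prime] (hE : commutator E = ⊤) : ¬ p ∣ Nat.card f.ker := by
  intro hdvd
  have hfink : Finite f.ker := inferInstance
  obtain ⟨a, ha⟩ := exists_prime_orderOf_dvd_card' p hdvd
  set V := RGD.Sup (XL cs h X R f Q) (RGD.Pos cs h) with hV
  have hVU : V.map f = RGD.Sup X (RGD.Pos cs h) := by
    rw [hV]
    unfold RGD.Sup
    rw [Subgroup.map_iSup]
    exact iSup_congr fun z => F.map_XL C hirr hR z.2.1
  have hVinj : ∀ u ∈ V, f u = 1 → u = 1 := by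
    intro u hu hfu
    refine F.inj_Sup C hirr hR (S := RGD.Pos cs h) ⟨fun _ hx => hx.1, ?_⟩ Nodes.Slope.htHom ?_ hu hfu
    · intro x hx y hy z hz
      exact ⟨hz.1, RGD.nonneg_of_btwn hx.2 hy.2 hz⟩
    · intro x hx
      exact RGD.ht_pos hx.1 hx.2
  have hfr : ∀ x : E, f.rangeRestrict x = 1 ↔ f x = 1 := fun x =>
    ⟨fun h1 => congrArg Subtype.val h1, fun h1 => Subtype.ext h1⟩
  have h1 := pow_index (f := f.rangeRestrict) f.rangeRestrict_surjective (by
    intro x hx
    exact F.cen ((hfr x).1 hx)) hE (V := V) (fun u hu h1 => hVinj u hu ((hfr u).1 h1)) (a := (a : E))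
    ((hfr _).2 a.2)
  have h2 : orderOf (a : E) = p := by rw [Subgroup.orderOf_coe]; exact ha
  have h3 : p ∣ (V.map f.rangeRestrict).index := by
    rw [← h2]; exact orderOf_dvd_of_pow_eq_one h1
  have hVp : IsPGroup p ↥(V.map f.rangeRestrict) := by
    have h5 : IsPGroup p ↥(V.map f) := by rw [hVU]; exact C.rgd.isPGroup_Upos
    have h6 : (V.map f.rangeRestrict).map f.range.subtype = V.map f := by
      rw [Subgroup.map_map]
      congr 1
    rw [← h6] at h5
    exact h5.of_equiv ((V.map f.rangeRestrict).equivMapOfInjective _ (Subgroup.subtype_injective _)).symm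
  obtain ⟨P, hP⟩ := hVp.exists_le_sylow
  have h5 : (P : Subgroup f.range).map f.range.subtype = RGD.Sup X (RGD.Pos cs h) := by
    refine Nodes.NormalForm.eq_U_of_isPGroup C.rgd (P.isPGroup'.map _) ?_ ?_
    · rw [← hVU]
      rintro _ ⟨v, hv, rfl⟩
      exact ⟨f.rangeRestrict v, hP ⟨v, hv, rfl⟩, rfl⟩
    · rw [← F.rng]
      exact Subgroup.map_subtype_le _
  have h4 : (P : Subgroup f.range) = V.map f.rangeRestrict := by
    apply le_antisymm _ hP
    intro x hx
    have h6 : (x : Y) ∈ V.map f := by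
      rw [hVU, ← h5]; exact ⟨x, hx, rfl⟩
    obtain ⟨v, hv, he⟩ := h6
    exact ⟨v, hv, Subtype.ext he⟩
  rw [← h4] at h3
  exact P.not_dvd_index h3

end Lft

end Cfsg.Agent.Nodes.ExactLift
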