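import Mathlib
import Cfsg.Agent.Nodes.RGDLib
import Cfsg.Agent.Nodes.PosPair

/-!
Lifting root group data through central extensions by `p'`-groups (project CIT, charts).

* `lft p f P` : the `p`-elements of `f⁻¹(P)`; for `P` a `p`-group and `ker f` central of order prime to `p` it is
  a subgroup (`mem_lft`), mapped isomorphically onto `P` (`map_lft`, `eq_one_of_mem_lft`) and it is the only
  `p`-subgroup mapped onto `P` (`eq_lft`);
* `rgd_lift` : the lifted root group datum.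
-/

set_option autoImplicit false
set_option linter.unusedSectionVars false

namespace Cfsg.Agent.Nodes.RGDLift

open CoxeterSystem Cfsg.Agent.ChevalleyStructure.CoxeterGeom Cfsg.Agent.Tits.Roots Cfsg.Agent.Tits.Core
  Cfsg.Agent.Tits.RootComb Cfsg.Agent.Nodes.Comb Cfsg.Agent.Nodes.Reps Cfsg.Agent.Nodes.BNOf
  Cfsg.Agent.Nodes.RGDLib Cfsg.Agent.Nodes.PosPair
open scoped commutatorElement

section Lift

variable {Y Y' : Type*} [Group Y] [Group Y']

/-- The `p`-elements over `P`. -/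
def lft (p : ℕ) (f : Y →* Y') (P : Subgroup Y') : Subgroup Y :=
  Subgroup.closure {y | f y ∈ P ∧ ∃ k : ℕ, y ^ p ^ k = 1}

theorem lft_mono (p : ℕ) (f : Y →* Y') {P Q : Subgroup Y'} (h : P ≤ Q) : lft p f P ≤ lft p f Q :=
  Subgroup.closure_mono fun _ hy => ⟨h hy.1, hy.2⟩

theorem le_lft {p : ℕ} {f : Y →* Y'} {P : Subgroup Y'} {Q : Subgroup Y} (hQ : IsPGroup p Q) (h : Q.map f ≤ P) :
    Q ≤ lft p f P := by
  intro y hy
  refine Subgroup.subset_closure ⟨h (Subgroup.mem_map_of_mem f hy), ?_⟩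
  obtain ⟨k, hk⟩ := hQ ⟨y, hy⟩
  exact ⟨k, by simpa using congrArg Subtype.val hk⟩

theorem map_lft_le (p : ℕ) (f : Y →* Y') (P : Subgroup Y') : (lft p f P).map f ≤ P := by
  rw [Subgroup.map_le_iff_le_comap, lft, Subgroup.closure_le]
  exact fun _ hy => hy.1

theorem cj_lft (p : ℕ) (f : Y →* Y') (P : Subgroup Y') (g : Y) : cj g (lft p f P) = lft p f (cj (f g) P) := by
  have key : ∀ (g : Y) (P : Subgroup Y'), cj g (lft p f P) ≤ lft p f (cj (f g) P) := by
    intro g P
    unfold cj lft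
    rw [MonoidHom.map_closure, Subgroup.closure_le]
    rintro _ ⟨y, ⟨hy, k, hk⟩, rfl⟩
    refine Subgroup.subset_closure ⟨⟨f y, hy, by simp⟩, k, ?_⟩
    rw [← map_pow, hk, map_one]
  apply le_antisymm (key g P)
  have h1 := key g⁻¹ (cj (f g) P)
  rw [map_inv, cj_inv_cj] at h1
  have h2 := cj_mono g h1
  rwa [cj_cj_inv] at h2

variable [Finite Y] {p : ℕ} [Fact p.Prime] {f : Y →* Y'} (hf : f.ker ≤ Subgroup.center Y)
  (hp : (Nat.card f.ker).Coprime p)

include hf in
theorem mem_lft {P : Subgroup Y'} (hP : IsPGroup p P) {y : Y} :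
    y ∈ lft p f P ↔ f y ∈ P ∧ ∃ k : ℕ, y ^ p ^ k = 1 := by
  constructor
  · intro hy
    unfold lft at hy
    have hzp : ∀ y : Y, (∃ k : ℕ, y ^ p ^ k = 1) → IsPGroup p (Subgroup.zpowers y) := by
      rintro y ⟨k, hk⟩
      rintro ⟨_, m, rfl⟩
      refine ⟨k, Subtype.ext ?_⟩
      change (y ^ m) ^ p ^ k = 1
      rw [← zpow_natCast, ← zpow_mul, mul_comm, zpow_mul, zpow_natCast, hk, one_zpow]
    induction hy using Subgroup.closure_induction with
    | mem y hy => exact hy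
    | one => exact ⟨by rw [map_one]; exact one_mem P, 0, one_pow _⟩
    | mul x y _ _ hx hy =>
      refine ⟨by rw [map_mul]; exact mul_mem hx.1 hy.1, ?_⟩
      have h1 : (Subgroup.zpowers x ⊔ Subgroup.zpowers y).map f ≤ P := by
        rw [Subgroup.map_le_iff_le_comap]
        exact sup_le ((Subgroup.zpowers_le).2 hx.1) ((Subgroup.zpowers_le).2 hy.1)
      have h2 := isPGroup_of_map (hzp x hx.2) (hzp y hy.2) f hf (hP.to_le h1)
      have h3 : x * y ∈ Subgroup.zpowers x ⊔ Subgroup.zpowers y :=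
        mul_mem ((le_sup_left : Subgroup.zpowers x ≤ _) (Subgroup.mem_zpowers x))
          ((le_sup_right : Subgroup.zpowers y ≤ _) (Subgroup.mem_zpowers y))
      obtain ⟨k, hk⟩ := h2 ⟨x * y, h3⟩
      exact ⟨k, by simpa using congrArg Subtype.val hk⟩
    | inv x _ hx =>
      obtain ⟨h1, k, hk⟩ := hx
      exact ⟨by rw [map_inv]; exact inv_mem h1, k, by rw [inv_pow, hk, inv_one]⟩
  · intro hy
    exact Subgroup.subset_closure hy

include hf in
theorem isPGroup_lft {P : Subgroup Y'} (hP : IsPGroup p P) : IsPGroup p ↥(lft p f P) := by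
  rintro ⟨y, hy⟩
  obtain ⟨-, k, hk⟩ := (mem_lft hf hP).1 hy
  exact ⟨k, Subtype.ext hk⟩

include hp in
omit [Finite Y] in
/-- A `p`-element in the kernel is trivial. -/
theorem eq_one_of_ker {y : Y} (h1 : f y = 1) {k : ℕ} (hk : y ^ p ^ k = 1) : y = 1 := by
  have h2 : y ^ Nat.card f.ker = 1 := by
    have h3 : (⟨y, h1⟩ : f.ker) ^ Nat.card f.ker = 1 := pow_card_eq_one'
    have := congrArg Subtype.val h3
    rwa [SubgroupClass.coe_pow] at this
  have h3 : orderOf y ∣ 1 := by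
    have hc : (Nat.card f.ker).Coprime (p ^ k) := Nat.Coprime.pow_right k hp
    rw [← hc]
    exact Nat.dvd_gcd (orderOf_dvd_of_pow_eq_one h2) (orderOf_dvd_of_pow_eq_one hk)
  exact orderOf_eq_one_iff.1 (Nat.dvd_one.1 h3)

include hf hp in
theorem eq_one_of_mem_lft {P : Subgroup Y'} (hP : IsPGroup p P) {y : Y} (hy : y ∈ lft p f P) (h1 : f y = 1) :
    y = 1 := by
  obtain ⟨-, k, hk⟩ := (mem_lft hf hP).1 hy
  exact eq_one_of_ker hp h1 hk

include hp in
omit [Finite Y] in
/-- Every `p`-element of the image lifts to a `p`-element. -/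
theorem exists_lift {y : Y} {k : ℕ} (hk : f y ^ p ^ k = 1) : ∃ x, f x = f y ∧ x ^ p ^ k = 1 := by
  -- `x = y ^ (a m)`, `m = |ker f|`, `a m ≡ 1 mod p ^ k`
  have hc : (Nat.card f.ker).Coprime (p ^ k) := Nat.Coprime.pow_right k hp
  obtain ⟨a, ha⟩ : ∃ a, Nat.card f.ker * a ≡ 1 [MOD p ^ k] := by
    rcases Nat.lt_or_ge 1 (p ^ k) with h1 | h1
    · obtain ⟨a, ha⟩ := Nat.exists_mul_mod_eq_one_of_coprime hc h1
      exact ⟨a, by unfold Nat.ModEq; rw [ha.2, Nat.mod_eq_of_lt h1]⟩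
    · have h2 : p ^ k = 1 := le_antisymm h1 (Nat.one_le_pow _ _ (Fact.out : p.Prime).pos)
      exact ⟨0, by rw [h2]; exact Nat.modEq_one⟩
  refine ⟨y ^ (Nat.card f.ker * a), ?_, ?_⟩
  · rw [map_pow]
    have h1 : f y ^ (Nat.card f.ker * a) = f y ^ 1 := by
      rw [pow_eq_pow_iff_modEq]
      exact Nat.ModEq.of_dvd (orderOf_dvd_of_pow_eq_one hk) ha
    rw [h1, pow_one]
  · have h1 : f (y ^ p ^ k) = 1 := by rw [map_pow, hk]
    have h3 : (⟨y ^ p ^ k, h1⟩ : f.ker) ^ Nat.card f.ker = 1 := pow_card_eq_one'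
    have h4 : (y ^ p ^ k) ^ Nat.card f.ker = 1 := by
      have := congrArg Subtype.val h3
      rwa [SubgroupClass.coe_pow] at this
    rw [← pow_mul, mul_comm, mul_comm (Nat.card f.ker) a, ← mul_assoc, mul_comm, ← mul_assoc,
      mul_comm (Nat.card f.ker), pow_mul, pow_mul, h4, one_pow]

include hf hp in
theorem map_lft (hs : Function.Surjective f) {P : Subgroup Y'} (hP : IsPGroup p P) : (lft p f P).map f = P := by
  apply le_antisymm (map_lft_le p f P)
  intro z hz
  obtain ⟨y, rfl⟩ := hs z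
  obtain ⟨k, hk⟩ := hP ⟨f y, hz⟩
  obtain ⟨x, hx, hxk⟩ := exists_lift (f := f) hp (y := y) (k := k) (by simpa using congrArg Subtype.val hk)
  exact ⟨x, (mem_lft hf hP).2 ⟨hx ▸ hz, k, hxk⟩, hx⟩

include hf hp in
/-- Uniqueness of the lift. -/
theorem eq_lft {P : Subgroup Y'} (hP : IsPGroup p P) {Q : Subgroup Y} (hQ : IsPGroup p Q) (h : Q.map f = P) :
    Q = lft p f P := by
  apply le_antisymm (le_lft hQ h.le)
  intro y hy
  have h1 : f y ∈ Q.map f := by
    rw [h]; exact ((mem_lft hf hP).1 hy).1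
  obtain ⟨x, hx, hxy⟩ := h1
  have h2 : x⁻¹ * y ∈ lft p f P := mul_mem (inv_mem (le_lft hQ h.le hx)) hy
  have h3 := eq_one_of_mem_lft hf hp hP h2 (by rw [map_mul, map_inv, hxy, inv_mul_cancel])
  rw [inv_mul_eq_one.1 h3] at hx
  exact hx

include hf hp in
theorem lft_iSup (hs : Function.Surjective f) {ι : Type*} (P : ι → Subgroup Y') (hP : IsPGroup p ↥(⨆ i, P i)) :
    lft p f (⨆ i, P i) = ⨆ i, lft p f (P i) := by
  symm
  refine eq_lft hf hp hP ?_ ?_
  · exact (isPGroup_lft hf hP).to_le (iSup_le fun i => lft_mono p f (le_iSup P i))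
  · rw [Subgroup.map_iSup]
    exact iSup_congr fun i => map_lft hf hp hs (hP.to_le (le_iSup P i))

omit [Finite Y] in
theorem cj_comap (g : Y) (P : Subgroup Y') : cj g (P.comap f) = (cj (f g) P).comap f := by
  ext x
  rw [mem_cj, Subgroup.mem_comap, Subgroup.mem_comap, mem_cj, map_mul, map_mul, map_inv]

include hp in
/-- The preimage of a `p'`-group is a `p'`-group. -/
theorem coprime_comap {P : Subgroup Y'} (hP : (Nat.card P).Coprime p) : (Nat.card (P.comap f)).Coprime p := by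
  rw [Nat.coprime_comm, Nat.Prime.coprime_iff_not_dvd Fact.out]
  intro hdvd
  obtain ⟨⟨y, hy⟩, ho⟩ := exists_prime_orderOf_dvd_card' p hdvd
  have hyp : y ^ p ^ 1 = 1 := by
    have h1 := pow_orderOf_eq_one (⟨y, hy⟩ : ↥(P.comap f))
    rw [ho] at h1
    rw [pow_one]
    have := congrArg Subtype.val h1
    rwa [SubgroupClass.coe_pow] at this
  have h1 : f y = 1 := by
    have h2 : f y ^ Nat.card P = 1 := by
      have h3 : (⟨f y, hy⟩ : P) ^ Nat.card P = 1 := pow_card_eq_one'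
      have := congrArg Subtype.val h3
      rwa [SubgroupClass.coe_pow] at this
    have h3 : f y ^ p ^ 1 = 1 := by rw [← map_pow, hyp, map_one]
    have h4 : orderOf (f y) ∣ 1 := by
      have hc : (Nat.card P).Coprime (p ^ 1) := Nat.Coprime.pow_right 1 hP
      rw [← hc]
      exact Nat.dvd_gcd (orderOf_dvd_of_pow_eq_one h2) (orderOf_dvd_of_pow_eq_one h3)
    exact orderOf_eq_one_iff.1 (Nat.dvd_one.1 h4)
  have h2 := eq_one_of_ker hp h1 hyp
  subst h2
  have : orderOf (⟨1, hy⟩ : ↥(P.comap f)) = 1 := orderOf_one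
  rw [this] at ho
  exact (Fact.out : p.Prime).one_lt.ne ho

end Lift

variable {I W Y Y' : Type*} [Fintype I] [DecidableEq I] [Group W] [Finite W] [Group Y] [Finite Y] [Group Y']
  {M : CoxeterMatrix I} {cs : CoxeterSystem M W} {A : I → I → ℤ} {h : IsCartan M A} {p : ℕ} [Fact p.Prime]
  {T' : Subgroup Y'} {n' : I → Y'} {X' : (I → ℤ) → Subgroup Y'} {f : Y →* Y'}

/-- **The lift of a root group datum through a central extension by a `p'`-group.** -/
theorem rgd_lift (hf : f.ker ≤ Subgroup.center Y) (hp : (Nat.card f.ker).Coprime p) (hs : Function.Surjective f)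
    (R : RGD cs h p T' n' X') {n : I → Y} (hn : ∀ i, f (n i) = n' i) :
    RGD cs h p (T'.comap f) n (fun x => lft p f (X' x)) where
  nsys := by
    refine ⟨fun i => ?_, fun i j => ?_⟩
    · rw [mem_normalizer_iff_cj, cj_comap, hn, mem_normalizer_iff_cj.1 (R.nsys.norm i)]
    · rw [Subgroup.mem_comap, map_pow, map_mul, hn, hn]
      exact R.nsys.rel i j
  conj i x hx := by rw [cj_lft, hn, R.conj i x hx]
  tor x hx t ht := by rw [cj_lft, R.tor x hx _ ht]
  comm x y hx hy hxy hxy' a ha b hb := by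
    have hPx := R.pgrp' hx
    have hPy := R.pgrp' hy
    have hpair := isPGroup_pair R hx hy hxy'
    have hbtw : IsPGroup p ↥(btw cs h X' x y) := hpair.to_le le_sup_right
    have e : btw cs h (fun x => lft p f (X' x)) x y = lft p f (btw cs h X' x y) := by
      unfold Reps.btw at hbtw ⊢
      exact (lft_iSup hf hp hs _ hbtw).symm
    rw [e]
    -- `a`, `b` lie in the lift of a `p`-group
    have hxy0 : IsPGroup p ↥(X' x ⊔ X' y) := hpair.to_le le_sup_left
    have ha' : a ∈ lft p f (X' x ⊔ X' y) := lft_mono p f le_sup_left ha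
    have hb' : b ∈ lft p f (X' x ⊔ X' y) := lft_mono p f le_sup_right hb
    have hc : ⁅a, b⁆ ∈ lft p f (X' x ⊔ X' y) := by
      rw [commutatorElement_def]
      exact mul_mem (mul_mem (mul_mem ha' hb') (inv_mem ha')) (inv_mem hb')
    obtain ⟨-, k, hk⟩ := (mem_lft hf hxy0).1 hc
    refine (mem_lft hf hbtw).2 ⟨?_, k, hk⟩
    rw [map_commutatorElement]
    exact R.comm x y hx hy hxy hxy' _ ((mem_lft hf hPx).1 ha).1 _ ((mem_lft hf hPy).1 hb).1
  rk1 i u hu hne := by
    have hPi := R.pgrp i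
    have hPn := R.pgrp' (isRoot_sr cs h i).neg
    have h1 : f u ≠ 1 := fun h0 => hne (eq_one_of_mem_lft hf hp hPn hu h0)
    obtain ⟨a', ha', t', ht', b', hb', e⟩ := R.rk1 i _ ((mem_lft hf hPn).1 hu).1 h1
    have ha2 : a' ∈ (lft p f (X' (sr i))).map f := by rw [map_lft hf hp hs hPi]; exact ha'
    have hb2 : b' ∈ (lft p f (X' (sr i))).map f := by rw [map_lft hf hp hs hPi]; exact hb'
    obtain ⟨a, ha, rfl⟩ := ha2
    obtain ⟨b, hb, rfl⟩ := hb2
    refine ⟨a, ha, a⁻¹ * u * b⁻¹ * (n i)⁻¹, ?_, b, hb, by group⟩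
    rw [Subgroup.mem_comap]
    have : f (a⁻¹ * u * b⁻¹ * (n i)⁻¹) = t' := by
      simp only [map_mul, map_inv, hn, e]
      group
    rw [this]
    exact ht'
  pgrp i := isPGroup_lft hf (R.pgrp i)
  notp i hpg := by
    apply R.notp i
    have h1 := hpg.map f
    rwa [Subgroup.map_sup, map_lft hf hp hs (R.pgrp i), map_lft hf hp hs (R.pgrp' (isRoot_sr cs h i).neg)] at h1
  tcop := coprime_comap hp R.tcop

end Cfsg.Agent.Nodes.RGDLift
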