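import Cfsg.Agent.Nodes.ClsMap
import Cfsg.Agent.Nodes.RGDLift

/-!
# Classical root groups lift through central extensions (project CIT)

* `cls_lift` : the structure `Cls` lifts through a central extension by a `p'`-group.
-/

set_option autoImplicit false
set_option linter.unusedSectionVars false
set_option linter.style.haveILetI false

namespace Cfsg.Agent.Nodes.ClsLift

open CoxeterSystem Cfsg.Agent.ChevalleyStructure.CoxeterGeom Cfsg.Agent.Tits.Roots Cfsg.Agent.Tits.Core
  Cfsg.Agent.Tits.RootComb Cfsg.Agent.Nodes.Comb Cfsg.Agent.Nodes.Reps Cfsg.Agent.Nodes.BNOf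
  Cfsg.Agent.Nodes.RGDLib Cfsg.Agent.Nodes.RGDLift Cfsg.Agent.Nodes.Chart
open Subgroup (center)
open Cfsg.Agent

section Lift

variable {Y Y' : Type*} [Group Y] [Group Y'] [Finite Y] {p : ℕ} [Fact p.Prime] {f : Y →* Y'}

/-- two `p`-elements with the same image are equal -/
theorem eq_of_map (hf : f.ker ≤ center Y) (hp : (Nat.card f.ker).Coprime p) {a b : Y} {k l : ℕ}
    (ha : a ^ p ^ k = 1) (hb : b ^ p ^ l = 1) (h : f a = f b) : a = b := by
  have h1 : b⁻¹ * a ∈ f.ker := by rw [MonoidHom.mem_ker, map_mul, map_inv, h, inv_mul_cancel]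
  have h2 := Subgroup.mem_center_iff.1 (hf h1)
  have h3 : a = b * (b⁻¹ * a) := by group
  have ha' : a ^ p ^ (k + l) = 1 := by rw [pow_add, pow_mul, ha, one_pow]
  have hb' : b ^ p ^ (k + l) = 1 := by rw [add_comm, pow_add, pow_mul, hb, one_pow]
  have h4 : (b⁻¹ * a) ^ p ^ (k + l) = 1 := by
    have h5 : Commute b (b⁻¹ * a) := h2 b
    have h6 : (b * (b⁻¹ * a)) ^ p ^ (k + l) = 1 := by rw [← h3, ha']
    rwa [h5.mul_pow, hb', one_mul] at h6
  have h5 := eq_one_of_ker hp (MonoidHom.mem_ker.1 h1) h4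
  rw [h3, h5, mul_one]

theorem conj_pow_eq {g a : Y} {k : ℕ} (ha : a ^ k = 1) : (g * a * g⁻¹) ^ k = 1 := by
  rw [conj_pow, ha, mul_one, mul_inv_cancel]

end Lift

variable {I W Y Y' : Type*} [Fintype I] [DecidableEq I] [Group W] [Fintype W] [Group Y] [Finite Y] [Group Y']
  {M : CoxeterMatrix I} {cs : CoxeterSystem M W} {A : I → I → ℤ} {h : IsCartan M A} {p : ℕ} [Fact p.Prime]
  {T' : Subgroup Y'} {n' : I → Y'} {X' : (I → ℤ) → Subgroup Y'} {R : Set (I → ℤ)}
  {Z' : (I → ℤ) → Subgroup Y'} {z' : (I → ℤ) → Y'} {f : Y →* Y'}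

/-- **The lift of classical root groups through a central extension by a `p'`-group.** -/
theorem cls_lift (hf : f.ker ≤ center Y) (hp : (Nat.card f.ker).Coprime p) (hs : Function.Surjective f)
    (C : Cls cs h p T' n' X' R Z' z') {n : I → Y} (hn : ∀ i, f (n i) = n' i)
    (hinj : ∀ r ∈ R, ∀ y ∈ lft p f (Z' r) ⊔ lft p f (Z' (-r)), f y = 1 → y = 1) :
    ∃ z : (I → ℤ) → Y, Cls cs h p (T'.comap f) n (fun x => lft p f (X' x)) R (fun x => lft p f (Z' x)) z ∧
      ∀ r ∈ R, f (z r) = z' r := by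
  classical
  have hpZ : ∀ r ∈ R, IsPGroup p (Z' r) := fun r hr => Nodes.ClsMap.isPGroup_Z C hr
  have hpX : ∀ x, IsRoot cs h x → IsPGroup p (X' x) := fun x hx => C.rgd.pgrp' hx
  have hmem : ∀ {P : Subgroup Y'} (_ : IsPGroup p P) {y : Y}, y ∈ lft p f P ↔ f y ∈ P ∧ ∃ k : ℕ, y ^ p ^ k = 1 := by
    intro P hP y
    exact mem_lft hf hP
  -- choice of `z`
  have hex : ∀ r ∈ R, ∃ y ∈ lft p f (Z' r) ⊔ lft p f (Z' (-r)), f y = z' r := by
    intro r hr
    have h1 : z' r ∈ (lft p f (Z' r) ⊔ lft p f (Z' (-r))).map f := by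
      rw [Subgroup.map_sup, map_lft hf hp hs (hpZ r hr), map_lft hf hp hs (hpZ _ (Nodes.ClsMap.neg_mem C hr))]
      exact C.z_mem r hr
    obtain ⟨y, hy, hyz⟩ := h1
    exact ⟨y, hy, hyz⟩
  let z : (I → ℤ) → Y := fun r => if hr : r ∈ R then (hex r hr).choose else 1
  have hz : ∀ r (hr : r ∈ R), z r ∈ lft p f (Z' r) ⊔ lft p f (Z' (-r)) ∧ f (z r) = z' r := by
    intro r hr
    simp only [z, dif_pos hr]
    exact (hex r hr).choose_spec
  -- uniqueness in `K_r`
  have huniq : ∀ r ∈ R, ∀ y ∈ lft p f (Z' r) ⊔ lft p f (Z' (-r)), f y = z' r → y = z r := by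
    intro r hr y hy hyz
    have h1 := hinj r hr (y * (z r)⁻¹) (mul_mem hy (inv_mem (hz r hr).1)) (by
      rw [map_mul, map_inv, hyz, (hz r hr).2, mul_inv_cancel])
    exact mul_inv_eq_one.1 h1
  have hRG := rgd_lift hf hp hs C.rgd hn
  have hzT : ∀ r ∈ R, z r ∈ T'.comap f := by
    intro r hr
    rw [Subgroup.mem_comap, (hz r hr).2]
    exact C.z_torus r hr
  have hzsq : ∀ r ∈ R, z r * z r = 1 := by
    intro r hr
    refine hinj r hr _ (mul_mem (hz r hr).1 (hz r hr).1) ?_
    rw [map_mul, (hz r hr).2, C.z_sq r hr]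
  have hzinv : ∀ r ∈ R, (z r)⁻¹ = z r := fun r hr => inv_eq_of_mul_eq_one_right (hzsq r hr)
  refine ⟨z, ?_, fun r hr => (hz r hr).2⟩
  exact {
    rgd := hRG
    root := C.root
    act := C.act
    le := fun r hr => lft_mono p f (C.le r hr)
    ne_bot := fun r hr h0 => C.ne_bot r hr (by
      rw [← map_lft hf hp hs (hpZ r hr)]
      change (lft p f (Z' r)).map f = ⊥
      rw [show lft p f (Z' r) = ⊥ from h0, Subgroup.map_bot])
    conj := fun i r hr => by rw [cj_lft, hn, C.conj i r hr]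
    tor := fun r hr t ht => by rw [cj_lft, C.tor r hr _ ht]
    cent := fun r hr y hy h0 a ha b hb => by
      obtain ⟨ha1, k, hk⟩ := (hmem (hpX y hy)).1 ha
      obtain ⟨hb1, l, hl⟩ := (hmem (hpZ r hr)).1 hb
      have h1 := C.cent r hr y hy h0 _ ha1 _ hb1
      have h2 : a * b * a⁻¹ = b := eq_of_map hf hp (conj_pow_eq hl) hl (by
        rw [map_mul, map_mul, map_inv, h1, mul_assoc, mul_inv_cancel, mul_one])
      rw [mul_inv_eq_iff_eq_mul] at h2
      exact h2
    notp := fun r hr h0 => by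
      apply C.notp r hr
      rw [← map_lft hf hp hs (hpZ r hr), ← map_lft hf hp hs (hpZ _ (Nodes.ClsMap.neg_mem C hr)),
        ← Subgroup.map_sup]
      exact h0.map f
    z_mem := fun r hr => (hz r hr).1
    z_torus := hzT
    z_T := fun r hr t ht => by
      have h1 : t * z r * t⁻¹ ∈ lft p f (Z' r) ⊔ lft p f (Z' (-r)) := by
        have h2 : cj t (lft p f (Z' r) ⊔ lft p f (Z' (-r))) = lft p f (Z' r) ⊔ lft p f (Z' (-r)) := by
          unfold Nodes.Reps.cj
          rw [Subgroup.map_sup]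
          have h3 := cj_lft p f (Z' r) t
          have h4 := cj_lft p f (Z' (-r)) t
          rw [C.tor r hr _ ht] at h3
          rw [C.tor _ (Nodes.ClsMap.neg_mem C hr) _ ht] at h4
          unfold Nodes.Reps.cj at h3 h4
          rw [h3, h4]
        rw [← h2, Nodes.Reps.conj_mem_cj]
        exact (hz r hr).1
      have h2 := huniq r hr _ h1 (by
        rw [map_mul, map_mul, map_inv, (hz r hr).2, ← C.z_T r hr _ ht, mul_assoc, mul_inv_cancel, mul_one])
      rw [mul_inv_eq_iff_eq_mul] at h2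
      exact h2.symm
    z_sq := hzsq
    z_conj := fun i r hr => by
      have hr' := C.act r hr (cs.simple i)
      refine huniq _ hr' _ ?_ ?_
      · have h2 : cj (n i) (lft p f (Z' r) ⊔ lft p f (Z' (-r))) =
            lft p f (Z' (rep cs h (cs.simple i) r)) ⊔ lft p f (Z' (-rep cs h (cs.simple i) r)) := by
          unfold Nodes.Reps.cj
          rw [Subgroup.map_sup]
          have h3 := cj_lft p f (Z' r) (n i)
          have h4 := cj_lft p f (Z' (-r)) (n i)
          rw [hn, C.conj i r hr] at h3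
          rw [hn, C.conj i _ (Nodes.ClsMap.neg_mem C hr), map_neg] at h4
          unfold Nodes.Reps.cj at h3 h4
          rw [h3, h4]
        rw [← h2, Nodes.Reps.conj_mem_cj]
        exact (hz r hr).1
      · rw [map_mul, map_mul, map_inv, hn, (hz r hr).2, C.z_conj i r hr]
    z_neg := fun r hr => by
      have hr' := Nodes.ClsMap.neg_mem C hr
      refine huniq r hr _ ?_ ?_
      · have h1 := (hz _ hr').1
        rwa [neg_neg, sup_comm] at h1
      · rw [(hz _ hr').2, C.z_neg r hr]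
    z_cent := fun r hr b hb => by
      obtain ⟨hb1, l, hl⟩ := (hmem (hpZ r hr)).1 hb
      have h1 := C.z_cent r hr _ hb1
      have h2 : z r * b * (z r)⁻¹ = b := eq_of_map hf hp (conj_pow_eq hl) hl (by
        rw [map_mul, map_mul, map_inv, (hz r hr).2, h1, mul_assoc, mul_inv_cancel, mul_one])
      rw [mul_inv_eq_iff_eq_mul] at h2
      exact h2
    z_inv := fun r hr y hy h1 h2 h3 a ha => by
      obtain ⟨ha1, k, hk⟩ := (hmem (hpX y hy)).1 ha
      have h4 := C.z_inv r hr y hy h1 h2 h3 _ ha1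
      have h5 : z r * a * (z r)⁻¹ = a⁻¹ := eq_of_map hf hp (conj_pow_eq hk) (l := k) (by
        rw [inv_pow, hk, inv_one]) (by
        rw [map_mul, map_mul, map_inv, ← map_inv f (z r), hzinv r hr, (hz r hr).2, h4, map_inv])
      rwa [hzinv r hr] at h5
    z_inv_self := fun r hr a ha => by
      obtain ⟨ha1, k, hk⟩ := (hmem (hpX r (C.root r hr))).1 ha
      have h4 := C.z_inv_self r hr _ ha1
      have h5 : z r * a * z r ∈ lft p f (X' r) := by
        have h6 := hRG.tor r (C.root r hr) (z r) (hzT r hr)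
        have h7 : z r * a * (z r)⁻¹ ∈ cj (z r) (lft p f (X' r)) := Nodes.Reps.conj_mem_cj.2 ha
        rw [h6, hzinv r hr] at h7
        exact h7
      obtain ⟨-, l, hl⟩ := (hmem (hpX r (C.root r hr))).1 (mul_mem h5 ha)
      refine (hmem (hpZ r hr)).2 ⟨?_, l, hl⟩
      rw [map_mul, map_mul, map_mul, (hz r hr).2]
      exact h4 }

end Cfsg.Agent.Nodes.ClsLift
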