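import Mathlib
import Cfsg.Agent.Nodes.RGDLift
import Cfsg.Agent.Nodes.ChartOfCls

/-!
Lifting classical root groups and charts through central extensions of order prime to `p` (project CIT, charts).

* `cls_lift` : the lift of a `Cls`, the involutions are those of the members `⟨Z̃ r, Z̃ (-r)⟩` of `Om`;
* `Chart.lift` : the lift of a chart.
-/

set_option autoImplicit false
set_option linter.unusedSectionVars false

namespace Cfsg.Agent.Nodes.ChartLift

open CoxeterSystem Cfsg.Agent.ChevalleyStructure.CoxeterGeom Cfsg.Agent.Tits.Roots Cfsg.Agent.Tits.Core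
  Cfsg.Agent.Tits.RootComb Cfsg.Agent.Tits.Exchange Cfsg.Agent.Nodes.Comb Cfsg.Agent.Nodes.Reps
  Cfsg.Agent.Nodes.BNOf Cfsg.Agent.Nodes.RGDLib Cfsg.Agent.Nodes.Chart Cfsg.Agent.Nodes.StabComb
  Cfsg.Agent.Nodes.Bruhat Cfsg.Agent.Nodes.OppDec Cfsg.Agent.Nodes.LeviDec Cfsg.Agent.Nodes.NormalForm
  Cfsg.Agent.Nodes.FreeTorus Cfsg.Agent.Nodes.ClsOfPairs Cfsg.Agent.Nodes.SubComb Cfsg.Agent.Nodes.Coroot
  Cfsg.Agent.Nodes.ClsPair Cfsg.Agent.Nodes.ChartOfCls Cfsg.Agent.Nodes.RGDLift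
open Cfsg.Agent.Cit (Hyp zz)
open scoped commutatorElement

variable {Y Y' : Type*} [Group Y] [Finite Y] [Group Y'] {f : Y →* Y'}

/-! ### Members and central kernels -/

/-- the involution of a member is not in a central kernel if the image of the member is a member -/
theorem map_zz_ne_one [Finite Y'] {Om : Set (Subgroup Y)} {Om' : Set (Subgroup Y')} (hyp : Hyp Om) (hyp' : Hyp Om')
    (hf : f.ker ≤ Subgroup.center Y) {K : Subgroup Y} (hK : K ∈ Om) (hK' : K.map f ∈ Om') : f (zz K) ≠ 1 := by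
  intro h0
  obtain ⟨Q, hQ⟩ := Hyp.exists_syl K
  obtain ⟨c, v, n, hc⟩ := hyp.exists_gq hK hQ
  have hcen : ∀ x : Y, f x = 1 → ∀ y, x * y = y * x := fun x hx y =>
    (Subgroup.mem_center_iff.1 (hf hx) y).symm
  have hv1 : f v ≠ 1 := fun h1 => hc.not_comm (hcen v h1 c)
  have hvc1 : f (v * c) ≠ 1 := by
    intro h1
    have h2 := hcen _ h1 c
    have h3 : v * c = c * v := by
      have h4 : v * c * c = c * v * c := by rw [h2, mul_assoc]
      exact mul_right_cancel h4
    exact hc.not_comm h3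
  have hv2 : f v * f v = 1 := by rw [← map_mul, hc.v_sq, h0]
  have hvc2 : f (v * c) * f (v * c) = 1 := by
    have h1 := hc.sq_out 1
    rw [pow_one] at h1
    rw [← map_mul, h1, h0]
  have e1 := hyp'.eq_zz hK' (Subgroup.mem_map_of_mem f (hQ.1 hc.v_mem)) hv2 hv1
  have e2 := hyp'.eq_zz hK' (Subgroup.mem_map_of_mem f (hQ.1 (mul_mem hc.v_mem hc.c_mem))) hvc2 hvc1
  have e3 : f c = 1 := by
    rw [← e1, map_mul] at e2
    exact mul_eq_left.1 e2
  exact hc.not_comm (hcen c e3 v).symm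

/-- a `p`-element commutes with an element if this is so modulo a central kernel of order prime to `p` -/
theorem comm_of_map {p : ℕ} [Fact p.Prime] (hf : f.ker ≤ Subgroup.center Y) (hp : (Nat.card f.ker).Coprime p)
    {a b : Y} (ha : ∃ k : ℕ, a ^ p ^ k = 1) (h : f a * f b = f b * f a) : a * b = b * a := by
  obtain ⟨k, hk⟩ := ha
  set c := a * b * a⁻¹ * b⁻¹ with hc
  have hc1 : f c = 1 := by
    rw [hc, map_mul, map_mul, map_mul, map_inv, map_inv, h]; group
  have hcen : ∀ y, c * y = y * c := fun y => (Subgroup.mem_center_iff.1 (hf hc1) y).symm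
  have h1 : ∀ m : ℕ, a ^ m * b * (a ^ m)⁻¹ = c ^ m * b := by
    intro m
    induction m with
    | zero => simp
    | succ m ih =>
      have h2 : a ^ (m + 1) * b * (a ^ (m + 1))⁻¹ = a * (a ^ m * b * (a ^ m)⁻¹) * a⁻¹ := by
        rw [pow_succ']; group
      have hcm : ∀ y, c ^ m * y = y * c ^ m := fun y => (Commute.pow_left (hcen y) m).eq
      have h3 : a * b * a⁻¹ = c * b := by rw [hc]; group
      rw [h2, ih, ← mul_assoc, ← hcm a, mul_assoc, mul_assoc (c ^ m), ← mul_assoc a b, h3, ← mul_assoc, ← pow_succ]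
  have h2 := h1 (p ^ k)
  rw [hk, one_mul, inv_one, mul_one] at h2
  have h3 : c ^ p ^ k = 1 := by
    have : c ^ p ^ k * b = 1 * b := by rw [← h2, one_mul]
    exact mul_right_cancel this
  have h4 := eq_one_of_ker hp hc1 h3
  rw [hc, mul_inv_eq_one, mul_inv_eq_iff_eq_mul] at h4
  exact h4

/-! ### The lift of classical root groups -/

variable {I W : Type*} [Fintype I] [DecidableEq I] [Group W] [Fintype W] [Finite Y']
  {M : CoxeterMatrix I} {cs : CoxeterSystem M W} {A : I → I → ℤ} {h : IsCartan M A} {p : ℕ}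
  {T' : Subgroup Y'} {n' : I → Y'} {X' : (I → ℤ) → Subgroup Y'} {R : Set (I → ℤ)} {Z' : (I → ℤ) → Subgroup Y'}
  {z' : (I → ℤ) → Y'} {Om : Set (Subgroup Y)} {Om' : Set (Subgroup Y')}

omit [Finite Y'] in
/-- If the involution is trivial then `Z r = X r`. -/
theorem X_le_Z (hp : p.Prime) (hp2 : p ≠ 2) (C : Cls cs h p T' n' X' R Z' z') {r : I → ℤ} (hr : r ∈ R)
    (hz : z' r = 1) : X' r ≤ Z' r := by
  intro b hb
  have h1 := C.z_inv_self r hr b hb
  rw [hz, one_mul, mul_one] at h1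
  obtain ⟨k, hk⟩ := C.rgd.pgrp' (C.root r hr) ⟨b, hb⟩
  have h2 : b ^ p ^ k = 1 := by
    have := congrArg Subtype.val hk
    simpa using this
  have hodd : Odd (p ^ k) := (hp.odd_of_ne_two hp2).pow
  obtain ⟨m, hm⟩ := hodd
  have h3 : (b * b) ^ (m + 1) = b := by
    rw [← pow_two, ← pow_mul]
    have e : 2 * (m + 1) = p ^ k + 1 := by rw [hm]; ring
    rw [e, pow_succ, h2, one_mul]
  rw [← h3]
  exact pow_mem h1 _

/-- **The lift of classical root groups** through a central extension of order prime to `p`. -/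
theorem cls_lift (hp : p.Prime) (hp2 : p ≠ 2) (hf : f.ker ≤ Subgroup.center Y) (hk : (Nat.card f.ker).Coprime p)
    (hs : Function.Surjective f) (C : Cls cs h p T' n' X' R Z' z') {n : I → Y} (hn : ∀ i, f (n i) = n' i)
    (hyp : Hyp Om) (hyp' : Hyp Om') (om : ∀ r ∈ R, KK (fun r => lft p f (Z' r)) r ∈ Om)
    (om' : ∀ r ∈ R, KK Z' r ∈ Om') :
    Cls cs h p (T'.comap f) n (fun x => lft p f (X' x)) R (fun r => lft p f (Z' r))
      (zf (fun r => lft p f (Z' r))) := by
  have : Fact p.Prime := ⟨hp⟩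
  have Rg := rgd_lift hf hk hs C.rgd hn
  have hPX : ∀ x, IsRoot cs h x → IsPGroup p ↥(X' x) := fun x hx => C.rgd.pgrp' hx
  have hPZ : ∀ r ∈ R, IsPGroup p ↥(Z' r) := fun r hr => (hPX r (C.root r hr)).to_le (C.le r hr)
  have hneg : ∀ r ∈ R, -r ∈ R := fun r hr => ClsNorm.neg_mem C hr
  have E : ZSys cs h (T'.comap f) n R (fun r => lft p f (Z' r)) :=
    ⟨C.root, C.act, fun i r hr => by rw [cj_lft, hn, C.conj i r hr], fun r hr t ht => by
      rw [cj_lft, C.tor r hr _ ht]⟩
  have Eq := E.equi hyp om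
  set zt := zf (fun r => lft p f (Z' r)) with hzt
  have hmapK : ∀ r ∈ R, (KK (fun r => lft p f (Z' r)) r).map f = KK Z' r := by
    intro r hr
    unfold KK
    rw [Subgroup.map_sup, map_lft hf hk hs (hPZ r hr), map_lft hf hk hs (hPZ _ (hneg r hr))]
  have hsq : ∀ r ∈ R, zt r * zt r = 1 := fun r hr => hyp.zz_mul (om r hr)
  have hinv : ∀ r ∈ R, (zt r)⁻¹ = zt r := fun r hr => hyp.zz_inv (om r hr)
  have hmem : ∀ r ∈ R, f (zt r) ∈ KK Z' r := by
    intro r hr
    rw [← hmapK r hr]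
    exact Subgroup.mem_map_of_mem f (hyp.zz_mem (om r hr))
  have hne : ∀ r ∈ R, f (zt r) ≠ 1 := fun r hr =>
    map_zz_ne_one hyp hyp' hf (om r hr) (by rw [hmapK r hr]; exact om' r hr)
  have hfz : ∀ r ∈ R, f (zt r) = zz (KK Z' r) := fun r hr =>
    hyp'.eq_zz (om' r hr) (hmem r hr) (by rw [← map_mul, hsq r hr, map_one]) (hne r hr)
  have hzz : ∀ r ∈ R, z' r ≠ 1 → f (zt r) = z' r := fun r hr h1 => by
    rw [hfz r hr, z_eq_zf hyp' C hr (om' r hr) h1]
    rfl
  have hcen : ∀ r ∈ R, ∀ b ∈ Z' r, f (zt r) * b = b * f (zt r) := by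
    intro r hr b hb
    rw [hfz r hr]
    have h1 := hyp'.le_centralizer (om' r hr) (Subgroup.mem_sup_left hb : b ∈ KK Z' r)
    exact (Subgroup.mem_centralizer_singleton_iff.1 h1).symm
  have hT : ∀ r ∈ R, f (zt r) ∈ T' := by
    intro r hr
    by_cases h1 : z' r = 1
    · have hX : ∀ s ∈ R, z' s = 1 → Z' s = X' s := fun s hs h2 =>
        le_antisymm (C.le s hs) (X_le_Z hp hp2 C hs h2)
      have e1 := hX r hr h1
      have e2 := hX (-r) (hneg r hr) (by rw [C.z_neg r hr]; exact h1)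
      have hcj : ∀ s ∈ R, f (zt r) = f (zt s) → cj (f (zt r)) (Z' s) = Z' s := by
        intro s hs h2
        ext x
        rw [mem_cj]
        have hc := hcen s hs
        rw [← h2] at hc
        constructor
        · intro hx
          have h3 := hc _ hx
          have e : x = f (zt r) * ((f (zt r))⁻¹ * x * f (zt r)) * (f (zt r))⁻¹ := by group
          rw [e, h3, mul_inv_cancel_right]
          exact hx
        · intro hx
          rw [mul_assoc, ← hc x hx, inv_mul_cancel_left]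
          exact hx
      refine mem_T_of_normalizes C.rgd (C.root r hr) ?_ ?_ ?_
      · have h2 := hmem r hr
        unfold KK at h2
        unfold LL
        rwa [e1, e2] at h2
      · rw [← e1]; exact hcj r hr rfl
      · rw [← e2]
        refine hcj _ (hneg r hr) ?_
        rw [hfz r hr, hfz _ (hneg r hr), KK_neg]
    · rw [hzz r hr h1]
      exact C.z_torus r hr
  have hnorm : ∀ r ∈ R, ∀ y, IsRoot cs h y → ∀ a ∈ lft p f (X' y), zt r * a * zt r ∈ lft p f (X' y) := by
    intro r hr y hy a ha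
    have h1 := Rg.tor y hy (zt r) (hT r hr)
    have h2 : zt r * a * (zt r)⁻¹ ∈ cj (zt r) (lft p f (X' y)) := conj_mem_cj.2 ha
    rwa [h1, hinv r hr] at h2
  refine
    { rgd := Rg
      root := C.root
      act := C.act
      le := fun r hr => lft_mono p f (C.le r hr)
      ne_bot := ?_
      conj := Eq.conj
      tor := Eq.tor
      cent := ?_
      notp := ?_
      z_mem := fun r hr => hyp.zz_mem (om r hr)
      z_torus := fun r hr => hT r hr
      z_T := Eq.z_T
      z_sq := hsq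
      z_conj := Eq.z_conj
      z_neg := Eq.z_neg
      z_cent := ?_
      z_inv := ?_
      z_inv_self := ?_ }
  · intro r hr h0
    apply C.ne_bot r hr
    rw [← map_lft hf hk hs (hPZ r hr), h0, Subgroup.map_bot]
  · intro r hr y hy h0 a ha b hb
    obtain ⟨h1, h2⟩ := (mem_lft hf (hPX y hy)).1 ha
    exact comm_of_map hf hk h2 (C.cent r hr y hy h0 _ h1 _ ((mem_lft hf (hPZ r hr)).1 hb).1)
  · intro r hr h0
    apply C.notp r hr
    have h1 := h0.map f
    have h2 := hmapK r hr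
    unfold KK at h2
    rwa [h2] at h1
  · intro r hr b hb
    have h1 := hyp.le_centralizer (om r hr) (Subgroup.mem_sup_left hb : b ∈ KK (fun r => lft p f (Z' r)) r)
    exact (Subgroup.mem_centralizer_singleton_iff.1 h1).symm
  · intro r hr y hy h1 h2 h3 a ha
    have h4 := hnorm r hr y hy a ha
    have h5 : f (zt r * a * zt r * a) = 1 := by
      rw [map_mul, map_mul, map_mul, hzz r hr (z_ne_one hp hp2 C hr hy h1 h2 h3),
        C.z_inv r hr y hy h1 h2 h3 _ ((mem_lft hf (hPX y hy)).1 ha).1, inv_mul_cancel]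
    exact eq_inv_of_mul_eq_one_left (eq_one_of_mem_lft hf hk (hPX y hy) (mul_mem h4 ha) h5)
  · intro r hr a ha
    have hy := C.root r hr
    have h4 := mul_mem (hnorm r hr r hy a ha) ha
    obtain ⟨h5, h6⟩ := (mem_lft hf (hPX r hy)).1 h4
    refine (mem_lft hf (hPZ r hr)).2 ⟨?_, h6⟩
    by_cases h1 : z' r = 1
    · exact X_le_Z hp hp2 C hr h1 h5
    · rw [map_mul, map_mul, map_mul, hzz r hr h1]
      exact C.z_inv_self r hr _ ((mem_lft hf (hPX r hy)).1 ha).1

/-! ### Smaller tori -/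

section Shrink

variable {I W Y : Type*} [Fintype I] [DecidableEq I] [Group W] [Fintype W] [Group Y] {M : CoxeterMatrix I}
  {cs : CoxeterSystem M W} {A : I → I → ℤ} {h : IsCartan M A} {p : ℕ} {T : Subgroup Y} {n : I → Y}
  {X : (I → ℤ) → Subgroup Y} {R : Set (I → ℤ)} {Z : (I → ℤ) → Subgroup Y} {z : (I → ℤ) → Y}

/-- The torus may be intersected with a subgroup containing the root groups and the `n i`. -/
theorem rgd_shrink (Rg : RGD cs h p T n X) {L : Subgroup Y} (hX : ∀ x, IsRoot cs h x → X x ≤ L) (hn : ∀ i, n i ∈ L) :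
    RGD cs h p (T ⊓ L) n X where
  nsys := by
    refine ⟨fun i => ?_, fun i j => ⟨Rg.nsys.rel i j, pow_mem (mul_mem (hn i) (hn j)) _⟩⟩
    have h1 := mem_normalizer_iff_cj.1 (Rg.nsys.norm i)
    have h2 : cj (n i) L = L := mem_normalizer_iff_cj.1 (Subgroup.le_normalizer (hn i))
    rw [mem_normalizer_iff_cj, cj_inf, h1, h2]
  conj := Rg.conj
  tor x hx t ht := Rg.tor x hx t (Subgroup.mem_inf.1 ht).1
  comm := Rg.comm
  rk1 i u hu hne := by
    obtain ⟨a, ha, t, ht, b, hb, e⟩ := Rg.rk1 i u hu hne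
    refine ⟨a, ha, t, Subgroup.mem_inf.2 ⟨ht, ?_⟩, b, hb, e⟩
    have h1 : t = a⁻¹ * u * b⁻¹ * (n i)⁻¹ := by rw [e]; group
    rw [h1]
    have hi := isRoot_sr cs h i
    exact mul_mem (mul_mem (mul_mem (inv_mem (hX _ hi ha)) (hX _ hi.neg hu)) (inv_mem (hX _ hi hb)))
      (inv_mem (hn i))
  pgrp := Rg.pgrp
  notp := Rg.notp
  tcop := Nat.Coprime.coprime_dvd_left (Subgroup.card_dvd_of_le inf_le_left) Rg.tcop

theorem cls_shrink (C : Cls cs h p T n X R Z z) {L : Subgroup Y} (hX : ∀ x, IsRoot cs h x → X x ≤ L)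
    (hn : ∀ i, n i ∈ L) : Cls cs h p (T ⊓ L) n X R Z z where
  rgd := rgd_shrink C.rgd hX hn
  root := C.root
  act := C.act
  le := C.le
  ne_bot := C.ne_bot
  conj := C.conj
  tor r hr t ht := C.tor r hr t (Subgroup.mem_inf.1 ht).1
  cent := C.cent
  notp := C.notp
  z_mem := C.z_mem
  z_torus r hr := Subgroup.mem_inf.2 ⟨C.z_torus r hr, (sup_le ((C.le r hr).trans (hX r (C.root r hr)))
    ((C.le _ (ClsNorm.neg_mem C hr)).trans (hX _ (C.root _ (ClsNorm.neg_mem C hr))))) (C.z_mem r hr)⟩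
  z_T r hr t ht := C.z_T r hr t (Subgroup.mem_inf.1 ht).1
  z_sq := C.z_sq
  z_conj := C.z_conj
  z_neg := C.z_neg
  z_cent := C.z_cent
  z_inv := C.z_inv
  z_inv_self := C.z_inv_self

end Shrink

/-! ### `p`-elements over a subgroup -/

omit [Finite Y'] in
theorem mem_of_map {p : ℕ} (hf : f.ker ≤ Subgroup.center Y) (hk : (Nat.card f.ker).Coprime p) {D : Subgroup Y} {x : Y}
    (hx : ∃ k : ℕ, x ^ p ^ k = 1) (h : f x ∈ D.map f) : x ∈ D := by
  obtain ⟨k, hx⟩ := hx
  obtain ⟨d, hd, e⟩ := h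
  -- `x = d a`
  have ha : f (d⁻¹ * x) = 1 := by rw [map_mul, map_inv, e, inv_mul_cancel]
  have hcen : ∀ y, (d⁻¹ * x) * y = y * (d⁻¹ * x) := fun y => (Subgroup.mem_center_iff.1 (hf ha) y).symm
  set N := Nat.card f.ker with hN
  have haN : (d⁻¹ * x) ^ N = 1 := by
    have h3 : (⟨d⁻¹ * x, ha⟩ : f.ker) ^ N = 1 := pow_card_eq_one'
    have := congrArg Subtype.val h3
    rwa [SubgroupClass.coe_pow] at this
  have h1 : x ^ N ∈ D := by
    have h2 : x = d * (d⁻¹ * x) := by group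
    have h3 : Commute d (d⁻¹ * x) := (hcen d).symm
    rw [h2, h3.mul_pow, haN, mul_one]
    exact pow_mem hd _
  have hc : IsCoprime (N : ℤ) ((p ^ k : ℕ) : ℤ) := Nat.isCoprime_iff_coprime.2 (Nat.Coprime.pow_right k hk)
  obtain ⟨u, v, huv⟩ := hc
  have h2 : x = (x ^ N) ^ u * (x ^ p ^ k) ^ v := by
    rw [← zpow_natCast, ← zpow_natCast, ← zpow_mul, ← zpow_mul, ← zpow_add, mul_comm, mul_comm ((p ^ k : ℕ) : ℤ), huv,
      zpow_one]
  rw [h2, hx, one_zpow, mul_one]
  exact zpow_mem h1 u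

omit [Finite Y'] in
theorem lft_le_of_map {p : ℕ} (hf : f.ker ≤ Subgroup.center Y) (hk : (Nat.card f.ker).Coprime p) {D : Subgroup Y}
    {P : Subgroup Y'} (h : P ≤ D.map f) : lft p f P ≤ D := by
  unfold lft
  rw [Subgroup.closure_le]
  rintro y ⟨hy, hk'⟩
  exact mem_of_map hf hk hk' (h hy)

omit [Finite Y'] [Fintype W] in
theorem map_G1_lft [Finite W] [Fact p.Prime] (hf : f.ker ≤ Subgroup.center Y) (hk : (Nat.card f.ker).Coprime p)
    (hs : Function.Surjective f) (Rg : RGD cs h p T' n' X') :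
    (G1 cs h (fun x => lft p f (X' x))).map f = G1 cs h X' := by
  unfold G1 RGD.Sup
  rw [Subgroup.map_iSup]
  exact iSup_congr fun x => map_lft hf hk hs (Rg.pgrp' x.2)

omit [Finite Y'] [Fintype W] in
/-- The lifted root groups generate the group generated by the `p`-elements over `L'`. -/
theorem G1_lft [Finite W] [Fact p.Prime] (hf : f.ker ≤ Subgroup.center Y) (hk : (Nat.card f.ker).Coprime p)
    (hs : Function.Surjective f) (Rg : RGD cs h p T' n' X') :
    G1 cs h (fun x => lft p f (X' x)) = lft p f (G1 cs h X') := by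
  apply le_antisymm
  · exact RGD.Sup_le fun x hx => lft_mono p f (X_le_G1 hx)
  · exact lft_le_of_map hf hk (map_G1_lft hf hk hs Rg).ge

omit [Finite Y'] in
/-- A perfect subgroup mapped onto `L' = f(L)`, `L` generated by `p`-elements, is the group generated by the
`p`-elements over `L'`. -/
theorem eq_lft_of_perfect {p : ℕ} (hf : f.ker ≤ Subgroup.center Y) (hk : (Nat.card f.ker).Coprime p)
    {D : Subgroup Y} {L' : Subgroup Y'} (hD : ⁅D, D⁆ = D) (h1 : D.map f = L') (h2 : (lft p f L').map f = L') :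
    D = lft p f L' := by
  apply le_antisymm
  · -- `D ≤ L A`
    have h3 : D ≤ (lft p f L') ⊔ f.ker := by
      intro x hx
      have h4 : f x ∈ (lft p f L').map f := by rw [h2, ← h1]; exact Subgroup.mem_map_of_mem f hx
      obtain ⟨y, hy, e⟩ := h4
      have h5 : x = y * (y⁻¹ * x) := by group
      rw [h5]
      exact mul_mem (Subgroup.mem_sup_left hy) (Subgroup.mem_sup_right (by
        rw [MonoidHom.mem_ker, map_mul, map_inv, e, inv_mul_cancel]))
    rw [← hD]
    refine (Subgroup.commutator_mono h3 h3).trans ?_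
    rw [Subgroup.commutator_le]
    intro x hx y hy
    have key : ∀ x ∈ (lft p f L') ⊔ f.ker, ∃ u ∈ lft p f L', ∃ a ∈ Subgroup.center Y, x = u * a := by
      intro x hx
      have h0 : x ∈ ((lft p f L' ⊔ f.ker : Subgroup Y) : Set Y) := hx
      rw [Subgroup.mul_normal] at h0
      obtain ⟨u, hu, a, ha, rfl⟩ := h0
      exact ⟨u, hu, a, hf ha, rfl⟩
    obtain ⟨u, hu, a, ha, rfl⟩ := key x hx
    obtain ⟨v, hv, b, hb, rfl⟩ := key y hy
    have ha' := Subgroup.mem_center_iff.1 ha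
    have hb' := Subgroup.mem_center_iff.1 hb
    have h6 : ⁅u * a, v * b⁆ = ⁅u, v⁆ := by
      rw [commutatorElement_def, commutatorElement_def, mul_inv_rev, mul_inv_rev]
      calc u * a * (v * b) * (a⁻¹ * u⁻¹) * (b⁻¹ * v⁻¹) = u * (a * (v * b)) * a⁻¹ * u⁻¹ * b⁻¹ * v⁻¹ := by group
        _ = u * v * b * u⁻¹ * b⁻¹ * v⁻¹ := by rw [← ha' (v * b)]; group
        _ = u * v * (b * u⁻¹) * b⁻¹ * v⁻¹ := by group
        _ = u * v * u⁻¹ * v⁻¹ := by rw [← hb' u⁻¹]; group
    rw [h6, commutatorElement_def]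
    exact mul_mem (mul_mem (mul_mem hu hv) (inv_mem hu)) (inv_mem hv)
  · exact lft_le_of_map hf hk h1.ge

/-! ### The lift of a chart -/

omit [Finite Y'] in
/-- The member over `K_r` is `⟨Z̃ r, Z̃ (-r)⟩`. -/
theorem eq_KK_of_map (hp : p.Prime) (hf : f.ker ≤ Subgroup.center Y) (hk : (Nat.card f.ker).Coprime p)
    (hs : Function.Surjective f) (C : Cls cs h p T' n' X' R Z' z') {r : I → ℤ} (hr : r ∈ R) {K : Subgroup Y}
    (hK : K ⊓ f.ker = ⊥) (h1 : K.map f = KK Z' r) : K = KK (fun r => lft p f (Z' r)) r := by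
  have : Fact p.Prime := ⟨hp⟩
  have hPZ : ∀ r ∈ R, IsPGroup p ↥(Z' r) := fun r hr => (C.rgd.pgrp' (C.root r hr)).to_le (C.le r hr)
  have hle : KK (fun r => lft p f (Z' r)) r ≤ K :=
    sup_le (lft_le_of_map hf hk (le_sup_left.trans h1.ge)) (lft_le_of_map hf hk (le_sup_right.trans h1.ge))
  refine le_antisymm (fun x hx => ?_) hle
  have h2 : (KK (fun r => lft p f (Z' r)) r).map f = KK Z' r := by
    unfold KK
    rw [Subgroup.map_sup, map_lft hf hk hs (hPZ r hr), map_lft hf hk hs (hPZ _ (ClsNorm.neg_mem C hr))]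
  have h3 : f x ∈ (KK (fun r => lft p f (Z' r)) r).map f := by
    rw [h2, ← h1]; exact Subgroup.mem_map_of_mem f hx
  obtain ⟨y, hy, e⟩ := h3
  have h4 : y⁻¹ * x ∈ K ⊓ f.ker := by
    refine Subgroup.mem_inf.2 ⟨mul_mem (inv_mem (hle hy)) hx, ?_⟩
    rw [MonoidHom.mem_ker, map_mul, map_inv, e, inv_mul_cancel]
  rw [hK, Subgroup.mem_bot, inv_mul_eq_one] at h4
  rw [← h4]; exact hy

/-- members meet a central 2-group trivially -/
theorem inf_ker_of_two (hyp : Hyp Om) (hyp' : Hyp Om') (hf : f.ker ≤ Subgroup.center Y) (h2 : IsPGroup 2 f.ker)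
    {K : Subgroup Y} (hK : K ∈ Om) (hK' : K.map f ∈ Om') : K ⊓ f.ker = ⊥ := by
  by_contra hne
  have : Fact (Nat.Prime 2) := ⟨Nat.prime_two⟩
  have h3 : IsPGroup 2 ↥(K ⊓ f.ker) := h2.to_le inf_le_right
  have h4 : Nontrivial ↥(K ⊓ f.ker) := (Subgroup.nontrivial_iff_ne_bot _).2 hne
  obtain ⟨m, hm⟩ := h3.exists_card_eq
  have hm0 : m ≠ 0 := by
    rintro rfl
    rw [pow_zero] at hm
    exact not_nontrivial_iff_subsingleton.2 (Nat.card_eq_one_iff_unique.1 hm).1 h4
  obtain ⟨⟨x, hx⟩, ho⟩ := exists_prime_orderOf_dvd_card' (G := ↥(K ⊓ f.ker)) 2 (by rw [hm]; exact dvd_pow_self 2 hm0)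
  have ho' : orderOf x = 2 := by
    rw [← ho]
    exact Subgroup.orderOf_coe (⟨x, hx⟩ : ↥(K ⊓ f.ker))
  obtain ⟨h5, h6⟩ := Subgroup.mem_inf.1 hx
  have h7 := hyp.uniq K hK x h5 ho'
  exact map_zz_ne_one hyp hyp' hf hK hK' (by rw [← h7]; exact h6)

/-- members of odd core `1` meet a central subgroup of odd order trivially -/
theorem inf_ker_of_odd (hf : f.ker ≤ Subgroup.center Y) (h2 : ¬ 2 ∣ Nat.card f.ker) {K : Subgroup Y}
    (hK : Cit.OO K = ⊥) : K ⊓ f.ker = ⊥ := by
  rw [eq_bot_iff, ← hK]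
  refine Cit.le_OO inf_le_left ?_ (fun h3 => h2 (h3.trans (Subgroup.card_dvd_of_le inf_le_right)))
  intro g hg
  rw [mem_normalizer_iff_cj]
  ext x
  rw [mem_cj]
  have hc : ∀ x ∈ f.ker, ∀ g : Y, g⁻¹ * x * g = x := fun x hx g => by
    rw [mul_assoc, ← Subgroup.mem_center_iff.1 (hf hx) g, inv_mul_cancel_left]
  constructor
  · intro hx
    have h4 := hc _ (Subgroup.mem_inf.1 hx).2 g⁻¹
    rw [inv_inv] at h4
    have e : g * (g⁻¹ * x * g) * g⁻¹ = x := by group
    rw [e] at h4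
    rw [h4]; exact hx
  · intro hx
    rw [hc _ (Subgroup.mem_inf.1 hx).2 g]; exact hx

section Def

variable {G G' : Type*} [Group G] [Finite G] [Group G'] [Finite G'] {f : G →* G'} {p : ℕ} {Om : Set (Subgroup G)}
  {Om' : Set (Subgroup G')} {L' : Subgroup G'}

theorem Chart.n_mem (c : Chart Om' p L') (i : c.I) : c.n i ∈ L' := by
  have h1 : c.n i ∈ GG c.cs c.h c.T c.X := NN_le_GG c.cls.rgd ⟨_, rp_simple c.cs c.cls.rgd.nsys i⟩
  have h2 : GG c.cs c.h c.T c.X ≤ L' := sup_le c.T_le c.gen.le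
  exact h2 h1

theorem Chart.map_lft (c : Chart Om' p L') (hf : f.ker ≤ Subgroup.center G) (hk : (Nat.card f.ker).Coprime p)
    (hs : Function.Surjective f) : (lft p f L').map f = L' := by
  have : Fact p.Prime := ⟨c.prime⟩
  have h1 := G1_lft hf hk hs c.cls.rgd
  rw [c.gen] at h1
  rw [← h1, map_G1_lft hf hk hs c.cls.rgd, c.gen]

theorem Chart.exists_n (c : Chart Om' p L') (hf : f.ker ≤ Subgroup.center G) (hk : (Nat.card f.ker).Coprime p)
    (hs : Function.Surjective f) (i : c.I) : ∃ g ∈ lft p f L', f g = c.n i := by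
  have h1 : c.n i ∈ (lft p f L').map f := by rw [Chart.map_lft c hf hk hs]; exact Chart.n_mem c i
  exact h1

/-- **The lift of a chart** through a central extension of order prime to `p`.  The new group is the group generated
by the `p`-elements over `L'` (= the perfect group over `L'`, `eq_lft_of_perfect`). -/
noncomputable def Chart.lift (c : Chart Om' p L') (hf : f.ker ≤ Subgroup.center G) (hk : (Nat.card f.ker).Coprime p)
    (hs : Function.Surjective f) (hyp : Hyp Om) (hyp' : Hyp Om') (h1 : ∀ K ∈ Om, K.map f ∈ Om')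
    (h2 : ∀ K' ∈ Om', ∃ K ∈ Om, K.map f = K') (hint : ∀ K ∈ Om, K ⊓ f.ker = ⊥) : Chart Om p (lft p f L') :=
  have : Fact p.Prime := ⟨c.prime⟩
  have hG1 : G1 c.cs c.h (fun x => lft p f (c.X x)) = lft p f L' := by
    rw [G1_lft hf hk hs c.cls.rgd, c.gen]
  have hom : ∀ r ∈ c.R, KK (fun r => lft p f (c.Z r)) r ∈ Om := fun r hr => by
    obtain ⟨K, hK, e⟩ := h2 _ (c.om r hr)
    rw [← eq_KK_of_map c.prime hf hk hs c.cls hr (hint K hK) e]
    exact hK
  let n : c.I → G := fun i => (Chart.exists_n c hf hk hs i).choose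
  have hn : ∀ i, n i ∈ lft p f L' ∧ f (n i) = c.n i := fun i => (Chart.exists_n c hf hk hs i).choose_spec
  have hcls : Cls c.cs c.h p (c.T.comap f) n (fun x => lft p f (c.X x)) c.R (fun r => lft p f (c.Z r))
      (zf (fun r => lft p f (c.Z r))) :=
    cls_lift c.prime c.odd hf hk hs c.cls (fun i => (hn i).2) hyp hyp' hom c.om
  have hX : ∀ x, IsRoot c.cs c.h x → lft p f (c.X x) ≤ lft p f L' := fun x hx => by
    rw [← hG1]
    exact X_le_G1 (cs := c.cs) (h := c.h) (X := fun x => lft p f (c.X x)) hx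
  { prime := c.prime
    odd := c.odd
    I := c.I
    W := c.W
    M := c.M
    cs := c.cs
    A := c.A
    h := c.h
    T := c.T.comap f ⊓ lft p f L'
    n := n
    X := fun x => lft p f (c.X x)
    R := c.R
    Z := fun r => lft p f (c.Z r)
    z := zf (fun r => lft p f (c.Z r))
    cls := cls_shrink hcls hX (fun i => (hn i).1)
    irr := c.irr
    ne := c.ne
    T_le := inf_le_right
    gen := hG1
    trans := c.trans
    Rne := c.Rne
    om := hom
    om_conj := by
      intro K hK hKL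
      have h3 : K.map f ≤ L' := by
        rw [← Chart.map_lft c hf hk hs]; exact Subgroup.map_mono hKL
      obtain ⟨r, hr, g', hg', e⟩ := c.om_conj _ (h1 K hK) h3
      rw [← Chart.map_lft c hf hk hs] at hg'
      obtain ⟨g, hg, rfl⟩ := hg'
      refine ⟨r, hr, g, hg, ?_⟩
      have h4 : (Cit.cj g⁻¹ K).map f = KK c.Z r := by
        rw [Cit.cj_map, e, map_inv]
        exact cj_inv_cj (f g) (KK c.Z r)
      have h5 := eq_KK_of_map c.prime hf hk hs c.cls hr (hint _ (hyp.conj K hK g⁻¹)) h4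
      change K = Cit.cj g (KK (fun r => lft p f (c.Z r)) r)
      rw [← h5, Cit.cj_cj_inv] }

end Def

end Cfsg.Agent.Nodes.ChartLift
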