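import Mathlib
import Cfsg.Agent.Nodes.RootsA
import Cfsg.Agent.Nodes.RGDLib
import Cfsg.Agent.TitsThree.KSideA

/-!
The root group datum of type `A_n` of `SL_{n+1}(F)` and `PSL_{n+1}(F)` (project CIT, charts).

* `XX a b` : the root group `{1 + t E_ab}`; `X x` : the same group with the label `x = rtA a b`;
* `T` : the diagonal matrices of determinant one; `nn i` : the standard `n`-elements;
* `Mono σ g` : `g` is monomial with permutation `σ`, `cj_XX`;
* `rgd` : the root group datum in `SL_{n+1}(F)`; `rgd_psl` in `PSL_{n+1}(F)`;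
* `G1_eq_top`, `G1_psl_eq_top` : the root groups generate.
-/

set_option autoImplicit false
set_option linter.unusedSectionVars false

namespace Cfsg.Agent.Nodes.RGDTypeA

open Matrix CoxeterSystem Cfsg.Agent.ChevalleyStructure.CoxeterGeom Cfsg.Agent.Tits.Roots
open Cfsg.Agent.Nodes.Reps Cfsg.Agent.Nodes.BNOf Cfsg.Agent.Nodes.RGDLib Cfsg.Agent.Nodes.RootsA
open Cfsg.Agent.LieRecognition.BNCox (cA)
open Cfsg.Agent.LieClassical.SLGen
open Cfsg.Agent.TitsThree.KSideA (tv tv_of_ne tv_add tv_zero tv_neg tv_comm tv_commute diag2n_eq)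
open scoped commutatorElement

section Mat

variable {ι F : Type*} [Field F] [DecidableEq ι] [Fintype ι]

theorem tv_val {a b : ι} (hab : a ≠ b) (t : F) :
    (tv a b t).1 = 1 + single a b t := by
  rw [tv_of_ne hab]
  rfl

theorem tv_inj {a b : ι} (hab : a ≠ b) {s t : F} (e : tv a b s = tv a b t) : s = t := by
  have h1 := congrArg (fun g : SpecialLinearGroup ι F => g.1 a b) e
  simpa [tv_val hab, Matrix.one_apply_ne hab] using h1

/-- The root group `{1 + t E_ab}`. -/
def XX (F : Type*) [Field F] (a b : ι) : Subgroup (SpecialLinearGroup ι F) where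
  carrier := Set.range (tv a b)
  mul_mem' := by
    rintro _ _ ⟨s, rfl⟩ ⟨t, rfl⟩
    exact ⟨s + t, tv_add a b s t⟩
  one_mem' := ⟨0, tv_zero a b⟩
  inv_mem' := by
    rintro _ ⟨s, rfl⟩
    exact ⟨-s, tv_neg a b s⟩

theorem mem_XX {a b : ι} {g : SpecialLinearGroup ι F} : g ∈ XX F a b ↔ ∃ t : F, tv a b t = g := Iff.rfl

theorem tv_mem_XX (a b : ι) (t : F) : tv a b t ∈ XX F a b := ⟨t, rfl⟩

theorem tv_pow (a b : ι) (t : F) (k : ℕ) : tv a b t ^ k = tv a b (k • t) := by
  induction k with
  | zero => rw [pow_zero, zero_smul, tv_zero]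
  | succ k ih => rw [pow_succ, ih, succ_nsmul, tv_add]

theorem isPGroup_XX {p : ℕ} [CharP F p] (a b : ι) : IsPGroup p (XX F a b) := by
  rintro ⟨_, t, rfl⟩
  refine ⟨1, ?_⟩
  apply Subtype.ext
  change tv a b t ^ p ^ 1 = 1
  rw [pow_one, tv_pow, nsmul_eq_mul, CharP.cast_eq_zero, zero_mul, tv_zero]

/-- `g` is monomial with permutation `σ`. -/
def Mono (σ : Equiv.Perm ι) (g : SpecialLinearGroup ι F) : Prop := ∀ a b, g.1 a b ≠ 0 → a = σ b

theorem mono_one : Mono (1 : Equiv.Perm ι) (1 : SpecialLinearGroup ι F) := by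
  intro a b h
  by_contra hab
  exact h (Matrix.one_apply_ne hab)

theorem Mono.mul {σ τ : Equiv.Perm ι} {g k : SpecialLinearGroup ι F} (hg : Mono σ g) (hk : Mono τ k) :
    Mono (σ * τ) (g * k) := by
  intro a b h
  have h1 : ∑ c, g.1 a c * k.1 c b ≠ 0 := h
  obtain ⟨c, _, hc⟩ := Finset.exists_ne_zero_of_sum_ne_zero h1
  rw [hg a c (left_ne_zero_of_mul hc), hk c b (right_ne_zero_of_mul hc)]
  rfl

theorem Mono.pow {σ : Equiv.Perm ι} {g : SpecialLinearGroup ι F} (hg : Mono σ g) (k : ℕ) :
    Mono (σ ^ k) (g ^ k) := by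
  induction k with
  | zero => exact mono_one
  | succ k ih => rw [pow_succ, pow_succ]; exact ih.mul hg

/-- The inverse on the left. -/
theorem Mono.inv_mul_apply {σ : Equiv.Perm ι} {g : SpecialLinearGroup ι F} (hg : Mono σ g) (a b : ι) :
    (g⁻¹).1 a (σ b) * g.1 (σ b) b = if a = b then 1 else 0 := by
  have h1 : ∑ c, (g⁻¹).1 a c * g.1 c b = if a = b then 1 else 0 := by
    have h2 := congrArg (fun k : SpecialLinearGroup ι F => k.1 a b) (inv_mul_cancel g)
    rw [← Matrix.one_apply]
    exact h2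
  rw [← h1, Finset.sum_eq_single (σ b)]
  · intro c _ hc
    by_contra h2
    exact hc (hg c b (right_ne_zero_of_mul h2))
  · intro h2
    exact absurd (Finset.mem_univ _) h2

theorem Mono.apply_ne_zero {σ : Equiv.Perm ι} {g : SpecialLinearGroup ι F} (hg : Mono σ g) (b : ι) :
    g.1 (σ b) b ≠ 0 := by
  intro h
  have := hg.inv_mul_apply b b
  rw [h, mul_zero, if_pos rfl] at this
  exact zero_ne_one this

theorem Mono.inv_apply {σ : Equiv.Perm ι} {g : SpecialLinearGroup ι F} (hg : Mono σ g) (b : ι) :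
    (g⁻¹).1 b (σ b) = (g.1 (σ b) b)⁻¹ := by
  have := hg.inv_mul_apply b b
  rw [if_pos rfl] at this
  exact eq_inv_of_mul_eq_one_left this

theorem perm_apply_inv (σ : Equiv.Perm ι) (b : ι) : σ (σ⁻¹ b) = b := σ.apply_symm_apply b

theorem Mono.inv {σ : Equiv.Perm ι} {g : SpecialLinearGroup ι F} (hg : Mono σ g) : Mono σ⁻¹ g⁻¹ := by
  intro a b h
  have h1 := hg.inv_mul_apply a (σ⁻¹ b)
  rw [perm_apply_inv] at h1
  by_contra hab
  rw [if_neg hab] at h1
  have h2 := hg.apply_ne_zero (σ⁻¹ b)
  rw [perm_apply_inv] at h2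
  exact (mul_ne_zero h h2) h1

/-- Conjugation of a root element by a monomial matrix. -/
theorem Mono.conj_tv {σ : Equiv.Perm ι} {g : SpecialLinearGroup ι F} (hg : Mono σ g) {a b : ι} (hab : a ≠ b)
    (t : F) : g * tv a b t * g⁻¹ = tv (σ a) (σ b) (g.1 (σ a) a * t * (g.1 (σ b) b)⁻¹) := by
  have hab' : σ a ≠ σ b := fun e => hab (σ.injective e)
  apply Subtype.ext
  change g.1 * (tv a b t).1 * (g⁻¹).1 = _
  rw [tv_val hab, tv_val hab', mul_add, mul_one, add_mul]
  congr 1
  · exact congrArg Subtype.val (mul_inv_cancel g)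
  · ext i j
    rw [Matrix.mul_apply, Finset.sum_eq_single b]
    · rw [Matrix.mul_single_apply_same, Matrix.single_apply]
      by_cases h1 : σ a = i
      · by_cases h2 : σ b = j
        · subst h1 h2
          rw [if_pos ⟨rfl, rfl⟩, hg.inv_apply]
        · rw [if_neg (fun h => h2 h.2)]
          have h3 : (g⁻¹).1 b j = 0 := by
            by_contra h3
            have := hg.inv b j h3
            rw [this, perm_apply_inv] at h2
            exact h2 rfl
          rw [h3, mul_zero]
      · rw [if_neg (fun h => h1 h.1)]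
        have h3 : g.1 i a = 0 := by
          by_contra h3
          exact h1 (hg i a h3).symm
        rw [h3, zero_mul, zero_mul]
    · intro c _ hc
      rw [Matrix.mul_single_apply_of_ne _ _ _ _ _ hc, zero_mul]
    · intro h2
      exact absurd (Finset.mem_univ _) h2

theorem Mono.cj_XX {σ : Equiv.Perm ι} {g : SpecialLinearGroup ι F} (hg : Mono σ g) {a b : ι} (hab : a ≠ b) :
    cj g (XX F a b) = XX F (σ a) (σ b) := by
  ext x
  rw [mem_cj]
  constructor
  · rintro ⟨t, ht⟩
    refine ⟨g.1 (σ a) a * t * (g.1 (σ b) b)⁻¹, ?_⟩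
    rw [← hg.conj_tv hab, ht]
    group
  · rintro ⟨t, rfl⟩
    have h1 := hg.conj_tv hab ((g.1 (σ a) a)⁻¹ * t * g.1 (σ b) b)
    have h2 : g.1 (σ a) a * ((g.1 (σ a) a)⁻¹ * t * g.1 (σ b) b) * (g.1 (σ b) b)⁻¹ = t := by
      have := hg.apply_ne_zero a
      have := hg.apply_ne_zero b
      field_simp
    rw [h2] at h1
    rw [← h1]
    refine ⟨(g.1 (σ a) a)⁻¹ * t * g.1 (σ b) b, ?_⟩
    group

/-- The diagonal matrices of determinant one. -/
def T (ι F : Type*) [Field F] [DecidableEq ι] [Fintype ι] : Subgroup (SpecialLinearGroup ι F) where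
  carrier := {g | Mono 1 g}
  mul_mem' := by
    intro g k hg hk
    have := hg.mul hk
    rwa [mul_one] at this
  one_mem' := mono_one
  inv_mem' := by
    intro g hg
    have := Mono.inv hg
    rwa [inv_one] at this

theorem mem_T {g : SpecialLinearGroup ι F} : g ∈ T ι F ↔ Mono 1 g := Iff.rfl

theorem Mono.mem_normalizer {σ : Equiv.Perm ι} {g : SpecialLinearGroup ι F} (hg : Mono σ g) :
    g ∈ Subgroup.normalizer (T ι F : Set (SpecialLinearGroup ι F)) := by
  rw [Subgroup.mem_normalizer_iff]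
  intro t
  constructor
  · intro ht
    have h1 := (hg.mul (mem_T.1 ht)).mul hg.inv
    rwa [mul_one, mul_inv_cancel] at h1
  · intro ht
    have h1 := (hg.inv.mul (mem_T.1 ht)).mul hg
    rw [mul_one, inv_mul_cancel] at h1
    have h2 : g⁻¹ * (g * t * g⁻¹) * g = t := by group
    rwa [h2] at h1

/-- The element `x_ab(t) x_ba(-t⁻¹) x_ab(t)`. -/
noncomputable def nn (a b : ι) (t : F) : SpecialLinearGroup ι F := tv a b t * tv b a (-t⁻¹) * tv a b t

theorem nn_smul {a b : ι} (hab : a ≠ b) {t : F} (ht : t ≠ 0) (v : ι → F) (l : ι) :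
    (nn a b t • v) l = if l = a then t * v b else if l = b then - t⁻¹ * v a else v l := by
  unfold nn
  rw [tv_of_ne hab, tv_of_ne hab.symm]
  simp only [mul_smul, transvection_smul]
  by_cases hl : l = a
  · subst hl
    simp [hab, hab.symm]
    field_simp
    ring
  · by_cases hl' : l = b
    · subst hl'
      simp [hab, hab.symm]
      field_simp
      ring
    · simp [hl, hl']

theorem apply_eq_smul (g : SpecialLinearGroup ι F) (a b : ι) : g.1 a b = (g • (Pi.single b 1 : ι → F)) a := by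
  rw [Matrix.SpecialLinearGroup.smul_def]
  change g.1 a b = (g.1 *ᵥ Pi.single b 1) a
  rw [Matrix.mulVec_single_one]
  rfl

theorem mono_nn {a b : ι} (hab : a ≠ b) {t : F} (ht : t ≠ 0) : Mono (Equiv.swap a b) (nn a b t) := by
  intro c d h
  rw [apply_eq_smul, nn_smul hab ht] at h
  by_cases h1 : c = a
  · subst h1
    rw [if_pos rfl, Pi.single_apply] at h
    by_cases h2 : b = d
    · subst h2
      rw [Equiv.swap_apply_right]
    · rw [if_neg h2, mul_zero] at h
      exact absurd rfl h
  · rw [if_neg h1] at h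
    by_cases h2 : c = b
    · subst h2
      rw [if_pos rfl, Pi.single_apply] at h
      by_cases h3 : a = d
      · subst h3
        rw [Equiv.swap_apply_left]
      · rw [if_neg h3, mul_zero] at h
        exact absurd rfl h
    · rw [if_neg h2, Pi.single_apply] at h
      by_cases h3 : c = d
      · subst h3
        rw [Equiv.swap_apply_of_ne_of_ne h1 h2]
      · rw [if_neg h3] at h
        exact absurd rfl h

theorem diag_mem_T {a b : ι} (hab : a ≠ b) {t : F} (ht : t ≠ 0) :
    SpecialLinearGroup.diag2n hab t ht ∈ T ι F := by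
  rw [mem_T]
  intro c d h
  by_contra hcd
  exact h (Matrix.diagonal_apply_ne _ hcd)

theorem nn_eq {a b : ι} (hab : a ≠ b) {t : F} (ht : t ≠ 0) :
    nn a b t = SpecialLinearGroup.diag2n hab t ht * nn a b 1 := by
  rw [diag2n_eq hab t ht, nn, nn, inv_one]
  group

theorem tv_opp_eq {a b : ι} (hab : a ≠ b) {s : F} (hs : s ≠ 0) :
    tv b a s = tv a b s⁻¹ * SpecialLinearGroup.diag2n hab (-s⁻¹) (neg_ne_zero.2 (inv_ne_zero hs)) *
      nn a b 1 * tv a b s⁻¹ := by
  rw [mul_assoc (tv a b s⁻¹), ← nn_eq hab, nn, neg_inv_eq_inv_neg_aux, tv_neg]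
  group
  where neg_inv_eq_inv_neg_aux : -(-s⁻¹)⁻¹ = s := by rw [inv_neg, neg_neg, inv_inv]

/-- The group generated by two opposite root groups is not a `p`-group. -/
theorem not_isPGroup {p : ℕ} [hp : Fact p.Prime] [CharP F p] {a b : ι} (hab : a ≠ b) :
    ¬ IsPGroup p ↥(XX F a b ⊔ XX F b a) := by
  intro hP
  let g : SpecialLinearGroup ι F := tv a b 1 * tv b a (-1)
  have hg : g ∈ XX F a b ⊔ XX F b a :=
    mul_mem ((le_sup_left : XX F a b ≤ _) (tv_mem_XX a b 1)) ((le_sup_right : XX F b a ≤ _) (tv_mem_XX b a (-1)))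
  have hgs : ∀ (v : ι → F) (l : ι), (g • v) l = if l = a then v b else if l = b then v b - v a else v l := by
    intro v l
    change ((tv a b 1 * tv b a (-1)) • v) l = _
    rw [tv_of_ne hab, tv_of_ne hab.symm]
    simp only [mul_smul, transvection_smul]
    by_cases hl : l = a
    · subst hl
      simp [hab, hab.symm]
    · by_cases hl' : l = b
      · subst hl'
        simp [hab, hab.symm]
        ring
      · simp [hl, hl']
  have h2 : ∀ (v : ι → F) (l : ι), (g ^ 2 • v) l = if l = a then v b - v a else if l = b then - v a else v l := by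
    intro v l
    rw [pow_two, mul_smul]
    simp only [hgs, hab, hab.symm, if_true, if_false]
    split_ifs <;> ring
  have h3 : ∀ (v : ι → F) (l : ι), (g ^ 3 • v) l = if l = a then - v a else if l = b then - v b else v l := by
    intro v l
    rw [pow_succ, mul_smul]
    simp only [h2, hgs, hab, hab.symm, if_true, if_false]
    split_ifs <;> ring
  have h6 : g ^ 6 = 1 := by
    have : (6 : ℕ) = 3 * 2 := rfl
    apply smul_ext
    intro v
    rw [this, pow_mul, pow_two, mul_smul, one_smul]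
    ext l
    simp only [h3, hab, hab.symm, if_true, if_false]
    by_cases hl : l = a
    · subst hl; simp
    · by_cases hl' : l = b
      · subst hl'; simp [hab.symm]
      · simp [hl, hl']
  obtain ⟨k, hk⟩ := hP ⟨g, hg⟩
  have hk' : g ^ p ^ k = 1 := congrArg Subtype.val hk
  have hd : orderOf g ∣ Nat.gcd (p ^ k) 6 := Nat.dvd_gcd (orderOf_dvd_of_pow_eq_one hk') (orderOf_dvd_of_pow_eq_one h6)
  have ev : ∀ (v : ι → F) (l : ι), ((1 : SpecialLinearGroup ι F) • v) l = v l := fun v l => by rw [one_smul]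
  by_cases hp2 : p = 2
  · subst hp2
    have h4 : Nat.gcd (2 ^ k) 6 ∣ 2 := by
      have h7 : Nat.Coprime (2 ^ k) 3 := Nat.Coprime.pow_left k (by norm_num)
      exact (Nat.Coprime.dvd_of_dvd_mul_right (Nat.Coprime.coprime_dvd_left (Nat.gcd_dvd_left _ _) h7)
        (show Nat.gcd (2 ^ k) 6 ∣ 2 * 3 from Nat.gcd_dvd_right _ _))
    have h5 : g ^ 2 = 1 := orderOf_dvd_iff_pow_eq_one.1 (hd.trans h4)
    have h7 := h2 (Pi.single b 1) a
    rw [h5, ev, if_pos rfl] at h7
    simp [hab, hab.symm] at h7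
  · by_cases hp3 : p = 3
    · subst hp3
      have h4 : Nat.gcd (3 ^ k) 6 ∣ 3 := by
        have h7 : Nat.Coprime (3 ^ k) 2 := Nat.Coprime.pow_left k (by norm_num)
        exact (Nat.Coprime.dvd_of_dvd_mul_right (Nat.Coprime.coprime_dvd_left (Nat.gcd_dvd_left _ _) h7)
          (show Nat.gcd (3 ^ k) 6 ∣ 3 * 2 from Nat.gcd_dvd_right _ _))
      have h5 : g ^ 3 = 1 := orderOf_dvd_iff_pow_eq_one.1 (hd.trans h4)
      have h7 := h3 (Pi.single a 1) a
      rw [h5, ev, if_pos rfl, Pi.single_eq_same] at h7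
      have h8 : (2 : F) = 0 := by linear_combination h7
      have h9 : ((2 : ℕ) : F) = 0 := by exact_mod_cast h8
      rw [CharP.cast_eq_zero_iff F 3] at h9
      omega
    · have h4 : Nat.Coprime (p ^ k) 6 := by
        apply Nat.Coprime.pow_left
        rw [Nat.coprime_comm]
        have h5 : (6 : ℕ) = 2 * 3 := rfl
        rw [h5]
        apply Nat.Coprime.mul_left
        · exact (Nat.coprime_primes Nat.prime_two hp.out).2 (Ne.symm hp2)
        · exact (Nat.coprime_primes Nat.prime_three hp.out).2 (Ne.symm hp3)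
      rw [h4] at hd
      have h5 : g = 1 := orderOf_eq_one_iff.1 (Nat.dvd_one.1 hd)
      have h7 := hgs (Pi.single b 1) a
      rw [h5, ev, if_pos rfl] at h7
      simp [hab, hab.symm] at h7

/-- The order of the torus is prime to the characteristic. -/
theorem card_T_coprime [Finite F] {p : ℕ} [hp : Fact p.Prime] [CharP F p] : (Nat.card (T ι F)).Coprime p := by
  rw [Nat.coprime_comm, Nat.Prime.coprime_iff_not_dvd hp.out]
  intro hd
  obtain ⟨⟨t, ht⟩, ho⟩ := exists_prime_orderOf_dvd_card' p hd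
  have h1 : t ^ p = 1 := by
    have := pow_orderOf_eq_one (⟨t, ht⟩ : T ι F)
    rw [ho] at this
    exact congrArg Subtype.val this
  have h2 : ∀ (k : ℕ) (a b : ι), (t ^ k).1 a b = if a = b then t.1 a b ^ k else 0 := by
    intro k
    induction k with
    | zero =>
      intro a b
      rw [pow_zero, pow_zero, ← Matrix.one_apply]
      rfl
    | succ k ih =>
      intro a b
      rw [pow_succ]
      change ((t ^ k).1 * t.1) a b = _
      rw [Matrix.mul_apply, Finset.sum_eq_single a]
      · rw [ih, if_pos rfl]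
        by_cases hab : a = b
        · subst hab
          rw [if_pos rfl, pow_succ]
        · rw [if_neg hab]
          have : t.1 a b = 0 := by
            by_contra h0
            exact hab (mem_T.1 ht a b h0)
          rw [this, mul_zero]
      · intro c _ hc
        rw [ih, if_neg hc.symm, zero_mul]
      · intro h0
        exact absurd (Finset.mem_univ _) h0
  have h3 : t = 1 := by
    apply Subtype.ext
    ext a b
    change t.1 a b = (1 : Matrix ι ι F) a b
    rw [Matrix.one_apply]
    by_cases hab : a = b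
    · subst hab
      rw [if_pos rfl]
      have h4 := h2 p a a
      rw [h1, if_pos rfl] at h4
      have h5 : (t.1 a a) ^ p = 1 := by
        rw [← h4]
        exact Matrix.one_apply_eq a
      have h6 : (t.1 a a - 1) ^ p = 0 := by
        rw [sub_pow_char, h5, one_pow, sub_self]
      exact sub_eq_zero.1 (pow_eq_zero_iff hp.out.ne_zero |>.1 h6)
    · rw [if_neg hab]
      by_contra h0
      exact hab (mem_T.1 ht a b h0)
  subst h3
  have h4 : orderOf (⟨1, ht⟩ : T ι F) = 1 := orderOf_eq_one_iff.2 rfl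
  rw [h4] at ho
  exact hp.out.one_lt.ne ho

end Mat

section Group

variable {n : ℕ} {F : Type*} [Field F]

/-- The root group with label `x`. -/
def X (F : Type*) [Field F] (x : Fin n → ℤ) : Subgroup (SpecialLinearGroup (Fin (n + 1)) F) :=
  ⨆ z : {z : Fin (n + 1) × Fin (n + 1) // z.1 ≠ z.2 ∧ rtA z.1 z.2 = x}, XX F z.1.1 z.1.2

theorem X_rtA {a b : Fin (n + 1)} (hab : a ≠ b) : X F (rtA a b) = XX F a b := by
  apply le_antisymm
  · refine iSup_le ?_
    rintro ⟨⟨c, d⟩, hcd, he⟩
    obtain ⟨rfl, rfl⟩ := rtA_inj hcd he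
    exact le_rfl
  · exact le_iSup (fun z : {z : Fin (n + 1) × Fin (n + 1) // z.1 ≠ z.2 ∧ rtA z.1 z.2 = rtA a b} =>
      XX F z.1.1 z.1.2) ⟨(a, b), hab, rfl⟩

theorem X_sr (i : Fin n) : X F (sr i) = XX F i.castSucc i.succ := by
  rw [← rtA_sr, X_rtA (Fin.castSucc_lt_succ).ne]

theorem X_neg_sr (i : Fin n) : X F (-sr i) = XX F i.succ i.castSucc := by
  rw [← rtA_sr, rtA_neg, X_rtA (Fin.castSucc_lt_succ).ne']

/-- The standard `n`-elements. -/
noncomputable def ns (n : ℕ) (F : Type*) [Field F] (i : Fin n) : SpecialLinearGroup (Fin (n + 1)) F :=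
  nn i.castSucc i.succ 1

theorem mono_ns (i : Fin n) : Mono (Equiv.swap i.castSucc i.succ) (ns n F i) :=
  mono_nn (Fin.castSucc_lt_succ).ne one_ne_zero

variable {W : Type*} [Group W] (cs : CoxeterSystem (cA n) W) {A : Fin n → Fin n → ℤ}
  (h : IsCartan (cA n) A)

include cs h in
/-- The Coxeter relations of the transpositions. -/
theorem swap_rel (i j : Fin n) :
    (Equiv.swap i.castSucc i.succ * Equiv.swap j.castSucc j.succ) ^ (cA n) i j = 1 := by
  have key : ∀ (k : ℕ) (a b : Fin (n + 1)), rep cs h ((cs.simple i * cs.simple j) ^ k) (rtA a b) =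
      rtA (((Equiv.swap i.castSucc i.succ * Equiv.swap j.castSucc j.succ) ^ k) a)
        (((Equiv.swap i.castSucc i.succ * Equiv.swap j.castSucc j.succ) ^ k) b) := by
    intro k
    induction k with
    | zero =>
      intro a b
      rw [pow_zero, pow_zero, map_one, Module.End.one_apply]
      rfl
    | succ k ih =>
      intro a b
      rw [pow_succ', pow_succ', rep_mul_apply, ih, rep_mul_apply, rep_simple_rtA, rep_simple_rtA]
      rfl
  have h1 := key ((cA n) i j)
  rw [cs.simple_mul_simple_pow] at h1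
  ext1 a
  obtain ⟨b, hb⟩ : ∃ b : Fin (n + 1), a ≠ b := by
    by_cases ha : a = i.castSucc
    · exact ⟨i.succ, by rw [ha]; exact (Fin.castSucc_lt_succ).ne⟩
    · exact ⟨i.castSucc, ha⟩
  have h2 := h1 a b
  rw [map_one, Module.End.one_apply] at h2
  exact (rtA_inj hb h2).1.symm

include cs h in
theorem nsys : NSys (cA n) (T (Fin (n + 1)) F) (ns n F) where
  norm i := (mono_ns i).mem_normalizer
  rel i j := by
    have h1 := ((mono_ns (F := F) i).mul (mono_ns j)).pow ((cA n) i j)
    rwa [swap_rel cs h] at h1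

theorem btwn_add {a b c : Fin (n + 1)} (hac : a ≠ c) : Btwn cs h (rtA a b) (rtA b c) (rtA a c) :=
  ⟨isRoot_rtA cs h hac, 1, 1, 1, one_pos, one_pos, one_pos, by
    rw [one_smul, one_smul, one_smul, rtA_add]⟩

theorem rgd [Finite F] {p : ℕ} [Fact p.Prime] [CharP F p] :
    RGD cs h p (T (Fin (n + 1)) F) (ns n F) (X F) where
  nsys := nsys cs h
  conj i x hx := by
    obtain ⟨a, b, hab, rfl⟩ := exists_of_isRoot cs h hx
    rw [rep_simple_rtA, X_rtA hab, X_rtA (fun e => hab ((Equiv.injective _) e)), (mono_ns i).cj_XX hab]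
  tor x hx t ht := by
    obtain ⟨a, b, hab, rfl⟩ := exists_of_isRoot cs h hx
    rw [X_rtA hab, (mem_T.1 ht).cj_XX hab]
    rfl
  comm x y hx hy hxy hxy' u hu v hv := by
    obtain ⟨a, b, hab, rfl⟩ := exists_of_isRoot cs h hx
    obtain ⟨c, d, hcd, rfl⟩ := exists_of_isRoot cs h hy
    rw [X_rtA hab] at hu
    rw [X_rtA hcd] at hv
    obtain ⟨s, rfl⟩ := hu
    obtain ⟨t, rfl⟩ := hv
    by_cases hbc : b = c
    · subst hbc
      have had : a ≠ d := by
        rintro rfl
        exact hxy' (rtA_neg b a).symm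
      refine le_btw_of (btwn_add cs h had) ?_
      rw [X_rtA had, tv_comm hab hcd had]
      exact tv_mem_XX _ _ _
    · by_cases had : a = d
      · subst had
        have hcb : c ≠ b := fun e => hbc e.symm
        refine le_btw_of (btwn_add cs h hcb).symm ?_
        rw [X_rtA hcb, ← commutatorElement_inv, tv_comm hcd hab hcb]
        exact inv_mem (tv_mem_XX _ _ _)
      · rw [commutatorElement_eq_one_iff_commute.2 (tv_commute hbc had s t)]
        exact one_mem _
  rk1 i u hu hu1 := by
    rw [X_neg_sr] at hu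
    rw [X_sr]
    obtain ⟨s, rfl⟩ := hu
    have hs : s ≠ 0 := by
      rintro rfl
      exact hu1 (tv_zero _ _)
    exact ⟨_, tv_mem_XX _ _ _, _, diag_mem_T _ _, _, tv_mem_XX _ _ _,
      tv_opp_eq (Fin.castSucc_lt_succ).ne hs⟩
  pgrp i := by
    rw [X_sr]
    exact isPGroup_XX _ _
  notp i := by
    rw [X_sr, X_neg_sr]
    exact not_isPGroup (Fin.castSucc_lt_succ).ne
  tcop := card_T_coprime

/-- The root groups generate `SL_{n+1}(F)`. -/
theorem G1_eq_top : G1 cs h (X F) = ⊤ := by
  rw [eq_top_iff, ← closure_transvections (ι := Fin (n + 1)) (F := F), Subgroup.closure_le]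
  rintro g ⟨a, b, hab, t, rfl⟩
  rw [← tv_of_ne hab]
  refine X_le_G1 (isRoot_rtA cs h hab) ?_
  rw [X_rtA hab]
  exact tv_mem_XX _ _ _

/-- The projection on `PSL_{n+1}(F)`. -/
def pr (n : ℕ) (F : Type*) [Field F] :
    SpecialLinearGroup (Fin (n + 1)) F →* ProjectiveSpecialLinearGroup (Fin (n + 1)) F :=
  QuotientGroup.mk' (Subgroup.center (SpecialLinearGroup (Fin (n + 1)) F))

theorem pr_surjective : Function.Surjective (pr n F) := QuotientGroup.mk'_surjective _

theorem ker_pr : (pr n F).ker = Subgroup.center (SpecialLinearGroup (Fin (n + 1)) F) :=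
  QuotientGroup.ker_mk' _

theorem rgd_psl [Finite W] [Finite F] {p : ℕ} [Fact p.Prime] [CharP F p] :
    RGD cs h p ((T (Fin (n + 1)) F).map (pr n F)) (fun i => pr n F (ns n F i))
      (fun x => (X F x).map (pr n F)) :=
  rgd_map_of_ker_le_center (rgd cs h) (pr n F) ker_pr.le

/-- The image of a generating root group datum generates. -/
theorem G1_map {Y Y' I : Type*} [Group Y] [Group Y'] {M : CoxeterMatrix I} [Fintype I] [DecidableEq I]
    {V : Type*} [Group V] (ds : CoxeterSystem M V) {C : I → I → ℤ} (hC : IsCartan M C)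
    (X : (I → ℤ) → Subgroup Y) (f : Y →* Y') :
    G1 ds hC (fun x => (X x).map f) = (G1 ds hC X).map f := by
  unfold G1 RGD.Sup
  rw [Subgroup.map_iSup]

theorem G1_psl_eq_top : G1 cs h (fun x => (X F x).map (pr n F)) = ⊤ := by
  rw [G1_map, G1_eq_top, Subgroup.map_top_of_surjective _ pr_surjective]

end Group

end Cfsg.Agent.Nodes.RGDTypeA
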