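import Mathlib
import Cfsg.Agent.Nodes.ClsMap
import Cfsg.Agent.Nodes.RGDTypeA

/-!
Transport of charts (project CIT).

* `mapInj` : the image of a chart under an injective homomorphism;
* `ofEquiv` : a chart of `⊤ : Subgroup Y` and an isomorphism `e : Y ≃* L`, `L : Subgroup G`, give a chart of `L`;
* `cjChart` : conjugates of charts.
-/

set_option autoImplicit false
set_option linter.unusedSectionVars false

namespace Cfsg.Agent.Nodes.ChartMap

open CoxeterSystem Cfsg.Agent.ChevalleyStructure.CoxeterGeom Cfsg.Agent.Tits.Roots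
open Cfsg.Agent.Nodes.Reps Cfsg.Agent.Nodes.BNOf Cfsg.Agent.Nodes.RGDLib Cfsg.Agent.Nodes.Chart
  Cfsg.Agent.Nodes.ClsMap

variable {Y G : Type*} [Group Y] [Group G]

/-- The image of a chart under an injective homomorphism. -/
noncomputable def mapInj {Om' : Set (Subgroup Y)} {p : ℕ} {L' : Subgroup Y} (c : Chart Om' p L') (f : Y →* G)
    (hf : Function.Injective f) (Om : Set (Subgroup G)) (h1 : ∀ K ∈ Om', K ≤ L' → K.map f ∈ Om)
    (h2 : ∀ K ∈ Om, K ≤ L'.map f → ∃ K' ∈ Om', K' ≤ L' ∧ K = K'.map f) : Chart Om p (L'.map f) :=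
  { prime := c.prime
    odd := c.odd
    I := c.I
    W := c.W
    M := c.M
    cs := c.cs
    A := c.A
    h := c.h
    T := c.T.map f
    n := fun i => f (c.n i)
    X := fun x => (c.X x).map f
    R := c.R
    Z := fun x => (c.Z x).map f
    z := fun x => f (c.z x)
    cls := cls_map_of_injective c.cls f hf
    irr := c.irr
    ne := c.ne
    T_le := Subgroup.map_mono c.T_le
    gen := by rw [RGDTypeA.G1_map, c.gen]
    trans := c.trans
    Rne := c.Rne
    om := by
      intro r hr
      rw [← Subgroup.map_sup]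
      refine h1 _ (c.om r hr) (le_trans ?_ c.gen.le)
      exact sup_le ((c.cls.le r hr).trans (X_le_G1 (c.cls.root r hr)))
        ((c.cls.le _ (neg_mem c.cls hr)).trans (X_le_G1 (c.cls.root _ (neg_mem c.cls hr))))
    om_conj := by
      intro K hK hKL
      obtain ⟨K', hK', hle, rfl⟩ := h2 K hK hKL
      obtain ⟨r, hr, g, hg, e⟩ := c.om_conj K' hK' hle
      refine ⟨r, hr, f g, Subgroup.mem_map_of_mem _ hg, ?_⟩
      rw [← Subgroup.map_sup, e, cj_map] }

/-- A chart of `⊤ : Subgroup Y` and an isomorphism of `Y` with the subgroup `L` of `G` give a chart of `L`. -/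
noncomputable def ofEquiv {Om' : Set (Subgroup Y)} {p : ℕ} (c : Chart Om' p (⊤ : Subgroup Y)) {L : Subgroup G}
    (e : Y ≃* ↥L) (Om : Set (Subgroup G))
    (h1 : ∀ K : Subgroup Y, K ∈ Om' ↔ K.map (L.subtype.comp e.toMonoidHom) ∈ Om) : Chart Om p L :=
  have hL : (⊤ : Subgroup Y).map (L.subtype.comp e.toMonoidHom) = L := by
    rw [← Subgroup.map_map, Subgroup.map_top_of_surjective _ e.surjective, ← MonoidHom.range_eq_map,
      Subgroup.range_subtype]
  hL ▸ mapInj c (L.subtype.comp e.toMonoidHom) (L.subtype_injective.comp e.injective) Om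
    (fun K hK _ => (h1 K).1 hK) (fun K hK hKL => by
      refine ⟨K.comap (L.subtype.comp e.toMonoidHom), ?_, le_top, ?_⟩
      · rw [h1, Subgroup.map_comap_eq, inf_eq_right.2]
        · exact hK
        · rw [MonoidHom.range_eq_map]; exact hKL
      · rw [Subgroup.map_comap_eq, inf_eq_right.2]
        rw [MonoidHom.range_eq_map]; exact hKL)

/-- Conjugates of charts. -/
noncomputable def cjChart {Om : Set (Subgroup G)} {p : ℕ} {L : Subgroup G} (c : Chart Om p L)
    (hcj : ∀ K ∈ Om, ∀ g, cj g K ∈ Om) (g : G) : Chart Om p (cj g L) :=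
  mapInj c (MulAut.conj g).toMonoidHom (MulAut.conj g).injective Om (fun K hK _ => hcj K hK g)
    (fun K hK hKL => ⟨cj g⁻¹ K, hcj K hK _, by
      have h1 := cj_mono g⁻¹ hKL
      rwa [show L.map (MulAut.conj g).toMonoidHom = cj g L from rfl, cj_inv_cj] at h1, (cj_cj_inv g K).symm⟩)

end Cfsg.Agent.Nodes.ChartMap
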