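import Mathlib
import Cfsg.Agent.Nodes.ChartLoc
import Cfsg.Agent.Nodes.Coroot
import Cfsg.Agent.Nodes.Slope
import Cfsg.Agent.Nodes.StdConn

/-!
# `VV r` is not abelian (project CIT, facts on charts)

`C : Cls cs h p T n X R Z z`, `p` odd, `r ∈ R`, `VV r` = the join of the root groups `X y`, `(y, r) > 0`.

* `not_comm` : if there is a root `y ≠ ± r` not orthogonal to `r`, then `VV r` is not abelian.

Proof: we may assume that `y = α_i`, `s = s_i r` with `(s, r) ≥ 0`. If `VV r` is abelian and `(s, r) > 0`, then `X (± α_i)`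
centralise `Z r`, but `n_i` moves `Z r` to `Z s`. If `(s, r) = 0`, then `[X α_i, Z s]` is inverted by `z r` and the
image of `Z s` under `n_i ∈ T X_i X_{-i} X_i` is computed to be trivial.
-/

set_option autoImplicit false
set_option linter.unusedSectionVars false

namespace Cfsg.Agent.Nodes.DerVV

open CoxeterSystem Cfsg.Agent.ChevalleyStructure.CoxeterGeom Cfsg.Agent.Tits.Roots Cfsg.Agent.Tits.Core
  Cfsg.Agent.Tits.RootComb Cfsg.Agent.Tits.Exchange Cfsg.Agent.Nodes.Comb Cfsg.Agent.Nodes.Reps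
  Cfsg.Agent.Nodes.BNOf Cfsg.Agent.Nodes.RGDLib Cfsg.Agent.Nodes.Chart Cfsg.Agent.Nodes.StabComb
  Cfsg.Agent.Nodes.Bruhat Cfsg.Agent.Nodes.ClsNorm Cfsg.Agent.Nodes.ChartLoc Cfsg.Agent.Nodes.Coroot
  Cfsg.Agent.Nodes.OppDec
open scoped commutatorElement

variable {I W Y : Type*} [Fintype I] [DecidableEq I] [Group W] [Fintype W] [Group Y] {M : CoxeterMatrix I}
  {cs : CoxeterSystem M W} {A : I → I → ℤ} {h : IsCartan M A} {p : ℕ} {T : Subgroup Y} {n : I → Y}
  {X : (I → ℤ) → Subgroup Y} {R : Set (I → ℤ)} {Z : (I → ℤ) → Subgroup Y} {z : (I → ℤ) → Y}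

variable (C : Cls cs h p T n X R Z z)

include C

/-- `n_i` is a product of elements of `X (± α_i)` and `T` -/
theorem exists_n (i : I) : ∃ a ∈ X (sr i), ∃ u ∈ X (-sr i), ∃ b ∈ X (sr i), ∃ t ∈ T,
    n i = t⁻¹ * a⁻¹ * u * b⁻¹ := by
  obtain ⟨u, hu, hne⟩ : ∃ u ∈ X (-sr i), u ≠ 1 := by
    by_contra hcon
    push Not at hcon
    exact StdConn.X_ne_bot C (isRoot_sr cs h i).neg ((Subgroup.eq_bot_iff_forall _).2 hcon)
  obtain ⟨a, ha, t, ht, b, hb, e⟩ := C.rgd.rk1 i u hu hne
  exact ⟨a, ha, u, hu, b, hb, t, ht, by rw [e]; group⟩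

variable (hp2 : p ≠ 2) [Fact p.Prime]

include hp2

theorem eq_one_of_sq' {S : Subgroup Y} (hS : IsPGroup p S) {a : Y} (ha : a ∈ S) (h2 : a * a = 1) : a = 1 := by
  obtain ⟨k, hk⟩ := hS ⟨a, ha⟩
  have hk' : a ^ p ^ k = 1 := by
    have := congrArg Subtype.val hk
    simpa using this
  have ho : Odd (orderOf a) := (((Fact.out : p.Prime).odd_of_ne_two hp2).pow (n := k)).of_dvd_nat
    (orderOf_dvd_of_pow_eq_one hk')
  have h3 : orderOf a ∣ 2 := orderOf_dvd_of_pow_eq_one (by rw [pow_two, h2])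
  have h4 : orderOf a ∣ 1 := by
    rw [← Nat.Coprime.gcd_eq_one (Nat.coprime_two_left.2 ho)]
    exact Nat.dvd_gcd h3 dvd_rfl
  exact orderOf_eq_one_iff.1 (Nat.dvd_one.1 h4)

/-- The case of a simple root. -/
theorem simple_case {r : I → ℤ} (hr : r ∈ R) {i : I} (hri : r ≠ sr i) (hpos : 0 < form cs h (sr i) r)
    (hs : 0 ≤ form cs h (rep cs h (cs.simple i) r) r)
    (hab : ∀ a ∈ VV cs h X r, ∀ b ∈ VV cs h X r, a * b = b * a) : False := by
  set s := rep cs h (cs.simple i) r with hsdef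
  have hsR : s ∈ R := C.act r hr _
  have hrs : rep cs h (cs.simple i) s = r := by
    rw [hsdef, ← rep_mul_apply, cs.simple_mul_simple_self, map_one, Module.End.one_apply]
  have hαV : X (sr i) ≤ VV cs h X r :=
    RGD.le_Sup (S := {y | IsRoot cs h y ∧ 0 < form cs h y r}) ⟨isRoot_sr cs h i, hpos⟩
  have hZV : Z r ≤ VV cs h X r := Z_le_VV C hr
  have hnZr : cj (n i) (Z r) = Z s := C.conj i r hr
  have hnZs : cj (n i) (Z s) = Z r := by rw [C.conj i s hsR, hrs]
  have hnX : cj (n i) (X (sr i)) = X (-sr i) := by rw [C.rgd.conj i _ (isRoot_sr cs h i), rep_simple_sr]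
  have hsr : s ≠ r := by
    intro h1
    have h2 : s = r - pairing A i r • sr i := rep_simple_eq cs h i r
    rw [h1] at h2
    have h3 : pairing A i r • (sr i : I → ℤ) = 0 := by
      have := sub_eq_self.1 h2.symm
      exact this
    have h4 : pairing A i r = 0 := by
      have := congrFun h3 i
      rwa [Pi.smul_apply, sr_self, smul_eq_mul, mul_one, Pi.zero_apply] at this
    have h5 := two_form cs h i r
    rw [h4, zero_mul, form_comm] at h5
    omega
  obtain ⟨a, ha, u, hu, b, hb, t, ht, hn⟩ := exists_n C i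
  -- commutation of root groups transported by `n_i`
  have htr : ∀ {P Q : Subgroup Y}, (∀ x ∈ P, ∀ y ∈ Q, x * y = y * x) →
      ∀ x ∈ cj (n i) P, ∀ y ∈ cj (n i) Q, x * y = y * x := by
    intro P Q hPQ x hx y hy
    rw [mem_cj] at hx hy
    have h1 := hPQ _ hx _ hy
    calc x * y = n i * ((n i)⁻¹ * x * n i * ((n i)⁻¹ * y * n i)) * (n i)⁻¹ := by group
      _ = n i * ((n i)⁻¹ * y * n i * ((n i)⁻¹ * x * n i)) * (n i)⁻¹ := by rw [h1]
      _ = y * x := by group
  have hXZr : ∀ x ∈ X (sr i), ∀ y ∈ Z r, x * y = y * x := fun x hx y hy => hab x (hαV hx) y (hZV hy)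
  have hXZs' : ∀ x ∈ X (-sr i), ∀ y ∈ Z s, x * y = y * x := by
    have := htr hXZr
    rwa [hnX, hnZr] at this
  rcases hs.lt_or_eq with hs | hs
  · -- `(s, r) > 0`
    have hsV : Z s ≤ VV cs h X r := (C.le s hsR).trans
      (RGD.le_Sup (S := {y | IsRoot cs h y ∧ 0 < form cs h y r}) ⟨C.root s hsR, hs⟩)
    have hXZs : ∀ x ∈ X (sr i), ∀ y ∈ Z s, x * y = y * x := fun x hx y hy => hab x (hαV hx) y (hsV hy)
    have hXZr' : ∀ x ∈ X (-sr i), ∀ y ∈ Z r, x * y = y * x := by
      have := htr hXZs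
      rwa [hnX, hnZs] at this
    have h1 : cj (n i) (Z r) ≤ Z r := by
      rintro _ ⟨v, hv, rfl⟩
      change n i * v * (n i)⁻¹ ∈ Z r
      have e1 : n i * v * (n i)⁻¹ = t⁻¹ * v * t := by
        have c1 : b⁻¹ * v = v * b⁻¹ := hXZr _ (inv_mem hb) v hv
        have c2 : u * v = v * u := hXZr' _ hu v hv
        have c3 : a⁻¹ * v = v * a⁻¹ := hXZr _ (inv_mem ha) v hv
        rw [hn]
        calc t⁻¹ * a⁻¹ * u * b⁻¹ * v * (t⁻¹ * a⁻¹ * u * b⁻¹)⁻¹
            = t⁻¹ * a⁻¹ * u * (b⁻¹ * v) * b * u⁻¹ * a * t := by group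
          _ = t⁻¹ * a⁻¹ * (u * v) * u⁻¹ * a * t := by rw [c1]; group
          _ = t⁻¹ * (a⁻¹ * v) * a * t := by rw [c2]; group
          _ = t⁻¹ * v * t := by rw [c3]; group
      rw [e1]
      have h2 := C.tor r hr t⁻¹ (inv_mem ht)
      rw [← h2, mem_cj]
      have : (t⁻¹)⁻¹ * (t⁻¹ * v * t) * t⁻¹ = v := by group
      rwa [this]
    rw [hnZr] at h1
    -- `Z s ≤ Z r` forces `s = r`
    have h2 := X_inf_X C.rgd (C.root s hsR) (C.root r hr) hsr
    apply C.ne_bot s hsR
    rw [eq_bot_iff, ← h2]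
    exact le_inf (C.le s hsR) (h1.trans (C.le r hr))
  · -- `(s, r) = 0`
    have hzz : z r * z r = 1 := C.z_sq r hr
    have hzi : (z r)⁻¹ = z r := inv_eq_of_mul_eq_one_left hzz
    have hne1 : sr i ≠ r := fun h1 => hri h1.symm
    have hne2 : (sr i : I → ℤ) ≠ -r := by
      intro h1
      rw [h1, form_neg_left] at hpos
      have := form_nonneg cs h r
      omega
    have hinv : ∀ x ∈ X (sr i), z r * x * z r = x⁻¹ := C.z_inv r hr _ (isRoot_sr cs h i) hne1 hne2 hpos.ne'
    have hinv' : ∀ x ∈ X (-sr i), z r * x * z r = x⁻¹ := by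
      refine C.z_inv r hr _ (isRoot_sr cs h i).neg ?_ ?_ ?_
      · intro h1; exact hne2 (by rw [← h1, neg_neg])
      · intro h1; exact hne1 (neg_injective h1)
      · rw [form_neg_left]; omega
    have hzs : ∀ v ∈ Z s, z r * v * z r = v := by
      intro v hv
      have h1 := StdConn.comm_z C (C.root s hsR) hr hs.symm (C.le s hsR hv)
      rw [← h1, mul_assoc, hzz, mul_one]
    have hzr : ∀ v ∈ Z r, z r * v * z r = v := by
      intro v hv
      have h1 := C.z_cent r hr v hv
      rw [h1, mul_assoc, hzz, mul_one]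
    -- `Z s` is trivial
    apply C.ne_bot s hsR
    rw [Subgroup.eq_bot_iff_forall]
    intro v hv
    have hVp := isPGroup_VV C r
    -- the commutator `w`
    set w := ⁅b⁻¹, v⁆ with hw
    have hwV : w ∈ VV cs h X r := by
      have h1 : sr i ≠ s := by
        intro h1
        rw [h1] at hpos
        omega
      have h2 : sr i ≠ -s := by
        intro h1
        rw [h1, form_neg_left] at hpos
        omega
      have h3 := C.rgd.comm _ _ (isRoot_sr cs h i) (C.root s hsR) h1 h2 b⁻¹ (inv_mem hb) v (C.le s hsR hv)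
      refine (C.rgd.btw_le_Sup (S := {y | IsRoot cs h y ∧ 0 < form cs h y r}) ?_) h3
      intro y hy
      refine ⟨hy.1, ?_⟩
      obtain ⟨-, m, a', b', hm, ha', hb', he'⟩ := hy
      have h5 : m * form cs h y r = a' * form cs h (sr i) r + b' * form cs h s r := by
        rw [← form_smul_left, he', form_add_left, form_smul_left, form_smul_left]
      rw [← hs, mul_zero, add_zero] at h5
      have h6 : 0 < m * form cs h y r := by rw [h5]; exact mul_pos ha' hpos
      exact (pos_iff_pos_of_mul_pos h6).1 hm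
    have hbV : b ∈ VV cs h X r := hαV hb
    have hwz : z r * w * z r = w⁻¹ := by
      have h1 : z r * b⁻¹ * z r = b := by rw [hinv _ (inv_mem hb), inv_inv]
      have h2 : z r * b * z r = b⁻¹ := hinv b hb
      have h3 : z r * v⁻¹ * z r = v⁻¹ := hzs _ (inv_mem hv)
      have h4 := hzs v hv
      have h5 : w * b = b * w := hab w hwV b hbV
      have h6 : z r * w * z r = ⁅b, v⁆ := by
        rw [hw, commutatorElement_def, commutatorElement_def, inv_inv]
        calc z r * (b⁻¹ * v * b * v⁻¹) * z r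
            = (z r * b⁻¹ * z r) * (z r * v * z r) * (z r * b * z r) * (z r * v⁻¹ * z r) := by
              simp only [mul_assoc]
              rw [← mul_assoc (z r) (z r) (v * _), hzz, one_mul, ← mul_assoc (z r) (z r) (b * _), hzz, one_mul,
                ← mul_assoc (z r) (z r) (v⁻¹ * _), hzz, one_mul]
          _ = b * v * b⁻¹ * v⁻¹ := by rw [h1, h2, h3, h4]
      rw [h6, hw]
      rw [hw, commutatorElement_def, inv_inv] at h5
      rw [commutatorElement_def, commutatorElement_def, inv_inv]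
      -- `b⁻¹ v b v⁻¹` commutes with `b`
      calc b * v * b⁻¹ * v⁻¹ = b * (b⁻¹ * v * b * v⁻¹)⁻¹ * b⁻¹ := by group
        _ = (b⁻¹ * v * b * v⁻¹)⁻¹ := by
            have h7 : b * (b⁻¹ * v * b * v⁻¹)⁻¹ = (b⁻¹ * v * b * v⁻¹)⁻¹ * b := by
              calc b * (b⁻¹ * v * b * v⁻¹)⁻¹
                  = (b⁻¹ * v * b * v⁻¹)⁻¹ * ((b⁻¹ * v * b * v⁻¹) * b) * (b⁻¹ * v * b * v⁻¹)⁻¹ := by group
                _ = (b⁻¹ * v * b * v⁻¹)⁻¹ * (b * (b⁻¹ * v * b * v⁻¹)) * (b⁻¹ * v * b * v⁻¹)⁻¹ := by rw [h5]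
                _ = (b⁻¹ * v * b * v⁻¹)⁻¹ * b := by group
            rw [h7]; group
    -- `ζ = u w u⁻¹ v ∈ Z r`
    have hζ : u * w * u⁻¹ * v ∈ Z r := by
      have h1 : n i * v * (n i)⁻¹ ∈ Z r := by rw [← hnZs]; exact conj_mem_cj.2 hv
      have h2 : t * (n i * v * (n i)⁻¹) * t⁻¹ ∈ Z r := by
        have h3 := C.tor r hr t ht
        rw [← h3]; exact conj_mem_cj.2 h1
      have h4 : a * (t * (n i * v * (n i)⁻¹) * t⁻¹) * a⁻¹ = u * w * u⁻¹ * v := by
        have c2 : u * v = v * u := hXZs' u hu v hv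
        rw [hn, hw, commutatorElement_def, inv_inv]
        calc a * (t * (t⁻¹ * a⁻¹ * u * b⁻¹ * v * (t⁻¹ * a⁻¹ * u * b⁻¹)⁻¹) * t⁻¹) * a⁻¹
            = u * b⁻¹ * v * b * u⁻¹ := by group
          _ = u * (b⁻¹ * v * b * v⁻¹) * u⁻¹ * (u * v) * u⁻¹ := by group
          _ = u * (b⁻¹ * v * b * v⁻¹) * u⁻¹ * v := by rw [c2]; group
      rw [← h4]
      have h5 : a * (t * (n i * v * (n i)⁻¹) * t⁻¹) = t * (n i * v * (n i)⁻¹) * t⁻¹ * a := hXZr a ha _ h2
      rw [h5, mul_inv_cancel_right]
      exact h2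
    -- apply `z r`
    have h1 : u⁻¹ * w⁻¹ * u * v = u * w * u⁻¹ * v := by
      have h2 := hzr _ hζ
      have e1 : z r * u * z r = u⁻¹ := hinv' u hu
      have e2 : z r * u⁻¹ * z r = u := by rw [hinv' _ (inv_mem hu), inv_inv]
      have e3 := hzs v hv
      calc u⁻¹ * w⁻¹ * u * v = (z r * u * z r) * (z r * w * z r) * (z r * u⁻¹ * z r) * (z r * v * z r) := by
            rw [e1, e2, e3, hwz]
        _ = z r * (u * w * u⁻¹ * v) * z r := by
            simp only [mul_assoc]
            rw [← mul_assoc (z r) (z r) (w * _), hzz, one_mul, ← mul_assoc (z r) (z r) (u⁻¹ * _), hzz, one_mul,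
              ← mul_assoc (z r) (z r) (v * _), hzz, one_mul]
        _ = u * w * u⁻¹ * v := h2
    have h2 : u * u * w * (u * u)⁻¹ = w⁻¹ := by
      have h3 : u * w * u⁻¹ = u⁻¹ * w⁻¹ * u := (mul_right_cancel h1).symm
      calc u * u * w * (u * u)⁻¹ = u * (u * w * u⁻¹) * u⁻¹ := by group
        _ = w⁻¹ := by rw [h3]; group
    -- `u` has odd order, so it commutes with `w`
    have hu4 : (u * u * (u * u)) * w = w * (u * u * (u * u)) := by
      have h3 : u * u * (u * u) * w * (u * u * (u * u))⁻¹ = w := by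
        calc u * u * (u * u) * w * (u * u * (u * u))⁻¹ = u * u * (u * u * w * (u * u)⁻¹) * (u * u)⁻¹ := by group
          _ = u * u * w⁻¹ * (u * u)⁻¹ := by rw [h2]
          _ = (u * u * w * (u * u)⁻¹)⁻¹ := by simp only [mul_inv_rev, inv_inv, mul_assoc]
          _ = w := by rw [h2, inv_inv]
      calc u * u * (u * u) * w = (u * u * (u * u) * w * (u * u * (u * u))⁻¹) * (u * u * (u * u)) := by group
        _ = w * (u * u * (u * u)) := by rw [h3]
    have hodd : Odd (orderOf u) := odd_of_mem_X C hp2 (isRoot_sr cs h i).neg hu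
    have hodd2 : Odd (orderOf (u * u)) := hodd.of_dvd_nat (by
      rw [← pow_two]
      exact orderOf_pow_dvd 2)
    have huc : u ∈ Subgroup.centralizer {w} := by
      refine mem_of_odd_sq C hp2 hodd (mem_of_odd_sq C hp2 hodd2 ?_)
      rw [Subgroup.mem_centralizer_singleton_iff]
      exact hu4
    have huw : u * w = w * u := Subgroup.mem_centralizer_singleton_iff.1 huc
    have hw1 : w = 1 := by
      refine eq_one_of_sq' C hp2 hVp hwV ?_
      have h3 : w = w⁻¹ := by
        calc w = u * u * w * (u * u)⁻¹ := by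
              have h4 : u * u * w = w * (u * u) := by
                calc u * u * w = u * (u * w) := by group
                  _ = (u * w) * u := by rw [huw, ← mul_assoc, huw]
                  _ = w * (u * u) := by rw [huw]; group
              rw [h4, mul_inv_cancel_right]
          _ = w⁻¹ := h2
      calc w * w = w * w⁻¹ := by rw [← h3]
        _ = 1 := mul_inv_cancel w
    -- `v ∈ Z s ⊓ Z r`
    rw [hw1, mul_one, mul_inv_cancel, one_mul] at hζ
    have h3 := X_inf_X C.rgd (C.root s hsR) (C.root r hr) hsr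
    have h4 : v ∈ X s ⊓ X r := ⟨C.le s hsR hv, C.le r hr hζ⟩
    rwa [h3, Subgroup.mem_bot] at h4

/-- The case of a root `y` with `(s_y r, r) ≥ 0`. -/
theorem root_case {r : I → ℤ} (hr : r ∈ R) {y : I → ℤ} (hy : IsRoot cs h y) (hry : r ≠ y)
    (hpos : 0 < form cs h y r) (hs : 0 ≤ form cs h (r - cpr cs h r y • y) r)
    (hab : ∀ a ∈ VV cs h X r, ∀ b ∈ VV cs h X r, a * b = b * a) : False := by
  obtain ⟨w, i, rfl⟩ := hy
  obtain ⟨k, hk⟩ := exists_rp cs C.rgd.nsys w⁻¹
  have hrr := C.act r hr w⁻¹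
  refine simple_case C hp2 hrr (i := i) ?_ ?_ ?_ ?_
  · intro h1
    apply hry
    rw [← h1, rep_apply_inv]
  · have : form cs h (rep cs h w (sr i)) r = form cs h (sr i) (rep cs h w⁻¹ r) := form_rep_left cs h w _ _
    rwa [← this]
  · have h1 : rep cs h w (rep cs h (cs.simple i) (rep cs h w⁻¹ r)) = r - cpr cs h r (rep cs h w (sr i)) •
        rep cs h w (sr i) := by
      rw [rep_simple_eq cs h i, map_sub, map_smul, rep_apply_inv, cpr_rep_sr]
    rw [← h1] at hs
    have h2 := form_rep cs h w⁻¹ (rep cs h w (rep cs h (cs.simple i) (rep cs h w⁻¹ r))) r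
    rw [rep_inv_apply] at h2
    rw [h2]
    exact hs
  · intro a ha b hb
    rw [← cj_VV C hk, mem_cj] at ha hb
    have h1 := hab _ ha _ hb
    calc a * b = k * (k⁻¹ * a * k * (k⁻¹ * b * k)) * k⁻¹ := by group
      _ = k * (k⁻¹ * b * k * (k⁻¹ * a * k)) * k⁻¹ := by rw [h1]
      _ = b * a := by group

/-- **`VV r` is not abelian.** -/
theorem not_comm {r : I → ℤ} (hr : r ∈ R) {y : I → ℤ} (hy : IsRoot cs h y) (h1 : y ≠ r) (h2 : y ≠ -r)
    (h3 : form cs h y r ≠ 0) : ∃ a ∈ VV cs h X r, ∃ b ∈ VV cs h X r, a * b ≠ b * a := by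
  by_contra hab
  push Not at hab
  -- we may assume `(y, r) > 0`
  have key : ∀ y, IsRoot cs h y → y ≠ r → y ≠ -r → 0 < form cs h y r → False := by
    intro y hy h1 h2 h3
    have hrr := form_pos cs h (C.root r hr).ne_zero
    have hyy := form_pos cs h hy.ne_zero
    set m := cpr cs h r y with hm
    set c := cpr cs h y r with hc
    have e1 : 2 * form cs h y r = m * form cs h y y := by
      rw [form_comm cs h y r, hm]; exact two_form_cpr cs h r hy
    have e2 : 2 * form cs h y r = c * form cs h r r := two_form_cpr cs h y (C.root r hr)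
    have hm0 : 0 < m := (cpr_pos_iff cs h r hy).2 (by rw [form_comm]; exact h3)
    have hc0 : 0 < c := (cpr_pos_iff cs h y (C.root r hr)).2 h3
    have hg := PosPair.gram_pos cs h hy (C.root r hr) h1 h2
    have hmc : m * c < 4 := by
      by_contra h4
      push Not at h4
      have h5 : 4 * (form cs h y r * form cs h y r) = m * c * (form cs h y y * form cs h r r) := by
        calc 4 * (form cs h y r * form cs h y r) = (2 * form cs h y r) * (2 * form cs h y r) := by ring
          _ = (m * form cs h y y) * (c * form cs h r r) := by rw [← e2, ← e1]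
          _ = m * c * (form cs h y y * form cs h r r) := by ring
      have h6 := mul_pos hyy hrr
      nlinarith
    -- `2 (s, r) = (2 - m c) (r, r)`
    have hsf : 2 * form cs h (r - m • y) r = (2 - m * c) * form cs h r r := by
      rw [form_sub_left, form_smul_left]
      calc 2 * (form cs h r r - m * form cs h y r) = 2 * form cs h r r - m * (2 * form cs h y r) := by ring
        _ = (2 - m * c) * form cs h r r := by rw [e2]; ring
    by_cases hmc3 : m * c ≤ 2
    · refine root_case C hp2 hr hy (Ne.symm h1) h3 ?_ hab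
      have : 0 ≤ (2 - m * c) * form cs h r r := mul_nonneg (by omega) hrr.le
      rw [← hm]
      omega
    · have hmc4 : m * c = 3 := by omega
      -- the root `y₁ = (r - m y) + r`
      set s := r - m • y with hs
      have hsR : s ∈ R := by
        obtain ⟨w, i, rfl⟩ := hy
        rw [hs, hm, ← rep_rfl'_eq]
        exact C.act r hr _
      have hsr : 2 * form cs h s r = - form cs h r r := by rw [hsf, hmc4]; ring
      have hcs : cpr cs h s r = -1 := cpr_eq_of_form cs h (C.root r hr) (by rw [hsr]; ring)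
      have hy₁ : IsRoot cs h (s + r) := by
        have h4 := isRoot_refl cs h (C.root s hsR) (C.root r hr)
        rw [hcs] at h4
        have h5 : s - (-1 : ℤ) • r = s + r := by module
        rwa [h5] at h4
      have hss : form cs h s s = form cs h r r := by
        obtain ⟨w, i, rfl⟩ := hy
        rw [hs, hm, ← rep_rfl'_eq, form_rep]
      have hf : 2 * form cs h (s + r) r = form cs h r r := by rw [form_add_left]; linarith
      have hf1 : form cs h (s + r) (s + r) = form cs h r r := by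
        rw [form_add_left, form_add_right, form_add_right, form_comm cs h r s]
        linarith
      refine root_case C hp2 hr hy₁ ?_ (by omega) ?_ hab
      · intro h4
        rw [← h4] at hf
        omega
      · have h4 : cpr cs h r (s + r) = 1 := cpr_eq_of_form cs h hy₁ (by rw [form_comm, hf, hf1, one_mul])
        rw [h4, one_smul, form_sub_left]
        omega
  rcases lt_or_gt_of_ne h3 with h4 | h4
  · refine key (-y) hy.neg (fun h5 => h2 (by rw [← h5, neg_neg])) (fun h5 => h1 (neg_injective h5)) ?_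
    rw [form_neg_left]; omega
  · exact key y hy h1 h2 h4

end Cfsg.Agent.Nodes.DerVV
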