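import Cfsg.Agent.Nodes.KindA
import Cfsg.Agent.Nodes.RootKinds

/-!
# The kind of type `A n`

`RKinds` for the frame `KindA.g n`: one element (`n ≤ 2`), two elements (`n = 3, 4`), `RKL` (`n ≥ 5`).  Every set of
frame elements is connected (`conn`).
-/

set_option autoImplicit false
set_option linter.unusedSectionVars false

namespace Cfsg.Agent.Nodes.KindA

open CoxeterSystem Cfsg.Agent.ChevalleyStructure.CoxeterGeom Cfsg.Agent.Tits.Roots Cfsg.Agent.Tits.Core
  Cfsg.Agent.Nodes.Coroot Cfsg.Agent.Nodes.RootsA Cfsg.Agent.Nodes.KindBase Cfsg.Agent.Nodes.Perp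
  Cfsg.Agent.Nodes.RootKinds
open Cfsg.Agent.LieRecognition.BNCox (cA)

variable {n : ℕ} {W : Type*} [Group W] [Fintype W] (cs : CoxeterSystem (cA n) W) {A : Fin n → Fin n → ℤ}
  (h : IsCartan (cA n) A)

theorem form_zero_iff (x : Fin n → ℤ) {y : Fin n → ℤ} (hy : IsRoot cs h y) :
    form cs h x y = 0 ↔ cpr cs h x y = 0 := (cpr_zero_iff cs h x hy).symm

/-- Every set of frame elements is connected. -/
theorem chn (S : Finset (Fin ((n + 1) / 2))) {i j : Fin ((n + 1) / 2)} (hi : i ∈ S) (hj : j ∈ S) :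
    Chn cs h (g n) S i j := by
  have key : ∀ i ∈ S, ∀ r ∈ (g n) '' {k | k ∉ S}, cpr cs h (g n i) r = 0 := by
    rintro i hi r ⟨k, hk, rfl⟩
    exact g_orth cs h (fun h0 => hk (h0 ▸ hi))
  obtain ⟨z, hz, h1, h2, h3⟩ := exists_link_set cs h (P := (g n) '' {k | k ∉ S})
    (by rintro r ⟨k, -, rfl⟩; exact isRoot_g cs h k) (isRoot_g cs h i) (isRoot_g cs h j) (key i hi) (key j hj)
  have hr : ∀ r ∈ (g n) '' {k | k ∉ S}, IsRoot cs h r := by
    rintro r ⟨k, -, rfl⟩; exact isRoot_g cs h k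
  have m1 : g n i ∈ Perp cs h ((g n) '' {k | k ∉ S}) :=
    ⟨isRoot_g cs h i, fun r h' => (form_zero_iff cs h _ (hr r h')).2 (key i hi r h')⟩
  have m2 : z ∈ Perp cs h ((g n) '' {k | k ∉ S}) :=
    ⟨hz, fun r h' => (form_zero_iff cs h _ (hr r h')).2 (h1 r h')⟩
  have m3 : g n j ∈ Perp cs h ((g n) '' {k | k ∉ S}) :=
    ⟨isRoot_g cs h j, fun r h' => (form_zero_iff cs h _ (hr r h')).2 (key j hj r h')⟩
  refine Relation.ReflTransGen.tail (Relation.ReflTransGen.single ⟨m1, m2, ?_⟩) ⟨m2, m3, ?_⟩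
  · intro h0; exact h2 ((form_zero_iff cs h _ hz).1 h0)
  · intro h0; exact h3 ((form_zero_iff cs h _ (isRoot_g cs h j)).1 h0)

theorem conn (S : Finset (Fin ((n + 1) / 2))) : Conn cs h (g n) S := fun _ hi _ hj => chn cs h S hi hj

theorem rkl (hn : 5 ≤ n) : RKL cs h (g n) :=
  ⟨by rw [Fintype.card_fin]; omega, fun _ => conn cs h _, fun _ _ _ => conn cs h _⟩

/-- **`RKinds` for type `A n`.** -/
theorem rkinds (hn : 1 ≤ n) (R : Set (Fin n → ℤ)) : RKinds cs h R (g n) := by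
  unfold RKinds
  rw [Fintype.card_fin]
  by_cases h1 : n ≤ 2
  · left; omega
  · by_cases h2 : n ≤ 4
    · right; left; omega
    · right; right; left; exact rkl cs h (by omega)

end Cfsg.Agent.Nodes.KindA
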