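import Mathlib
import Cfsg.Agent.Nodes.Coroot

/-!
Change of the index type of a root system (project CIT, charts), root level.

`e : I ≃ J`, `A i j = A' (e i) (e j)`: `exists_reindex` (the Coxeter system of `M'` on the same group `W`),
`rep_reindex`, `isRoot_reindex`, `cpr_reindex`, `sr_reindex`.
-/

set_option autoImplicit false
set_option linter.unusedSectionVars false

namespace Cfsg.Agent.Nodes.Reindex

open CoxeterSystem Cfsg.Agent.ChevalleyStructure.CoxeterGeom Cfsg.Agent.Tits.Roots Cfsg.Agent.Tits.Core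
  Cfsg.Agent.Nodes.Comb Cfsg.Agent.Nodes.Coroot

variable {I J W : Type*} [Fintype I] [DecidableEq I] [Fintype J] [DecidableEq J] [Group W]
  {M : CoxeterMatrix I} {M' : CoxeterMatrix J} {cs : CoxeterSystem M W} {cs' : CoxeterSystem M' W}
  {A : I → I → ℤ} {A' : J → J → ℤ} {h : IsCartan M A} {h' : IsCartan M' A'} {e : I ≃ J}

theorem exists_reindex (cs : CoxeterSystem M W) (e : I ≃ J) (hM : ∀ i j, M i j = M' (e i) (e j)) :
    ∃ cs' : CoxeterSystem M' W, ∀ i, cs'.simple (e i) = cs.simple i := by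
  have h1 : M' = M.reindex e := by
    apply CoxeterMatrix.ext
    ext i j
    have h2 := hM (e.symm i) (e.symm j)
    rw [e.apply_symm_apply, e.apply_symm_apply] at h2
    exact h2.symm
  subst h1
  refine ⟨cs.reindex e, fun i => ?_⟩
  rw [CoxeterSystem.reindex_simple, e.symm_apply_apply]

theorem matrix_eq (h : IsCartan M A) (h' : IsCartan M' A') (hA : ∀ i j, A i j = A' (e i) (e j)) (i j : I) :
    M i j = M' (e i) (e j) := by
  by_cases hij : i = j
  · subst hij; rw [CoxeterMatrix.diagonal, CoxeterMatrix.diagonal]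
  have h3 := h.rel i j hij
  have h4 := h'.rel (e i) (e j) (fun h0 => hij (e.injective h0))
  rw [hA i j, hA j i] at h3
  omega

theorem sr_reindex (i : I) : (sr (e i) : J → ℤ) = sr i ∘ e.symm := by
  funext j
  simp only [sr, Function.comp_apply, Pi.single_apply, Equiv.symm_apply_eq]

theorem pairing_reindex (hA : ∀ i j, A i j = A' (e i) (e j)) (i : I) (x : I → ℤ) :
    pairing A' (e i) (x ∘ e.symm) = pairing A i x := by
  unfold pairing
  rw [← Equiv.sum_comp e]
  refine Finset.sum_congr rfl fun k _ => ?_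
  rw [Function.comp_apply, e.symm_apply_apply, hA]

theorem rep_reindex (hA : ∀ i j, A i j = A' (e i) (e j)) (hs : ∀ i, cs'.simple (e i) = cs.simple i) (w : W)
    (x : I → ℤ) : rep cs' h' w (x ∘ e.symm) = rep cs h w x ∘ e.symm := by
  obtain ⟨ω, rfl⟩ := cs.wordProd_surjective w
  induction ω with
  | nil => rw [wordProd_nil, map_one, map_one, Module.End.one_apply, Module.End.one_apply]
  | cons i ω ih =>
    rw [wordProd_cons, rep_mul_apply, rep_mul_apply, ih, ← hs i, rep_simple_eq cs' h', pairing_reindex hA,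
      sr_reindex, hs i, rep_simple_eq cs h]
    rfl

theorem isRoot_reindex (hA : ∀ i j, A i j = A' (e i) (e j)) (hs : ∀ i, cs'.simple (e i) = cs.simple i)
    {x : I → ℤ} : IsRoot cs' h' (x ∘ e.symm) ↔ IsRoot cs h x := by
  constructor
  · rintro ⟨w, j, hj⟩
    refine ⟨w, e.symm j, ?_⟩
    obtain ⟨i, rfl⟩ := e.surjective j
    rw [e.symm_apply_apply]
    rw [sr_reindex, rep_reindex (cs := cs) (h := h) hA hs] at hj
    funext k
    have := congrFun hj (e k)
    simpa using this
  · rintro ⟨w, i, rfl⟩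
    exact ⟨w, e i, by rw [sr_reindex, rep_reindex (cs := cs) (h := h) hA hs]⟩

theorem comp_inj {x y : I → ℤ} (hxy : x ∘ e.symm = y ∘ e.symm) : x = y := by
  funext k
  have := congrFun hxy (e k)
  simpa using this

theorem comp_symm (x : J → ℤ) : (x ∘ e) ∘ e.symm = x := by
  funext k
  simp

theorem comp_symm' (x : I → ℤ) : (x ∘ e.symm) ∘ e = x := by
  funext k
  simp

theorem cpr_reindex [Finite W] (hA : ∀ i j, A i j = A' (e i) (e j)) (hs : ∀ i, cs'.simple (e i) = cs.simple i)
    (x : I → ℤ) {y : I → ℤ} (hy : IsRoot cs h y) :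
    cpr cs' h' (x ∘ e.symm) (y ∘ e.symm) = cpr cs h x y := by
  obtain ⟨w, i, rfl⟩ := hy
  rw [cpr_rep_sr, ← rep_reindex (cs' := cs') (h' := h') hA hs, ← sr_reindex, cpr_rep_sr,
    rep_reindex (cs := cs) (h := h) hA hs, pairing_reindex hA]

end Cfsg.Agent.Nodes.Reindex
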