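import Mathlib
import Cfsg.Agent.Nodes.OppDec
import Cfsg.Agent.Nodes.Slope
import Cfsg.Agent.Nodes.PairOf
import Cfsg.Agent.Nodes.ChartLoc
import Cfsg.Agent.Nodes.ZRel
import Cfsg.Agent.Cit.FrameF2

/-!
# `μ`-elements and the squares of the `μ`-elements of the short root groups

* `comm_in`, `comm_two` : commutators of elements of two root groups when there is one / are two roots between;
* `eq_one_of_comm` : commuting elements of adjacent root groups;
* `mu_sq` : `μ(x) ^ 2 = z r * z (s_y r)` for `x ∈ X y`, `y ≠ ± r` not orthogonal to `r ∈ R`;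
* `mem_normalizer_VV`, `cj_VV_le` : automorphisms centralising `Z r` normalise `VV r`.
-/

set_option autoImplicit false
set_option linter.unusedSectionVars false

namespace Cfsg.Agent.Nodes.MuSq

open CoxeterSystem Cfsg.Agent.ChevalleyStructure.CoxeterGeom Cfsg.Agent.Tits.Roots Cfsg.Agent.Tits.Core
  Cfsg.Agent.Tits.RootComb Cfsg.Agent.Nodes.Comb Cfsg.Agent.Nodes.Reps Cfsg.Agent.Nodes.BNOf
  Cfsg.Agent.Nodes.Coroot Cfsg.Agent.Nodes.PairOf Cfsg.Agent.Nodes.OppDec Cfsg.Agent.Nodes.Bruhat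
  Cfsg.Agent.Nodes.Chart Cfsg.Agent.Nodes.RGDLib Cfsg.Agent.Nodes.LeviDec Cfsg.Agent.Nodes.ChartLoc
  Cfsg.Agent.Nodes.ClsNorm Cfsg.Agent.Nodes.SubComb
open scoped commutatorElement

variable {I W Y : Type*} [Fintype I] [DecidableEq I] [Group W] [Fintype W] [Group Y] {M : CoxeterMatrix I}
  {cs : CoxeterSystem M W} {A : I → I → ℤ} {h : IsCartan M A} {p : ℕ} {T : Subgroup Y} {n : I → Y}
  {X : (I → ℤ) → Subgroup Y}

/-! ### Commutators -/

section RGD

variable (R : RGD cs h p T n X)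

include R

theorem comm_mem_Sup {x y : I → ℤ} (hx : IsRoot cs h x) (hy : IsRoot cs h y) (hne : x ≠ y) (hne' : x ≠ -y)
    {S : Set (I → ℤ)} (hS : ∀ z, Btwn cs h x y z → z ∈ S) {u v : Y} (hu : u ∈ X x) (hv : v ∈ X y) :
    ⁅u, v⁆ ∈ RGD.Sup X S := by
  have h1 := R.comm x y hx hy hne hne' u hu v hv
  refine (iSup_le ?_ : btw cs h X x y ≤ RGD.Sup X S) h1
  rintro ⟨z, hz⟩
  exact RGD.le_Sup (hS z hz)

/-- one root between -/
theorem comm_in {x y w : I → ℤ} (hx : IsRoot cs h x) (hy : IsRoot cs h y) (hne : x ≠ y) (hne' : x ≠ -y)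
    (hS : ∀ z, Btwn cs h x y z → z = w) {u v : Y} (hu : u ∈ X x) (hv : v ∈ X y) : ⁅u, v⁆ ∈ X w := by
  refine RGD.Sup_le (S := {w}) ?_ (comm_mem_Sup R hx hy hne hne' (S := {w}) hS hu hv)
  rintro z rfl
  exact le_rfl

omit R in
theorem exists_mul_of_sup {P Q : Subgroup Y} (hc : ∀ a ∈ P, ∀ b ∈ Q, a * b = b * a) {x : Y} (hx : x ∈ P ⊔ Q) :
    ∃ a ∈ P, ∃ b ∈ Q, x = a * b := by
  let S : Subgroup Y :=
    { carrier := {x | ∃ a ∈ P, ∃ b ∈ Q, x = a * b}
      one_mem' := ⟨1, one_mem _, 1, one_mem _, by rw [one_mul]⟩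
      mul_mem' := by
        rintro _ _ ⟨a, ha, b, hb, rfl⟩ ⟨c, hc', d, hd, rfl⟩
        refine ⟨a * c, mul_mem ha hc', b * d, mul_mem hb hd, ?_⟩
        calc a * b * (c * d) = a * (b * c) * d := by group
          _ = a * (c * b) * d := by rw [hc c hc' b hb]
          _ = a * c * (b * d) := by group
      inv_mem' := by
        rintro _ ⟨a, ha, b, hb, rfl⟩
        refine ⟨a⁻¹, inv_mem ha, b⁻¹, inv_mem hb, ?_⟩
        rw [mul_inv_rev, hc _ (inv_mem ha) _ (inv_mem hb)] }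
  have h1 : P ⊔ Q ≤ S := sup_le (fun a ha => ⟨a, ha, 1, one_mem _, by rw [mul_one]⟩)
    fun b hb => ⟨1, one_mem _, b, hb, by rw [one_mul]⟩
  exact h1 hx

/-- two roots between -/
theorem comm_two {x y w₁ w₂ : I → ℤ} (hx : IsRoot cs h x) (hy : IsRoot cs h y) (hne : x ≠ y) (hne' : x ≠ -y)
    (hS : ∀ z, Btwn cs h x y z → z = w₁ ∨ z = w₂) (hc : ∀ a ∈ X w₁, ∀ b ∈ X w₂, a * b = b * a) {u v : Y}
    (hu : u ∈ X x) (hv : v ∈ X y) : ∃ a ∈ X w₁, ∃ b ∈ X w₂, ⁅u, v⁆ = a * b := by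
  have h1 := comm_mem_Sup R hx hy hne hne' (S := {w₁, w₂}) (fun z hz => hS z hz) hu hv
  have h2 : RGD.Sup X {w₁, w₂} ≤ X w₁ ⊔ X w₂ := by
    refine RGD.Sup_le ?_
    rintro z (rfl | rfl)
    · exact le_sup_left
    · exact le_sup_right
  exact exists_mul_of_sup hc (h2 h1)

/-- no root between -/
theorem comm_one {x y : I → ℤ} (hx : IsRoot cs h x) (hy : IsRoot cs h y) (hne : x ≠ y) (hne' : x ≠ -y)
    (hno : ∀ z, ¬ Btwn cs h x y z) {u v : Y} (hu : u ∈ X x) (hv : v ∈ X y) : u * v = v * u :=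
  commutatorElement_eq_one_iff_mul_comm.1 (comm_of_no_btwn R hx hy hne hne' hno u hu v hv)

/-- the `μ`-elements -/
theorem exists_mu' {x : I → ℤ} (hx : IsRoot cs h x) {a : Y} (ha : a ∈ X x) (hne : a ≠ 1) :
    ∃ u ∈ X (-x), ∃ v ∈ X (-x), ∃ w : W, Rp cs R.nsys w (u * a * v) ∧ w⁻¹ = w ∧
      ∀ z, rep cs h w z = z - cpr cs h z x • x := by
  obtain ⟨w, i, e0⟩ := hx.neg
  have hx' : IsRoot cs h (-x) := hx.neg
  obtain ⟨g, hg⟩ := exists_rp cs R.nsys w
  have ha' : a ∈ X (-rep cs h w (sr i)) := by rw [← e0, neg_neg]; exact ha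
  have h1 : g⁻¹ * a * g ∈ X (-sr i) := by
    have := R.conj_mem' hg (show IsRoot cs h (-rep cs h w (sr i)) from (IsRoot.neg ⟨w, i, rfl⟩)) ha'
    rwa [map_neg, rep_inv_apply] at this
  have h2 : g⁻¹ * a * g ≠ 1 := by
    intro h3
    apply hne
    have : a = g * (g⁻¹ * a * g) * g⁻¹ := by group
    rw [this, h3]; group
  obtain ⟨u, hu, t, ht, v, hv, e⟩ := R.rk1 i _ h1 h2
  have h3 : g * u⁻¹ * g⁻¹ * a * (g * v⁻¹ * g⁻¹) = g * (t * n i) * g⁻¹ := by
    have : a = g * (g⁻¹ * a * g) * g⁻¹ := by group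
    rw [this, e]; group
  have h4 : Rp cs R.nsys (rfl' cs w i) (g * (t * n i) * g⁻¹) := by
    have h5 := (hg.mul ((rp_of_mem (cs := cs) (hN := R.nsys) ht).mul (rp_simple cs R.nsys i))).mul hg.inv
    rwa [one_mul] at h5
  have hm : ∀ u ∈ X (sr i), g * u * g⁻¹ ∈ X (-x) := fun u hu => by
    rw [e0]; exact R.conj_mem hg (isRoot_sr cs h i) hu
  refine ⟨g * u⁻¹ * g⁻¹, hm _ (inv_mem hu), g * v⁻¹ * g⁻¹, hm _ (inv_mem hv), rfl' cs w i, by rw [h3]; exact h4,
    ?_, fun z => ?_⟩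
  · unfold rfl'
    rw [mul_inv_rev, mul_inv_rev, inv_inv, cs.inv_simple, mul_assoc]
  rw [rep_rfl'_eq, ← e0, cpr_neg_right cs h z hx, neg_smul, smul_neg, neg_neg]

/-- commuting elements of root groups `X x`, `X y`, no root between `-x` and `y`, `y` not orthogonal to `x` -/
theorem eq_one_of_comm {x y : I → ℤ} (hx : IsRoot cs h x) (hy : IsRoot cs h y) (hne : x ≠ y) (hne' : x ≠ -y)
    (hno : ∀ z, ¬ Btwn cs h (-x) y z) (hc : cpr cs h y x ≠ 0) {a b : Y} (ha : a ∈ X x) (ha1 : a ≠ 1)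
    (hb : b ∈ X y) (hab : a * b = b * a) : b = 1 := by
  obtain ⟨u, hu, v, hv, w, hw, -, h1⟩ := exists_mu' R hx ha ha1
  have hcu : ∀ u ∈ X (-x), u * b = b * u := fun u hu =>
    comm_one R hx.neg hy (fun e => hne' (by rw [← e, neg_neg])) (fun e => hne (neg_injective e)) hno hu hb
  have h2 : u * a * v * b * (u * a * v)⁻¹ = b := by
    have e1 : u * a * v * b = b * (u * a * v) := by
      calc u * a * v * b = u * a * (v * b) := by group
        _ = u * (a * b) * v := by rw [hcu v hv]; group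
        _ = (u * b) * a * v := by rw [hab]; group
        _ = b * (u * a * v) := by rw [hcu u hu]; group
    rw [e1, mul_inv_cancel_right]
  have h3 : b ∈ X (y - cpr cs h y x • x) := by
    rw [← h1 y, ← h2]
    exact R.conj_mem hw hy hb
  have hy' : IsRoot cs h (y - cpr cs h y x • x) := isRoot_refl cs h hy hx
  have h4 : y ≠ y - cpr cs h y x • x := by
    intro e
    have h5 : cpr cs h y x • x = 0 := sub_eq_self.1 e.symm
    rcases smul_eq_zero.1 h5 with h6 | h6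
    · exact hc h6
    · exact hx.ne_zero h6
  have h5 : b ∈ X y ⊓ X (y - cpr cs h y x • x) := ⟨hb, h3⟩
  rw [X_inf_X R hy hy' h4, Subgroup.mem_bot] at h5
  exact h5

/-- `X x ∩ T X(-x) = 1` -/
theorem eq_one_of_mul {x : I → ℤ} (hx : IsRoot cs h x) {c d : Y} (hc : c ∈ X x) (hd : d ∈ X (-x))
    (ht : c * d ∈ T) : c = 1 ∧ d = 1 := by
  have h1 : c = 1 := by
    rcases hx.pos_or_neg with h0 | h0
    · refine eq_one_of_mem_U_of_mem_BN R (RGD.le_Sup (S := RGD.Pos cs h) ⟨hx, h0⟩ hc) ?_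
      have e : c = c * d * d⁻¹ := by group
      rw [e]
      exact mul_mem (T_le_BN ht) (inv_mem (X_le_BN hx.neg (neg_nonpos.2 h0) hd))
    · refine eq_one_of_mem_UN_of_mem_B R (X_le_UN hx h0 hc) ?_
      have e : c = c * d * d⁻¹ := by group
      rw [e]
      refine mul_mem (RGD.T_le_B ht) (inv_mem (RGD.U_le_B ?_))
      exact RGD.le_Sup (S := RGD.Pos cs h) ⟨hx.neg, neg_nonneg.2 h0⟩ hd
  refine ⟨h1, ?_⟩
  rw [h1, one_mul] at ht
  have h2 : d ∈ X (-x) ⊓ T := ⟨hd, ht⟩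
  rw [X_inf_T R hx.neg, Subgroup.mem_bot] at h2
  exact h2

/-- uniqueness of the `μ`-element -/
theorem mu_unique {x : I → ℤ} (hx : IsRoot cs h x) {a u v u' v' : Y} {w : W} (hu : u ∈ X (-x))
    (hv : v ∈ X (-x)) (hu' : u' ∈ X (-x)) (hv' : v' ∈ X (-x)) (hw : Rp cs R.nsys w (u * a * v))
    (hw' : Rp cs R.nsys w (u' * a * v')) (e : rep cs h w x = -x) : u' * a * v' = u * a * v := by
  set m := u * a * v with hm
  set m' := u' * a * v' with hm'
  have h1 : m' = (u' * u⁻¹) * m * (v⁻¹ * v') := by rw [hm, hm']; group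
  have h3 : m⁻¹ * (u' * u⁻¹) * m ∈ X x := by
    have := R.conj_mem' hw hx.neg (mul_mem hu' (inv_mem hu))
    have e2 : rep cs h w⁻¹ (-x) = x := by rw [← e, rep_inv_apply]
    rwa [e2] at this
  have h4 : m⁻¹ * m' = (m⁻¹ * (u' * u⁻¹) * m) * (v⁻¹ * v') := by rw [h1]; group
  have h5 : m⁻¹ * m' ∈ T := by
    have := hw.inv.mul hw'
    rw [inv_mul_cancel] at this
    exact this.mem_of_one
  rw [h4] at h5
  obtain ⟨h6, h7⟩ := eq_one_of_mul R hx h3 (mul_mem (inv_mem hv) hv') h5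
  rw [h6, h7, mul_one] at h4
  exact (inv_mul_eq_one.1 h4).symm

end RGD

/-! ### The squares -/

section Cls

variable {RR : Set (I → ℤ)} {Z : (I → ℤ) → Subgroup Y} {z : (I → ℤ) → Y} (C : Cls cs h p T n X RR Z z)

include C

/-- **`μ(x) ^ 2 = z (s_y r) * z r`** -/
theorem mu_sq {r y : I → ℤ} (hr : r ∈ RR) (hy : IsRoot cs h y) (hne : y ≠ r) (hne' : y ≠ -r)
    (hf : form cs h y r ≠ 0) {a u v : Y} {w : W} (ha : a ∈ X y) (hu : u ∈ X (-y)) (hv : v ∈ X (-y))
    (hw : Rp cs C.rgd.nsys w (u * a * v)) (hwi : w⁻¹ = w) (he : ∀ x, rep cs h w x = x - cpr cs h x y • y) :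
    u * a * v * (u * a * v) = z (rep cs h w r) * z r := by
  set m := u * a * v with hm
  have hzz := C.z_sq r hr
  have hzi : (z r)⁻¹ = z r := inv_eq_of_mul_eq_one_right hzz
  have hey : rep cs h w y = -y := by
    rw [he, cpr_self cs h hy]
    have : y - (2 : ℤ) • y = -y := by
      funext k
      simp only [Pi.sub_apply, Pi.smul_apply, smul_eq_mul, Pi.neg_apply]
      ring
    exact this
  have hf' : form cs h (-y) r ≠ 0 := by rw [form_neg_left]; exact neg_ne_zero.2 hf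
  have i1 : z r * a * z r = a⁻¹ := C.z_inv r hr y hy hne hne' hf a ha
  have i2 : ∀ b ∈ X (-y), z r * b * z r = b⁻¹ := fun b hb =>
    C.z_inv r hr (-y) hy.neg (fun e => hne' (by rw [← e, neg_neg])) (fun e => hne (neg_injective e)) hf' b hb
  have h1 : z r * m * z r = u⁻¹ * a⁻¹ * v⁻¹ := by
    calc z r * m * z r = (z r * u * z r) * (z r * a * z r) * (z r * v * z r) := by
          rw [hm]
          calc z r * (u * a * v) * z r = z r * u * 1 * a * 1 * v * z r := by group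
            _ = z r * u * (z r * z r) * a * (z r * z r) * v * z r := by rw [hzz]
            _ = _ := by group
      _ = u⁻¹ * a⁻¹ * v⁻¹ := by rw [i1, i2 u hu, i2 v hv]
  have hz1 : Rp cs C.rgd.nsys 1 (z r) := rp_of_mem (cs := cs) (hN := C.rgd.nsys) (C.z_torus r hr)
  have h2 : Rp cs C.rgd.nsys w (u⁻¹ * a⁻¹ * v⁻¹) := by
    rw [← h1]
    have := (hz1.mul hw).mul hz1
    rwa [one_mul, mul_one] at this
  have h3 : Rp cs C.rgd.nsys w (v⁻¹ * a⁻¹ * u⁻¹) := by
    have := hw.inv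
    rw [hwi] at this
    have e : m⁻¹ = v⁻¹ * a⁻¹ * u⁻¹ := by rw [hm]; group
    rwa [e] at this
  have h4 := mu_unique C.rgd hy (inv_mem hu) (inv_mem hv) (inv_mem hv) (inv_mem hu) h2 h3 hey
  have h5 : z r * m * z r = m⁻¹ := by rw [h1, ← h4, hm]; group
  have h6 : m * z r * m⁻¹ = z (rep cs h w r) := conj_z C hw hr
  calc m * m = (m * z r * m⁻¹) * (m * (z r)⁻¹ * m) := by group
    _ = z (rep cs h w r) * (m * z r * m) := by rw [h6, hzi]
    _ = z (rep cs h w r) * z r := by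
        have h7 : m * z r * m = z r := by
          calc m * z r * m = m * (z r * m * z r) * (z r)⁻¹ := by group
            _ = z r := by rw [h5, mul_inv_cancel, one_mul, hzi]
        rw [h7]

/-- an element of `GG` normalising `Z r` normalises `VV r` -/
theorem mem_normalizer_VV {r : I → ℤ} (hr : r ∈ RR) {g : Y} (hg : g ∈ GG cs h T X)
    (hN : g ∈ Subgroup.normalizer (Z r : Set Y)) : g ∈ Subgroup.normalizer (VV cs h X r : Set Y) := by
  obtain ⟨k, hk, s, hs, hd, e1, -, -, e3⟩ := exists_dom C hr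
  have h1 : k * g * k⁻¹ ∈ Subgroup.normalizer (Z s : Set Y) := by
    rw [mem_normalizer_iff_cj] at hN ⊢
    rw [← e1, ← cj_mul]
    have h2 : k * g * k⁻¹ * k = k * g := by group
    rw [h2, cj_mul, hN]
  have h2 : k * g * k⁻¹ ∈ Subgroup.normalizer (VV cs h X s : Set Y) := by
    rw [VV_eq_VJ hd]
    apply PJ_le_normalizer_VJ C.rgd
    rw [← normalizer_inf_GG C hs hd]
    exact Subgroup.mem_inf.2 ⟨h1, mul_mem (mul_mem hk hg) (inv_mem hk)⟩
  rw [mem_normalizer_iff_cj] at h2 ⊢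
  rw [← e3, ← cj_mul] at h2
  have h3 : k * g * k⁻¹ * k = k * g := by group
  rw [h3, cj_mul] at h2
  have h4 := congrArg (cj k⁻¹) h2
  rwa [cj_inv_cj, cj_inv_cj] at h4

/-- an element normalising `GG` and centralising `Z r` maps `VV r` into `VV r` -/
theorem cj_VV_le [Finite Y] [Fact p.Prime] {r : I → ℤ} (hr : r ∈ RR) {a : Y}
    (haG : a ∈ Subgroup.normalizer (GG cs h T X : Set Y)) (har : ∀ x ∈ Z r, a * x = x * a) :
    cj a (VV cs h X r) ≤ VV cs h X r := by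
  have hGG : cj a (GG cs h T X) = GG cs h T X := mem_normalizer_iff_cj.1 haG
  refine Cfsg.Agent.Cit.FrameF2.le_of_normalized C.rgd r ((isPGroup_VV C r).map _) ?_ ?_
  · rw [← hGG]
    exact cj_mono a (VV_le_GG C r)
  · intro y hy h0 b hb
    have h1 : a⁻¹ * b * a ∈ GG cs h T X := by
      have h2 : b ∈ GG cs h T X := X_le_GG hy hb
      rw [← hGG, mem_cj] at h2
      exact h2
    have h2 : a⁻¹ * b * a ∈ Subgroup.normalizer (Z r : Set Y) := by
      apply centralizer_le_normalizer' (Z r)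
      rw [Subgroup.mem_centralizer_iff]
      intro x hx
      have h3 := C.cent r hr y hy h0 b hb x hx
      have h4 := har x hx
      calc x * (a⁻¹ * b * a) = a⁻¹ * (a * x) * a⁻¹ * b * a := by group
        _ = a⁻¹ * (x * a) * a⁻¹ * b * a := by rw [h4]
        _ = a⁻¹ * (b * x) * a := by rw [h3]; group
        _ = a⁻¹ * b * (a * x) := by rw [h4]; group
        _ = a⁻¹ * b * a * x := by group
    have h3 := mem_normalizer_VV C hr h1 h2
    rw [mem_normalizer_iff_cj] at h3 ⊢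
    have h4 : cj b (cj a (VV cs h X r)) = cj a (cj (a⁻¹ * b * a) (VV cs h X r)) := by
      rw [← cj_mul, ← cj_mul]
      congr 1
      group
    rw [h4, h3]

end Cls

end Cfsg.Agent.Nodes.MuSq
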