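import Mathlib
import Cfsg.Agent.Nodes.MuSq
import Cfsg.Agent.Cit.ThreeCoord
import Cfsg.Agent.Cit.ThreeAbs

/-!
# Charts of type `B 3`

`exists_a` : an element `a` of the group, centralising `⟨Z (± r)⟩` and `⟨Z (± s)⟩` for `r = ε₀ + ε₁`, `s = ε₀ - ε₁`,
with `a² = z r * z s`;

`false_of_sq` : there is no automorphism centralising `Z r` and `Z s` whose square is `z s` on `VV r`.
-/

set_option autoImplicit false
set_option linter.unusedSectionVars false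

namespace Cfsg.Agent.Nodes.BThreeForm

open CoxeterSystem Cfsg.Agent.ChevalleyStructure.CoxeterGeom Cfsg.Agent.Tits.Roots Cfsg.Agent.Tits.Core
  Cfsg.Agent.Tits.RootComb Cfsg.Agent.Nodes.Comb Cfsg.Agent.Nodes.Reps Cfsg.Agent.Nodes.BNOf
  Cfsg.Agent.Nodes.Coroot Cfsg.Agent.Nodes.PairOf Cfsg.Agent.Nodes.OppDec Cfsg.Agent.Nodes.Bruhat
  Cfsg.Agent.Nodes.Chart Cfsg.Agent.Nodes.RGDLib Cfsg.Agent.Nodes.LeviDec Cfsg.Agent.Nodes.ChartLoc
  Cfsg.Agent.Nodes.ClsNorm Cfsg.Agent.Nodes.SubComb Cfsg.Agent.Nodes.TypeC Cfsg.Agent.Nodes.KindBC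
  Cfsg.Agent.Nodes.TypeCForm Cfsg.Agent.Nodes.MuSq Cfsg.Agent.Cit.ThreeCoord
open scoped commutatorElement

variable {W Y : Type*} [Group W] [Fintype W] [Group Y] {cs : CoxeterSystem (CoxeterMatrix.B 3) W}
  {p : ℕ} {T : Subgroup Y} {n : Fin 3 → Y} {X : (Fin 3 → ℤ) → Subgroup Y}
  {Z : (Fin 3 → ℤ) → Subgroup Y} {z : (Fin 3 → ℤ) → Y}
  (C : Cls cs (isCartan 3) p T n X (RB 3) Z z)

include C

/-- root groups orthogonal to `r` centralise `⟨Z (± r)⟩` -/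
theorem cm_KK {r y : Fin 3 → ℤ} (hr : r ∈ RB 3) (hy : IsRoot cs (isCartan 3) y)
    (h0 : cpr cs (isCartan 3) y r = 0) {a x : Y} (ha : a ∈ X y) (hx : x ∈ Z r ⊔ Z (-r)) : a * x = x * a :=
  Perp.X_cm_KK C hr hy ((form_sign y (C.root r hr)).2.2.2 h0) a ha x hx

theorem cm_Z {r y : Fin 3 → ℤ} (hr : r ∈ RB 3) (hy : IsRoot cs (isCartan 3) y)
    (h0 : 0 ≤ cpr cs (isCartan 3) y r) {a x : Y} (ha : a ∈ X y) (hx : x ∈ Z r) : a * x = x * a :=
  C.cent r hr y hy ((form_sign y (C.root r hr)).2.1.2 h0) a ha x hx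

theorem cm_z {r y : Fin 3 → ℤ} (hr : r ∈ RB 3) (hy : IsRoot cs (isCartan 3) y)
    (h0 : cpr cs (isCartan 3) y r = 0) {a : Y} (ha : a ∈ X y) : a * z r = z r * a :=
  cm_KK C hr hy h0 ha (C.z_mem r hr)

theorem inv_z {r y : Fin 3 → ℤ} (hr : r ∈ RB 3) (hy : IsRoot cs (isCartan 3) y) (hne : y ≠ r) (hne' : y ≠ -r)
    (h0 : cpr cs (isCartan 3) y r ≠ 0) {a : Y} (ha : a ∈ X y) : z r * a * z r = a⁻¹ :=
  C.z_inv r hr y hy hne hne' (fun h => h0 ((form_sign y (C.root r hr)).2.2.1 h)) a ha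

/-- **Theorem A** -/
theorem exists_a (hp : p.Prime) (hodd : p ≠ 2) (hu : ZRel.Uniq (RB 3) Z z) :
    ∃ a ∈ GG cs (isCartan 3) T X, (∀ x ∈ Z rr ⊔ Z (-rr), a * x = x * a) ∧
      (∀ x ∈ Z ss ⊔ Z (-ss), a * x = x * a) ∧ a * a = z rr * z ss := by
  have hfp : IsRoot cs (isCartan 3) fp := root_fp
  obtain ⟨x, hx, hx1⟩ := (Subgroup.bot_or_exists_ne_one (X fp)).resolve_left (StdConn.X_ne_bot C hfp)
  obtain ⟨u, hu', v, hv, w, hw, hwi, he⟩ := exists_mu' C.rgd hfp hx hx1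
  have key : ∀ r ∈ RB 3, fc 2 r = 0 → ∀ b ∈ Z r ⊔ Z (-r), u * x * v * b = b * (u * x * v) := by
    intro r hr h2 b hb
    have h0 : cpr cs (isCartan 3) fp r = 0 := by
      rw [← (form_sign fp (C.root r hr)).2.2, form_comm, (form_sign r hfp).2.2, cpr_fp, h2]
    have h0' : cpr cs (isCartan 3) (-fp) r = 0 := by
      rw [← (form_sign (-fp) (C.root r hr)).2.2, form_neg_left, (form_sign fp (C.root r hr)).2.2.2 h0, neg_zero]
    have e1 := cm_KK C hr hfp h0 hx hb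
    have e2 := cm_KK C hr hfp.neg h0' hu' hb
    have e3 := cm_KK C hr hfp.neg h0' hv hb
    calc u * x * v * b = u * x * (v * b) := by group
      _ = u * (x * b) * v := by rw [e3]; group
      _ = (u * b) * x * v := by rw [e1]; group
      _ = b * (u * x * v) := by rw [e2]; group
  refine ⟨u * x * v, ?_, key rr rr_mem fc_rr.2.2, key ss ss_mem fc_ss.2.2, ?_⟩
  · exact mul_mem (mul_mem (X_le_GG hfp.neg hu') (X_le_GG hfp hx)) (X_le_GG hfp.neg hv)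
  · have h1 : form cs (isCartan 3) fp u3 ≠ 0 := by
      intro h
      rw [form_comm, (form_sign u3 hfp).2.2, cpr_fp, fc_u3.2.2] at h
      exact one_ne_zero h
    rw [mu_sq C u3_mem hfp (ne_of_fc 0 (by rw [fc_fp.1, fc_u3.1]; decide))
      (ne_of_fc 0 (by rw [map_neg, fc_fp.1, fc_u3.1]; decide)) h1 hx hu' hv hw hwi he]
    have e1 : rep cs (isCartan 3) w u3 = u1 := by
      rw [he, cpr_fp]
      refine eq_of_fc ?_ ?_ ?_
      · rw [map_sub, map_zsmul, fc_u3.2.2, fc_u3.1, fc_fp.1, fc_u1.1]; decide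
      · rw [map_sub, map_zsmul, fc_u3.2.2, fc_u3.2.1, fc_fp.2.1, fc_u1.2.1]; decide
      · rw [map_sub, map_zsmul, fc_u3.2.2, fc_fp.2.2, fc_u1.2.2]; decide
    have e2 : z u1 = z y3 * z rr := by
      have := ZRel.z_refl C hp hodd hu y3_mem rr_mem (ne_of_fc 0 (by rw [fc_rr.1, fc_y3.1]; decide))
        (ne_of_fc 0 (by rw [map_neg, fc_rr.1, fc_y3.1]; decide))
        (by rw [cpr_y3, cpr_rr, fc_rr.2.1, fc_rr.2.2, fc_y3.1, fc_y3.2.1]; decide)
      rw [← this]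
      congr 1
      rw [cpr_y3, fc_rr.2.1, fc_rr.2.2]
      refine eq_of_fc ?_ ?_ ?_
      · rw [map_sub, map_zsmul, fc_rr.1, fc_y3.1, fc_u1.1]; decide
      · rw [map_sub, map_zsmul, fc_rr.2.1, fc_y3.2.1, fc_u1.2.1]; decide
      · rw [map_sub, map_zsmul, fc_rr.2.2, fc_y3.2.2, fc_u1.2.2]; decide
    have e3 : z u3 = z y3 * z ss := by
      have := ZRel.z_refl C hp hodd hu y3_mem ss_mem (ne_of_fc 0 (by rw [fc_ss.1, fc_y3.1]; decide))
        (ne_of_fc 0 (by rw [map_neg, fc_ss.1, fc_y3.1]; decide))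
        (by rw [cpr_y3, cpr_ss, fc_ss.2.1, fc_ss.2.2, fc_y3.1, fc_y3.2.1]; decide)
      rw [← this]
      congr 1
      rw [cpr_y3, fc_ss.2.1, fc_ss.2.2]
      refine eq_of_fc ?_ ?_ ?_
      · rw [map_sub, map_zsmul, fc_ss.1, fc_y3.1, fc_u3.1]; decide
      · rw [map_sub, map_zsmul, fc_ss.2.1, fc_y3.2.1, fc_u3.2.1]; decide
      · rw [map_sub, map_zsmul, fc_ss.2.2, fc_y3.2.2, fc_u3.2.2]; decide
    have e4 : z y3 * z y3 = 1 := C.z_sq _ y3_mem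
    rw [e1, e2, e3]
    calc z y3 * z rr * (z y3 * z ss) = (z rr * z y3) * (z y3 * z ss) := by
          rw [ZRel.z_comm C y3_mem rr_mem]
      _ = z rr * (z y3 * z y3) * z ss := by group
      _ = z rr * z ss := by rw [e4, mul_one]

/-! ### The form on `VV rr` -/

omit C in
theorem mem_V {y : Fin 3 → ℤ} (hy : IsRoot cs (isCartan 3) y) (h0 : 0 < cpr cs (isCartan 3) y rr) {v : Y}
    (hv : v ∈ X y) : v ∈ VV cs (isCartan 3) X rr :=
  RGD.le_Sup (S := {y | IsRoot cs (isCartan 3) y ∧ 0 < form cs (isCartan 3) y rr})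
    ⟨hy, (form_sign y root_rr).1.2 h0⟩ hv

omit C in
/-- induction on generators of `VV rr` -/
theorem V_ind (S : Subgroup ↥(VV cs (isCartan 3) X rr))
    (hS : ∀ y (hy : IsRoot cs (isCartan 3) y) (h0 : 0 < cpr cs (isCartan 3) y rr) v (hv : v ∈ X y),
      (⟨v, mem_V hy h0 hv⟩ : ↥(VV cs (isCartan 3) X rr)) ∈ S) (v : ↥(VV cs (isCartan 3) X rr)) : v ∈ S := by
  have h1 : VV cs (isCartan 3) X rr ≤ S.map (VV cs (isCartan 3) X rr).subtype := by
    refine RGD.Sup_le ?_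
    rintro y ⟨hy, h0⟩ v hv
    exact ⟨_, hS y hy ((form_sign y root_rr).1.1 h0) v hv, rfl⟩
  obtain ⟨w, hw, e⟩ := h1 v.2
  rwa [← Subtype.ext e]

/-- the generators -/
theorem V_ind' {u : Y} (hu : u ∈ Z ss) (S : Subgroup ↥(VV cs (isCartan 3) X rr))
    (hS : ∀ y (hy : IsRoot cs (isCartan 3) y) (h0 : 0 < cpr cs (isCartan 3) y rr) v (hv : v ∈ X y),
      0 ≤ cpr cs (isCartan 3) y ss → u * v = v * u → (⟨v, mem_V hy h0 hv⟩ : ↥(VV cs (isCartan 3) X rr)) ∈ S)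
    (h1 : ∀ v (hv : v ∈ VV cs (isCartan 3) X rr), v ∈ X y1 → (⟨v, hv⟩ : ↥(VV cs (isCartan 3) X rr)) ∈ S)
    (h2 : ∀ v (hv : v ∈ VV cs (isCartan 3) X rr), v ∈ X y2 → (⟨v, hv⟩ : ↥(VV cs (isCartan 3) X rr)) ∈ S)
    (h3 : ∀ v (hv : v ∈ VV cs (isCartan 3) X rr), v ∈ X y3 → (⟨v, hv⟩ : ↥(VV cs (isCartan 3) X rr)) ∈ S)
    (v : ↥(VV cs (isCartan 3) X rr)) : v ∈ S := by
  refine V_ind S (fun y hy h0 v hv => ?_) v
  rcases le_or_gt 0 (cpr cs (isCartan 3) y ss) with h4 | h4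
  · exact hS y hy h0 v hv h4 (cm_Z C ss_mem hy h4 hv hu).symm
  · rw [cpr_rr] at h0
    rw [cpr_ss] at h4
    rcases cases_neg hy h0 h4 with rfl | rfl | rfl
    · exact h1 v _ hv
    · exact h2 v _ hv
    · exact h3 v _ hv

/-- `u` commutes with `X y1`, .. up to `X u1` -/
theorem du1 {u v : Y} (hu : u ∈ Z ss) (hv : v ∈ X y1) : ⁅u, v⁆ ∈ X u1 :=
  comm_in C.rgd root_ss root_y1 (ne_of_fc 0 (by rw [fc_ss.1, fc_y1.1]; decide))
    (ne_of_fc 0 (by rw [map_neg, fc_ss.1, fc_y1.1]; decide)) btwn_ss_y1 (C.le ss ss_mem hu) hv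

theorem du3 {u v : Y} (hu : u ∈ Z ss) (hv : v ∈ X y3) : ⁅u, v⁆ ∈ X u3 :=
  comm_in C.rgd root_ss root_y3 (ne_of_fc 0 (by rw [fc_ss.1, fc_y3.1]; decide))
    (ne_of_fc 0 (by rw [map_neg, fc_ss.1, fc_y3.1]; decide)) btwn_ss_y3 (C.le ss ss_mem hu) hv

theorem du2 {u v : Y} (hu : u ∈ Z ss) (hv : v ∈ X y2) : ∃ a ∈ X u2, ∃ b ∈ X rr, ⁅u, v⁆ = a * b :=
  comm_two C.rgd root_ss root_y2 (ne_of_fc 0 (by rw [fc_ss.1, fc_y2.1]; decide))
    (ne_of_fc 0 (by rw [map_neg, fc_ss.1, fc_y2.1]; decide)) btwn_ss_y2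
    (fun a ha b hb => comm_one C.rgd root_u2 root_rr (ne_of_fc 0 (by rw [fc_u2.1, fc_rr.1]; decide))
      (ne_of_fc 0 (by rw [map_neg, fc_u2.1, fc_rr.1]; decide)) btwn_u2_rr ha hb) (C.le ss ss_mem hu) hv

theorem fix_u1 {u v : Y} (hu : u ∈ Z ss) (hv : v ∈ X u1) : v * u = u * v :=
  cm_Z C ss_mem root_u1 (by rw [cpr_ss, fc_u1.1, fc_u1.2.1]; decide) hv hu

theorem fix_u2 {u v : Y} (hu : u ∈ Z ss) (hv : v ∈ X u2) : v * u = u * v :=
  cm_Z C ss_mem root_u2 (by rw [cpr_ss, fc_u2.1, fc_u2.2.1]; decide) hv hu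

theorem fix_u3 {u v : Y} (hu : u ∈ Z ss) (hv : v ∈ X u3) : v * u = u * v :=
  cm_Z C ss_mem root_u3 (by rw [cpr_ss, fc_u3.1, fc_u3.2.1]; decide) hv hu

theorem fix_rr {u v : Y} (hu : u ∈ Z ss) (hv : v ∈ X rr) : v * u = u * v :=
  cm_Z C ss_mem root_rr (by rw [cpr_ss, fc_rr.1, fc_rr.2.1]; decide) hv hu

/-- `u` commutes with `[u, v]` -/
theorem fix_d1 {u v : Y} (hu : u ∈ Z ss) (hv : v ∈ X y1) : ⁅u, v⁆ * u = u * ⁅u, v⁆ := fix_u1 C hu (du1 C hu hv)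

theorem fix_d3 {u v : Y} (hu : u ∈ Z ss) (hv : v ∈ X y3) : ⁅u, v⁆ * u = u * ⁅u, v⁆ := fix_u3 C hu (du3 C hu hv)

theorem fix_d2 {u v : Y} (hu : u ∈ Z ss) (hv : v ∈ X y2) : ⁅u, v⁆ * u = u * ⁅u, v⁆ := by
  obtain ⟨a, ha, b, hb, e⟩ := du2 C hu hv
  have e1 := fix_u2 C hu ha
  have e2 := fix_rr C hu hb
  rw [e]
  calc a * b * u = a * (b * u) := by group
    _ = (a * u) * b := by rw [e2]; group
    _ = u * (a * b) := by rw [e1]; group

/-- `[u, x] = 1` for `x ∈ X y1` : `x = 1` -/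
theorem eq_one_y1 {u x : Y} (hu : u ∈ Z ss) (hu1 : u ≠ 1) (hx : x ∈ X y1) (h : u * x = x * u) : x = 1 :=
  eq_one_of_comm C.rgd root_ss root_y1 (ne_of_fc 0 (by rw [fc_ss.1, fc_y1.1]; decide))
    (ne_of_fc 0 (by rw [map_neg, fc_ss.1, fc_y1.1]; decide)) btwn_nss_y1
    (by rw [cpr_ss, fc_y1.1, fc_y1.2.1]; decide) (C.le ss ss_mem hu) hu1 hx h

theorem h13 {u x y : Y} (hu : u ∈ Z ss) (hu1 : u ≠ 1) (hx : x ∈ X y1) (hy : y ∈ X y3)
    (h : ⁅u, x⁆ * y = y * ⁅u, x⁆) : x = 1 ∨ y = 1 := by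
  by_cases hx1 : ⁅u, x⁆ = 1
  · exact Or.inl (eq_one_y1 C hu hu1 hx (commutatorElement_eq_one_iff_mul_comm.1 hx1))
  · exact Or.inr (eq_one_of_comm C.rgd root_u1 root_y3 (ne_of_fc 0 (by rw [fc_u1.1, fc_y3.1]; decide))
      (ne_of_fc 0 (by rw [map_neg, fc_u1.1, fc_y3.1]; decide)) btwn_nu1_y3
      (by rw [cpr_u1, fc_y3.1, fc_y3.2.2]; decide) (du1 C hu hx) hx1 hy h)

/-- `[[u, x], x] = 1` for `x ∈ X y2` : `x = 1` -/
theorem h22 (hp : p.Prime) (hodd : p ≠ 2) {u x : Y} (hu : u ∈ Z ss) (hu1 : u ≠ 1) (hx : x ∈ X y2)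
    (h : ⁅u, x⁆ * x = x * ⁅u, x⁆) : x = 1 := by
  by_contra hx1
  obtain ⟨a, ha, b, hb, e⟩ := du2 C hu hx
  have huX := C.le ss ss_mem hu
  have hab : a * b = b * a := comm_one C.rgd root_u2 root_rr (ne_of_fc 0 (by rw [fc_u2.1, fc_rr.1]; decide))
      (ne_of_fc 0 (by rw [map_neg, fc_u2.1, fc_rr.1]; decide)) btwn_u2_rr ha hb
  have hzz := C.z_sq ss ss_mem
  have hzi : (z ss)⁻¹ = z ss := inv_eq_of_mul_eq_one_right hzz
  -- conjugation with `z ss`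
  have c1 : z ss * u * z ss = u := by
    rw [C.z_cent ss ss_mem u hu, mul_assoc, hzz, mul_one]
  have c2 : z ss * x * z ss = x⁻¹ := inv_z C ss_mem root_y2 (ne_of_fc 0 (by rw [fc_ss.1, fc_y2.1]; decide))
    (ne_of_fc 0 (by rw [map_neg, fc_ss.1, fc_y2.1]; decide)) (by rw [cpr_ss, fc_y2.1, fc_y2.2.1]; decide) hx
  have c3 : z ss * a * z ss = a⁻¹ := inv_z C ss_mem root_u2 (ne_of_fc 0 (by rw [fc_ss.1, fc_u2.1]; decide))
    (ne_of_fc 0 (by rw [map_neg, fc_ss.1, fc_u2.1]; decide)) (by rw [cpr_ss, fc_u2.1, fc_u2.2.1]; decide) ha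
  have c4 : z ss * b * z ss = b := by
    rw [← cm_z C ss_mem root_rr (by rw [cpr_ss, fc_rr.1, fc_rr.2.1]; decide) hb, mul_assoc, hzz, mul_one]
  have h1 : ⁅u, x⁆ * u = u * ⁅u, x⁆ := fix_d2 C hu hx
  have h2 : z ss * ⁅u, x⁆ * z ss = ⁅u, x⁆⁻¹ := by
    have h3 : ⁅u, x⁻¹⁆ = ⁅u, x⁆⁻¹ := by
      have e1 : ⁅u, x⁻¹⁆ = x⁻¹ * ⁅u, x⁆⁻¹ * x := by
        rw [commutatorElement_def, commutatorElement_def]; group
      have e2 : ⁅u, x⁆⁻¹ * x = x * ⁅u, x⁆⁻¹ := by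
        rw [inv_mul_eq_iff_eq_mul, ← mul_assoc, h, mul_inv_cancel_right]
      rw [e1, mul_assoc, e2, inv_mul_cancel_left]
    rw [← h3, ← hzi]
    have e1 : z ss * ⁅u, x⁆ * (z ss)⁻¹ = ⁅z ss * u * (z ss)⁻¹, z ss * x * (z ss)⁻¹⁆ := by
      rw [commutatorElement_def, commutatorElement_def]; group
    rw [hzi] at e1 ⊢
    rw [e1, c1, c2]
  have h3 : b = 1 := by
    apply ZRel.eq_one_of_inv C hp hodd root_rr hb
    rw [e] at h2
    have e1 : z ss * (a * b) * z ss = a⁻¹ * b := by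
      calc z ss * (a * b) * z ss = z ss * a * 1 * b * z ss := by group
        _ = z ss * a * (z ss * z ss) * b * z ss := by rw [hzz]
        _ = (z ss * a * z ss) * (z ss * b * z ss) := by group
        _ = a⁻¹ * b := by rw [c3, c4]
    rw [e1, hab, mul_inv_rev] at h2
    exact mul_left_cancel h2
  rw [h3, mul_one] at e
  -- the `μ`-element of `x`
  obtain ⟨q, hq, q', hq', w, hw, hwi, he⟩ := exists_mu' C.rgd root_y2 hx hx1
  have hqu : ∀ q ∈ X (-y2), q * u = u * q := fun q hq =>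
    comm_one C.rgd root_y2.neg root_ss (ne_of_fc 0 (by rw [map_neg, fc_ss.1, fc_y2.1]; decide))
      (ne_of_fc 0 (by rw [map_neg, map_neg, fc_ss.1, fc_y2.1]; decide)) btwn_ny2_ss hq huX
  have g1 : q * x * q' * u * (q * x * q')⁻¹ = (q * a⁻¹ * q⁻¹) * u := by
    have e1 : x * u = a⁻¹ * u * x := by
      rw [← e, commutatorElement_def]; group
    calc q * x * q' * u * (q * x * q')⁻¹ = q * x * (q' * u) * (q * x * q')⁻¹ := by group
      _ = q * (x * u) * q' * (q * x * q')⁻¹ := by rw [hqu q' hq']; group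
      _ = q * (a⁻¹ * u * x) * q' * (q * x * q')⁻¹ := by rw [e1]
      _ = q * a⁻¹ * (u * q⁻¹) := by group
      _ = q * a⁻¹ * (q⁻¹ * u) := by rw [hqu q⁻¹ (inv_mem hq)]
      _ = (q * a⁻¹ * q⁻¹) * u := by group
  have g2 : ⁅q, a⁻¹⁆ ∈ X ss :=
    comm_in C.rgd root_y2.neg root_u2 (ne_of_fc 0 (by rw [map_neg, fc_u2.1, fc_y2.1]; decide))
      (ne_of_fc 0 (by rw [map_neg, map_neg, fc_u2.1, fc_y2.1]; decide)) btwn_ny2_u2 hq (inv_mem ha)
  have g3 : q * x * q' * u * (q * x * q')⁻¹ ∈ X rr := by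
    have h5 := C.rgd.conj_mem hw root_ss huX
    have e1 : rep cs (isCartan 3) w ss = rr := by
      rw [he, cpr_y2]
      refine eq_of_fc ?_ ?_ ?_
      · rw [map_sub, map_zsmul, fc_ss.2.1, fc_ss.1, fc_y2.1, fc_rr.1]; decide
      · rw [map_sub, map_zsmul, fc_ss.2.1, fc_y2.2.1, fc_rr.2.1]; decide
      · rw [map_sub, map_zsmul, fc_ss.2.1, fc_ss.2.2, fc_y2.2.2, fc_rr.2.2]; decide
    rwa [e1] at h5
  have g4 : q * x * q' * u * (q * x * q')⁻¹ = 1 := by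
    apply Slope.sup_inf_sup' C.rgd (fc 1) (fc 0)
    · exact RGD.le_Sup (S := {x | IsRoot cs (isCartan 3) x ∧ 0 < fc 1 x})
        ⟨root_rr, by rw [fc_rr.2.1]; decide⟩ g3
    · have k1 : X ss ≤ RGD.Sup X {x | IsRoot cs (isCartan 3) x ∧ fc 1 x ≤ 0 ∧ 0 < fc 0 x} :=
        RGD.le_Sup (S := {x | IsRoot cs (isCartan 3) x ∧ fc 1 x ≤ 0 ∧ 0 < fc 0 x})
          ⟨root_ss, by rw [fc_ss.2.1]; decide, by rw [fc_ss.1]; decide⟩
      have k2 : X u2 ≤ RGD.Sup X {x | IsRoot cs (isCartan 3) x ∧ fc 1 x ≤ 0 ∧ 0 < fc 0 x} :=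
        RGD.le_Sup (S := {x | IsRoot cs (isCartan 3) x ∧ fc 1 x ≤ 0 ∧ 0 < fc 0 x})
          ⟨root_u2, by rw [fc_u2.2.1], by rw [fc_u2.1]; decide⟩
      rw [g1]
      have e1 : q * a⁻¹ * q⁻¹ = ⁅q, a⁻¹⁆ * a⁻¹ := by rw [commutatorElement_def]; group
      rw [e1]
      exact mul_mem (mul_mem (k1 g2) (k2 (inv_mem ha))) (k1 huX)
  apply hu1
  have e2 : q * x * q' * u = q * x * q' * 1 := by
    rw [mul_one]
    exact mul_inv_eq_one.1 g4
  exact mul_left_cancel e2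

/-! ### The reflection in `fm` -/

omit C in
theorem fmneg : -fm = fp :=
  eq_of_fc (by rw [map_neg, fc_fp.1, fc_fm.1]; rfl) (by rw [map_neg, fc_fp.2.1, fc_fm.2.1]; rfl)
    (by rw [map_neg, fc_fp.2.2, fc_fm.2.2]; rfl)

theorem comm_fm {x c : Y} (hx : x ∈ X fm) (hc : c ∈ X y3) : ∃ m ∈ X y2, ∃ d ∈ X y1, ⁅x, c⁆ = m * d :=
  comm_two C.rgd root_fm root_y3 (ne_of_fc 1 (by rw [fc_fm.2.1, fc_y3.2.1]; decide))
    (ne_of_fc 1 (by rw [map_neg, fc_fm.2.1, fc_y3.2.1]; decide)) btwn_fm_y3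
    (fun a ha b hb => (comm_one C.rgd root_y1 root_y2 (ne_of_fc 1 (by rw [fc_y1.2.1, fc_y2.2.1]; decide))
      (ne_of_fc 1 (by rw [map_neg, fc_y1.2.1, fc_y2.2.1]; decide)) btwn_y1_y2 hb ha).symm) hx hc

theorem conj_inv {x c m d : Y} (hx : x ∈ X fm) (hc : c ∈ X y3) (hm : m ∈ X y2) (hd : d ∈ X y1)
    (h : ⁅x, c⁆ = m * d) : x⁻¹ * c * x = c * d * m⁻¹ := by
  have hzz := C.z_sq u1 u1_mem
  have hzi : (z u1)⁻¹ = z u1 := inv_eq_of_mul_eq_one_right hzz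
  have c1 : z u1 * x * z u1 = x⁻¹ := inv_z C u1_mem root_fm (ne_of_fc 0 (by rw [fc_fm.1, fc_u1.1]; decide))
    (ne_of_fc 0 (by rw [map_neg, fc_fm.1, fc_u1.1]; decide)) (by rw [cpr_u1, fc_fm.1, fc_fm.2.2]; decide) hx
  have c2 : z u1 * c * z u1 = c⁻¹ := inv_z C u1_mem root_y3 (ne_of_fc 0 (by rw [fc_y3.1, fc_u1.1]; decide))
    (ne_of_fc 0 (by rw [map_neg, fc_y3.1, fc_u1.1]; decide)) (by rw [cpr_u1, fc_y3.1, fc_y3.2.2]; decide) hc
  have c3 : z u1 * d * z u1 = d⁻¹ := inv_z C u1_mem root_y1 (ne_of_fc 0 (by rw [fc_y1.1, fc_u1.1]; decide))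
    (ne_of_fc 0 (by rw [map_neg, fc_y1.1, fc_u1.1]; decide)) (by rw [cpr_u1, fc_y1.1, fc_y1.2.2]; decide) hd
  have c4 : z u1 * m * z u1 = m := by
    rw [← cm_z C u1_mem root_y2 (by rw [cpr_u1, fc_y2.1, fc_y2.2.2]; decide) hm, mul_assoc, hzz, mul_one]
  have h1 : x * c * x⁻¹ = m * d * c := by
    rw [← h, commutatorElement_def]; group
  have h2 : x⁻¹ * c⁻¹ * x = m * d⁻¹ * c⁻¹ := by
    have e1 : z u1 * (x * c * x⁻¹) * z u1 = x⁻¹ * c⁻¹ * x := by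
      have e2 : z u1 * (x * c * x⁻¹) * z u1 = (z u1 * x * z u1) * (z u1 * c * z u1) * (z u1 * x * z u1)⁻¹ := by
        rw [mul_inv_rev, mul_inv_rev, hzi]
        calc z u1 * (x * c * x⁻¹) * z u1 = z u1 * x * 1 * c * 1 * x⁻¹ * z u1 := by group
          _ = z u1 * x * (z u1 * z u1) * c * (z u1 * z u1) * x⁻¹ * z u1 := by rw [hzz]
          _ = _ := by group
      rw [e2, c1, c2, inv_inv]
    have e2 : z u1 * (m * d * c) * z u1 = m * d⁻¹ * c⁻¹ := by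
      have e3 : z u1 * (m * d * c) * z u1 = (z u1 * m * z u1) * (z u1 * d * z u1) * (z u1 * c * z u1) := by
        calc z u1 * (m * d * c) * z u1 = z u1 * m * 1 * d * 1 * c * z u1 := by group
          _ = z u1 * m * (z u1 * z u1) * d * (z u1 * z u1) * c * z u1 := by rw [hzz]
          _ = _ := by group
      rw [e3, c2, c3, c4]
    rw [← e1, h1, e2]
  have h3 := congrArg (·⁻¹) h2
  simp only [mul_inv_rev, inv_inv] at h3
  rw [← mul_assoc, ← mul_assoc] at h3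
  exact h3

omit C in
theorem rep_y3 {w : W} (he : ∀ z, rep cs (isCartan 3) w z = z - cpr cs (isCartan 3) z fm • fm) :
    rep cs (isCartan 3) w y3 = y1 := by
  rw [he, cpr_fm]
  refine eq_of_fc ?_ ?_ ?_
  · rw [map_sub, map_zsmul, fc_y3.2.2, fc_y3.1, fc_fm.1, fc_y1.1]; decide
  · rw [map_sub, map_zsmul, fc_y3.2.2, fc_y3.2.1, fc_fm.2.1, fc_y1.2.1]; decide
  · rw [map_sub, map_zsmul, fc_y3.2.2, fc_fm.2.2, fc_y1.2.2]; decide

/-- `d = 1` -/
theorem eq_one_of_d {x c m q q' : Y} {w : W} (hx : x ∈ X fm) (hc : c ∈ X y3) (hm : m ∈ X y2)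
    (h : ⁅x, c⁆ = m) (hq : q ∈ X fp) (hq' : q' ∈ X fp) (hw : Rp cs C.rgd.nsys w (q * x * q'))
    (he : ∀ z, rep cs (isCartan 3) w z = z - cpr cs (isCartan 3) z fm • fm) : c = 1 := by
  have hqc : ∀ q ∈ X fp, q * c = c * q := fun q hq =>
    comm_one C.rgd root_fp root_y3 (ne_of_fc 1 (by rw [fc_fp.2.1, fc_y3.2.1]; decide))
      (ne_of_fc 1 (by rw [map_neg, fc_fp.2.1, fc_y3.2.1]; decide)) btwn_fp_y3 hq hc
  have g2 : ⁅q, m⁆ ∈ X y3 :=
    comm_in C.rgd root_fp root_y2 (ne_of_fc 1 (by rw [fc_fp.2.1, fc_y2.2.1]; decide))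
      (ne_of_fc 1 (by rw [map_neg, fc_fp.2.1, fc_y2.2.1]; decide)) btwn_fp_y2 hq hm
  have g1 : q * x * q' * c * (q * x * q')⁻¹ = ⁅q, m⁆ * m * c := by
    have e1 : x * c = m * c * x := by
      rw [← h, commutatorElement_def]; group
    calc q * x * q' * c * (q * x * q')⁻¹ = q * x * (q' * c) * (q * x * q')⁻¹ := by group
      _ = q * (x * c) * q' * (q * x * q')⁻¹ := by rw [hqc q' hq']; group
      _ = q * (m * c * x) * q' * (q * x * q')⁻¹ := by rw [e1]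
      _ = q * m * (c * q⁻¹) := by group
      _ = q * m * (q⁻¹ * c) := by rw [hqc q⁻¹ (inv_mem hq)]
      _ = ⁅q, m⁆ * m * c := by rw [commutatorElement_def]; group
  have g3 : q * x * q' * c * (q * x * q')⁻¹ ∈ X y1 := by
    have h5 := C.rgd.conj_mem hw root_y3 hc
    rwa [rep_y3 he] at h5
  have g4 : q * x * q' * c * (q * x * q')⁻¹ = 1 := by
    apply Slope.sup_inf_sup' C.rgd (-fc 2) (fc 1)
    · exact RGD.le_Sup (S := {x | IsRoot cs (isCartan 3) x ∧ 0 < (-fc 2) x})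
        ⟨root_y1, by rw [AddMonoidHom.neg_apply, fc_y1.2.2]; decide⟩ g3
    · have k1 : X y3 ≤ RGD.Sup X {x | IsRoot cs (isCartan 3) x ∧ (-fc 2) x ≤ 0 ∧ 0 < fc 1 x} :=
        RGD.le_Sup (S := {x | IsRoot cs (isCartan 3) x ∧ (-fc 2) x ≤ 0 ∧ 0 < fc 1 x})
          ⟨root_y3, by rw [AddMonoidHom.neg_apply, fc_y3.2.2]; decide, by rw [fc_y3.2.1]; decide⟩
      have k2 : X y2 ≤ RGD.Sup X {x | IsRoot cs (isCartan 3) x ∧ (-fc 2) x ≤ 0 ∧ 0 < fc 1 x} :=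
        RGD.le_Sup (S := {x | IsRoot cs (isCartan 3) x ∧ (-fc 2) x ≤ 0 ∧ 0 < fc 1 x})
          ⟨root_y2, by rw [AddMonoidHom.neg_apply, fc_y2.2.2]; decide, by rw [fc_y2.2.1]; decide⟩
      rw [g1]
      exact mul_mem (mul_mem (k1 g2) (k2 hm)) (k1 hc)
  have e2 : q * x * q' * c = q * x * q' * 1 := by
    rw [mul_one]
    exact mul_inv_eq_one.1 g4
  exact mul_left_cancel e2

/-! ### The automorphisms -/

theorem mem_norm {k : Y} (hk : k ∈ GG cs (isCartan 3) T X) (hkr : ∀ b ∈ Z rr, k * b = b * k) :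
    k ∈ Subgroup.normalizer (VV cs (isCartan 3) X rr : Set Y) := by
  apply mem_normalizer_VV C rr_mem hk
  apply centralizer_le_normalizer' (Z rr)
  rw [Subgroup.mem_centralizer_iff]
  exact fun x hx => (hkr x hx).symm

theorem mem_norm' [Finite Y] [Fact p.Prime] {a : Y}
    (haG : a ∈ Subgroup.normalizer (GG cs (isCartan 3) T X : Set Y)) (har : ∀ b ∈ Z rr, a * b = b * a) :
    a ∈ Subgroup.normalizer (VV cs (isCartan 3) X rr : Set Y) := by
  rw [mem_normalizer_iff_cj]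
  refine le_antisymm (cj_VV_le C rr_mem haG har) ?_
  have h1 := cj_VV_le C rr_mem (inv_mem haG) (fun b hb => by
    rw [inv_mul_eq_iff_eq_mul, ← mul_assoc, har b hb, mul_inv_cancel_right])
  have h2 := cj_mono a h1
  rwa [← cj_mul, mul_inv_cancel, cj_one] at h2

section kap

omit C

variable (V : Subgroup Y)

/-- conjugation as an automorphism -/
def kap {k : Y} (hk : k ∈ Subgroup.normalizer (V : Set Y)) : MulAut V := V.normalizerMonoidHom ⟨k, hk⟩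

theorem kap_val {k : Y} (hk : k ∈ Subgroup.normalizer (V : Set Y)) (v : V) :
    ((kap V hk v : V) : Y) = k * v * k⁻¹ := rfl

theorem kap_inv_val {k : Y} (hk : k ∈ Subgroup.normalizer (V : Set Y)) (v : V) :
    (((kap V hk)⁻¹ v : V) : Y) = k⁻¹ * v * k := by
  have h1 : (kap V hk)⁻¹ = kap V (inv_mem hk) := (map_inv V.normalizerMonoidHom ⟨k, hk⟩).symm
  rw [h1, kap_val, inv_inv]

end kap

open Cfsg.Agent.Cit.ThreeAbs IsMulCommutative in
/-- **Theorem X** -/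
theorem false_of_sq [Finite Y] [Fact p.Prime] (hodd : p ≠ 2) {a : Y}
    (haG : a ∈ Subgroup.normalizer (GG cs (isCartan 3) T X : Set Y)) (har : ∀ b ∈ Z rr, a * b = b * a)
    (has : ∀ b ∈ Z ss, a * b = b * a)
    (hsq : ∀ v ∈ VV cs (isCartan 3) X rr, a * a * v * (a * a)⁻¹ = z ss * v * (z ss)⁻¹) : False := by
  have hp : p.Prime := Fact.out
  obtain ⟨u, hu, hu1⟩ := (Subgroup.bot_or_exists_ne_one (Z ss)).resolve_left (C.ne_bot ss ss_mem)
  obtain ⟨x, hx, hx1⟩ := (Subgroup.bot_or_exists_ne_one (X fm)).resolve_left (StdConn.X_ne_bot C root_fm)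
  obtain ⟨c₀, hc₀, hc₁⟩ := (Subgroup.bot_or_exists_ne_one (X y3)).resolve_left (StdConn.X_ne_bot C root_y3)
  obtain ⟨q, hq, q', hq', w, hw, hwi, he⟩ := exists_mu' C.rgd root_fm hx hx1
  rw [fmneg] at hq hq'
  set V := VV cs (isCartan 3) X rr with hVdef
  have huX := C.le ss ss_mem hu
  -- commutators
  have hcom : ∀ v w : ↥V, ((⁅v, w⁆ : ↥V) : Y) ∈ Z rr := fun v w =>
    commutator_VV_le C hodd rr_mem (Subgroup.commutator_mem_commutator v.2 w.2)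
  have hV : ∀ v w : ↥V, ⁅v, w⁆ ∈ Subgroup.center ↥V := fun v w => by
    rw [Subgroup.mem_center_iff]
    intro g
    exact Subtype.ext (VV_comm C rr_mem (hcom v w) g.2).symm
  -- the automorphisms
  have hfix : ∀ {k : Y} (hk : k ∈ Subgroup.normalizer (V : Set Y)) (_ : ∀ b ∈ Z rr, k * b = b * k) (v w : ↥V),
      kap V hk ⁅v, w⁆ = ⁅v, w⁆ := fun {k} hk hkr v w => by
    apply Subtype.ext
    rw [kap_val, hkr _ (hcom v w), mul_inv_cancel_right]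
  have hur : ∀ b ∈ Z rr, u * b = b * u := fun b hb =>
    cm_Z C rr_mem root_ss (by rw [cpr_rr, fc_ss.1, fc_ss.2.1]; decide) huX hb
  have hun : u ∈ Subgroup.normalizer (V : Set Y) := mem_norm C (X_le_GG root_ss huX) hur
  have hiso : ∀ {k : Y} (hk : k ∈ Subgroup.normalizer (V : Set Y)) (_ : ∀ b ∈ Z rr, k * b = b * k)
      (_ : k * u = u * k), Cfsg.Agent.Cit.ThreeLin.Iso (bM hV (kap V hun)) (kap V hk) := fun {k} hk hkr hku => by
    apply iso_of hV (hfix hk hkr)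
    intro v
    apply Subtype.ext
    rw [kap_val, kap_val, kap_val, kap_val]
    calc k * (u * v * u⁻¹) * k⁻¹ = (k * u) * v * (k * u)⁻¹ := by group
      _ = (u * k) * v * (u * k)⁻¹ := by rw [hku]
      _ = u * (k * v * k⁻¹) * u⁻¹ := by group
  -- `δ v`
  have hdv : ∀ v : ↥V, ((kap V hun v * v⁻¹ : ↥V) : Y) = ⁅u, (v : Y)⁆ := fun v => rfl
  have hone : ∀ v w : ↥V, bM hV (kap V hun) v w = 1 ↔ ⁅u, (v : Y)⁆ * w = w * ⁅u, (v : Y)⁆ := fun v w => by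
    rw [bM_apply, cM_eq_one, Subtype.ext_iff]
    exact Iff.rfl
  have hbfix : ∀ v : ↥V, u * v = v * u → bM hV (kap V hun) v = 1 := fun v h => by
    apply bM_of_fix
    apply Subtype.ext
    rw [kap_val, h, mul_inv_cancel_right]
  have hquad : ∀ v : ↥V, kap V hun (kap V hun v * v⁻¹) = kap V hun v * v⁻¹ := by
    have key : ∀ v : ↥V, v ∈ quad (kap V hun) (hfix hun hur) := by
      have hgen : ∀ v : ↥V, ⁅u, (v : Y)⁆ * u = u * ⁅u, (v : Y)⁆ → v ∈ quad (kap V hun) (hfix hun hur) := by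
        intro v h
        apply Subtype.ext
        rw [kap_val, hdv, ← h, mul_inv_cancel_right]
      refine V_ind' C hu _ ?_ ?_ ?_ ?_
      · intro y hy h0 v hv h4 h5
        apply hgen
        rw [commutatorElement_eq_one_iff_mul_comm.2 h5, one_mul, mul_one]
      · intro v hv h
        exact hgen _ (fix_d1 C hu h)
      · intro v hv h
        exact hgen _ (fix_d2 C hu h)
      · intro v hv h
        exact hgen _ (fix_d3 C hu h)
    exact key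
  -- membership
  have m1 : ∀ {v}, v ∈ X y1 → v ∈ V := fun hv => mem_V root_y1 (by rw [cpr_rr, fc_y1.1, fc_y1.2.1]; decide) hv
  have m2 : ∀ {v}, v ∈ X y2 → v ∈ V := fun hv => mem_V root_y2 (by rw [cpr_rr, fc_y2.1, fc_y2.2.1]; decide) hv
  have m3 : ∀ {v}, v ∈ X y3 → v ∈ V := fun hv => mem_V root_y3 (by rw [cpr_rr, fc_y3.1, fc_y3.2.1]; decide) hv
  have D : Cfsg.Agent.Cit.ThreeLin.Dat (bM hV (kap V hun)) ((X y1).subgroupOf V) ((X y2).subgroupOf V)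
      ((X y3).subgroupOf V) := by
    refine ⟨?_, ?_, ?_, ?_, ?_, ?_, ?_, ?_, ?_⟩
    · intro b hb
      have h1 : Odd (Nat.card (Subgroup.center ↥V)) :=
        (odd_card_VV C hodd rr).of_dvd_nat (Subgroup.card_subgroup_dvd_card _)
      have h2 : orderOf b ∣ 2 := orderOf_dvd_of_pow_eq_one (by rw [pow_two]; exact hb)
      have h3 : Odd (orderOf b) := h1.of_dvd_nat (orderOf_dvd_natCard b)
      rcases (Nat.dvd_prime Nat.prime_two).1 h2 with h4 | h4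
      · exact orderOf_eq_one_iff.1 h4
      · rw [h4] at h3; exact absurd h3 (by decide)
    · exact bM_sym hV (hfix hun hur) hquad
    · have key : ∀ v : ↥V, v ∈ ((((X y1).subgroupOf V).map (bM hV (kap V hun)) ⊔
          ((X y2).subgroupOf V).map (bM hV (kap V hun))) ⊔
          ((X y3).subgroupOf V).map (bM hV (kap V hun))).comap (bM hV (kap V hun)) := by
        refine V_ind' C hu _ ?_ ?_ ?_ ?_
        · intro y hy h0 v hv h4 h5
          rw [Subgroup.mem_comap, hbfix ⟨v, mem_V hy h0 hv⟩ h5]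
          exact one_mem _
        · intro v hv h
          exact Subgroup.mem_sup_left (Subgroup.mem_sup_left (Subgroup.mem_map_of_mem _ h))
        · intro v hv h
          exact Subgroup.mem_sup_left (Subgroup.mem_sup_right (Subgroup.mem_map_of_mem _ h))
        · intro v hv h
          exact Subgroup.mem_sup_right (Subgroup.mem_map_of_mem _ h)
      intro v
      obtain ⟨b, hb, b₃, ⟨x₃, h₃, rfl⟩, e⟩ := Subgroup.mem_sup.1 (key v)
      obtain ⟨b₁, ⟨x₁, h₁, rfl⟩, b₂, ⟨x₂, h₂, rfl⟩, rfl⟩ := Subgroup.mem_sup.1 hb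
      exact ⟨x₁, h₁, x₂, h₂, x₃, h₃, e.symm⟩
    · intro v hv w hw
      rw [hone]
      exact comm_one C.rgd root_u1 root_y1 (ne_of_fc 0 (by rw [fc_u1.1, fc_y1.1]; decide))
        (ne_of_fc 0 (by rw [map_neg, fc_u1.1, fc_y1.1]; decide)) btwn_u1_y1 (du1 C hu hv) hw
    · intro v hv w hw
      rw [hone]
      exact comm_one C.rgd root_u3 root_y3 (ne_of_fc 0 (by rw [fc_u3.1, fc_y3.1]; decide))
        (ne_of_fc 0 (by rw [map_neg, fc_u3.1, fc_y3.1]; decide)) btwn_u3_y3 (du3 C hu hv) hw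
    · intro v hv w hw
      rw [hone]
      exact comm_one C.rgd root_u1 root_y2 (ne_of_fc 0 (by rw [fc_u1.1, fc_y2.1]; decide))
        (ne_of_fc 0 (by rw [map_neg, fc_u1.1, fc_y2.1]; decide)) btwn_u1_y2 (du1 C hu hv) hw
    · intro v hv w hw
      rw [hone]
      exact comm_one C.rgd root_u3 root_y2 (ne_of_fc 0 (by rw [fc_u3.1, fc_y2.1]; decide))
        (ne_of_fc 0 (by rw [map_neg, fc_u3.1, fc_y2.1]; decide)) btwn_u3_y2 (du3 C hu hv) hw
    · intro v hv w hw h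
      rw [hone] at h
      rcases h13 C hu hu1 hv hw h with h | h
      · exact Or.inl (Subtype.ext h)
      · exact Or.inr (Subtype.ext h)
    · intro v hv h
      rw [hone] at h
      exact Subtype.ext (h22 C hp hodd hu hu1 hv h)
  -- `α`
  have han : a ∈ Subgroup.normalizer (V : Set Y) := mem_norm' C haG har
  have ha2 : ∀ v : ↥V, bM hV (kap V hun) (kap V han (kap V han v)) = (bM hV (kap V hun) v)⁻¹ := by
    have hval : ∀ v : ↥V, ((kap V han (kap V han v) : ↥V) : Y) = z ss * v * (z ss)⁻¹ := fun v => by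
      rw [kap_val, kap_val, ← hsq v v.2]
      group
    have key : ∀ v : ↥V, v ∈ MonoidHom.eqLocus
        ((bM hV (kap V hun)).comp ((kap V han).toMonoidHom.comp (kap V han).toMonoidHom))
        (bM hV (kap V hun))⁻¹ := by
      have hinv : ∀ v : ↥V, z ss * v * z ss = (v : Y)⁻¹ → v ∈ MonoidHom.eqLocus
          ((bM hV (kap V hun)).comp ((kap V han).toMonoidHom.comp (kap V han).toMonoidHom))
          (bM hV (kap V hun))⁻¹ := by
        intro v h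
        change bM hV (kap V hun) (kap V han (kap V han v)) = (bM hV (kap V hun) v)⁻¹
        have e1 : kap V han (kap V han v) = v⁻¹ := by
          apply Subtype.ext
          rw [hval, ZRel.z_inv' C ss_mem, h]
          rfl
        rw [e1, map_inv]
      refine V_ind' C hu _ ?_ ?_ ?_ ?_
      · intro y hy h0 v hv h4 h5
        change bM hV (kap V hun) (kap V han (kap V han _)) = (bM hV (kap V hun) _)⁻¹
        rw [hbfix ⟨v, mem_V hy h0 hv⟩ h5, inv_one]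
        apply hbfix
        rw [hval]
        have h6 : z ss * v * (z ss)⁻¹ ∈ X y := by
          have h7 := C.rgd.tor y hy (z ss) (C.z_torus ss ss_mem)
          rw [← h7]
          exact conj_mem_cj.2 hv
        exact (cm_Z C ss_mem hy h4 h6 hu).symm
      · intro v hv h
        exact hinv _ (inv_z C ss_mem root_y1 (ne_of_fc 0 (by rw [fc_ss.1, fc_y1.1]; decide))
          (ne_of_fc 0 (by rw [map_neg, fc_ss.1, fc_y1.1]; decide)) (by rw [cpr_ss, fc_y1.1, fc_y1.2.1]; decide) h)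
      · intro v hv h
        exact hinv _ (inv_z C ss_mem root_y2 (ne_of_fc 0 (by rw [fc_ss.1, fc_y2.1]; decide))
          (ne_of_fc 0 (by rw [map_neg, fc_ss.1, fc_y2.1]; decide)) (by rw [cpr_ss, fc_y2.1, fc_y2.2.1]; decide) h)
      · intro v hv h
        exact hinv _ (inv_z C ss_mem root_y3 (ne_of_fc 0 (by rw [fc_ss.1, fc_y3.1]; decide))
          (ne_of_fc 0 (by rw [map_neg, fc_ss.1, fc_y3.1]; decide)) (by rw [cpr_ss, fc_y3.1, fc_y3.2.1]; decide) h)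
    exact key
  -- `ξ`
  have hcr : ∀ y (_ : IsRoot cs (isCartan 3) y) (_ : cpr cs (isCartan 3) y rr = 0) (_ : cpr cs (isCartan 3) y ss = 0)
      {k : Y} (_ : k ∈ X y), (∀ b ∈ Z rr, k * b = b * k) ∧ k * u = u * k := fun y hy h1 h2 {k} hk =>
    ⟨fun b hb => cm_Z C rr_mem hy h1.ge hk hb, cm_Z C ss_mem hy h2.ge hk hu⟩
  have hfmc : ∀ {k : Y} (_ : k ∈ X fm), (∀ b ∈ Z rr, k * b = b * k) ∧ k * u = u * k := fun {k} hk =>
    hcr fm root_fm (by rw [cpr_rr, fc_fm.1, fc_fm.2.1]; decide) (by rw [cpr_ss, fc_fm.1, fc_fm.2.1]; decide) hk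
  have hfpc : ∀ {k : Y} (_ : k ∈ X fp), (∀ b ∈ Z rr, k * b = b * k) ∧ k * u = u * k := fun {k} hk =>
    hcr fp root_fp (by rw [cpr_rr, fc_fp.1, fc_fp.2.1]; decide) (by rw [cpr_ss, fc_fp.1, fc_fp.2.1]; decide) hk
  have hxn : x ∈ Subgroup.normalizer (V : Set Y) := mem_norm C (X_le_GG root_fm hx) (hfmc hx).1
  -- `ν`
  have hmul : ∀ {k l : Y} (_ : (∀ b ∈ Z rr, k * b = b * k) ∧ k * u = u * k)
      (_ : (∀ b ∈ Z rr, l * b = b * l) ∧ l * u = u * l), (∀ b ∈ Z rr, k * l * b = b * (k * l)) ∧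
        k * l * u = u * (k * l) := fun {k l} h1 h2 =>
    ⟨fun b hb => by rw [mul_assoc, h2.1 b hb, ← mul_assoc, h1.1 b hb, mul_assoc],
      by rw [mul_assoc, h2.2, ← mul_assoc, h1.2, mul_assoc]⟩
  have hnc := hmul (hmul (hfpc hq) (hfmc hx)) (hfpc hq')
  have hnn : q * x * q' ∈ Subgroup.normalizer (V : Set Y) :=
    mem_norm C (mul_mem (mul_mem (X_le_GG root_fp hq) (X_le_GG root_fm hx)) (X_le_GG root_fp hq')) hnc.1
  -- the functions `m`, `d`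
  have hmd : ∀ c : ↥V, ∃ m d : ↥V, (c : Y) ∈ X y3 → (m : Y) ∈ X y2 ∧ (d : Y) ∈ X y1 ∧ ⁅x, (c : Y)⁆ = m * d := by
    intro c
    by_cases hc : (c : Y) ∈ X y3
    · obtain ⟨m, hm, d, hd, e⟩ := comm_fm C hx hc
      exact ⟨⟨m, m2 hm⟩, ⟨d, m1 hd⟩, fun _ => ⟨hm, hd, e⟩⟩
    · exact ⟨1, 1, fun h => absurd h hc⟩
  choose m d hmd using hmd
  have hconj : ∀ {k : Y} {S S' : Subgroup Y}, cj k S = S' → ∀ v ∈ S, k * v * k⁻¹ ∈ S' := fun {k S S'} e v hv => by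
    rw [← e]; exact conj_mem_cj.2 hv
  have e31 : cj (q * x * q') (X y3) = X y1 := by
    rw [C.rgd.conj_rp hw root_y3, rep_y3 he]
  refine Cfsg.Agent.Cit.ThreeLin.false_of D (hiso han har (has u hu)) (hiso hxn (hfmc hx).1 (hfmc hx).2)
    (hiso hnn hnc.1 hnc.2) ha2 ?_ ?_ m d ?_ ?_ ?_ ?_ ?_ (c := ⟨c₀, m3 hc₀⟩) hc₀
    (fun h => hc₁ (congrArg Subtype.val h))
  · intro v hv
    exact hconj e31 v hv
  · intro v hv
    have hv' : (v : Y) ∈ cj (q * x * q') (X y3) := by rw [e31]; exact hv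
    rw [mem_cj] at hv'
    refine ⟨⟨(q * x * q')⁻¹ * v * (q * x * q'), m3 hv'⟩, hv', Subtype.ext ?_⟩
    rw [kap_val]
    group
  · exact fun c hc => (hmd c hc).1
  · exact fun c hc => (hmd c hc).2.1
  · intro c hc
    have h1 : kap V hxn c = m c * d c * c := by
      apply Subtype.ext
      rw [kap_val, Subgroup.coe_mul, Subgroup.coe_mul, ← (hmd c hc).2.2, commutatorElement_def]
      group
    rw [h1, map_mul, map_mul, mul_comm, mul_assoc]
  · intro c hc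
    have h1 : (kap V hxn)⁻¹ c = c * d c * (m c)⁻¹ := by
      apply Subtype.ext
      rw [kap_inv_val, Subgroup.coe_mul, Subgroup.coe_mul, Subgroup.coe_inv]
      exact conj_inv C hx hc (hmd c hc).1 (hmd c hc).2.1 (hmd c hc).2.2
    rw [h1, map_mul, map_mul, map_inv, mul_assoc, mul_assoc, mul_comm (bM hV (kap V hun) (d c))]
  · intro c hc h1
    have h2 := (hmd c hc).2.2
    rw [h1, Subgroup.coe_one, mul_one] at h2
    exact Subtype.ext (eq_one_of_d C hx hc (hmd c hc).1 h2 hq hq' hw he)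

end Cfsg.Agent.Nodes.BThreeForm
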