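import Mathlib
import Cfsg.Agent.Nodes.BThreeForm
import Cfsg.Agent.Nodes.KindsOf
import Cfsg.Agent.Nodes.RKindsBC

/-!
# Charts of type `B 3`: two commuting members

For a chart of type `B 3` of `D` and commuting members `K ≠ L` of `Om` in `D`:

* `exists_sq` : there is `a ∈ D`, centralising `K` and `L`, with `a² = zz K * zz L`;
* `false_of_sq` : no `g`, normalising `D` and centralising `K` and `L`, has a square acting on `D` as `zz L`.
-/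

set_option autoImplicit false
set_option linter.unusedSectionVars false

namespace Cfsg.Agent.Nodes.BThreeChart

open CoxeterSystem Cfsg.Agent.ChevalleyStructure.CoxeterGeom Cfsg.Agent.Tits.Roots Cfsg.Agent.Tits.Core
  Cfsg.Agent.Tits.RootComb Cfsg.Agent.Nodes.Comb Cfsg.Agent.Nodes.Reps Cfsg.Agent.Nodes.BNOf
  Cfsg.Agent.Nodes.RGDLib Cfsg.Agent.Nodes.Chart Cfsg.Agent.Nodes.Coroot Cfsg.Agent.Nodes.Perp
  Cfsg.Agent.Nodes.ChartFrame Cfsg.Agent.Nodes.KindBC Cfsg.Agent.Nodes.TyStd Cfsg.Agent.Nodes.RKindsBC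
  Cfsg.Agent.Nodes.TypeC Cfsg.Agent.Nodes.Bruhat Cfsg.Agent.Nodes.KindsOf Cfsg.Agent.Cit.ThreeCoord
open Cfsg.Agent.Cit.TypeDet (cm OmIn)

variable {G : Type*} [Group G] [Finite G] {Om : Set (Subgroup G)} {p : ℕ} {D : Subgroup G}

/-- a root of `RB 3` orthogonal to `rr` -/
theorem orth_rr {W : Type*} [Group W] [Fintype W] {cs : CoxeterSystem (CoxeterMatrix.B 3) W} {x : Fin 3 → ℤ}
    (hx : x ∈ RB 3) (h0 : form cs (isCartan 3) x rr = 0) : x = ss ∨ x = -ss := by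
  have hr : IsRoot cs (isCartan 3) x := root_RB cs hx
  rw [(form_sign x root_rr).2.2, cpr_rr] at h0
  have h3 : ¬ (fc 0 x = 0 ∧ fc 1 x = 0) := by
    rintro ⟨h4, h5⟩
    obtain ⟨⟨i, s⟩, ⟨j, t⟩, hij, rfl⟩ := mem_RB.1 hx
    rw [fc_rt, wt_val, wt_val] at h4 h5
    revert h4 h5 hij
    clear h0 hr hx
    revert i s j t
    decide
  rcases coords hr with ⟨h0', h3' | h3', h4 | h4⟩ | ⟨h0', h3' | h3', h4 | h4⟩ | ⟨h0', h3' | h3', h4 | h4⟩ |
      ⟨h0', h3', h4 | h4⟩ | ⟨h0', h3', h4 | h4⟩ | ⟨h0', h3', h4 | h4⟩ <;> try omega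
  · exact Or.inl (eq_of_fc (by rw [h3', fc_ss.1]) (by rw [h4, fc_ss.2.1]) (by rw [h0', fc_ss.2.2]))
  · exact Or.inr (eq_of_fc (by rw [h3', map_neg, fc_ss.1]) (by rw [h4, map_neg, fc_ss.2.1]; rfl)
      (by rw [h0', map_neg, fc_ss.2.2]; rfl))

/-- the standard chart -/
theorem exists_std (hyp : Cfsg.Agent.Cit.Hyp Om) (c : Chart Om p D) (h : c.IsTy (.B 3)) :
    ∃ (W : Type) (_ : Group W) (_ : Fintype W) (cs : CoxeterSystem (CoxeterMatrix.B 3) W) (T : Subgroup G)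
      (n : Fin 3 → G) (X Z : (Fin 3 → ℤ) → Subgroup G) (z : (Fin 3 → ℤ) → G),
      Cls cs (isCartan 3) p T n X (RB 3) Z z ∧ GG cs (isCartan 3) T X = D ∧ ZRel.Uniq (RB 3) Z z ∧
      ∀ K ∈ Om, ∀ L ∈ Om, K ≤ D → L ≤ D → K ≠ L → cm K L → ∃ d ∈ D, Cfsg.Agent.Cit.cj d K = Z rr ⊔ Z (-rr) ∧
        Cfsg.Agent.Cit.cj d L = Z ss ⊔ Z (-ss) ∧ d * Cfsg.Agent.Cit.zz K * d⁻¹ = z rr ∧
        d * Cfsg.Agent.Cit.zz L * d⁻¹ = z ss := by
  let cs' : CoxeterSystem (CoxeterMatrix.B 3) (CoxeterMatrix.B 3).Group := (CoxeterMatrix.B 3).toCoxeterSystem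
  have hf : Finite (CoxeterMatrix.B 3).Group := finite_of_isTy c h cs'
  let ft : Fintype (CoxeterMatrix.B 3).Group := Fintype.ofFinite _
  obtain ⟨e, hM, hA, hR, h1⟩ := exists_chart_of_isTy c h (W' := (CoxeterMatrix.B 3).Group) cs' (R' := RB 3)
    (fun r hr => root_RB cs' hr) (fun r hr w => act_RB cs' hr w) (fun i => sr_mem_RB) (trans_RB cs')
  let c' := reindex c e hM hA cs' (Ty.B 3).isCartan (fun r hr => root_RB cs' hr)
    (fun r hr w => act_RB cs' hr w) hR (trans_RB cs')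
  have hC : Cls cs' (isCartan 3) p c'.T c'.n c'.X (RB 3) c'.Z c'.z := c'.cls
  have hy1 : y1 ≠ rr := ne_of_fc 0 (by rw [fc_y1.1, fc_rr.1]; decide)
  have hy1' : y1 ≠ -rr := ne_of_fc 0 (by rw [map_neg, fc_y1.1, fc_rr.1]; decide)
  have hz : ∀ r ∈ c'.R, c'.z r ≠ 1 := z_ne_one c' (r := rr) (x := y1) rr_mem y1_mem hy1 hy1'
    (fun h0 => by
      rw [show form c'.cs c'.h y1 rr = form cs' (isCartan 3) y1 rr from rfl, (form_sign y1 root_rr).2.2, cpr_rr,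
        fc_y1.1, fc_y1.2.1] at h0
      exact absurd h0 (by decide))
  have hu : ZRel.Uniq (RB 3) c'.Z c'.z := uniq hyp c' hz
  refine ⟨_, _, ft, cs', c'.T, c'.n, c'.X, c'.Z, c'.z, hC, GG_eq c', hu, ?_⟩
  intro K hK L hL hKD hLD hne hcm
  have hK2 : ∀ i : Fin 2, (![K, L] : Fin 2 → Subgroup G) i ∈ OmIn Om D := by
    intro i
    fin_cases i
    · exact ⟨hK, hKD⟩
    · exact ⟨hL, hLD⟩
  have hcm2 : ∀ i j : Fin 2, i ≠ j → cm ((![K, L] : Fin 2 → Subgroup G) i) ((![K, L] : Fin 2 → Subgroup G) j) := by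
    intro i j hij
    fin_cases i <;> fin_cases j
    · exact absurd rfl hij
    · exact hcm
    · exact Cfsg.Agent.Cit.TypeDet.cm_symm hcm
    · exact absurd rfl hij
  obtain ⟨s, d, F⟩ := exists_frameIn c' hK2 hcm2
  obtain ⟨w, hw⟩ := c'.trans (s 0) (F.R 0) rr rr_mem
  obtain ⟨d', F'⟩ := F.act w
  have e0 : rep c'.cs c'.h w (s 0) = rr := hw.symm
  have h3 : rep c'.cs c'.h w (s 1) = ss ∨ rep c'.cs c'.h w (s 1) = -ss := by
    apply orth_rr (cs := cs') (F'.R 1)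
    have := F'.orth 1 0 (by decide)
    rw [e0] at this
    exact this
  have k0 := F'.eq 0
  have k1 := F'.eq 1
  have z0 := FrameIn_zz hyp F' hK2 hz 0
  have z1 := FrameIn_zz hyp F' hK2 hz 1
  rw [e0] at k0 z0
  refine ⟨d', F'.mem, k0, ?_, z0, ?_⟩
  · rcases h3 with h3 | h3
    · rw [h3] at k1
      exact k1
    · rw [h3] at k1
      exact k1.trans (Perp.KK_neg ss)
  · rcases h3 with h3 | h3
    · rw [h3] at z1
      exact z1
    · rw [h3] at z1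
      rw [← hC.z_neg ss ss_mem]
      exact z1

/-- **Theorem A** -/
theorem exists_sq (hyp : Cfsg.Agent.Cit.Hyp Om) (c : Chart Om p D) (h : c.IsTy (.B 3)) {K L : Subgroup G}
    (hK : K ∈ Om) (hL : L ∈ Om) (hKD : K ≤ D) (hLD : L ≤ D) (hne : K ≠ L) (hc : ∀ x ∈ K, ∀ y ∈ L, x * y = y * x) :
    ∃ a ∈ D, (∀ x ∈ K ⊔ L, a * x = x * a) ∧ a * a = Cfsg.Agent.Cit.zz K * Cfsg.Agent.Cit.zz L := by
  obtain ⟨W, _, _, cs, T, n, X, Z, z, C, hG, hu, hpair⟩ := exists_std hyp c h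
  obtain ⟨d, hd, e1, e2, e3, e4⟩ := hpair K hK L hL hKD hLD hne hc
  obtain ⟨a, ha, har, has, haa⟩ := BThreeForm.exists_a C c.prime c.odd hu
  rw [hG] at ha
  refine ⟨d⁻¹ * a * d, mul_mem (mul_mem (inv_mem hd) ha) hd, ?_, ?_⟩
  · have key : ∀ {K : Subgroup G} {S : Subgroup G}, Cfsg.Agent.Cit.cj d K = S → (∀ x ∈ S, a * x = x * a) →
        K ≤ Subgroup.centralizer {d⁻¹ * a * d} := by
      intro K S e h x hx
      rw [Subgroup.mem_centralizer_singleton_iff]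
      have h1 : d * x * d⁻¹ ∈ S := by
        rw [← e]
        exact conj_mem_cj.2 hx
      have h2 := h _ h1
      calc x * (d⁻¹ * a * d) = d⁻¹ * ((d * x * d⁻¹) * a) * d := by group
        _ = d⁻¹ * (a * (d * x * d⁻¹)) * d := by rw [h2]
        _ = d⁻¹ * a * d * x := by group
    have h1 : K ⊔ L ≤ Subgroup.centralizer {d⁻¹ * a * d} := sup_le (key e1 har) (key e2 has)
    intro x hx
    exact (Subgroup.mem_centralizer_singleton_iff.1 (h1 hx)).symm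
  · calc d⁻¹ * a * d * (d⁻¹ * a * d) = d⁻¹ * (a * a) * d := by group
      _ = d⁻¹ * (z rr * z ss) * d := by rw [haa]
      _ = d⁻¹ * ((d * Cfsg.Agent.Cit.zz K * d⁻¹) * (d * Cfsg.Agent.Cit.zz L * d⁻¹)) * d := by rw [e3, e4]
      _ = _ := by group

/-- **Theorem X** -/
theorem false_of_sq (hyp : Cfsg.Agent.Cit.Hyp Om) (c : Chart Om p D) (h : c.IsTy (.B 3)) {K L : Subgroup G}
    (hK : K ∈ Om) (hL : L ∈ Om) (hKD : K ≤ D) (hLD : L ≤ D) (hne : K ≠ L) (hc : ∀ x ∈ K, ∀ y ∈ L, x * y = y * x)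
    {g : G} (hg : g ∈ Subgroup.normalizer (D : Set G)) (hgK : ∀ x ∈ K, g * x = x * g) (hgL : ∀ x ∈ L, g * x = x * g)
    (hsq : ∀ x ∈ D, g * g * x * (g * g)⁻¹ = Cfsg.Agent.Cit.zz L * x * (Cfsg.Agent.Cit.zz L)⁻¹) : False := by
  obtain ⟨W, _, _, cs, T, n, X, Z, z, C, hG, hu, hpair⟩ := exists_std hyp c h
  obtain ⟨d, hd, e1, e2, e3, e4⟩ := hpair K hK L hL hKD hLD hne hc
  haveI : Fact p.Prime := ⟨c.prime⟩
  have key : ∀ {K : Subgroup G} {S : Subgroup G}, Cfsg.Agent.Cit.cj d K = S → (∀ x ∈ K, g * x = x * g) →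
      ∀ x ∈ S, d * g * d⁻¹ * x = x * (d * g * d⁻¹) := by
    intro K S e h x hx
    rw [← e, Cfsg.Agent.Cit.mem_cj] at hx
    have h2 := h _ hx
    calc d * g * d⁻¹ * x = d * (g * (d⁻¹ * x * d)) * d⁻¹ := by group
      _ = d * ((d⁻¹ * x * d) * g) * d⁻¹ := by rw [h2]
      _ = x * (d * g * d⁻¹) := by group
  refine BThreeForm.false_of_sq C c.odd (a := d * g * d⁻¹) ?_ ?_ ?_ ?_
  · rw [hG]
    have hdn : d ∈ Subgroup.normalizer (D : Set G) := Subgroup.le_normalizer hd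
    exact mul_mem (mul_mem hdn hg) (inv_mem hdn)
  · exact fun b hb => key e1 hgK b (Subgroup.mem_sup_left hb)
  · exact fun b hb => key e2 hgL b (Subgroup.mem_sup_left hb)
  · intro v hv
    have hvD : v ∈ D := by
      rw [← hG]
      exact ChartLoc.VV_le_GG C _ hv
    have h1 := hsq (d⁻¹ * v * d) (mul_mem (mul_mem (inv_mem hd) hvD) hd)
    rw [← e4]
    calc d * g * d⁻¹ * (d * g * d⁻¹) * v * (d * g * d⁻¹ * (d * g * d⁻¹))⁻¹
        = d * (g * g * (d⁻¹ * v * d) * (g * g)⁻¹) * d⁻¹ := by group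
      _ = d * (Cfsg.Agent.Cit.zz L * (d⁻¹ * v * d) * (Cfsg.Agent.Cit.zz L)⁻¹) * d⁻¹ := by rw [h1]
      _ = _ := by group

end Cfsg.Agent.Nodes.BThreeChart
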