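import Mathlib
import Cfsg.Agent.Nodes.Coroot

/-!
Root systems with roots of one length and a spanning orthogonal frame (project CIT, types `E₇`, `E₈`).

* `Span cs h l g` : the roots `g i`, `i ≠ l`, are pairwise orthogonal and `|I| + 1 = |ι|`, all roots have one length;
* `cv` : the coordinates `⟨x, (g i)^∨⟩`; `cv_cases` : `x = ± g i` or `cv x` has four coordinates `±1`, the others `0`;
* `two_cpr` : `2 ⟨x, y^∨⟩ = ∑ cv x i * cv y i`;
* `exists_signs` : all sign changes of a root are roots;
* `card_supports` : the number of supports from the number of roots.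
-/

set_option autoImplicit false
set_option linter.unusedSectionVars false

namespace Cfsg.Agent.Nodes.SpanFrame

open CoxeterSystem Cfsg.Agent.ChevalleyStructure.CoxeterGeom Cfsg.Agent.Tits.Roots Cfsg.Agent.Nodes.Coroot

variable {I W ι : Type*} [Fintype I] [DecidableEq I] [Group W] [Fintype W] {M : CoxeterMatrix I}
  {cs : CoxeterSystem M W} {A : I → I → ℤ} {h : IsCartan M A} [Fintype ι] [DecidableEq ι]

/-- A spanning orthogonal frame `g i`, `i ≠ l`, in a root system with roots of one length. -/
structure Span (cs : CoxeterSystem M W) (h : IsCartan M A) (l : ι) (g : ι → (I → ℤ)) : Prop where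
  root : ∀ i, i ≠ l → IsRoot cs h (g i)
  orth : ∀ i j, i ≠ l → j ≠ l → i ≠ j → form cs h (g i) (g j) = 0
  card : Fintype.card I + 1 = Fintype.card ι
  len : ∀ x y, IsRoot cs h x → IsRoot cs h y → form cs h x x = form cs h y y

/-- Nonzero pairwise orthogonal vectors are at most `|I|` many. -/
theorem card_le_of_orth {κ : Type*} [Fintype κ] (b : κ → (I → ℤ)) (h0 : ∀ k, b k ≠ 0)
    (ho : ∀ k l, k ≠ l → form cs h (b k) (b l) = 0) : Fintype.card κ ≤ Fintype.card I := by
  classical
  have hsum : ∀ (c : κ → ℤ) (y : I → ℤ), form cs h (∑ k, c k • b k) y = ∑ k, c k * form cs h (b k) y := by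
    intro c y
    have key : ∀ s : Finset κ, form cs h (∑ k ∈ s, c k • b k) y = ∑ k ∈ s, c k * form cs h (b k) y := by
      intro s
      induction s using Finset.induction_on with
      | empty => rw [Finset.sum_empty, Finset.sum_empty, form_comm, form_zero_right]
      | insert k s hk ih =>
        rw [Finset.sum_insert hk, Finset.sum_insert hk, form_add_left, form_smul_left, ih]
    exact key _
  have hli : LinearIndependent ℤ b := by
    rw [Fintype.linearIndependent_iff]
    intro c hc k
    have h1 := hsum c (b k)
    rw [hc, form_comm, form_zero_right, Finset.sum_eq_single k (fun j _ hj => by rw [ho j k hj, mul_zero])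
      (fun hk => absurd (Finset.mem_univ k) hk)] at h1
    exact (mul_eq_zero.1 h1.symm).resolve_right (form_pos cs h (h0 k)).ne'
  have h1 := hli.fintype_card_le_finrank
  rwa [Module.finrank_pi] at h1

section Span

variable {l : ι} {g : ι → (I → ℤ)}

/-- The coordinates of a vector with respect to the frame. -/
noncomputable def cv (cs : CoxeterSystem M W) (h : IsCartan M A) (l : ι) (g : ι → (I → ℤ)) (x : I → ℤ) (i : ι) : ℤ :=
  if i = l then 0 else cpr cs h x (g i)

theorem cv_self (x : I → ℤ) : cv cs h l g x l = 0 := if_pos rfl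

theorem cv_ne (x : I → ℤ) {i : ι} (hi : i ≠ l) : cv cs h l g x i = cpr cs h x (g i) := if_neg hi

theorem form_sum (c : ι → ℤ) (b : ι → (I → ℤ)) (y : I → ℤ) :
    form cs h (∑ k, c k • b k) y = ∑ k, c k * form cs h (b k) y := by
  have key : ∀ s : Finset ι, form cs h (∑ k ∈ s, c k • b k) y = ∑ k ∈ s, c k * form cs h (b k) y := by
    intro s
    induction s using Finset.induction_on with
    | empty => rw [Finset.sum_empty, Finset.sum_empty, form_comm, form_zero_right]
    | insert k s hk ih =>
      rw [Finset.sum_insert hk, Finset.sum_insert hk, form_add_left, form_smul_left, ih]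
  exact key _

namespace Span

variable (S : Span cs h l g)

include S

theorem two_form_g (x : I → ℤ) {i : ι} (hi : i ≠ l) :
    2 * form cs h x (g i) = cv cs h l g x i * form cs h (g i) (g i) := by
  rw [cv_ne x hi]
  exact two_form_cpr cs h x (S.root i hi)

/-- The expansion of a vector. -/
theorem expand (x : I → ℤ) : (2 : ℤ) • x = ∑ i, cv cs h l g x i • g i := by
  by_contra hne
  set v : I → ℤ := (2 : ℤ) • x - ∑ i, cv cs h l g x i • g i with hv
  have hv0 : v ≠ 0 := fun h0 => hne (sub_eq_zero.1 h0)
  have hvg : ∀ j, j ≠ l → form cs h v (g j) = 0 := by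
    intro j hj
    rw [hv, form_sub_left, form_smul_left, form_sum, S.two_form_g x hj, sub_eq_zero]
    rw [Finset.sum_eq_single j]
    · intro i _ hij
      by_cases hil : i = l
      · rw [hil, cv_self, zero_mul]
      · rw [S.orth i j hil hj hij, mul_zero]
    · exact fun hj => absurd (Finset.mem_univ j) hj
  have h1 := card_le_of_orth (cs := cs) (h := h) (fun i : ι => if i = l then v else g i)
    (fun i => by
      by_cases hi : i = l
      · rw [if_pos hi]; exact hv0
      · rw [if_neg hi]; exact (S.root i hi).ne_zero)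
    (fun i j hij => by
      by_cases hi : i = l
      · have hj : j ≠ l := fun hj => hij (hi.trans hj.symm)
        rw [if_pos hi, if_neg hj, hvg j hj]
      · by_cases hj : j = l
        · rw [if_neg hi, if_pos hj, form_comm, hvg i hi]
        · rw [if_neg hi, if_neg hj, S.orth i j hi hj hij])
  have := S.card
  omega

theorem cv_injective {x y : I → ℤ} (he : ∀ i, cv cs h l g x i = cv cs h l g y i) : x = y := by
  have h1 := S.expand x
  have h2 := S.expand y
  have h3 : (2 : ℤ) • x = (2 : ℤ) • y := by
    rw [h1, h2]
    exact Finset.sum_congr rfl fun i _ => by rw [he i]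
  exact smul_right_injective _ two_ne_zero h3

/-- The pairing in coordinates. -/
theorem two_cpr (x : I → ℤ) {y : I → ℤ} (hy : IsRoot cs h y) :
    2 * cpr cs h x y = ∑ i, cv cs h l g x i * cv cs h l g y i := by
  have hN := form_pos cs h hy.ne_zero
  have h1 : form cs h ((2 : ℤ) • x) y = cpr cs h x y * form cs h y y := by
    rw [form_smul_left, two_form_cpr cs h x hy]
  have h2 : 2 * form cs h ((2 : ℤ) • x) y = ∑ i, cv cs h l g x i * cv cs h l g y i * form cs h y y := by
    rw [S.expand x, form_sum, Finset.mul_sum]
    refine Finset.sum_congr rfl fun i _ => ?_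
    by_cases hi : i = l
    · rw [hi, cv_self]; ring
    · have h3 := S.two_form_g y hi
      rw [form_comm cs h (g i) y, S.len y (g i) hy (S.root i hi)]
      linear_combination (cv cs h l g x i) * h3
  rw [h1, ← Finset.sum_mul] at h2
  have h3 : 2 * cpr cs h x y * form cs h y y = (∑ i, cv cs h l g x i * cv cs h l g y i) * form cs h y y := by
    linear_combination h2
  exact mul_right_cancel₀ hN.ne' h3

theorem sum_sq {x : I → ℤ} (hx : IsRoot cs h x) : ∑ i, cv cs h l g x i * cv cs h l g x i = 4 := by
  rw [← S.two_cpr x hx, cpr_self cs h hx]; norm_num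

theorem cv_g {i : ι} (hi : i ≠ l) (j : ι) : cv cs h l g (g i) j = if j = i then 2 else 0 := by
  by_cases hj : j = l
  · rw [hj, cv_self, if_neg (Ne.symm hi)]
  · rw [cv_ne _ hj]
    by_cases hij : j = i
    · rw [hij, if_pos rfl, cpr_self cs h (S.root i hi)]
    · rw [if_neg hij, cpr_zero_iff cs h _ (S.root j hj), S.orth i j hi hj (Ne.symm hij)]

theorem cv_neg (x : I → ℤ) (i : ι) : cv cs h l g (-x) i = - cv cs h l g x i := by
  by_cases hi : i = l
  · rw [hi, cv_self, cv_self, neg_zero]
  · rw [cv_ne _ hi, cv_ne _ hi, cpr_neg cs h x (S.root i hi)]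

/-- A root is a frame root or has four coordinates `± 1`. -/
theorem cv_cases {x : I → ℤ} (hx : IsRoot cs h x) : (∃ i, i ≠ l ∧ (x = g i ∨ x = -g i)) ∨
    ((∀ i, cv cs h l g x i = 0 ∨ cv cs h l g x i = 1 ∨ cv cs h l g x i = -1) ∧
      (Finset.univ.filter fun i => cv cs h l g x i ≠ 0).card = 4) := by
  have hs := S.sum_sq hx
  by_cases hbig : ∃ i, cv cs h l g x i ≠ 0 ∧ cv cs h l g x i ≠ 1 ∧ cv cs h l g x i ≠ -1
  · left
    obtain ⟨i, h0, h1, h2⟩ := hbig
    have hi : i ≠ l := by rintro rfl; exact h0 (cv_self x)
    have h3 : 4 ≤ cv cs h l g x i * cv cs h l g x i := by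
      rcases lt_trichotomy (cv cs h l g x i) 0 with h4 | h4 | h4
      · have : cv cs h l g x i ≤ -2 := by omega
        nlinarith
      · exact absurd h4 h0
      · have : 2 ≤ cv cs h l g x i := by omega
        nlinarith
    rw [← Finset.add_sum_erase _ _ (Finset.mem_univ i)] at hs
    have h4 : 0 ≤ ∑ j ∈ Finset.univ.erase i, cv cs h l g x j * cv cs h l g x j :=
      Finset.sum_nonneg fun j _ => mul_self_nonneg _
    have h5 : ∑ j ∈ Finset.univ.erase i, cv cs h l g x j * cv cs h l g x j = 0 := by linarith
    have h6 : cv cs h l g x i * cv cs h l g x i = 4 := by linarith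
    have h7 : ∀ j, j ≠ i → cv cs h l g x j = 0 := by
      intro j hj
      have := (Finset.sum_eq_zero_iff_of_nonneg (fun j _ => mul_self_nonneg (cv cs h l g x j))).1 h5 j
        (Finset.mem_erase.2 ⟨hj, Finset.mem_univ j⟩)
      exact mul_self_eq_zero.1 this
    refine ⟨i, hi, ?_⟩
    have h8 : cv cs h l g x i = 2 ∨ cv cs h l g x i = -2 := by
      have : (cv cs h l g x i - 2) * (cv cs h l g x i + 2) = 0 := by linarith
      rcases mul_eq_zero.1 this with h9 | h9
      · left; linarith
      · right; linarith
    rcases h8 with h8 | h8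
    · left
      refine S.cv_injective fun j => ?_
      rw [S.cv_g hi]
      by_cases hj : j = i
      · rw [hj, if_pos rfl, h8]
      · rw [if_neg hj, h7 j hj]
    · right
      refine S.cv_injective fun j => ?_
      rw [S.cv_neg, S.cv_g hi]
      by_cases hj : j = i
      · rw [hj, if_pos rfl, h8]
      · rw [if_neg hj, h7 j hj, neg_zero]
  · right
    push Not at hbig
    have hc : ∀ i, cv cs h l g x i = 0 ∨ cv cs h l g x i = 1 ∨ cv cs h l g x i = -1 := by
      intro i
      by_cases h0 : cv cs h l g x i = 0
      · exact Or.inl h0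
      · by_cases h1 : cv cs h l g x i = 1
        · exact Or.inr (Or.inl h1)
        · exact Or.inr (Or.inr (hbig i h0 h1))
    refine ⟨hc, ?_⟩
    have h1 : ∑ i, cv cs h l g x i * cv cs h l g x i =
        ∑ i, (if cv cs h l g x i ≠ 0 then (1 : ℤ) else 0) := by
      refine Finset.sum_congr rfl fun i _ => ?_
      rcases hc i with h2 | h2 | h2 <;> rw [h2] <;> simp
    rw [h1, ← Finset.sum_filter, Finset.sum_const, nsmul_eq_mul, mul_one] at hs
    exact_mod_cast hs

/-- Sign changes of roots are roots. -/
theorem exists_signs {x : I → ℤ} (hx : IsRoot cs h x) {e : ι → ℤ}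
    (he : ∀ i, e i = cv cs h l g x i ∨ e i = - cv cs h l g x i) :
    ∃ y, IsRoot cs h y ∧ ∀ i, cv cs h l g y i = e i := by
  classical
  have key : ∀ s : Finset ι, ∃ y, IsRoot cs h y ∧
      ∀ i, cv cs h l g y i = if i ∈ s then - cv cs h l g x i else cv cs h l g x i := by
    intro s
    induction s using Finset.induction_on with
    | empty => exact ⟨x, hx, fun i => by simp⟩
    | insert j s hj ih =>
      obtain ⟨y, hy, hy'⟩ := ih
      by_cases hjl : j = l
      · subst hjl
        refine ⟨y, hy, fun i => ?_⟩
        rw [hy' i]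
        by_cases hi : i = j
        · subst hi
          rw [if_neg hj, if_pos (Finset.mem_insert_self i s), cv_self, neg_zero]
        · simp [Finset.mem_insert, hi]
      · refine ⟨y - cpr cs h y (g j) • g j, isRoot_refl cs h hy (S.root j hjl), fun i => ?_⟩
        by_cases hil : i = l
        · subst hil
          rw [cv_self, cv_self]; simp
        · have h1 : cv cs h l g (y - cpr cs h y (g j) • g j) i =
              cv cs h l g y i - cpr cs h y (g j) * cv cs h l g (g j) i := by
            rw [cv_ne _ hil, cv_ne _ hil, cv_ne _ hil, sub_eq_add_neg, ← neg_smul,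
              cpr_add cs h _ _ (S.root i hil), cpr_smul cs h _ _ (S.root i hil)]
            ring
          rw [h1, S.cv_g hjl, ← cv_ne (cs := cs) (h := h) (g := g) y hjl]
          by_cases hij : i = j
          · subst hij
            rw [if_pos rfl, if_pos (Finset.mem_insert_self i s), hy' i, if_neg hj]
            ring
          · rw [if_neg hij, mul_zero, sub_zero, hy' i]
            simp [Finset.mem_insert, hij]
  obtain ⟨y, hy, hy'⟩ := key (Finset.univ.filter fun i => e i ≠ cv cs h l g x i)
  refine ⟨y, hy, fun i => ?_⟩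
  rw [hy' i]
  by_cases h1 : e i = cv cs h l g x i
  · rw [if_neg (by simp [h1]), h1]
  · rw [if_pos (by simp [h1])]
    exact ((he i).resolve_left h1).symm

end Span

/-- The coordinate vector. -/
noncomputable def cw (cs : CoxeterSystem M W) (h : IsCartan M A) (l : ι) (g : ι → (I → ℤ)) (x : I → ℤ) : ι → ℤ :=
  fun i => cv cs h l g x i

/-- The supports of the roots which are not frame roots. -/
noncomputable def Supp (cs : CoxeterSystem M W) (h : IsCartan M A) (l : ι) (g : ι → (I → ℤ)) : Finset (Finset ι) := by
  classical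
  exact Finset.univ.filter fun B => B.card = 4 ∧ ∃ x, IsRoot cs h x ∧ ∀ i, i ∈ B ↔ cv cs h l g x i ≠ 0

theorem mem_Supp {B : Finset ι} :
    B ∈ Supp cs h l g ↔ B.card = 4 ∧ ∃ x, IsRoot cs h x ∧ ∀ i, i ∈ B ↔ cv cs h l g x i ≠ 0 := by
  classical
  unfold Supp
  rw [Finset.mem_filter]
  exact ⟨fun h => h.2, fun h => ⟨Finset.mem_univ _, h⟩⟩

theorem not_mem_of_mem_Supp {B : Finset ι} (hB : B ∈ Supp cs h l g) : l ∉ B := by
  obtain ⟨-, x, -, hx⟩ := mem_Supp.1 hB
  intro hl
  exact (hx l).1 hl (cv_self x)

namespace Span

variable (S : Span cs h l g)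

include S

/-- All sign vectors with a support are roots. -/
theorem exists_of_mem_Supp {B : Finset ι} (hB : B ∈ Supp cs h l g) {e : ι → ℤ}
    (he : ∀ i, i ∈ B → e i = 1 ∨ e i = -1) (he0 : ∀ i, i ∉ B → e i = 0) :
    ∃ y, IsRoot cs h y ∧ ∀ i, cv cs h l g y i = e i := by
  obtain ⟨hc, x, hx, hxB⟩ := mem_Supp.1 hB
  have h1 : ∀ i, cv cs h l g x i = 0 ∨ cv cs h l g x i = 1 ∨ cv cs h l g x i = -1 := by
    rcases S.cv_cases hx with ⟨j, hj, h2⟩ | ⟨h2, -⟩
    · exfalso
      have h3 : B ⊆ {j} := by
        intro i hi
        have h4 := (hxB i).1 hi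
        rw [Finset.mem_singleton]
        by_contra hne
        apply h4
        rcases h2 with rfl | rfl
        · rw [S.cv_g hj, if_neg hne]
        · rw [S.cv_neg, S.cv_g hj, if_neg hne, neg_zero]
      have h4 := Finset.card_le_card h3
      rw [hc, Finset.card_singleton] at h4
      omega
    · exact h2
  refine S.exists_signs hx fun i => ?_
  by_cases hi : i ∈ B
  · have h2 := (hxB i).1 hi
    have h3 := (h1 i).resolve_left h2
    rcases he i hi with h4 | h4 <;> rcases h3 with h5 | h5 <;> rw [h4, h5] <;> simp
  · have h2 : cv cs h l g x i = 0 := by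
      by_contra h3
      exact hi ((hxB i).2 h3)
    rw [he0 i hi, h2]
    simp

/-- Two supports meet in an even number of indices. -/
theorem even_inter {B C : Finset ι} (hB : B ∈ Supp cs h l g) (hC : C ∈ Supp cs h l g) :
    Even (B ∩ C).card := by
  obtain ⟨x, hx, hxB⟩ := S.exists_of_mem_Supp hB (e := fun i => if i ∈ B then 1 else 0)
    (fun i hi => Or.inl (if_pos hi)) (fun i hi => if_neg hi)
  obtain ⟨y, hy, hyC⟩ := S.exists_of_mem_Supp hC (e := fun i => if i ∈ C then 1 else 0)
    (fun i hi => Or.inl (if_pos hi)) (fun i hi => if_neg hi)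
  have h1 := S.two_cpr x hy
  have h2 : ∑ i, cv cs h l g x i * cv cs h l g y i = ((B ∩ C).card : ℤ) := by
    rw [Finset.card_eq_sum_ones, Nat.cast_sum]
    rw [← Finset.sum_filter_add_sum_filter_not Finset.univ (fun i => i ∈ B ∩ C)]
    have h3 : ∑ i ∈ Finset.univ.filter (fun i => ¬ i ∈ B ∩ C), cv cs h l g x i * cv cs h l g y i = 0 := by
      refine Finset.sum_eq_zero fun i hi => ?_
      have h4 := (Finset.mem_filter.1 hi).2
      rw [hxB, hyC]
      by_cases h5 : i ∈ B
      · have h6 : i ∉ C := fun h6 => h4 (Finset.mem_inter.2 ⟨h5, h6⟩)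
        simp only [if_neg h6, mul_zero]
      · simp only [if_neg h5, zero_mul]
    rw [h3, add_zero]
    have h4 : Finset.univ.filter (fun i => i ∈ B ∩ C) = B ∩ C := by
      ext i; simp
    rw [h4]
    refine Finset.sum_congr rfl fun i hi => ?_
    rw [hxB, hyC]
    simp only [if_pos (Finset.mem_inter.1 hi).1, if_pos (Finset.mem_inter.1 hi).2, mul_one, Nat.cast_one]
  rw [h2] at h1
  refine (Int.even_coe_nat _).1 ⟨cpr cs h x y, ?_⟩
  rw [← h1]; ring

/-- Two different supports meet in `0` or `2` indices. -/
theorem card_inter {B C : Finset ι} (hB : B ∈ Supp cs h l g) (hC : C ∈ Supp cs h l g) (hne : B ≠ C) :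
    (B ∩ C).card = 0 ∨ (B ∩ C).card = 2 := by
  have h1 := S.even_inter hB hC
  have h2 : (B ∩ C).card < 4 := by
    rw [← (mem_Supp.1 hB).1]
    apply Finset.card_lt_card
    rw [Finset.ssubset_iff_subset_ne]
    refine ⟨Finset.inter_subset_left, fun h3 => hne ?_⟩
    apply Finset.eq_of_subset_of_card_le (Finset.inter_eq_left.1 h3)
    rw [(mem_Supp.1 hB).1, (mem_Supp.1 hC).1]
  obtain ⟨k, hk⟩ := h1
  omega

/-- The number of supports. -/
theorem card_supports : Set.ncard {x | IsRoot cs h x} = 2 * (Fintype.card ι - 1) + 16 * (Supp cs h l g).card := by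
  classical
  have hinj : Function.Injective (cw cs h l g) := fun x y he => S.cv_injective fun i => congrFun he i
  rw [← Set.ncard_image_of_injective _ hinj]
  -- the two kinds of roots
  let F1 : Finset (ι → ℤ) := (Finset.univ.erase l).biUnion fun i => {Pi.single i 2, Pi.single i (-2)}
  let F2 : Finset (ι → ℤ) := (Supp cs h l g).biUnion fun B =>
    Fintype.piFinset fun i => if i ∈ B then ({1, -1} : Finset ℤ) else {0}
  have e1 : (cw cs h l g) '' {x | IsRoot cs h x} = ((F1 ∪ F2 : Finset (ι → ℤ)) : Set (ι → ℤ)) := by
    ext c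
    rw [Finset.mem_coe, Finset.mem_union, Finset.mem_biUnion, Finset.mem_biUnion]
    constructor
    · rintro ⟨x, hx, rfl⟩
      rcases S.cv_cases hx with ⟨i, hi, h1⟩ | ⟨h1, h2⟩
      · left
        refine ⟨i, Finset.mem_erase.2 ⟨hi, Finset.mem_univ i⟩, ?_⟩
        rw [Finset.mem_insert, Finset.mem_singleton]
        rcases h1 with rfl | rfl
        · left
          funext j
          change cv cs h l g (g i) j = _
          rw [S.cv_g hi, Pi.single_apply]
        · right
          funext j
          change cv cs h l g (-g i) j = _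
          rw [S.cv_neg, S.cv_g hi, Pi.single_apply]
          by_cases hj : j = i
          · rw [if_pos hj, if_pos hj]
          · rw [if_neg hj, if_neg hj, neg_zero]
      · right
        refine ⟨Finset.univ.filter fun i => cv cs h l g x i ≠ 0, mem_Supp.2 ⟨h2, x, hx, fun i => by simp⟩, ?_⟩
        rw [Fintype.mem_piFinset]
        intro i
        change cv cs h l g x i ∈ _
        by_cases hi : cv cs h l g x i = 0
        · rw [if_neg (by simp [hi]), hi]
          exact Finset.mem_singleton_self 0
        · rw [if_pos (by simp [hi]), Finset.mem_insert, Finset.mem_singleton]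
          exact (h1 i).resolve_left hi
    · rintro (⟨i, hi, h1⟩ | ⟨B, hB, h1⟩)
      · have hil := (Finset.mem_erase.1 hi).1
        rw [Finset.mem_insert, Finset.mem_singleton] at h1
        rcases h1 with rfl | rfl
        · refine ⟨g i, S.root i hil, ?_⟩
          funext j
          change cv cs h l g (g i) j = _
          rw [S.cv_g hil, Pi.single_apply]
        · refine ⟨-g i, (S.root i hil).neg, ?_⟩
          funext j
          change cv cs h l g (-g i) j = _
          rw [S.cv_neg, S.cv_g hil, Pi.single_apply]
          by_cases hj : j = i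
          · rw [if_pos hj, if_pos hj]
          · rw [if_neg hj, if_neg hj, neg_zero]
      · rw [Fintype.mem_piFinset] at h1
        obtain ⟨y, hy, hyc⟩ := S.exists_of_mem_Supp hB (e := c)
          (fun i hi => by
            have := h1 i
            rwa [if_pos hi, Finset.mem_insert, Finset.mem_singleton] at this)
          (fun i hi => by
            have := h1 i
            rwa [if_neg hi, Finset.mem_singleton] at this)
        exact ⟨y, hy, funext hyc⟩
  rw [e1, Set.ncard_coe_finset]
  -- disjointness
  have hd : Disjoint F1 F2 := by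
    rw [Finset.disjoint_left]
    intro c hc1 hc2
    rw [Finset.mem_biUnion] at hc1 hc2
    obtain ⟨i, -, hi⟩ := hc1
    obtain ⟨B, -, hB⟩ := hc2
    have h1 := (Fintype.mem_piFinset.1 hB) i
    have h2 : c i = 2 ∨ c i = -2 := by
      rw [Finset.mem_insert, Finset.mem_singleton] at hi
      rcases hi with rfl | rfl
      · left; simp
      · right; simp
    by_cases h3 : i ∈ B
    · rw [if_pos h3, Finset.mem_insert, Finset.mem_singleton] at h1
      omega
    · rw [if_neg h3, Finset.mem_singleton] at h1
      omega
  rw [Finset.card_union_of_disjoint hd]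
  congr 1
  · rw [Finset.card_biUnion]
    · have h1 : ∀ i ∈ Finset.univ.erase l, ({Pi.single i 2, Pi.single i (-2)} : Finset (ι → ℤ)).card = 2 := by
        intro i _
        rw [Finset.card_pair]
        intro h2
        have := congrFun h2 i
        simp at this
      rw [Finset.sum_congr rfl h1, Finset.sum_const, Finset.card_erase_of_mem (Finset.mem_univ l),
        Finset.card_univ, smul_eq_mul, mul_comm]
    · intro i _ j _ hij
      rw [Function.onFun, Finset.disjoint_left]
      intro c hc1 hc2
      rw [Finset.mem_insert, Finset.mem_singleton] at hc1 hc2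
      rcases hc1 with rfl | rfl <;> rcases hc2 with h2 | h2 <;>
        · have := congrFun h2 i
          rw [Pi.single_eq_same, Pi.single_eq_of_ne hij] at this
          omega
  · rw [Finset.card_biUnion]
    · have h1 : ∀ B ∈ Supp cs h l g,
          (Fintype.piFinset fun i => if i ∈ B then ({1, -1} : Finset ℤ) else {0}).card = 16 := by
        intro B hB
        rw [Fintype.card_piFinset]
        have h2 : ∀ i, (if i ∈ B then ({1, -1} : Finset ℤ) else {0}).card = if i ∈ B then 2 else 1 := by
          intro i
          by_cases hi : i ∈ B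
          · rw [if_pos hi, if_pos hi]; rfl
          · rw [if_neg hi, if_neg hi]; rfl
        rw [Finset.prod_congr rfl fun i _ => h2 i, Finset.prod_ite_mem, Finset.univ_inter, Finset.prod_const,
          (mem_Supp.1 hB).1]
        norm_num
      rw [Finset.sum_congr rfl h1, Finset.sum_const, smul_eq_mul, mul_comm]
    · intro B _ C _ hne
      rw [Function.onFun, Finset.disjoint_left]
      intro c hc1 hc2
      rw [Fintype.mem_piFinset] at hc1 hc2
      apply hne
      have key : ∀ (D : Finset ι), (∀ i, c i ∈ if i ∈ D then ({1, -1} : Finset ℤ) else {0}) →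
          ∀ i, i ∈ D ↔ c i ≠ 0 := by
        intro D hD i
        have h1 := hD i
        constructor
        · intro hi
          rw [if_pos hi, Finset.mem_insert, Finset.mem_singleton] at h1
          omega
        · intro hi
          by_contra h2
          rw [if_neg h2, Finset.mem_singleton] at h1
          exact hi h1
      ext i
      rw [key B hc1 i, key C hc2 i]

end Span

end Span

end Cfsg.Agent.Nodes.SpanFrame
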