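import Mathlib
import Cfsg.Agent.Nodes.Coroot
import Cfsg.Agent.Nodes.PairOf

/-!
Roots with the Cartan numbers of a base generate (project CIT, charts).

* `isRoot_iota_of_cartan` : roots `β i` with `⟨β j, β i^∨⟩ = A i j` : `∑ c i β i` is a root for every root `c`;
* `exists_iota_eq` : every root is of this form;
* `gen_of_cartan` : a subgroup containing the root groups of `± β i` contains all root groups.
-/

set_option autoImplicit false
set_option linter.unusedSectionVars false

namespace Cfsg.Agent.Nodes.GenBase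

open CoxeterSystem Cfsg.Agent.ChevalleyStructure.CoxeterGeom Cfsg.Agent.Tits.Roots Cfsg.Agent.Tits.Core
  Cfsg.Agent.Tits.RootComb Cfsg.Agent.Nodes.Comb Cfsg.Agent.Nodes.Reps Cfsg.Agent.Nodes.BNOf
  Cfsg.Agent.Nodes.SubComb Cfsg.Agent.Nodes.PosPair Cfsg.Agent.Nodes.Coroot Cfsg.Agent.Nodes.PairOf

variable {I W : Type*} [Fintype I] [DecidableEq I] [Group W] [Finite W] {M : CoxeterMatrix I}
  (cs : CoxeterSystem M W) {A : I → I → ℤ} (h : IsCartan M A) {β : I → I → ℤ}
  (hβ : ∀ i, IsRoot cs h (β i)) (hA : ∀ i j, cpr cs h (β j) (β i) = A i j)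

include hβ hA

theorem cpr_iota (i : I) (c : I → ℤ) : cpr cs h (iota β c) (β i) = pairing A i c := by
  have h1 : cpr cs h (iota β c) (β i) = ell cs h (hβ i) (∑ j, c j • β j) := rfl
  rw [h1, map_sum]
  unfold pairing
  refine Finset.sum_congr rfl fun j _ => ?_
  rw [map_zsmul, ell_apply, hA, smul_eq_mul, mul_comm]

theorem iota_simple (i : I) (c : I → ℤ) :
    iota β (rep cs h (cs.simple i) c) = iota β c - cpr cs h (iota β c) (β i) • β i := by
  rw [rep_simple_eq, map_sub, map_smul, iota_sr, cpr_iota cs h hβ hA]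

theorem isRoot_iota_of_cartan {c : I → ℤ} (hc : IsRoot cs h c) : IsRoot cs h (iota β c) := by
  obtain ⟨w, i, rfl⟩ := hc
  obtain ⟨ω, rfl⟩ := cs.wordProd_surjective w
  induction ω with
  | nil => rw [wordProd_nil, map_one, Module.End.one_apply, iota_sr]; exact hβ i
  | cons j ω ih =>
    rw [wordProd_cons, rep_mul_apply, iota_simple cs h hβ hA]
    exact isRoot_refl cs h ih (hβ j)

theorem iota_injective_of_cartan : Function.Injective (iota β) := by
  have := Fintype.ofFinite W
  rw [injective_iff_map_eq_zero]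
  intro c hc
  have h1 : ∀ i, form cs h c (sr i) = 0 := by
    intro i
    have h2 := cpr_iota cs h hβ hA i c
    rw [hc] at h2
    have h3 : cpr cs h 0 (β i) = 0 := (ell cs h (hβ i)).map_zero
    rw [h3] at h2
    have h4 := two_form cs h i c
    rw [← h2, zero_mul] at h4
    omega
  by_contra hne
  have h2 := form_pos cs h hne
  rw [form_eq_sum] at h2
  simp only [h1, mul_zero, Finset.sum_const_zero, lt_self_iff_false] at h2

/-- Every root comes from a root. -/
theorem exists_iota_eq {x : I → ℤ} (hx : IsRoot cs h x) : ∃ c, IsRoot cs h c ∧ x = iota β c := by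
  have hfin : Finite {x : I → ℤ // IsRoot cs h x} := by
    have h0 : {x | IsRoot cs h x} = Set.range (fun q : W × I => rep cs h q.1 (sr q.2)) := by
      ext x
      constructor
      · rintro ⟨w, i, rfl⟩; exact ⟨(w, i), rfl⟩
      · rintro ⟨⟨w, i⟩, rfl⟩; exact ⟨w, i, rfl⟩
    have h1 : {x | IsRoot cs h x}.Finite := by rw [h0]; exact Set.finite_range _
    exact h1.to_subtype
  let f : {x : I → ℤ // IsRoot cs h x} → {x : I → ℤ // IsRoot cs h x} := fun c =>
    ⟨iota β c.1, isRoot_iota_of_cartan cs h hβ hA c.2⟩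
  have hinj : Function.Injective f := fun a b hab =>
    Subtype.ext (iota_injective_of_cartan cs h hβ hA (congrArg Subtype.val hab))
  obtain ⟨c, hc⟩ := (Finite.injective_iff_surjective.1 hinj) ⟨x, hx⟩
  exact ⟨c.1, c.2, (congrArg Subtype.val hc).symm⟩

omit hβ hA in
/-- A subgroup containing `X (± u)` and `X v` contains `X (s_u v)`. -/
theorem refl_le {Y : Type*} [Group Y] {p : ℕ} {T : Subgroup Y} {n : I → Y} {X : (I → ℤ) → Subgroup Y}
    (R : RGD cs h p T n X) {u v : I → ℤ} (hu : IsRoot cs h u) (hv : IsRoot cs h v)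
    {P : Subgroup Y} (h1 : X u ≤ P) (h2 : X (-u) ≤ P) (h3 : X v ≤ P) : X (v - cpr cs h v u • u) ≤ P := by
  have hne : X (-u) ≠ ⊥ := by
    obtain ⟨w, i, e⟩ := hu.neg
    obtain ⟨g, hg⟩ := exists_rp cs R.nsys w
    rw [e, ← R.conj_rp hg (isRoot_sr cs h i)]
    intro h0
    have h4 : X (sr i) = ⊥ := by
      rw [eq_bot_iff]
      intro a ha
      have h5 : g * a * g⁻¹ ∈ cj g (X (sr i)) := conj_mem_cj.2 ha
      rw [h0, Subgroup.mem_bot] at h5
      rw [Subgroup.mem_bot]
      calc a = g⁻¹ * (g * a * g⁻¹) * g := by group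
        _ = 1 := by rw [h5]; group
    apply R.notp i
    have h6 : X (-sr i) = ⊥ := by
      have h7 := R.conj i _ (isRoot_sr cs h i)
      rw [rep_simple_sr] at h7
      rw [← h7, h4]
      simp [cj]
    rw [h4, h6, sup_idem]
    exact IsPGroup.of_bot
  obtain ⟨a, ha1⟩ := Subgroup.ne_bot_iff_exists_ne_one.1 hne
  have ha2 : (a : Y) ≠ 1 := fun e => ha1 (Subtype.ext e)
  obtain ⟨b, hb, c, hc, hmap⟩ := exists_mu R hu a.2 ha2
  have hk : b * a * c ∈ P := mul_mem (mul_mem (h1 hb) (h2 a.2)) (h1 hc)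
  rw [← hmap v hv]
  rintro _ ⟨x, hx, rfl⟩
  exact mul_mem (mul_mem hk (h3 hx)) (inv_mem hk)

/-- **Generation by the root groups of a base.** -/
theorem gen_of_cartan {Y : Type*} [Group Y] {p : ℕ} {T : Subgroup Y} {n : I → Y} {X : (I → ℤ) → Subgroup Y}
    (R : RGD cs h p T n X) {P : Subgroup Y} (hP : ∀ j, X (β j) ≤ P ∧ X (-β j) ≤ P) :
    ∀ x, IsRoot cs h x → X x ≤ P := by
  intro x hx
  obtain ⟨c, hc, rfl⟩ := exists_iota_eq cs h hβ hA hx
  clear hx
  obtain ⟨w, i, rfl⟩ := hc
  obtain ⟨ω, rfl⟩ := cs.wordProd_surjective w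
  induction ω with
  | nil => rw [wordProd_nil, map_one, Module.End.one_apply, iota_sr]; exact (hP i).1
  | cons j ω ih =>
    rw [wordProd_cons, rep_mul_apply, iota_simple cs h hβ hA]
    exact refl_le cs h R (hβ j) (isRoot_iota_of_cartan cs h hβ hA ⟨_, _, rfl⟩) (hP j).1 (hP j).2 ih

end Cfsg.Agent.Nodes.GenBase
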