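import Mathlib
import Cfsg.Agent.Nodes.RootsA
import Cfsg.Agent.Nodes.Coroot
import Cfsg.Agent.Nodes.PairOf
import Cfsg.Agent.Nodes.OppDec

/-!
Type `A_n`: Weyl group action, Cartan integers and commutators of the root groups `X (ε_a - ε_b)` of a root
group datum (project CIT, charts).

* `exists_perm` : the Weyl group acts on `rtA a b` by permutations;
* `cpr_rtA` : the Cartan integers;
* `btwn_rtA` : the roots strictly between two roots;
* `comm_disj`, `comm_mem` : the commutators;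
* `nd`, `nd'` : for `1 ≠ v ∈ X_{bc}` the map `k ↦ [v, k]` is onto from `X_{ab}` to `X_{ac}`, and from `X_{cd}` to `X_{bd}`;
* `eq_one_of_comm`, `eq_one_of_comm'`, `comm_self` (the root groups are abelian), `comm_of`.
-/

set_option autoImplicit false
set_option linter.unusedSectionVars false

namespace Cfsg.Agent.Nodes.CommA

open CoxeterSystem Cfsg.Agent.ChevalleyStructure.CoxeterGeom Cfsg.Agent.Tits.Roots Cfsg.Agent.Tits.Core
  Cfsg.Agent.Tits.RootComb Cfsg.Agent.Nodes.Comb Cfsg.Agent.Nodes.Reps Cfsg.Agent.Nodes.BNOf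
  Cfsg.Agent.Nodes.RootsA Cfsg.Agent.Nodes.Coroot Cfsg.Agent.Nodes.PairOf Cfsg.Agent.Nodes.OppDec
open Cfsg.Agent.LieRecognition.BNCox (cA cA_apply)
open scoped commutatorElement

variable {n : ℕ} {W : Type*} [Group W] (cs : CoxeterSystem (cA n) W) {A : Fin n → Fin n → ℤ}
  (h : IsCartan (cA n) A)

/-! ### The Weyl group -/

theorem exists_perm (w : W) : ∃ σ : Equiv.Perm (Fin (n + 1)), ∀ a b, rep cs h w (rtA a b) = rtA (σ a) (σ b) := by
  obtain ⟨ω, rfl⟩ := cs.wordProd_surjective w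
  induction ω with
  | nil => exact ⟨1, fun a b => by rw [wordProd_nil, map_one, Module.End.one_apply]; rfl⟩
  | cons j ω ih =>
    obtain ⟨σ, hσ⟩ := ih
    refine ⟨Equiv.swap j.castSucc j.succ * σ, fun a b => ?_⟩
    rw [wordProd_cons, rep_mul_apply, hσ, rep_simple_rtA]
    rfl

include h in
theorem pairing_rtA (i : Fin n) (a b : Fin (n + 1)) : pairing A i (rtA a b) =
    (if a = i.castSucc then 1 else 0) - (if a = i.succ then 1 else 0) -
      ((if b = i.castSucc then 1 else 0) - (if b = i.succ then 1 else 0)) := by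
  have ha := a.2
  have hb := b.2
  have hi := i.2
  have hp := pairing_eq h i
    (fun k => (if a.val ≤ k then 1 else 0) - (if b.val ≤ k then 1 else 0))
    (by rw [if_pos (by omega), if_pos (by omega), sub_self])
  have e1 : (fun k : Fin n => (fun k : ℕ => ((if a.val ≤ k then 1 else 0) -
      (if b.val ≤ k then 1 else 0) : ℤ)) k.val) = rtA a b := rfl
  rw [e1] at hp
  rw [hp]
  have key : ∀ c : Fin (n + 1), (2 * (if c.val ≤ i.val then 1 else 0) - (if c.val ≤ i.val + 1 then 1 else 0) -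
      (if i.val = 0 then 0 else if c.val ≤ i.val - 1 then 1 else 0) : ℤ) =
      (if c = i.castSucc then 1 else 0) - (if c = i.succ then 1 else 0) := by
    intro c
    have e2 : (c = i.castSucc) = (c.val = i.val) := propext ⟨fun e => by rw [e]; rfl, fun e => Fin.ext e⟩
    have e3 : (c = i.succ) = (c.val = i.val + 1) := propext ⟨fun e => by rw [e]; rfl, fun e => Fin.ext e⟩
    simp only [e2, e3]
    split_ifs <;> omega
  rw [← key a, ← key b]
  by_cases h0 : i.val = 0
  · simp only [if_pos h0]; ring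
  · simp only [if_neg h0]; ring

/-- The Cartan integers. -/
theorem cpr_rtA (a b : Fin (n + 1)) {c d : Fin (n + 1)} (hcd : c ≠ d) :
    cpr cs h (rtA a b) (rtA c d) = (if a = c then 1 else 0) - (if a = d then 1 else 0) -
      ((if b = c then 1 else 0) - (if b = d then 1 else 0)) := by
  have : Finite W := finite_W cs h
  obtain ⟨w, i, hw⟩ := isRoot_rtA cs h hcd
  obtain ⟨τ, hτ⟩ := exists_perm cs h w⁻¹
  have h1 : rep cs h w⁻¹ (rtA c d) = rtA i.castSucc i.succ := by rw [hw, rep_inv_apply, rtA_sr]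
  rw [hτ] at h1
  obtain ⟨h2, h3⟩ := rtA_inj (fun e => hcd (τ.injective e)) h1
  rw [hw, cpr_rep_sr, hτ, pairing_rtA h, ← h2, ← h3]
  simp only [EmbeddingLike.apply_eq_iff_eq]

/-! ### Roots between two roots -/

theorem co_add (x y : Fin n → ℤ) (j : ℕ) : co (x + y) j = co x j + co y j := by
  unfold co
  split_ifs <;> (try simp only [Pi.add_apply]) <;> ring

theorem co_smul (m : ℤ) (x : Fin n → ℤ) (j : ℕ) : co (m • x) j = m * co x j := by
  unfold co
  split_ifs <;> (try simp only [Pi.smul_apply, smul_eq_mul]) <;> ring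

/-- The roots strictly between two non-proportional roots. -/
theorem btwn_rtA {a b c d : Fin (n + 1)} (hab : a ≠ b) (hcd : c ≠ d) (h1 : ¬ (a = c ∧ b = d))
    (h2 : ¬ (a = d ∧ b = c)) {z : Fin n → ℤ} (hz : Btwn cs h (rtA a b) (rtA c d) z) :
    (b = c ∧ a ≠ d ∧ z = rtA a d) ∨ (a = d ∧ c ≠ b ∧ z = rtA c b) := by
  obtain ⟨hr, m, α, β, hm, hα, hβ, he⟩ := hz
  obtain ⟨e, f, hef, rfl⟩ := exists_of_isRoot cs h hr
  have key : ∀ j : Fin (n + 1), (if j = e then m else 0) - (if j = f then m else 0) =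
      ((if j = a then α else 0) - (if j = b then α else 0)) + ((if j = c then β else 0) - (if j = d then β else 0)) := by
    intro j
    have h3 := congrArg (fun x => co x j) he
    simp only [co_add, co_smul, co_rtA] at h3
    split_ifs at h3 ⊢ <;> omega
  have he1 : e = a ∨ e = c := by
    by_contra h3
    push Not at h3
    have := key e
    rw [if_pos rfl, if_neg hef, if_neg h3.1, if_neg h3.2] at this
    split_ifs at this <;> omega
  have hf1 : f = b ∨ f = d := by
    by_contra h3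
    push Not at h3
    have := key f
    rw [if_pos rfl, if_neg hef.symm, if_neg h3.1, if_neg h3.2] at this
    split_ifs at this <;> omega
  have ka := key a
  have kb := key b
  have kc := key c
  have kd := key d
  rcases he1 with rfl | rfl <;> rcases hf1 with rfl | rfl
  · exfalso
    simp only [hab, hab.symm, hcd, hcd.symm, if_true, if_false] at ka kb kc kd
    by_cases e1 : c = e
    · subst e1
      by_cases e2 : d = f
      · exact h1 ⟨rfl, e2.symm⟩
      · simp only [e2, if_false, hcd.symm] at kd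
        omega
    · by_cases e3 : c = f
      · subst e3
        by_cases e4 : d = e
        · exact h2 ⟨e4.symm, rfl⟩
        · simp only [e4, if_false, hcd.symm] at kd
          omega
      · simp only [e1, e3, if_false] at kc
        omega
  · left
    refine ⟨?_, hef, rfl⟩
    by_contra h3
    simp only [hab, hab.symm, hcd, hcd.symm, hef, hef.symm, if_true, if_false, h3, Ne.symm h3] at ka kb kc kd
    by_cases e2 : b = f
    · subst e2
      by_cases e4 : e = c
      · exact h1 ⟨e4, rfl⟩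
      · simp only [e4, if_false] at ka
        split_ifs at kb <;> omega
    · simp only [e2, if_false] at kb
      omega
  · right
    refine ⟨?_, hef, rfl⟩
    by_contra h3
    simp only [hab, hab.symm, hcd, hcd.symm, hef, hef.symm, if_true, if_false, h3, Ne.symm h3] at ka kb kc kd
    by_cases e2 : a = e
    · subst e2
      by_cases e4 : f = d
      · exact h1 ⟨rfl, e4⟩
      · simp only [e4, if_false] at kb
        split_ifs at ka <;> omega
    · simp only [e2, if_false] at ka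
      omega
  · exfalso
    simp only [hab, hab.symm, hcd, hcd.symm, if_true, if_false] at ka kb kc kd
    by_cases e1 : a = e
    · subst e1
      by_cases e2 : b = f
      · exact h1 ⟨rfl, e2⟩
      · simp only [e2, if_false, hab.symm] at kb
        omega
    · by_cases e3 : a = f
      · subst e3
        by_cases e4 : b = e
        · exact h2 ⟨rfl, e4⟩
        · simp only [e4, if_false, hab.symm] at kb
          omega
      · simp only [e1, e3, if_false] at ka
        omega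

/-! ### Commutators of the root groups -/

section

variable {cs h}
variable {Y : Type*} [Group Y] {p : ℕ} {T : Subgroup Y} {t : Fin n → Y} {X : (Fin n → ℤ) → Subgroup Y}
  (R : RGD cs h p T t X)

include R

/-- `[X_ab, X_cd] = 1` if `b ≠ c`, `a ≠ d`, `(a, b) ≠ (c, d)`. -/
theorem comm_disj {a b c d : Fin (n + 1)} (hab : a ≠ b) (hcd : c ≠ d) (hbc : b ≠ c) (had : a ≠ d)
    (hne : ¬ (a = c ∧ b = d)) {u v : Y} (hu : u ∈ X (rtA a b)) (hv : v ∈ X (rtA c d)) : u * v = v * u := by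
  have h2 : ¬ (a = d ∧ b = c) := fun e => hbc e.2
  have h3 : ∀ z, ¬ Btwn cs h (rtA a b) (rtA c d) z := by
    intro z hz
    rcases btwn_rtA cs h hab hcd hne h2 hz with h3 | h3
    · exact hbc h3.1
    · exact had h3.1
  have h4 := comm_of_no_btwn R (isRoot_rtA cs h hab) (isRoot_rtA cs h hcd)
    (fun e => hne (rtA_inj hab e)) (fun e => h2 (rtA_inj hab (e.trans (rtA_neg c d)))) h3 u hu v hv
  rwa [commutatorElement_def, mul_inv_eq_one, mul_inv_eq_iff_eq_mul] at h4

/-- `[X_ab, X_bc] ≤ X_ac`. -/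
theorem comm_mem {a b c : Fin (n + 1)} (hab : a ≠ b) (hbc : b ≠ c) (hac : a ≠ c) {u v : Y}
    (hu : u ∈ X (rtA a b)) (hv : v ∈ X (rtA b c)) : ⁅u, v⁆ ∈ X (rtA a c) := by
  have h0 : ¬ (a = b ∧ b = c) := fun e => hab e.1
  have h2 : ¬ (a = c ∧ b = b) := fun e => hac e.1
  have h1 := R.comm _ _ (isRoot_rtA cs h hab) (isRoot_rtA cs h hbc) (fun e => h0 (rtA_inj hab e))
    (fun e => h2 (rtA_inj hab (e.trans (rtA_neg b c)))) u hu v hv
  have h3 : Reps.btw cs h X (rtA a b) (rtA b c) ≤ X (rtA a c) := by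
    unfold Reps.btw
    refine iSup_le ?_
    rintro ⟨z, hz⟩
    rcases btwn_rtA cs h hab hbc h0 h2 hz with ⟨-, -, rfl⟩ | ⟨h4, -⟩
    · exact le_rfl
    · exact absurd h4 hac
  exact h3 h1

theorem comm_mem' {a b c : Fin (n + 1)} (hab : a ≠ b) (hbc : b ≠ c) (hac : a ≠ c) {u v : Y}
    (hu : u ∈ X (rtA a b)) (hv : v ∈ X (rtA b c)) : ⁅v, u⁆ ∈ X (rtA a c) := by
  rw [← commutatorElement_inv]
  exact inv_mem (comm_mem R hab hbc hac hu hv)

omit R in
theorem nd_aux {P Q : Subgroup Y} (hPQ : P ⊓ Q = ⊥) {u v w k y : Y} (hk : k ∈ P) (hy : y ∈ Q)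
    (hwk : w * k = k * w) (huk : u * k = k * u) (hvk : ⁅v, k⁆ ∈ Q) (huc : ⁅u, ⁅v, k⁆⁆ ∈ P)
    (hck : ⁅v, k⁆ * k = k * ⁅v, k⁆) (e : (u * v * w) * k * (u * v * w)⁻¹ = y) : ⁅v, k⁆ = y := by
  have h1 : (u * v * w) * k * (u * v * w)⁻¹ = ⁅u, ⁅v, k⁆⁆ * ⁅v, k⁆ * k := by
    have e1 : w * k * w⁻¹ = k := by rw [hwk]; group
    have e2 : u * k * u⁻¹ = k := by rw [huk]; group
    calc (u * v * w) * k * (u * v * w)⁻¹ = u * (v * (w * k * w⁻¹) * v⁻¹) * u⁻¹ := by group
      _ = u * (⁅v, k⁆ * k) * u⁻¹ := by rw [e1, commutatorElement_def]; group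
      _ = (u * ⁅v, k⁆ * u⁻¹) * (u * k * u⁻¹) := by group
      _ = ⁅u, ⁅v, k⁆⁆ * ⁅v, k⁆ * k := by rw [e2, commutatorElement_def u]; group
  rw [h1, mul_assoc, hck, ← mul_assoc] at e
  have h2 : ⁅u, ⁅v, k⁆⁆ * k = y * ⁅v, k⁆⁻¹ := by rw [← e]; group
  have h3 : y * ⁅v, k⁆⁻¹ ∈ P ⊓ Q := Subgroup.mem_inf.2 ⟨h2 ▸ mul_mem huc hk, mul_mem hy (inv_mem hvk)⟩
  rw [hPQ, Subgroup.mem_bot, mul_inv_eq_one] at h3
  exact h3.symm

/-- For `1 ≠ v ∈ X_bc` every element of `X_ac` is `[v, k]`, `k ∈ X_ab`. -/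
theorem nd {a b c : Fin (n + 1)} (hab : a ≠ b) (hbc : b ≠ c) (hac : a ≠ c) {v : Y}
    (hv : v ∈ X (rtA b c)) (hv1 : v ≠ 1) {y : Y} (hy : y ∈ X (rtA a c)) : ∃ k ∈ X (rtA a b), ⁅v, k⁆ = y := by
  have : Finite W := finite_W cs h
  obtain ⟨u, hu, w, hw, hmap⟩ := exists_mu R (isRoot_rtA cs h hbc.symm) (a := v) (by rwa [rtA_neg]) hv1
  have h1 := hmap _ (isRoot_rtA cs h hab)
  have h2 : rtA a b - cpr cs h (rtA a b) (rtA c b) • rtA c b = rtA a c := by
    rw [cpr_rtA cs h a b hbc.symm, if_neg hac, if_neg hab, if_neg hbc, if_pos rfl, ← rtA_neg b c, ← rtA_add a b c]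
    module
  rw [h2] at h1
  have h3 : (u * v * w)⁻¹ * y * (u * v * w) ∈ X (rtA a b) := by
    rw [← h1, mem_cj] at hy
    exact hy
  refine ⟨_, h3, ?_⟩
  have hne : rtA a b ≠ rtA a c := fun e => hbc (rtA_inj hab e).2
  have hvk := comm_mem' R hab hbc hac h3 hv
  exact nd_aux (X_inf_X R (isRoot_rtA cs h hab) (isRoot_rtA cs h hac) hne) h3 hy
    (comm_disj R hbc.symm hab hab.symm hbc.symm.symm.symm (fun e => hac e.1.symm) hw h3)
    (comm_disj R hbc.symm hab hab.symm hbc.symm.symm.symm (fun e => hac e.1.symm) hu h3) hvk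
    (comm_mem' R hac hbc.symm hab hvk hu)
    (comm_disj R hac hab hac.symm hab (fun e => hbc e.2.symm) hvk h3) (by group)

/-- For `1 ≠ v ∈ X_bc` every element of `X_bd` is `[v, k]`, `k ∈ X_cd`. -/
theorem nd' {b c d : Fin (n + 1)} (hbc : b ≠ c) (hcd : c ≠ d) (hbd : b ≠ d) {v : Y}
    (hv : v ∈ X (rtA b c)) (hv1 : v ≠ 1) {y : Y} (hy : y ∈ X (rtA b d)) : ∃ k ∈ X (rtA c d), ⁅v, k⁆ = y := by
  have : Finite W := finite_W cs h
  obtain ⟨u, hu, w, hw, hmap⟩ := exists_mu R (isRoot_rtA cs h hbc.symm) (a := v) (by rwa [rtA_neg]) hv1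
  have h1 := hmap _ (isRoot_rtA cs h hcd)
  have h2 : rtA c d - cpr cs h (rtA c d) (rtA c b) • rtA c b = rtA b d := by
    rw [cpr_rtA cs h c d hbc.symm, if_pos rfl, if_neg hbc.symm, if_neg hcd.symm, if_neg hbd.symm, ← rtA_neg b c,
      ← rtA_add b c d]
    module
  rw [h2] at h1
  have h3 : (u * v * w)⁻¹ * y * (u * v * w) ∈ X (rtA c d) := by
    rw [← h1, mem_cj] at hy
    exact hy
  refine ⟨_, h3, ?_⟩
  have hne : rtA c d ≠ rtA b d := fun e => hbc (rtA_inj hcd e).1.symm
  have hvk := comm_mem R hbc hcd hbd hv h3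
  exact nd_aux (X_inf_X R (isRoot_rtA cs h hcd) (isRoot_rtA cs h hbd) hne) h3 hy
    (comm_disj R hbc.symm hcd hbc hcd (fun e => hbd e.2) hw h3)
    (comm_disj R hbc.symm hcd hbc hcd (fun e => hbd e.2) hu h3) hvk
    (comm_mem R hbc.symm hbd hcd hu hvk)
    (comm_disj R hbd hcd hcd.symm hbd (fun e => hbc e.1) hvk h3) (by group)

theorem eq_one_of_comm {a b c : Fin (n + 1)} (hab : a ≠ b) (hbc : b ≠ c) (hac : a ≠ c) {v : Y}
    (hv : v ∈ X (rtA b c)) (hc : ∀ k ∈ X (rtA a b), v * k = k * v) : v = 1 := by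
  by_contra hv1
  apply Bruhat.X_ne_bot R (isRoot_rtA cs h hac)
  rw [Subgroup.eq_bot_iff_forall]
  intro y hy
  obtain ⟨k, hk, rfl⟩ := nd R hab hbc hac hv hv1 hy
  rw [commutatorElement_def, hc k hk]
  group

theorem eq_one_of_comm' {b c d : Fin (n + 1)} (hbc : b ≠ c) (hcd : c ≠ d) (hbd : b ≠ d) {v : Y}
    (hv : v ∈ X (rtA b c)) (hc : ∀ k ∈ X (rtA c d), v * k = k * v) : v = 1 := by
  by_contra hv1
  apply Bruhat.X_ne_bot R (isRoot_rtA cs h hbd)
  rw [Subgroup.eq_bot_iff_forall]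
  intro y hy
  obtain ⟨k, hk, rfl⟩ := nd' R hbc hcd hbd hv hv1 hy
  rw [commutatorElement_def, hc k hk]
  group

/-- The root groups are abelian (rank at least two). -/
theorem comm_self {a b c : Fin (n + 1)} (hab : a ≠ b) (hac : a ≠ c) (hbc : b ≠ c) {u v : Y}
    (hu : u ∈ X (rtA a b)) (hv : v ∈ X (rtA a b)) : u * v = v * u := by
  obtain ⟨w, hw⟩ := Subgroup.ne_bot_iff_exists_ne_one.1 (Bruhat.X_ne_bot R (isRoot_rtA cs h hac))
  obtain ⟨k, hk, rfl⟩ := nd' R hac hbc.symm hab w.2 (fun e => hw (Subtype.ext e)) hu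
  have h1 : (w : Y) * v = v * w :=
    comm_disj R hac hab hac.symm hab (fun e => hbc e.2.symm) w.2 hv
  have h2 : k * v = v * k :=
    comm_disj R hbc.symm hab hab.symm hbc.symm (fun e => hac e.1.symm) hk hv
  have h3 : Commute (w : Y) v := h1
  have h4 : Commute k v := h2
  exact ((h3.mul_left h4).mul_left (h3.inv_left)).mul_left h4.inv_left

end

end Cfsg.Agent.Nodes.CommA
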