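import Mathlib
import Cfsg.Agent.Nodes.Perp
import Cfsg.Agent.Nodes.ZRel

/-!
# Rank one subgroups `T ⟨X y, X (-y)⟩` of chart groups (project CIT, Q1 (A2))

* `ti` : `v ∈ X y`, `1 ≠ g ∈ X (-y)`, `v g v⁻¹ ∈ X (-y)` ⟹ `v = 1`;
* `exists_form` : `T ⟨X y, X (-y)⟩ = X y T ∪ X y T m X y`;
* `exists_conj_le` : the `p`-subgroups of `T ⟨X y, X (-y)⟩` are conjugate to subgroups of `X y`;
* `false_of_le` : (A2): if `z r₁ = z (s_y r₁)`, `z r₁` inverts `X y`, then `T ⟨X y, X (-y)⟩` contains no group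
  isomorphic to `K_r` with a unique involution.
-/

set_option autoImplicit false
set_option linter.unusedSectionVars false
set_option linter.dupNamespace false

namespace Cfsg.Agent.Nodes.RankOneSub

open CoxeterSystem Cfsg.Agent.ChevalleyStructure.CoxeterGeom Cfsg.Agent.Tits.Roots Cfsg.Agent.Tits.Core
  Cfsg.Agent.Tits.RootComb Cfsg.Agent.Nodes.Comb Cfsg.Agent.Nodes.Reps Cfsg.Agent.Nodes.BNOf
  Cfsg.Agent.Nodes.RGDLib Cfsg.Agent.Nodes.Chart Cfsg.Agent.Nodes.Coroot Cfsg.Agent.Nodes.FreeTorus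
  Cfsg.Agent.Nodes.SubComb Cfsg.Agent.Nodes.Perp

variable {I W Y : Type*} [Fintype I] [DecidableEq I] [Group W] [Fintype W] [Group Y] {M : CoxeterMatrix I}
  {cs : CoxeterSystem M W} {A : I → I → ℤ} {h : IsCartan M A} {p : ℕ} {T : Subgroup Y} {n : I → Y}
  {X : (I → ℤ) → Subgroup Y}

section RGD

variable (D : RGD cs h p T n X) {y : I → ℤ} (hy : IsRoot cs h y)

include D hy

/-- elements representing the reflection `s_y` interchange `X y` and `X (-y)` -/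
theorem conj_pos {w : W} {m : Y} (hm : Rp cs D.nsys w m) (hw : ∀ x, rep cs h w x = x - cpr cs h x y • y) {u : Y}
    (hu : u ∈ X y) : m * u * m⁻¹ ∈ X (-y) := by
  have h1 := D.conj_mem hm hy hu
  rw [hw, cpr_self cs h hy] at h1
  have : y - (2 : ℤ) • y = -y := by module
  rwa [this] at h1

theorem conj_neg {w : W} {m : Y} (hm : Rp cs D.nsys w m) (hw : ∀ x, rep cs h w x = x - cpr cs h x y • y) {u : Y}
    (hu : u ∈ X (-y)) : m * u * m⁻¹ ∈ X y := by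
  have h1 := D.conj_mem hm hy.neg hu
  rw [map_neg, hw, cpr_self cs h hy] at h1
  have : -(y - (2 : ℤ) • y) = y := by module
  rwa [this] at h1

theorem conj_pos' {w : W} {m : Y} (hm : Rp cs D.nsys w m) (hw : ∀ x, rep cs h w x = x - cpr cs h x y • y) {u : Y}
    (hu : m * u * m⁻¹ ∈ X y) : u ∈ X (-y) := by
  have h1 := D.conj_mem' hm hy hu
  have h2 : rep cs h w⁻¹ y = -y := by
    have h3 : rep cs h w (-y) = y := by
      rw [map_neg, hw, cpr_self cs h hy]; module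
    calc rep cs h w⁻¹ y = rep cs h w⁻¹ (rep cs h w (-y)) := by rw [h3]
      _ = -y := rep_inv_apply ..
  rw [h2] at h1
  have e : m⁻¹ * (m * u * m⁻¹) * m = u := by group
  rwa [e] at h1

theorem conj_neg' {w : W} {m : Y} (hm : Rp cs D.nsys w m) (hw : ∀ x, rep cs h w x = x - cpr cs h x y • y) {u : Y}
    (hu : m * u * m⁻¹ ∈ X (-y)) : u ∈ X y := by
  have h1 := D.conj_mem' hm hy.neg hu
  have h2 : rep cs h w⁻¹ (-y) = y := by
    have h3 : rep cs h w y = -y := by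
      rw [hw, cpr_self cs h hy]; module
    calc rep cs h w⁻¹ (-y) = rep cs h w⁻¹ (rep cs h w y) := by rw [h3]
      _ = y := rep_inv_apply ..
  rw [h2] at h1
  have e : m⁻¹ * (m * u * m⁻¹) * m = u := by group
  rwa [e] at h1

theorem eq_one_of_mem_both {u : Y} (h1 : u ∈ X y) (h2 : u ∈ X (-y)) : u = 1 := by
  have hne : y ≠ -y := by
    intro e
    apply hy.ne_zero
    have : (2 : ℤ) • y = 0 := by
      rw [two_smul]; nth_rewrite 2 [e]; simp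
    rcases smul_eq_zero.1 this with h3 | h3
    · norm_num at h3
    · exact h3
  have h3 : u ∈ X y ⊓ X (-y) := Subgroup.mem_inf.2 ⟨h1, h2⟩
  rw [OppDec.X_inf_X D hy hy.neg hne, Subgroup.mem_bot] at h3
  exact h3

/-- the elements of `X y` act on the elements of `X (-y)` without coincidences -/
theorem ti {v g : Y} (hv : v ∈ X y) (hg : g ∈ X (-y)) (hg1 : g ≠ 1) (hc : v * g * v⁻¹ ∈ X (-y)) : v = 1 := by
  by_contra hv1
  have hv' : v ∈ X (- -y) := by rwa [neg_neg]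
  obtain ⟨a, ha, c, hc', w, hm, hw⟩ := exists_refl_LL D hy.neg hv' hv1
  have h1 : (a * v * c) * (c⁻¹ * g * c) * (a * v * c)⁻¹ ∈ X (- -y) :=
    conj_pos D hy.neg hm hw (mul_mem (mul_mem (inv_mem hc') hg) hc')
  rw [neg_neg] at h1
  have e : (a * v * c) * (c⁻¹ * g * c) * (a * v * c)⁻¹ = a * (v * g * v⁻¹) * a⁻¹ := by group
  rw [e] at h1
  have h2 := eq_one_of_mem_both D hy h1 (mul_mem (mul_mem ha hc) (inv_mem ha))
  apply hg1
  have : g = v⁻¹ * (a⁻¹ * (a * (v * g * v⁻¹) * a⁻¹) * a) * v := by group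
  rw [this, h2]
  group

theorem T_conj {t u : Y} (ht : t ∈ T) (hu : u ∈ X y) : t * u * t⁻¹ ∈ X y := by
  have h1 := D.tor y hy t ht
  rw [← h1]
  exact conj_mem_cj.2 hu

/-- `T ⟨X y, X (-y)⟩ = X y T ∪ X y T m X y` -/
theorem exists_form {w : W} {m : Y} (hm : Rp cs D.nsys w m) (hw : ∀ x, rep cs h w x = x - cpr cs h x y • y)
    {g : Y} (hg : g ∈ T ⊔ LL X y) :
    (∃ a ∈ X y, ∃ t ∈ T, g = a * t) ∨ ∃ a ∈ X y, ∃ t ∈ T, ∃ b ∈ X y, g = a * t * m * b := by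
  have hmT : ∀ t ∈ T, m * t * m⁻¹ ∈ T := fun t ht =>
    (Subgroup.mem_normalizer_iff.1 hm.mem_normalizer t).1 ht
  -- two representatives differ by `T`
  have hrep : ∀ {w' : W} {m' : Y}, Rp cs D.nsys w' m' → (∀ x, rep cs h w' x = x - cpr cs h x y • y) →
      ∃ t ∈ T, m' = t * m := by
    intro w' m' hm' hw'
    have e : w' = w := rep_injective cs h (LinearMap.ext fun x => by rw [hw', hw])
    subst e
    refine ⟨m' * m⁻¹, ?_, by group⟩
    have h1 := hm'.mul hm.inv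
    rw [mul_inv_cancel] at h1
    exact h1.mem_of_one
  have hmm : m * m ∈ T := by
    have e : w * w = 1 := rep_injective cs h (LinearMap.ext fun x => by
      have h2 : cpr cs h (x - cpr cs h x y • y) y = -cpr cs h x y := by
        have h3 : x - cpr cs h x y • y = x + (-cpr cs h x y) • y := by module
        rw [h3, cpr_add cs h _ _ hy, cpr_smul cs h _ _ hy, cpr_self cs h hy]
        ring
      rw [map_mul, Module.End.mul_apply, hw, hw, h2, map_one, Module.End.one_apply]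
      module)
    have h1 := hm.mul hm
    rw [e] at h1
    exact h1.mem_of_one
  have key : ∀ c ∈ X (-y), ∀ g : Y, ((∃ a ∈ X y, ∃ t ∈ T, g = a * t) ∨
      ∃ a ∈ X y, ∃ t ∈ T, ∃ b ∈ X y, g = a * t * m * b) →
      ((∃ a ∈ X y, ∃ t ∈ T, c * g = a * t) ∨ ∃ a ∈ X y, ∃ t ∈ T, ∃ b ∈ X y, c * g = a * t * m * b) := by
    intro c hc g hg
    by_cases hc1 : c = 1
    · subst hc1; rw [one_mul]; exact hg
    obtain ⟨a1, ha1, c1, hc1', w', hm', hw'⟩ := exists_refl_LL D hy hc hc1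
    obtain ⟨t1, ht1, e1⟩ := hrep hm' hw'
    have ec : c = a1⁻¹ * (t1 * m) * c1⁻¹ := by rw [← e1]; group
    rcases hg with ⟨a, ha, t, ht, rfl⟩ | ⟨a, ha, t, ht, b, hb, rfl⟩
    · right
      refine ⟨a1⁻¹, inv_mem ha1, t1 * (m * t * m⁻¹), mul_mem ht1 (hmT t ht), t⁻¹ * (c1⁻¹ * a) * t, ?_, ?_⟩
      · have := T_conj D hy (inv_mem ht) (mul_mem (inv_mem hc1') ha)
        rwa [inv_inv] at this
      · rw [ec]; group
    · by_cases ha'' : c1⁻¹ * a = 1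
      · left
        refine ⟨a1⁻¹ * ((t1 * (m * t * m⁻¹) * (m * m)) * b * (t1 * (m * t * m⁻¹) * (m * m))⁻¹), ?_,
          t1 * (m * t * m⁻¹) * (m * m), ?_, ?_⟩
        · exact mul_mem (inv_mem ha1) (T_conj D hy (mul_mem (mul_mem ht1 (hmT t ht)) hmm) hb)
        · exact mul_mem (mul_mem ht1 (hmT t ht)) hmm
        · rw [ec]
          calc a1⁻¹ * (t1 * m) * c1⁻¹ * (a * t * m * b) = a1⁻¹ * (t1 * m) * (c1⁻¹ * a) * (t * m * b) := by group
            _ = a1⁻¹ * (t1 * m) * (t * m * b) := by rw [ha'', mul_one]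
            _ = _ := by group
      · right
        -- `m a'' m⁻¹ ∈ X (-y)`
        have h1 := conj_pos D hy hm hw (mul_mem (inv_mem hc1') ha)
        have h2 : m * (c1⁻¹ * a) * m⁻¹ ≠ 1 := by
          intro h3
          apply ha''
          have : c1⁻¹ * a = m⁻¹ * (m * (c1⁻¹ * a) * m⁻¹) * m := by group
          rw [this, h3]; group
        obtain ⟨a3, ha3, c3, hc3, w3, hm3, hw3⟩ := exists_refl_LL D hy h1 h2
        obtain ⟨t3, ht3, e3⟩ := hrep hm3 hw3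
        have e4 : m * (c1⁻¹ * a) * m⁻¹ = a3⁻¹ * (t3 * m) * c3⁻¹ := by rw [← e3]; group
        -- `c g = a1⁻¹ t1 (m a'' m⁻¹) (m t m⁻¹) (m m) b`
        refine ⟨a1⁻¹ * (t1 * a3⁻¹ * t1⁻¹), mul_mem (inv_mem ha1) (T_conj D hy ht1 (inv_mem ha3)),
          t1 * t3 * (m * ((m * t * m⁻¹) * (m * m)) * m⁻¹), ?_,
          ((m * t * m⁻¹) * (m * m))⁻¹ * c3⁻¹ * ((m * t * m⁻¹) * (m * m)) * b, ?_, ?_⟩
        · exact mul_mem (mul_mem ht1 ht3) (hmT _ (mul_mem (hmT t ht) hmm))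
        · refine mul_mem ?_ hb
          have := T_conj D hy (inv_mem (mul_mem (hmT t ht) hmm)) (inv_mem hc3)
          rwa [inv_inv] at this
        · rw [ec]
          calc a1⁻¹ * (t1 * m) * c1⁻¹ * (a * t * m * b)
              = a1⁻¹ * t1 * (m * (c1⁻¹ * a) * m⁻¹) * ((m * t * m⁻¹) * (m * m)) * b := by group
            _ = a1⁻¹ * t1 * (a3⁻¹ * (t3 * m) * c3⁻¹) * ((m * t * m⁻¹) * (m * m)) * b := by rw [e4]
            _ = _ := by group
  -- left multiplication by generators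
  have hT : ∀ s ∈ T, ∀ g : Y, ((∃ a ∈ X y, ∃ t ∈ T, g = a * t) ∨
      ∃ a ∈ X y, ∃ t ∈ T, ∃ b ∈ X y, g = a * t * m * b) →
      ((∃ a ∈ X y, ∃ t ∈ T, s * g = a * t) ∨ ∃ a ∈ X y, ∃ t ∈ T, ∃ b ∈ X y, s * g = a * t * m * b) := by
    rintro s hs g (⟨a, ha, t, ht, rfl⟩ | ⟨a, ha, t, ht, b, hb, rfl⟩)
    · exact Or.inl ⟨s * a * s⁻¹, T_conj D hy hs ha, s * t, mul_mem hs ht, by group⟩
    · exact Or.inr ⟨s * a * s⁻¹, T_conj D hy hs ha, s * t, mul_mem hs ht, b, hb, by group⟩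
  have hU : ∀ s ∈ X y, ∀ g : Y, ((∃ a ∈ X y, ∃ t ∈ T, g = a * t) ∨
      ∃ a ∈ X y, ∃ t ∈ T, ∃ b ∈ X y, g = a * t * m * b) →
      ((∃ a ∈ X y, ∃ t ∈ T, s * g = a * t) ∨ ∃ a ∈ X y, ∃ t ∈ T, ∃ b ∈ X y, s * g = a * t * m * b) := by
    rintro s hs g (⟨a, ha, t, ht, rfl⟩ | ⟨a, ha, t, ht, b, hb, rfl⟩)
    · exact Or.inl ⟨s * a, mul_mem hs ha, t, ht, by group⟩
    · exact Or.inr ⟨s * a, mul_mem hs ha, t, ht, b, hb, by group⟩
  have hgen : T ⊔ LL X y = Subgroup.closure ((T : Set Y) ∪ (X y : Set Y) ∪ (X (-y) : Set Y)) := by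
    unfold LL
    rw [Subgroup.closure_union, Subgroup.closure_union, Subgroup.closure_eq, Subgroup.closure_eq,
      Subgroup.closure_eq, sup_assoc]
  rw [hgen] at hg
  refine Subgroup.closure_induction_left (p := fun g _ => (∃ a ∈ X y, ∃ t ∈ T, g = a * t) ∨
      ∃ a ∈ X y, ∃ t ∈ T, ∃ b ∈ X y, g = a * t * m * b) ?_ ?_ ?_ hg
  · exact Or.inl ⟨1, one_mem _, 1, one_mem _, by group⟩
  · rintro s ((hs | hs) | hs) g _ ih
    · exact hT s hs g ih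
    · exact hU s hs g ih
    · exact key s hs g ih
  · rintro s ((hs | hs) | hs) g _ ih
    · exact hT _ (inv_mem hs) g ih
    · exact hU _ (inv_mem hs) g ih
    · exact key _ (inv_mem hs) g ih

/-- the normaliser of `X y` in `T ⟨X y, X (-y)⟩` -/
theorem exists_of_normalizes {g : Y} (hg : g ∈ T ⊔ LL X y) (hn : ∀ u ∈ X y, g * u * g⁻¹ ∈ X y) :
    ∃ a ∈ X y, ∃ t ∈ T, g = a * t := by
  obtain ⟨u, hu, hu1⟩ : ∃ u ∈ X y, u ≠ 1 := by
    by_contra h0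
    push Not at h0
    exact Bruhat.X_ne_bot D hy ((Subgroup.eq_bot_iff_forall _).2 h0)
  obtain ⟨b, hb, hb1⟩ : ∃ b ∈ X (-y), b ≠ 1 := by
    by_contra h0
    push Not at h0
    exact Bruhat.X_ne_bot D hy.neg ((Subgroup.eq_bot_iff_forall _).2 h0)
  obtain ⟨a0, -, c0, -, w, hm, hw⟩ := exists_refl_LL D hy hb hb1
  rcases exists_form D hy hm hw hg with h1 | ⟨a, ha, t, ht, b', hb', rfl⟩
  · exact h1
  · exfalso
    -- `b'⁻¹ u b'` is mapped into `a X (-y) a⁻¹`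
    have h2 := hn (b'⁻¹ * u * b') (mul_mem (mul_mem (inv_mem hb') hu) hb')
    have h3 := conj_pos D hy hm hw hu
    set m := a0 * b * c0 with hmd
    have h4 : a * (t * (m * u * m⁻¹) * t⁻¹) * a⁻¹ ∈ X y := by
      have e : a * t * m * b' * (b'⁻¹ * u * b') * (a * t * m * b')⁻¹ = a * (t * (m * u * m⁻¹) * t⁻¹) * a⁻¹ := by
        group
      rwa [e] at h2
    have h5 : t * (m * u * m⁻¹) * t⁻¹ ∈ X y := by
      have e : t * (m * u * m⁻¹) * t⁻¹ = a⁻¹ * (a * (t * (m * u * m⁻¹) * t⁻¹) * a⁻¹) * a := by group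
      rw [e]
      exact mul_mem (mul_mem (inv_mem ha) h4) ha
    have h6 := eq_one_of_mem_both D hy h5 (T_conj D hy.neg ht h3)
    apply hu1
    have : u = m⁻¹ * (t⁻¹ * (t * (m * u * m⁻¹) * t⁻¹) * t) * m := by group
    rw [this, h6]
    group

theorem X_le : X y ≤ T ⊔ LL X y := le_trans (le_sup_left : X y ≤ X y ⊔ X (-y)) le_sup_right

/-- the `p`-subgroups of `T ⟨X y, X (-y)⟩` are conjugate to subgroups of `X y` -/
theorem exists_conj_le [Finite Y] (hp : p.Prime) {Q : Subgroup Y} (hQ : IsPGroup p Q) (hle : Q ≤ T ⊔ LL X y) :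
    ∃ g ∈ T ⊔ LL X y, ∀ x ∈ Q, g * x * g⁻¹ ∈ X y := by
  have : Fact p.Prime := ⟨hp⟩
  set H := T ⊔ LL X y with hH
  have hXH : X y ≤ H := X_le D hy
  have hX : IsPGroup p ↥((X y).subgroupOf H) := (D.pgrp' hy).comap_subtype
  obtain ⟨P, hP⟩ := hX.exists_le_sylow
  -- `P = X y`
  have hPX : (P : Subgroup H) = (X y).subgroupOf H := by
    by_contra hne
    have hlt : (X y).subgroupOf H < P := lt_of_le_of_ne hP (Ne.symm hne)
    -- normaliser condition in `P`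
    have hnc : Group.IsNilpotent (P : Subgroup H) := P.isPGroup'.isNilpotent
    have h1 := Group.normalizerCondition_of_isNilpotent (G := ↥(P : Subgroup H))
    have h2 : ((X y).subgroupOf H).subgroupOf P < ⊤ := by
      rw [lt_top_iff_ne_top]
      intro h3
      rw [Subgroup.subgroupOf_eq_top] at h3
      exact hne (le_antisymm h3 hP)
    have h3 := h1 _ h2
    obtain ⟨g, hg1, hg2⟩ := Set.exists_of_ssubset h3
    have hgn : ∀ u ∈ X y, ((g : H) : Y) * u * ((g : H) : Y)⁻¹ ∈ X y := by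
      intro u hu
      have h4 : (⟨⟨u, hXH hu⟩, hP (Subgroup.mem_subgroupOf.2 hu)⟩ : ↥(P : Subgroup H)) ∈
          ((X y).subgroupOf H).subgroupOf P := hu
      have h5 := (Subgroup.mem_normalizer_iff.1 hg1 _).1 h4
      exact h5
    obtain ⟨a, ha, t, ht, e⟩ := exists_of_normalizes D hy (g : H).2 hgn
    -- `t` is a `p`-element
    have h4 : t = 1 := by
      have h5 : (⟨t, hH ▸ (Subgroup.mem_sup_left ht)⟩ : H) ∈ (P : Subgroup H) := by
        have h6 : (⟨t, hH ▸ (Subgroup.mem_sup_left ht)⟩ : H) = (⟨a, hXH ha⟩ : H)⁻¹ * g := by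
          apply Subtype.ext
          change t = a⁻¹ * ((g : H) : Y)
          rw [e]; group
        rw [h6]
        exact mul_mem (inv_mem (hP (Subgroup.mem_subgroupOf.2 ha))) g.2
      obtain ⟨k, hk⟩ := P.isPGroup' ⟨_, h5⟩
      have hk' : t ^ p ^ k = 1 := congrArg (fun z : ↥(P : Subgroup H) => ((z : H) : Y)) hk
      have h6 : orderOf t ∣ p ^ k := orderOf_dvd_of_pow_eq_one hk'
      have h7 : orderOf t ∣ Nat.card T := by
        have : orderOf (⟨t, ht⟩ : T) = orderOf t := Subgroup.orderOf_mk t ht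
        rw [← this]
        exact orderOf_dvd_natCard _
      exact orderOf_eq_one_iff.1 (Nat.eq_one_of_dvd_coprimes (D.tcop.pow_right k) h7 h6)
    apply hg2
    change ((g : H) : Y) ∈ X y
    rw [e, h4, mul_one]
    exact ha
  have hQ' : IsPGroup p ↥(Q.subgroupOf H) := hQ.comap_subtype
  obtain ⟨P', hP'⟩ := hQ'.exists_le_sylow
  obtain ⟨g, hg⟩ := MulAction.exists_smul_eq H P' P
  refine ⟨g, g.2, fun x hx => ?_⟩
  have h1 : (⟨x, hle hx⟩ : H) ∈ (P' : Subgroup H) := hP' (Subgroup.mem_subgroupOf.2 hx)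
  have h2 : g * (⟨x, hle hx⟩ : H) * g⁻¹ ∈ (P : Subgroup H) := by
    rw [← hg, Sylow.coe_subgroup_smul]
    exact Subgroup.smul_mem_pointwise_smul _ _ _ h1
  rw [hPX] at h2
  exact h2

/-- a `p`-subgroup not contained in `X y` is conjugate to a subgroup of `X (-y)` by an element of `X y` -/
theorem exists_conj_neg [Finite Y] (hp : p.Prime) {Q : Subgroup Y} (hQ : IsPGroup p Q) (hle : Q ≤ T ⊔ LL X y)
    (hQX : ¬ Q ≤ X y) : ∃ u ∈ X y, ∀ x ∈ Q, u * x * u⁻¹ ∈ X (-y) := by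
  obtain ⟨g, hg, hgQ⟩ := exists_conj_le D hy hp hQ hle
  obtain ⟨b, hb, hb1⟩ : ∃ b ∈ X (-y), b ≠ 1 := by
    by_contra h0
    push Not at h0
    exact Bruhat.X_ne_bot D hy.neg ((Subgroup.eq_bot_iff_forall _).2 h0)
  obtain ⟨a0, -, c0, -, w, hm, hw⟩ := exists_refl_LL D hy hb hb1
  rcases exists_form D hy hm hw (inv_mem hg) with ⟨a, ha, t, ht, e⟩ | ⟨a, ha, t, ht, b', hb', e⟩
  · exfalso
    apply hQX
    intro x hx
    have h1 := hgQ x hx
    have h2 : x = a * (t * (g * x * g⁻¹) * t⁻¹) * a⁻¹ := by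
      have : g = (a * t)⁻¹ := by rw [← e, inv_inv]
      rw [this]; group
    rw [h2]
    exact mul_mem (mul_mem ha (T_conj D hy ht h1)) (inv_mem ha)
  · refine ⟨a⁻¹, inv_mem ha, fun x hx => ?_⟩
    have h1 := hgQ x hx
    set m := a0 * b * c0 with hmd
    have h2 : a⁻¹ * x * a⁻¹⁻¹ = t * (m * (b' * (g * x * g⁻¹) * b'⁻¹) * m⁻¹) * t⁻¹ := by
      have : g = (a * t * m * b')⁻¹ := by rw [← e, inv_inv]
      rw [this]; group
    rw [h2]
    exact T_conj D hy.neg ht (conj_pos D hy hm hw (mul_mem (mul_mem hb' h1) (inv_mem hb')))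

end RGD

section Cls

variable {R : Set (I → ℤ)} {Z : (I → ℤ) → Subgroup Y} {z : (I → ℤ) → Y} (C : Cls cs h p T n X R Z z)

include C

/-- **(A2)** : if `z r₁` inverts `X y` and `z r₁ = z (s_y r₁)`, then no subgroup of `T ⟨X y, X (-y)⟩` is isomorphic to
a classical group `⟨Z r, Z (-r)⟩` with only one involution. -/
theorem false_of_le [Finite Y] (hp : p.Prime) (hodd : p ≠ 2) {y : I → ℤ} (hy : IsRoot cs h y) {r₁ : I → ℤ}
    (hr₁ : r₁ ∈ R) (hf : form cs h y r₁ ≠ 0) (hy1 : y ≠ r₁) (hy2 : y ≠ -r₁)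
    (hz : z (r₁ - cpr cs h r₁ y • y) = z r₁) {r : I → ℤ} (hr : r ∈ R) (φ : ↥(KK Z r) →* Y)
    (hφ : Function.Injective φ) (hle : ∀ x, φ x ∈ T ⊔ LL X y)
    (hu : ∀ a b : ↥(KK Z r), orderOf a = 2 → orderOf b = 2 → a = b) : False := by
  have : Fact p.Prime := ⟨hp⟩
  have D := C.rgd
  have hr' := neg_mem C hr
  have hrr := C.root r hr
  -- the `p`-subgroups of the member
  have hZK : ∀ x ∈ Z r, x ∈ KK Z r := fun x hx => Subgroup.mem_sup_left hx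
  have hZK' : ∀ x ∈ Z (-r), x ∈ KK Z r := fun x hx => Subgroup.mem_sup_right hx
  have hpZ : IsPGroup p ↥(Z r) := (D.pgrp' hrr).to_le (C.le r hr)
  have hpZ' : IsPGroup p ↥(Z (-r)) := (D.pgrp' hrr.neg).to_le (C.le _ hr')
  -- step 1: `φ (Z r) ≤ X y`
  obtain ⟨φ, hφ, hle, h1⟩ : ∃ φ : ↥(KK Z r) →* Y, Function.Injective φ ∧ (∀ x, φ x ∈ T ⊔ LL X y) ∧
      ∀ x (hx : x ∈ Z r), φ ⟨x, hZK x hx⟩ ∈ X y := by
    have h2 : IsPGroup p ↥(((Z r).subgroupOf (KK Z r)).map φ) := hpZ.comap_subtype.map φ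
    obtain ⟨g, hg, hgQ⟩ := exists_conj_le D hy hp h2 (by
      rintro _ ⟨x, -, rfl⟩
      exact hle x)
    refine ⟨(MulAut.conj g).toMonoidHom.comp φ, (MulAut.conj g).injective.comp hφ, fun x => ?_, fun x hx => ?_⟩
    · exact mul_mem (mul_mem hg (hle x)) (inv_mem hg)
    · exact hgQ _ ⟨⟨x, hZK x hx⟩, hx, rfl⟩
  -- step 2: `φ (Z (-r)) ≤ X (-y)`
  obtain ⟨φ, hφ, h1, h2⟩ : ∃ φ : ↥(KK Z r) →* Y, Function.Injective φ ∧
      (∀ x (hx : x ∈ Z r), φ ⟨x, hZK x hx⟩ ∈ X y) ∧ ∀ x (hx : x ∈ Z (-r)), φ ⟨x, hZK' x hx⟩ ∈ X (-y) := by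
    have h2 : IsPGroup p ↥(((Z (-r)).subgroupOf (KK Z r)).map φ) := hpZ'.comap_subtype.map φ
    obtain ⟨u, hu', huQ⟩ := exists_conj_neg D hy hp h2 (by
      rintro _ ⟨x, -, rfl⟩
      exact hle x) (by
      intro h3
      apply C.notp r hr
      have h4 : (Z r ⊔ Z (-r) : Subgroup Y) ≤ ((X y).comap φ).map (KK Z r).subtype := by
        refine sup_le (fun x hx => ?_) (fun x hx => ?_)
        · exact ⟨⟨x, hZK x hx⟩, h1 x hx, rfl⟩
        · exact ⟨⟨x, hZK' x hx⟩, h3 ⟨⟨x, hZK' x hx⟩, hx, rfl⟩, rfl⟩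
      refine IsPGroup.to_le ?_ h4
      exact ((D.pgrp' hy).comap_of_injective φ hφ).map _)
    refine ⟨(MulAut.conj u).toMonoidHom.comp φ, (MulAut.conj u).injective.comp hφ, fun x hx => ?_, fun x hx => ?_⟩
    · exact mul_mem (mul_mem hu' (h1 x hx)) (inv_mem hu')
    · exact huQ _ ⟨⟨x, hZK' x hx⟩, hx, rfl⟩
  clear hle
  -- the reflection in the member
  obtain ⟨b0, hb0, hb01⟩ := Z_ne_bot' C hr'
  obtain ⟨a0, ha0, c0, hc0, w, hm', hw⟩ := exists_refl_KK C hp hodd hr hb0 hb01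
  have hm'K : a0 * b0 * c0 ∈ KK Z r := mul_mem (mul_mem (hZK _ ha0) (hZK' _ hb0)) (hZK _ hc0)
  obtain ⟨a, haφ⟩ : ∃ a, a = φ ⟨a0, hZK _ ha0⟩ := ⟨_, rfl⟩
  obtain ⟨b, hbφ⟩ : ∃ b, b = φ ⟨b0, hZK' _ hb0⟩ := ⟨_, rfl⟩
  obtain ⟨c, hcφ⟩ : ∃ c, c = φ ⟨c0, hZK _ hc0⟩ := ⟨_, rfl⟩
  obtain ⟨N, hN⟩ : ∃ N, N = φ ⟨a0 * b0 * c0, hm'K⟩ := ⟨_, rfl⟩
  have eN : N = a * b * c := by
    rw [hN, haφ, hbφ, hcφ, ← map_mul, ← map_mul]
    rfl
  have ha : a ∈ X y := haφ ▸ h1 _ ha0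
  have hb : b ∈ X (-y) := hbφ ▸ h2 _ hb0
  have hc : c ∈ X y := hcφ ▸ h1 _ hc0
  have hb1 : b ≠ 1 := by
    intro h3
    rw [hbφ, map_eq_one_iff φ hφ] at h3
    exact hb01 (congrArg Subtype.val h3)
  have hZr : ∀ x ∈ Z r, (a0 * b0 * c0) * x * (a0 * b0 * c0)⁻¹ ∈ Z (-r) := by
    intro x hx
    have h3 := ClsNorm.conj_Z C hm' hr
    rw [hw, cpr_self cs h hrr] at h3
    have e : r - (2 : ℤ) • r = -r := by module
    rw [e] at h3
    rw [← h3]
    exact conj_mem_cj.2 hx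
  have hZr' : ∀ x ∈ Z (-r), (a0 * b0 * c0) * x * (a0 * b0 * c0)⁻¹ ∈ Z r := by
    intro x hx
    have h3 := ClsNorm.conj_Z C hm' hr'
    rw [map_neg, hw, cpr_self cs h hrr] at h3
    have e : -(r - (2 : ℤ) • r) = r := by module
    rw [e] at h3
    rw [← h3]
    exact conj_mem_cj.2 hx
  have hNb : N * b * N⁻¹ ∈ X y := by
    rw [hN, hbφ, ← map_mul, ← map_inv, ← map_mul]
    exact h1 _ (hZr' _ hb0)
  -- the reflection `s_y`
  obtain ⟨a1, ha1, c1, hc1, w1, hm1, hw1⟩ := exists_refl_LL D hy hb hb1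
  obtain ⟨m, hm⟩ : ∃ m, m = a1 * b * c1 := ⟨_, rfl⟩
  rw [← hm] at hm1
  obtain ⟨u, hu_⟩ : ∃ u, u = a * a1⁻¹ := ⟨_, rfl⟩
  obtain ⟨v, hv_⟩ : ∃ v, v = c1⁻¹ * c := ⟨_, rfl⟩
  have huX : u ∈ X y := hu_ ▸ mul_mem ha (inv_mem ha1)
  have hvX : v ∈ X y := hv_ ▸ mul_mem (inv_mem hc1) hc
  have eN2 : N = u * m * v := by rw [eN, hu_, hv_, hm]; group
  have hv1 : v = 1 := by
    refine ti D hy hvX hb hb1 (conj_pos' D hy hm1 hw1 ?_)
    have e : m * (v * b * v⁻¹) * m⁻¹ = u⁻¹ * (N * b * N⁻¹) * u := by rw [eN2]; group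
    rw [e]
    exact mul_mem (mul_mem (inv_mem huX) hNb) huX
  have hu1 : u = 1 := by
    obtain ⟨g0, hg0, hg01⟩ := Z_ne_bot' C hr
    obtain ⟨g, hgφ⟩ : ∃ g, g = φ ⟨g0, hZK _ hg0⟩ := ⟨_, rfl⟩
    have hgX : g ∈ X y := hgφ ▸ h1 _ hg0
    have hg1 : g ≠ 1 := by
      intro h3
      rw [hgφ, map_eq_one_iff φ hφ] at h3
      exact hg01 (congrArg Subtype.val h3)
    have hNg : N * g * N⁻¹ ∈ X (-y) := by
      rw [hN, hgφ, ← map_mul, ← map_inv, ← map_mul]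
      exact h2 _ (hZr _ hg0)
    refine ti D hy huX (g := m * g * m⁻¹) (conj_pos D hy hm1 hw1 hgX) ?_ ?_
    · intro h3
      apply hg1
      have : g = m⁻¹ * (m * g * m⁻¹) * m := by group
      rw [this, h3]; group
    · have e : u * (m * g * m⁻¹) * u⁻¹ = N * g * N⁻¹ := by rw [eN2, hv1]; group
      rw [e]
      exact hNg
  have eNm : N = m := by rw [eN2, hu1, hv1]; group
  have hN1 : Rp cs D.nsys w1 N := eNm ▸ hm1
  -- `z₁` inverts `a`, `b`, `c`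
  obtain ⟨z₁, hz₁⟩ : ∃ z₁, z₁ = z r₁ := ⟨_, rfl⟩
  have hzz : z₁ * z₁ = 1 := hz₁ ▸ C.z_sq r₁ hr₁
  have hza : z₁ * a * z₁ = a⁻¹ := hz₁ ▸ C.z_inv r₁ hr₁ y hy hy1 hy2 hf a ha
  have hzc : z₁ * c * z₁ = c⁻¹ := hz₁ ▸ C.z_inv r₁ hr₁ y hy hy1 hy2 hf c hc
  have hzb : z₁ * b * z₁ = b⁻¹ := by
    rw [hz₁]
    refine C.z_inv r₁ hr₁ (-y) hy.neg ?_ ?_ ?_ b hb
    · intro e; apply hy2; rw [← e, neg_neg]
    · intro e; exact hy1 (neg_injective e)
    · rw [form_neg_left]; simpa using hf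
  have ezN : z₁ * N * z₁ = a⁻¹ * b⁻¹ * c⁻¹ := by
    rw [← hza, ← hzb, ← hzc, eN]
    calc z₁ * (a * b * c) * z₁ = z₁ * a * 1 * b * 1 * c * z₁ := by group
      _ = z₁ * a * (z₁ * z₁) * b * (z₁ * z₁) * c * z₁ := by rw [hzz]
      _ = _ := by group
  have hzX : ∀ x ∈ X y, z₁ * x * z₁ ∈ X y := by
    intro x hx
    rw [hz₁, C.z_inv r₁ hr₁ y hy hy1 hy2 hf x hx]
    exact inv_mem hx
  have hac : a * c⁻¹ = 1 := by
    refine ti D hy (mul_mem ha (inv_mem hc)) hb hb1 ?_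
    -- `N⁻¹ (v' b v'⁻¹) N ∈ X y`
    refine (show ∀ x, N⁻¹ * x * N ∈ X y → x ∈ X (-y) from fun x hx => ?_) _ ?_
    · have h3 := conj_pos D hy hN1 hw1 hx
      have e : N * (N⁻¹ * x * N) * N⁻¹ = x := by group
      rwa [e] at h3
    · have h3 : (z₁ * N * z₁) * b * (z₁ * N * z₁)⁻¹ ∈ X y := by
        have e : (z₁ * N * z₁) * b * (z₁ * N * z₁)⁻¹ = z₁ * (N * (z₁ * b * z₁) * N⁻¹) * z₁ := by
          have hzi : z₁⁻¹ = z₁ := inv_eq_of_mul_eq_one_left hzz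
          rw [mul_inv_rev, mul_inv_rev, hzi]
          group
        rw [e, hzb]
        apply hzX
        have e2 : N * b⁻¹ * N⁻¹ = (N * b * N⁻¹)⁻¹ := by group
        rw [e2]
        exact inv_mem hNb
      rw [ezN] at h3
      have e : N⁻¹ * (a * c⁻¹ * b * (a * c⁻¹)⁻¹) * N = (c⁻¹ * a) * ((a⁻¹ * b⁻¹ * c⁻¹) * b * (a⁻¹ * b⁻¹ * c⁻¹)⁻¹) * (c⁻¹ * a)⁻¹ := by
        rw [eN]; group
      rw [e]
      exact mul_mem (mul_mem (mul_mem (inv_mem hc) ha) h3) (inv_mem (mul_mem (inv_mem hc) ha))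
  have hac' : a = c := mul_inv_eq_one.1 hac
  have hzN : z₁ * N * z₁ = N⁻¹ := by rw [ezN, eN, hac']; group
  have hNz : N * z₁ * N⁻¹ = z₁ := by
    have h3 := ClsNorm.conj_z C hN1 hr₁
    rw [hw1, hz] at h3
    rw [hz₁]
    exact h3
  have hNN : N * N = 1 := by
    have h3 : N * z₁ = z₁ * N := mul_inv_eq_iff_eq_mul.1 hNz
    have h4 : N = N⁻¹ := by
      calc N = N * (z₁ * z₁) := by rw [hzz, mul_one]
        _ = (N * z₁) * z₁ := by group
        _ = z₁ * N * z₁ := by rw [h3]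
        _ = N⁻¹ := hzN
    nth_rewrite 1 [h4]
    exact inv_mul_cancel N
  -- the involution of the member
  have hq1 : orderOf (⟨a0 * b0 * c0, hm'K⟩ : KK Z r) = 2 := by
    rw [orderOf_eq_prime_iff]
    constructor
    · apply hφ
      rw [map_pow, map_one, ← hN, pow_two, hNN]
    · intro h3
      rw [h3, map_one] at hN
      rw [hN, one_mul, inv_one, mul_one] at hNb
      exact hb1 (eq_one_of_mem_both D hy hNb hb)
  have hb0K : b0 ∈ KK Z r := hZK' _ hb0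
  have hq2 := hu _ ((⟨b0, hb0K⟩ : KK Z r) * ⟨a0 * b0 * c0, hm'K⟩ * (⟨b0, hb0K⟩ : KK Z r)⁻¹) hq1 (by
    have := orderOf_injective (MulAut.conj (⟨b0, hb0K⟩ : KK Z r)).toMonoidHom
      (MulAut.conj (⟨b0, hb0K⟩ : KK Z r)).injective ⟨a0 * b0 * c0, hm'K⟩
    rw [← hq1, ← this]
    rfl)
  have hq3 : a0 * b0 * c0 = b0 * (a0 * b0 * c0) * b0⁻¹ := congrArg Subtype.val hq2
  have h3 := hZr' _ hb0
  have h4 : (a0 * b0 * c0) * b0 * (a0 * b0 * c0)⁻¹ = b0 := by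
    rw [mul_inv_eq_iff_eq_mul, eq_comm, ← mul_inv_eq_iff_eq_mul, eq_comm]
    exact hq3
  rw [h4] at h3
  exact hb01 (eq_one_of_mem_both D hrr (C.le r hr h3) (C.le _ hr' hb0))

end Cls

end Cfsg.Agent.Nodes.RankOneSub
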