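import Mathlib
import Cfsg.Agent.Nodes.RankOneSub
import Cfsg.Agent.Nodes.RKindsBC

/-!
# Type `B n` : no member of another class in `T ⟨X e, X (-e)⟩`, `e` the last simple root (project CIT, Q1 (A2))

* `z_mul_central` : `z_{ε₀+ε_l} z_{ε₀-ε_l}` is central in the group generated by the root groups;
* `false_of_le` : (A2) for `C : Cls cs (isCartan n) p T nn X (RB n) Z z`.
-/

set_option autoImplicit false
set_option linter.unusedSectionVars false
set_option linter.dupNamespace false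

namespace Cfsg.Agent.Nodes.BOdd

open CoxeterSystem Cfsg.Agent.ChevalleyStructure.CoxeterGeom Cfsg.Agent.Tits.Roots
  Cfsg.Agent.Nodes.Coroot Cfsg.Agent.Nodes.TypeC Cfsg.Agent.Nodes.TypeCForm
  Cfsg.Agent.Nodes.KindBC Cfsg.Agent.Nodes.KindBase Cfsg.Agent.Nodes.Perp Cfsg.Agent.Nodes.RGDLib
  Cfsg.Agent.Nodes.Chart Cfsg.Agent.Nodes.BNOf Cfsg.Agent.Nodes.FreeTorus Cfsg.Agent.Nodes.ZRel
  Cfsg.Agent.Nodes.RKindsBC

variable {n : ℕ} {W Y : Type*} [Group W] [Fintype W] {cs : CoxeterSystem (CoxeterMatrix.B n) W}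

/-- A root with two non-zero coordinates. -/
theorem eq_rt_of_ne {x : Fin n → ℤ} (hx : IsRoot cs (isCartan n) x) {i j : Fin n} (hij : i ≠ j) (hi : ee x i ≠ 0)
    (hj : ee x j ≠ 0) : ∃ s t : Bool, x = rt (i, s) (j, t) := by
  obtain ⟨⟨a, s⟩, ⟨b, t⟩, -, rfl⟩ := exists_rt hx
  rw [ee_rt, Pi.add_apply, wt_apply, wt_apply] at hi hj
  by_cases h1 : i = a
  · subst h1
    have h2 : j = b := by
      by_contra h3
      simp [hij.symm, h3] at hj
    subst h2
    exact ⟨s, t, rfl⟩
  · have h2 : i = b := by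
      by_contra h3
      simp [h1, h3] at hi
    subst h2
    have h3 : j = a := by
      by_contra h3
      simp [hij.symm, h3] at hj
    subst h3
    exact ⟨t, s, by rw [rt_comm]⟩

variable [Group Y] {p : ℕ} {T : Subgroup Y} {nn : Fin n → Y} {X : (Fin n → ℤ) → Subgroup Y}
  {Z : (Fin n → ℤ) → Subgroup Y} {z : (Fin n → ℤ) → Y} (C : Cls cs (isCartan n) p T nn X (RB n) Z z)

include C

/-- `X r = Z r`. -/
theorem X_eq (hn : 3 ≤ n) (hp : p.Prime) (hodd : p ≠ 2) (hu : Uniq (RB n) Z z) {r : Fin n → ℤ} (hr : r ∈ RB n) :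
    X r = Z r := by
  obtain ⟨⟨a, s⟩, ⟨b, t⟩, hab, rfl⟩ := mem_RB.1 hr
  simp only at hab
  obtain ⟨c, hca, hcb⟩ : ∃ c : Fin n, c ≠ a ∧ c ≠ b := by
    by_contra h0
    push Not at h0
    have h1 : (Finset.univ : Finset (Fin n)) ⊆ {a, b} := by
      intro c _
      by_cases h2 : c = a
      · rw [h2]; exact Finset.mem_insert_self _ _
      · rw [h0 c h2]; exact Finset.mem_insert_of_mem (Finset.mem_singleton_self _)
    have h2 := (Finset.card_le_card h1).trans (Finset.card_le_two)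
    rw [Finset.card_univ, Fintype.card_fin] at h2
    omega
  have hs : rt ((a, s) : Fin n × Bool) (c, true) ∈ RB n := rt_mem_RB hca.symm
  have e1 : ee (rt ((a, s) : Fin n × Bool) (c, true)) c = 1 := by
    rw [ee_rt, Pi.add_apply, wt_apply, wt_apply, if_neg hca, if_pos rfl]; rfl
  have e2 : ee (rt ((a, s) : Fin n × Bool) (b, t)) c = 0 := by
    rw [ee_rt, Pi.add_apply, wt_apply, wt_apply, if_neg hca, if_neg hcb]; rfl
  refine X_eq_Z C hp hodd hu hr hs ?_ ?_ ?_
  · intro e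
    rw [e, e2] at e1
    exact zero_ne_one e1
  · intro e
    rw [e, ee_neg, Pi.neg_apply, e2] at e1
    norm_num at e1
  · rw [cpr_rt cs _ (by exact hab : ((a, s) : Fin n × Bool).1 ≠ (b, t).1),
      cpr_rt cs _ (by exact hca.symm : ((a, s) : Fin n × Bool).1 ≠ (c, true).1), e2, ee_rt, ee_rt]
    simp only [Pi.add_apply, wt_apply, if_pos, if_neg hab, if_neg hab.symm, if_neg hcb.symm, if_neg hca.symm, sn]
    cases s <;> simp

/-- The involution of `K_r` commutes with `X (± r)`. -/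
theorem comm_self (hn : 3 ≤ n) (hp : p.Prime) (hodd : p ≠ 2) (hu : Uniq (RB n) Z z) {r : Fin n → ℤ} (hr : r ∈ RB n)
    {a : Y} (ha : a ∈ X r) : Commute (z r) a := by
  rw [X_eq C hn hp hodd hu hr] at ha
  exact C.z_cent r hr a ha

/-- `z_{ε_i+ε_j} z_{ε_i-ε_j}` centralises all root groups. -/
theorem z_mul_comm (hn : 3 ≤ n) (hp : p.Prime) (hodd : p ≠ 2) (hu : Uniq (RB n) Z z) {i j : Fin n} (hij : i ≠ j)
    {x : Fin n → ℤ} (hx : IsRoot cs (isCartan n) x) {a : Y} (ha : a ∈ X x) :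
    Commute (z (rt (i, true) (j, true)) * z (rt (i, true) (j, false))) a := by
  set r₁ := rt ((i, true) : Fin n × Bool) (j, true) with hr₁
  set r₂ := rt ((i, true) : Fin n × Bool) (j, false) with hr₂
  have h1 : r₁ ∈ RB n := rt_mem_RB (by exact hij)
  have h2 : r₂ ∈ RB n := rt_mem_RB (by exact hij)
  have c1 : ∀ x, cpr cs (isCartan n) x r₁ = ee x i + ee x j := fun x => by
    rw [hr₁, cpr_rt cs _ (by exact hij : ((i, true) : Fin n × Bool).1 ≠ (j, true).1)]
    simp [sn]
  have c2 : ∀ x, cpr cs (isCartan n) x r₂ = ee x i - ee x j := fun x => by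
    rw [hr₂, cpr_rt cs _ (by exact hij : ((i, true) : Fin n × Bool).1 ≠ (j, false).1)]
    simp [sn, sub_eq_add_neg]
  have hr1 := root_RB cs h1
  have hr2 := root_RB cs h2
  have f1 : ∀ x, form cs (isCartan n) x r₁ = 0 ↔ ee x i + ee x j = 0 := fun x => by
    rw [form_zero cs hr1, c1]
  have f2 : ∀ x, form cs (isCartan n) x r₂ = 0 ↔ ee x i - ee x j = 0 := fun x => by
    rw [form_zero cs hr2, c2]
  have v1 : ee r₁ i = 1 ∧ ee r₁ j = 1 := by
    rw [hr₁, ee_rt]
    simp [wt_apply, hij, hij.symm]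
  have v2 : ee r₂ i = 1 ∧ ee r₂ j = -1 := by
    rw [hr₂, ee_rt]
    simp [wt_apply, hij, hij.symm]
  have o12 : form cs (isCartan n) r₁ r₂ = 0 := by rw [f2, v1.1, v1.2]; norm_num
  have o21 : form cs (isCartan n) r₂ r₁ = 0 := by rw [form_comm]; exact o12
  by_cases hb : ee x i ≠ 0 ∧ ee x j ≠ 0
  · obtain ⟨s, t, rfl⟩ := eq_rt_of_ne hx hij hb.1 hb.2
    have n1 : rt ((i, false) : Fin n × Bool) (j, false) = -r₁ := by
      rw [hr₁, ← rt_ng]; rfl
    have n2 : rt ((i, false) : Fin n × Bool) (j, true) = -r₂ := by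
      rw [hr₂, ← rt_ng]; rfl
    cases s <;> cases t
    · rw [n1] at ha
      have h3 := comm_self C hn hp hodd hu (neg_mem C h1) ha
      rw [C.z_neg r₁ h1] at h3
      refine h3.mul_left (z_cent_of_orth C h2 hr1.neg ?_ ha).symm
      rw [form_neg_left, o12, neg_zero]
    · rw [n2] at ha
      have h3 := comm_self C hn hp hodd hu (neg_mem C h2) ha
      rw [C.z_neg r₂ h2] at h3
      refine Commute.mul_left (z_cent_of_orth C h1 hr2.neg ?_ ha).symm h3
      rw [form_neg_left, o21, neg_zero]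
    · exact Commute.mul_left (z_cent_of_orth C h1 hr2 o21 ha).symm (comm_self C hn hp hodd hu h2 ha)
    · exact Commute.mul_left (comm_self C hn hp hodd hu h1 ha) (z_cent_of_orth C h2 hr1 o12 ha).symm
  · have hiff : form cs (isCartan n) x r₁ = 0 ↔ form cs (isCartan n) x r₂ = 0 := by
      rw [f1, f2]
      by_cases h3 : ee x i = 0
      · rw [h3]; omega
      · have h4 : ee x j = 0 := by
          by_contra h4
          exact hb ⟨h3, h4⟩
        rw [h4]; omega
    by_cases h0 : form cs (isCartan n) x r₁ = 0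
    · exact Commute.mul_left (z_cent_of_orth C h1 hx h0 ha).symm (z_cent_of_orth C h2 hx (hiff.1 h0) ha).symm
    · have h0' : form cs (isCartan n) x r₂ ≠ 0 := fun h => h0 (hiff.2 h)
      have hne : ∀ r, form cs (isCartan n) r r₂ = 0 → x ≠ r := fun r hr e => h0' (e ▸ hr)
      have hne' : ∀ r, form cs (isCartan n) r r₁ = 0 → x ≠ r := fun r hr e => h0 (e ▸ hr)
      have i1 := C.z_inv r₁ h1 x hx (hne _ o12) (hne _ (by rw [form_neg_left, o12, neg_zero])) h0 a ha
      have i2 := C.z_inv r₂ h2 x hx (hne' _ o21) (hne' _ (by rw [form_neg_left, o21, neg_zero])) h0' a ha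
      have s1 := C.z_sq r₁ h1
      have s2 := C.z_sq r₂ h2
      -- `z₁ z₂ a z₂ z₁ = a`
      have e1 : z r₂ * a = a⁻¹ * z r₂ := by
        rw [← i2, mul_assoc _ (z r₂) (z r₂), s2, mul_one]
      have e2 : z r₁ * a⁻¹ = a * z r₁ := by
        have h3 : z r₁ * a⁻¹ * z r₁ = a := by
          have : z r₁ * a⁻¹ * z r₁ = (z r₁ * a * z r₁)⁻¹ := by
            rw [mul_inv_rev, mul_inv_rev, z_inv' C h1, mul_assoc]
          rw [this, i1, inv_inv]
        calc z r₁ * a⁻¹ = (z r₁ * a⁻¹ * z r₁) * z r₁ := by rw [mul_assoc _ (z r₁) (z r₁), s1, mul_one]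
          _ = a * z r₁ := by rw [h3]
      change z r₁ * z r₂ * a = a * (z r₁ * z r₂)
      rw [mul_assoc, e1, ← mul_assoc, e2, mul_assoc]

/-- `z_{ε_i+ε_j} = z_{ε_i-ε_j}` if the centre is trivial. -/
theorem z_eq (hn : 3 ≤ n) (hp : p.Prime) (hodd : p ≠ 2) (hu : Uniq (RB n) Z z)
    (hG : G1 cs (isCartan n) X = ⊤) (hc : Subgroup.center Y = ⊥) {i j : Fin n} (hij : i ≠ j) :
    z (rt (i, true) (j, true)) = z (rt (i, true) (j, false)) := by
  have h1 : z (rt (i, true) (j, true)) * z (rt (i, true) (j, false)) ∈ Subgroup.center Y := by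
    rw [Subgroup.mem_center_iff]
    intro g
    have h2 : (⊤ : Subgroup Y) ≤ Subgroup.centralizer {z (rt (i, true) (j, true)) * z (rt (i, true) (j, false))} := by
      rw [← hG]
      refine RGD.Sup_le fun x hx a ha => ?_
      rw [Subgroup.mem_centralizer_singleton_iff]
      exact (z_mul_comm C hn hp hodd hu hij hx ha).eq.symm
    exact Subgroup.mem_centralizer_singleton_iff.1 (h2 (Subgroup.mem_top g))
  rw [hc, Subgroup.mem_bot, mul_eq_one_iff_eq_inv, z_inv' C (rt_mem_RB (by exact hij))] at h1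
  exact h1

/-- **(A2)** -/
theorem false_of_le [Finite Y] (hn : 3 ≤ n) (hp : p.Prime) (hodd : p ≠ 2) (hu : Uniq (RB n) Z z)
    (hG : G1 cs (isCartan n) X = ⊤) (hc : Subgroup.center Y = ⊥) {l : Fin n} (hl : (l : ℕ) + 1 = n)
    {r : Fin n → ℤ} (hr : r ∈ RB n) (φ : ↥(KK Z r) →* Y) (hφ : Function.Injective φ)
    (hle : ∀ x, φ x ∈ T ⊔ LL X (sr l)) : False := by
  have h0 : (⟨0, by omega⟩ : Fin n) ≠ l := by
    intro e
    have := congrArg Fin.val e
    simp only at this
    omega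
  have hnx : nx l = (l, true) := by
    unfold nx
    rw [dif_neg (by omega)]
  have hsr : sr l = rt (l, true) (l, true) := by rw [sr_eq_rt, hnx]
  have hy : IsRoot cs (isCartan n) (sr l) := isRoot_sr cs (isCartan n) l
  have hr1 : rt ((⟨0, by omega⟩, true) : Fin n × Bool) (l, true) ∈ RB n := rt_mem_RB (by exact h0)
  have v1 : ee (sr l) (⟨0, by omega⟩ : Fin n) = 0 := by
    rw [hsr, ee_rt]
    simp [wt_apply, h0]
  have v2 : ee (sr l) l = 2 := by
    rw [hsr, ee_rt]
    simp [wt_apply]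
  have v3 : ee (rt ((⟨0, by omega⟩, true) : Fin n × Bool) (l, true)) (⟨0, by omega⟩ : Fin n) = 1 := by
    rw [ee_rt]
    simp [wt_apply, h0]
  have v4 : ee (rt ((⟨0, by omega⟩, true) : Fin n × Bool) (l, true)) l = 1 := by
    rw [ee_rt]
    simp [wt_apply, h0.symm]
  have hcp : cpr cs (isCartan n) (rt ((⟨0, by omega⟩, true) : Fin n × Bool) (l, true)) (sr l) = 1 := by
    rw [hsr, cpr_rt_self, v4]
    simp [sn]
  refine RankOneSub.false_of_le C hp hodd hy hr1 ?_ ?_ ?_ ?_ hr φ hφ hle ?_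
  · rw [Ne, form_zero cs (root_RB cs hr1), cpr_rt cs _ (by exact h0 : ((⟨0, by omega⟩, true) : Fin n × Bool).1 ≠ (l, true).1),
      v1, v2]
    simp [sn]
  · intro e
    rw [← e, v1] at v3
    exact zero_ne_one v3
  · intro e
    rw [e, ee_neg, Pi.neg_apply, v3] at v1
    norm_num at v1
  · rw [hcp, one_smul]
    have e : rt ((⟨0, by omega⟩, true) : Fin n × Bool) (l, true) - sr l =
        rt ((⟨0, by omega⟩, true) : Fin n × Bool) (l, false) := by
      apply eq_rt
      rw [sub_eq_add_neg, ee_add, ee_neg, ee_rt, hsr, ee_rt]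
      have : wt ((l, false) : Fin n × Bool) = -wt (l, true) := by rw [← wt_ng]; rfl
      rw [this]
      abel
    rw [e]
    exact (z_eq C hn hp hodd hu hG hc h0).symm
  · intro a b ha hb
    have key : ∀ a : ↥(KK Z r), orderOf a = 2 → (a : Y) = z r := by
      intro a ha
      rw [orderOf_eq_prime_iff] at ha
      refine hu r hr a a.2 ?_ ?_
      · have := congrArg Subtype.val ha.1
        rw [pow_two] at this
        exact this
      · intro h1
        exact ha.2 (Subtype.ext h1)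
    exact Subtype.ext (by rw [key a ha, key b hb])

end Cfsg.Agent.Nodes.BOdd
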