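import Mathlib
import Cfsg.Agent.Nodes.LeviDec

/-!
Normalisers of (subgroups of) root groups of dominant roots (project CIT, chart library).

`Long R r Z` : `r` is a dominant root, `1 ≠ Z ≤ X r` is normalised by `B` and by the representatives of the
stabiliser of `r`.
* `Long.normalizer_inf_GG : N(Z) ⊓ GG = PJ (orth r)`;
* `Long.exists_pair` : two `GG`-conjugates of `Z` are simultaneously conjugate to `Z`, `k Z k⁻¹` (`k ∈ N`);
* `Long.normalizer_inf_opp` : `N(Z) ⊓ N(k Z k⁻¹) ⊓ GG = LJ (orth r)` if `k` is over `w` with `w r = -r`;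
* `Long.conj_Z`, `Long.Zof` : the subgroup `Zof s ≤ X s` for the roots `s` in the `W`-orbit of `r`.
-/

set_option autoImplicit false
set_option linter.unusedSectionVars false

namespace Cfsg.Agent.Nodes.NormX

open CoxeterSystem Cfsg.Agent.ChevalleyStructure.CoxeterGeom Cfsg.Agent.Tits.Roots Cfsg.Agent.Tits.Core
  Cfsg.Agent.Tits.Exchange Cfsg.Agent.Nodes.Reps Cfsg.Agent.Nodes.BNOf Cfsg.Agent.Nodes.StabComb
  Cfsg.Agent.Nodes.Bruhat Cfsg.Agent.Nodes.OppDec Cfsg.Agent.Nodes.LeviDec
open scoped commutatorElement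

variable {I W Y : Type*} [Fintype I] [DecidableEq I] [Group W] [Group Y] {M : CoxeterMatrix I}
  {cs : CoxeterSystem M W} {A : I → I → ℤ} {h : IsCartan M A} {p : ℕ} {T : Subgroup Y} {n : I → Y}
  {X : (I → ℤ) → Subgroup Y}

/-! ### roots and dominant vectors -/

theorem form_sr_eq_zero_iff [Fintype W] {r : I → ℤ} {i : I} : form cs h r (sr i) = 0 ↔ i ∈ orth cs h r := by
  rw [mem_orth]
  have h1 := two_form cs h i r
  have h2 := form_pos cs h (sr_ne_zero i)
  constructor
  · intro h3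
    rw [h3, mul_zero] at h1
    rcases mul_eq_zero.1 h1.symm with h4 | h4
    · exact h4
    · omega
  · intro h3
    rw [h3, zero_mul] at h1
    omega

/-- a positive root is orthogonal to the dominant `r` iff it lies in the parabolic subsystem `orth r` -/
theorem form_pos_of_NotJ [Fintype W] {r : I → ℤ} (hr : Dom A r) {x : I → ℤ} (hx : x ∈ NotJ cs h (orth cs h r)) :
    0 < form cs h r x := by
  obtain ⟨-, h0, k, hk, hk0⟩ := hx
  rw [form_eq_sum]
  refine Finset.sum_pos' (fun i _ => mul_nonneg (h0 i) ((form_sr_nonneg_iff cs h i r).2 (hr i)))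
    ⟨k, Finset.mem_univ k, mul_pos hk0 ?_⟩
  have h1 := (form_sr_nonneg_iff cs h k r).2 (hr k)
  have h2 : form cs h r (sr k) ≠ 0 := fun h3 => hk (form_sr_eq_zero_iff.1 h3)
  omega

theorem form_zero_of_RootsJ [Fintype W] {r : I → ℤ} {x : I → ℤ} (hx : x ∈ RootsJ cs h (orth cs h r)) :
    form cs h r x = 0 := by
  rw [form_eq_sum]
  refine Finset.sum_eq_zero fun k _ => ?_
  by_cases hk : k ∈ orth cs h r
  · rw [form_sr_eq_zero_iff.2 hk, mul_zero]
  · rw [hx.2 k hk, zero_mul]

theorem mem_RootsJ_iff [Fintype W] {r : I → ℤ} (hr : Dom A r) {x : I → ℤ} (hx : IsRoot cs h x) :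
    x ∈ RootsJ cs h (orth cs h r) ↔ form cs h r x = 0 := by
  refine ⟨form_zero_of_RootsJ, fun h1 => ?_⟩
  rcases hx.pos_or_neg with h0 | h0
  · rcases mem_PosJ_or_NotJ (orth cs h r) hx h0 with h2 | h2
    · exact PosJ_subset _ h2
    · have := form_pos_of_NotJ hr h2
      omega
  · rcases mem_PosJ_or_NotJ (orth cs h r) hx.neg (neg_nonneg.2 h0) with h2 | h2
    · have := RootsJ.neg (PosJ_subset _ h2)
      rwa [neg_neg] at this
    · have := form_pos_of_NotJ hr h2
      rw [form_neg_right] at this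
      omega

theorem mem_NotJ_iff [Fintype W] {r : I → ℤ} (hr : Dom A r) {x : I → ℤ} (hx : IsRoot cs h x) :
    x ∈ NotJ cs h (orth cs h r) ↔ 0 < form cs h r x := by
  refine ⟨form_pos_of_NotJ hr, fun h1 => ?_⟩
  rcases hx.pos_or_neg with h0 | h0
  · rcases mem_PosJ_or_NotJ (orth cs h r) hx h0 with h2 | h2
    · have := form_zero_of_RootsJ (PosJ_subset _ h2)
      omega
    · exact h2
  · have h2 := form_nonneg_of_dom cs h hr (neg_nonneg.2 h0)
    rw [form_neg_right] at h2
    omega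

theorem mem_NotNJ_iff [Fintype W] {r : I → ℤ} (hr : Dom A r) {x : I → ℤ} (hx : IsRoot cs h x) :
    x ∈ NotNJ cs h (orth cs h r) ↔ form cs h r x < 0 := by
  change -x ∈ NotJ cs h (orth cs h r) ↔ _
  rw [mem_NotJ_iff hr hx.neg, form_neg_right]
  omega

/-! ### normalisers -/

/-- `Z` is a subgroup of the root group of the dominant root `r`, normalised by `B` and the stabiliser of `r` -/
structure Long (R : RGD cs h p T n X) (r : I → ℤ) (Z : Subgroup Y) : Prop where
  root : IsRoot cs h r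
  dom : Dom A r
  le : Z ≤ X r
  ne : Z ≠ ⊥
  B : RGD.B cs h T X ≤ Subgroup.normalizer (Z : Set Y)
  stab : ∀ w k, Rp cs R.nsys w k → rep cs h w r = r → cj k Z = Z

theorem normalizer_cj {Z : Subgroup Y} (k : Y) :
    Subgroup.normalizer ((cj k Z : Subgroup Y) : Set Y) = cj k (Subgroup.normalizer (Z : Set Y)) := by
  ext g
  rw [mem_cj, mem_normalizer_iff_cj, mem_normalizer_iff_cj]
  constructor
  · intro h1
    rw [cj_mul, cj_mul, h1, cj_inv_cj]
  · intro h1
    have h2 : g = k * (k⁻¹ * g * k) * k⁻¹ := by group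
    rw [h2, cj_mul, cj_inv_cj, cj_mul, h1]

theorem cj_GG {g : Y} (hg : g ∈ GG cs h T X) : cj g (GG cs h T X) = GG cs h T X := cj_eq_of_mem hg

namespace Long

variable {R : RGD cs h p T n X} {r : I → ℤ} {Z : Subgroup Y} (L : Long R r Z)

include L

theorem r_nonneg [Finite W] : 0 ≤ r := by
  have := Fintype.ofFinite W
  rcases L.root.pos_or_neg with h1 | h1
  · exact h1
  · exfalso
    have h2 := form_nonneg_of_dom cs h L.dom (neg_nonneg.2 h1)
    rw [form_neg_right] at h2
    have h3 := form_pos cs h L.root.ne_zero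
    omega

theorem cj_eq [Finite W] {w w' : W} {k k' : Y} (hk : Rp cs R.nsys w k) (hk' : Rp cs R.nsys w' k')
    (hw : rep cs h w r = rep cs h w' r) : cj k Z = cj k' Z := by
  have h1 : cj (k'⁻¹ * k) Z = Z := by
    refine L.stab _ _ (hk'.inv.mul hk) ?_
    rw [rep_mul_apply, hw, rep_inv_apply]
  rw [cj_mul] at h1
  rw [← h1, cj_cj_inv, h1]

theorem mem_normalizer_iff [Finite W] {w : W} {k : Y} (hk : Rp cs R.nsys w k) :
    k ∈ Subgroup.normalizer (Z : Set Y) ↔ rep cs h w r = r := by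
  rw [mem_normalizer_iff_cj]
  refine ⟨fun h1 => ?_, L.stab w k hk⟩
  by_contra h2
  have h3 : Z ≤ X r ⊓ X (rep cs h w r) := by
    refine le_inf L.le ?_
    rw [← h1, ← R.conj_rp hk L.root]
    exact cj_mono k L.le
  rw [X_inf_X R L.root (L.root.act w) (Ne.symm h2), le_bot_iff] at h3
  exact L.ne h3

theorem setOf_mem_normalizer [Finite W] : {i | n i ∈ Subgroup.normalizer (Z : Set Y)} = orth cs h r := by
  ext i
  exact L.mem_normalizer_iff (rp_simple cs R.nsys i)

/-- **the normaliser of a long root subgroup is a parabolic subgroup** -/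
theorem normalizer_inf_GG [Finite W] :
    Subgroup.normalizer (Z : Set Y) ⊓ GG cs h T X = PJ cs h T X (orth cs h r) := by
  rw [inf_eq_PJ R L.B, L.setOf_mem_normalizer]

theorem PJ_le_normalizer [Finite W] : PJ cs h T X (orth cs h r) ≤ Subgroup.normalizer (Z : Set Y) := by
  rw [← L.normalizer_inf_GG]
  exact inf_le_left

/-- two conjugates of `Z` are simultaneously conjugate into the chart -/
theorem exists_pair [Finite W] {g g' : Y} (hg : g ∈ GG cs h T X) (hg' : g' ∈ GG cs h T X) :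
    ∃ x ∈ GG cs h T X, ∃ w k, Rp cs R.nsys w k ∧ cj g Z = cj x Z ∧ cj g' Z = cj x (cj k Z) := by
  obtain ⟨w, b₁, hb₁, k, hk, b₂, hb₂, e⟩ := (mem_GG R).1 (mul_mem (inv_mem hg) hg')
  refine ⟨g * b₁, mul_mem hg (B_le_GG hb₁), w, k, hk, ?_, ?_⟩
  · rw [cj_mul, mem_normalizer_iff_cj.1 (L.B hb₁)]
  · have h1 : g' = g * b₁ * k * b₂ := by
      have : g' = g * (g⁻¹ * g') := by group
      rw [this, e]; group
    conv_lhs => rw [h1]
    rw [cj_mul, mem_normalizer_iff_cj.1 (L.B hb₂), cj_mul]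

/-- a representative of `w` with `w r = -r` normalises the Levi subgroup -/
theorem cj_LJ [Finite W] {w : W} {k : Y} (hk : Rp cs R.nsys w k) (hw : rep cs h w r = -r) :
    cj k (LJ cs h T X (orth cs h r)) = LJ cs h T X (orth cs h r) := by
  have := Fintype.ofFinite W
  have key : ∀ {w : W} {k : Y}, Rp cs R.nsys w k → rep cs h w r = -r →
      cj k (LJ cs h T X (orth cs h r)) ≤ LJ cs h T X (orth cs h r) := by
    intro w k hk hw
    unfold LJ
    rw [cj_sup, cj_T R hk]
    refine sup_le_sup_left (cj_Sup_le R hk (fun x hx => hx.1) fun x hx => ?_) _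
    rw [mem_RootsJ_iff L.dom (hx.1.act w)]
    have h1 := form_zero_of_RootsJ hx
    rw [← form_rep cs h w, hw, form_neg_left] at h1
    omega
  apply le_antisymm (key hk hw)
  have hw' : rep cs h w⁻¹ r = -r := by
    have h3 : rep cs h w⁻¹ (rep cs h w r) = r := rep_inv_apply cs h w r
    rw [hw, map_neg] at h3
    exact neg_eq_iff_eq_neg.1 h3
  have h2 := cj_mono k (key hk.inv hw')
  rwa [cj_cj_inv] at h2

/-- **the stabiliser of an opposite pair is the Levi subgroup** -/
theorem normalizer_inf_opp [Finite W] {w : W} {k : Y} (hk : Rp cs R.nsys w k) (hw : rep cs h w r = -r) :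
    Subgroup.normalizer (Z : Set Y) ⊓ Subgroup.normalizer ((cj k Z : Subgroup Y) : Set Y) ⊓ GG cs h T X =
      LJ cs h T X (orth cs h r) := by
  have := Fintype.ofFinite W
  have hL1 : LJ cs h T X (orth cs h r) ≤ Subgroup.normalizer (Z : Set Y) :=
    le_trans LJ_le_PJ L.PJ_le_normalizer
  have hL2 : LJ cs h T X (orth cs h r) ≤ Subgroup.normalizer ((cj k Z : Subgroup Y) : Set Y) := by
    rw [normalizer_cj, ← L.cj_LJ hk hw]
    exact cj_mono k hL1
  apply le_antisymm
  · intro g hg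
    rw [Subgroup.mem_inf, Subgroup.mem_inf] at hg
    obtain ⟨⟨h1, h2⟩, h3⟩ := hg
    have h4 : g ∈ PJ cs h T X (orth cs h r) := by
      rw [← L.normalizer_inf_GG]; exact ⟨h1, h3⟩
    obtain ⟨l, hl, v, hv, rfl⟩ := (mem_PJ R).1 h4
    have h5 : v ∈ Subgroup.normalizer ((cj k Z : Subgroup Y) : Set Y) := by
      have : v = l⁻¹ * (l * v) := by group
      rw [this]
      exact mul_mem (inv_mem (hL2 hl)) h2
    have h6 : k⁻¹ * v * k ∈ PJ cs h T X (orth cs h r) := by
      rw [← L.normalizer_inf_GG, Subgroup.mem_inf]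
      refine ⟨?_, ?_⟩
      · rw [normalizer_cj, mem_cj] at h5
        exact h5
      · have hkG := NN_le_GG R ⟨w, hk⟩
        exact mul_mem (mul_mem (inv_mem hkG) (PJ_le_GG (VJ_le_PJ hv))) hkG
    have h7 : k⁻¹ * v * k ∈ VNJ cs h X (orth cs h r) := by
      refine conj_mem_Sup' R hk (fun x hx => hx.1) (fun x hx => ?_) hv
      rw [mem_NotNJ_iff L.dom (hx.1.act w⁻¹)]
      have h8 := form_pos_of_NotJ L.dom hx
      rw [← form_rep cs h w⁻¹] at h8
      have hw' : rep cs h w⁻¹ r = -r := by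
        have h9 : rep cs h w⁻¹ (rep cs h w r) = r := rep_inv_apply cs h w r
        rw [hw, map_neg] at h9
        exact neg_eq_iff_eq_neg.1 h9
      rw [hw', form_neg_left] at h8
      omega
    have h8 := eq_one_of_mem_VNJ_of_mem_PJ R h7 h6
    have h9 : v = 1 := by
      have : v = k * (k⁻¹ * v * k) * k⁻¹ := by group
      rw [this, h8]; group
    rw [h9, mul_one]
    exact hl
  · exact le_inf (le_inf hL1 hL2) LJ_le_GG

end Long

/-- the whole root group, if `B` normalises it -/
theorem long_X [Finite W] (R : RGD cs h p T n X) {r : I → ℤ} (hr : IsRoot cs h r) (hd : Dom A r)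
    (hB : RGD.B cs h T X ≤ Subgroup.normalizer (X r : Set Y)) : Long R r (X r) :=
  ⟨hr, hd, le_rfl, X_ne_bot R hr, hB, fun w k hk hw => by rw [R.conj_rp hk hr, hw]⟩

/-- `B` normalises `X r` if no root lies between a simple root and `r` -/
theorem B_le_normalizer_X (R : RGD cs h p T n X) {r : I → ℤ} (hr : IsRoot cs h r) (h0 : 0 ≤ r)
    (hb : ∀ x z, IsRoot cs h x → 0 ≤ x → ¬ Btwn cs h x r z) :
    RGD.B cs h T X ≤ Subgroup.normalizer (X r : Set Y) := by
  have h1 : RGD.Sup X {r} = X r :=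
    le_antisymm (RGD.Sup_le fun z hz => by rw [Set.mem_singleton_iff] at hz; rw [hz])
      (RGD.le_Sup (S := {r}) (Set.mem_singleton r))
  refine sup_le (fun t ht => ?_) (RGD.Sup_le fun x hx => ?_)
  · rw [mem_normalizer_iff_cj]; exact R.tor r hr t ht
  · have h2 := R.le_normalizer (x := x) (S := {r}) hx.1 (by
      intro y hy
      rw [Set.mem_singleton_iff] at hy
      subst hy
      refine ⟨hr, Or.inr ⟨?_, fun z hz => absurd hz (hb x z hx.1 hx.2)⟩⟩
      intro h3
      have h4 := hx.2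
      rw [h3] at h4
      exact hr.not_pos_neg h0 (neg_nonneg.1 h4))
    rwa [h1] at h2

end Cfsg.Agent.Nodes.NormX
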