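import Mathlib
import Cfsg.Agent.Nodes.RelFrame
import Cfsg.Agent.Nodes.RootKinds
import Cfsg.Agent.Nodes.NormX

/-!
# The centralizer of a frame (project CIT, [Q1], RULING 13 (2))

* `exists_generic` : a vector in the span of a finite family, whose orthogonal roots are orthogonal to the family and
  which is fixed by the stabiliser of the family;
* `eq_one_of_fix`, `one_or_refl_of_fix` : the stabiliser of a family of vectors with no orthogonal root (one orthogonal
  root up to sign) in the Weyl group;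
* `le_T`, `le_T_sup` : the centralizer of the groups `KK (r k)` of an orthogonal family in `R`.
-/

set_option autoImplicit false
set_option linter.unusedSectionVars false
set_option linter.dupNamespace false

namespace Cfsg.Agent.Nodes.FrameCent

open CoxeterSystem Cfsg.Agent.ChevalleyStructure.CoxeterGeom Cfsg.Agent.Tits.Roots Cfsg.Agent.Tits.Core
  Cfsg.Agent.Tits.RootComb Cfsg.Agent.Nodes.Comb Cfsg.Agent.Nodes.Reps Cfsg.Agent.Nodes.BNOf
  Cfsg.Agent.Nodes.RGDLib Cfsg.Agent.Nodes.Chart Cfsg.Agent.Nodes.StabComb Cfsg.Agent.Nodes.Bruhat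
  Cfsg.Agent.Nodes.ClsNorm Cfsg.Agent.Nodes.SubComb Cfsg.Agent.Nodes.Coroot Cfsg.Agent.Nodes.FreeTorus
  Cfsg.Agent.Nodes.Perp
open Cfsg.Agent.Cit.TypeDet (cm cm_symm cm_iff_le_centralizer cm_mono)

section Root

variable {I W : Type*} [Fintype I] [DecidableEq I] [Group W] [Fintype W] {M : CoxeterMatrix I}
  {cs : CoxeterSystem M W} {A : I → I → ℤ} {h : IsCartan M A}

theorem rep_rep_inv (u : W) (x : I → ℤ) : rep cs h u (rep cs h u⁻¹ x) = x := by
  have := rep_inv_apply cs h u⁻¹ x
  rwa [inv_inv] at this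

/-- A generic vector of the span of a family. -/
theorem exists_generic (m : ℕ) : ∀ (r : Fin m → I → ℤ), ∃ v : I → ℤ,
    (∀ w, (∀ k, rep cs h w (r k) = r k) → rep cs h w v = v) ∧
    ∀ x, IsRoot cs h x → form cs h x v = 0 → ∀ k, form cs h x (r k) = 0 := by
  induction m with
  | zero => exact fun r => ⟨0, fun w _ => map_zero _, fun x _ _ k => k.elim0⟩
  | succ m ih =>
    intro r
    obtain ⟨v, hv, hx⟩ := ih (fun k => r k.castSucc)
    obtain ⟨N, hN⟩ := ((RGD.finite_roots (cs := cs) (h := h)).image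
      (fun x => |form cs h x (r (Fin.last m))|)).bddAbove
    have hN' : ∀ x, IsRoot cs h x → |form cs h x (r (Fin.last m))| < |N| + 1 := fun x hx => by
      have := hN ⟨x, hx, rfl⟩
      have h2 := le_abs_self N
      simp only at this
      omega
    refine ⟨(|N| + 1) • v + r (Fin.last m), fun w hw => ?_, fun x hxr h0 => ?_⟩
    · rw [map_add, map_smul, hv w fun k => hw _, hw]
    · rw [form_add_right, form_smul_right] at h0
      have h1 := hN' x hxr
      have h2 : form cs h x (r (Fin.last m)) = -((|N| + 1) * form cs h x v) := by omega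
      have h3 : form cs h x v = 0 := by
        by_contra hne
        rw [h2, abs_neg, abs_mul] at h1
        have h4 : 1 ≤ |form cs h x v| := Int.one_le_abs hne
        have h5 : |(|N| + 1)| = |N| + 1 := abs_of_nonneg (by positivity)
        rw [h5] at h1
        have h6 : 0 ≤ |N| := abs_nonneg N
        nlinarith
      have h4 : form cs h x (r (Fin.last m)) = 0 := by rw [h2, h3]; ring
      intro k
      refine Fin.lastCases h4 (fun j => ?_) k
      exact hx x hxr h3 j

/-- The stabiliser of a vector, conjugated to a dominant one. -/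
theorem exists_conj_mem_WJ {v : I → ℤ} {w : W} (hw : rep cs h w v = v) :
    ∃ u : W, (∀ i, i ∈ orth cs h (rep cs h u v) → form cs h (rep cs h u⁻¹ (sr i)) v = 0) ∧
      u * w * u⁻¹ ∈ WJ cs (orth cs h (rep cs h u v)) := by
  obtain ⟨u, hu⟩ := exists_dominant (cs := cs) (h := h) v
  refine ⟨u, fun i hi => ?_, mem_WJ_of_rep hu ?_⟩
  · have h1 : form cs h (rep cs h u v) (sr i) = 0 := NormX.form_sr_eq_zero_iff.2 hi
    have h2 : form cs h (rep cs h u⁻¹ (sr i)) v = form cs h (rep cs h u (rep cs h u⁻¹ (sr i))) (rep cs h u v) :=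
      (form_rep cs h u _ _).symm
    rw [h2, rep_rep_inv, form_comm, h1]
  · rw [rep_mul_apply, rep_mul_apply, rep_inv_apply, hw]

/-- **The stabiliser of a family of vectors which is orthogonal to no root is trivial.** -/
theorem eq_one_of_fix {m : ℕ} {r : Fin m → I → ℤ} (hno : ∀ x, IsRoot cs h x → ∃ k, form cs h x (r k) ≠ 0) {w : W}
    (hw : ∀ k, rep cs h w (r k) = r k) : w = 1 := by
  obtain ⟨v, hv, hx⟩ := exists_generic (cs := cs) (h := h) m r
  obtain ⟨u, hu, hm⟩ := exists_conj_mem_WJ (hv w hw)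
  have h1 : orth cs h (rep cs h u v) = ∅ := by
    rw [Set.eq_empty_iff_forall_notMem]
    intro i hi
    have hr : IsRoot cs h (rep cs h u⁻¹ (sr i)) := ⟨_, i, rfl⟩
    obtain ⟨k, hk⟩ := hno _ hr
    exact hk (hx _ hr (hu i hi) k)
  rw [h1] at hm
  have h2 : WJ cs (∅ : Set I) = ⊥ := by
    unfold WJ
    rw [Set.image_empty, Subgroup.closure_empty]
  rw [h2, Subgroup.mem_bot] at hm
  have : w = u⁻¹ * (u * w * u⁻¹) * u := by group
  rw [this, hm]; group

/-- **The stabiliser of a family of vectors whose only orthogonal roots are `± x₀`.** -/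
theorem one_or_refl_of_fix {m : ℕ} {r : Fin m → I → ℤ} {x₀ : I → ℤ} (hx₀ : IsRoot cs h x₀)
    (hno : ∀ x, IsRoot cs h x → (∀ k, form cs h x (r k) = 0) → x = x₀ ∨ x = -x₀) {w : W}
    (hw : ∀ k, rep cs h w (r k) = r k) : w = 1 ∨ ∀ y, rep cs h w y = y - cpr cs h y x₀ • x₀ := by
  obtain ⟨v, hv, hx⟩ := exists_generic (cs := cs) (h := h) m r
  obtain ⟨u, hu, hm⟩ := exists_conj_mem_WJ (hv w hw)
  have hi0 : ∀ i ∈ orth cs h (rep cs h u v), sr i = rep cs h u x₀ ∨ sr i = -rep cs h u x₀ := by
    intro i hi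
    have hr : IsRoot cs h (rep cs h u⁻¹ (sr i)) := ⟨_, i, rfl⟩
    rcases hno _ hr (hx _ hr (hu i hi)) with e | e
    · left; rw [← e, rep_rep_inv]
    · right; rw [← map_neg, ← e, rep_rep_inv]
  by_cases hne : (orth cs h (rep cs h u v)).Nonempty
  · obtain ⟨i, hi⟩ := hne
    have h1 : orth cs h (rep cs h u v) = {i} := by
      ext j
      rw [Set.mem_singleton_iff]
      refine ⟨fun hj => ?_, fun hj => hj ▸ hi⟩
      have hij : sr j = sr i ∨ sr j = -sr i := by
        rcases hi0 i hi with e | e <;> rcases hi0 j hj with e' | e' <;> rw [e, e'] <;> simp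
      rcases hij with e | e
      · by_contra hji
        have := congrFun e j
        rw [sr_self, sr_ne hji] at this
        omega
      · exfalso
        have := congrFun e j
        rw [sr_self, Pi.neg_apply] at this
        have h0 := sr_nonneg i j
        simp only [Pi.zero_apply] at h0
        omega
    rw [h1] at hm
    have h2 : u * w * u⁻¹ = 1 ∨ u * w * u⁻¹ = cs.simple i := by
      unfold WJ at hm
      rw [Set.image_singleton, ← Subgroup.zpowers_eq_closure, Subgroup.mem_zpowers_iff] at hm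
      obtain ⟨k, hk⟩ := hm
      rcases Int.even_or_odd k with ⟨l, rfl⟩ | ⟨l, rfl⟩
      · left
        rw [← hk, ← two_mul, zpow_mul, zpow_ofNat, pow_two, simple_mul_simple_self, one_zpow]
      · right
        rw [← hk, zpow_add, zpow_mul, zpow_ofNat, pow_two, simple_mul_simple_self, one_zpow, one_mul, zpow_one]
    rcases h2 with h2 | h2
    · left
      have : w = u⁻¹ * (u * w * u⁻¹) * u := by group
      rw [this, h2]; group
    · right
      intro y
      have e : w = rfl' cs u⁻¹ i := by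
        unfold rfl'
        have : w = u⁻¹ * (u * w * u⁻¹) * u := by group
        rw [this, h2, inv_inv]
      rw [e, rep_rfl'_eq]
      rcases hi0 i hi with e' | e'
      · rw [show rep cs h u⁻¹ (sr i) = x₀ by rw [e', rep_inv_apply]]
      · rw [show rep cs h u⁻¹ (sr i) = -x₀ by rw [e', map_neg, rep_inv_apply]]
        rw [cpr_neg_right cs h y hx₀, smul_neg, neg_smul, neg_neg]
  · left
    rw [Set.not_nonempty_iff_eq_empty] at hne
    rw [hne] at hm
    have h2 : WJ cs (∅ : Set I) = ⊥ := by
      unfold WJ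
      rw [Set.image_empty, Subgroup.closure_empty]
    rw [h2, Subgroup.mem_bot] at hm
    have : w = u⁻¹ * (u * w * u⁻¹) * u := by group
    rw [this, hm]; group

end Root

section Grp

universe u v

variable {I W : Type u} {Y : Type v} [Fintype I] [DecidableEq I] [Group W] [Fintype W] [Group Y]
  {M : CoxeterMatrix I} {cs : CoxeterSystem M W} {A : I → I → ℤ} {h : IsCartan M A} {p : ℕ} {T : Subgroup Y}
  {n : I → Y} {X : (I → ℤ) → Subgroup Y} {R : Set (I → ℤ)} {Z : (I → ℤ) → Subgroup Y} {z : (I → ℤ) → Y}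
  (C : Cls cs h p T n X R Z z)

include C

theorem cj_eq_of_comm {g : Y} {K : Subgroup Y} (hg : ∀ x ∈ K, g * x = x * g) : cj g K = K := by
  rw [← mem_normalizer_iff_cj]
  exact centralizer_le_normalizer' K (Subgroup.mem_centralizer_iff.2 fun x hx => (hg x hx).symm)

/-- **An element of `GG` centralising the groups `KK (r k)` of an orthogonal family which is orthogonal to no root
lies in the torus.** -/
theorem mem_T {m : ℕ} {r : Fin m → I → ℤ} (hr : ∀ k, r k ∈ R) (ho : ∀ i j, i ≠ j → form cs h (r i) (r j) = 0)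
    (hno : ∀ x, IsRoot cs h x → ∃ k, form cs h x (r k) ≠ 0) {g : Y} (hg : g ∈ GG cs h T X)
    (hc : ∀ k, ∀ x ∈ KK Z (r k), g * x = x * g) : g ∈ T := by
  obtain ⟨w, k, hk, hw, d, hd, rfl⟩ := RelFrame.stab m C r r hr hr ho ho hg
    (fun i => cj_eq_of_comm C fun x hx => hc i x (le_sup_left (a := Z (r i)) hx))
    (fun i => cj_eq_of_comm C fun x hx => hc i x (le_sup_right (a := Z (r i)) hx))
  have h1 : w = 1 := eq_one_of_fix hno hw
  subst h1
  have h2 : Perp.Perp cs h (Set.range r) = ∅ := by
    rw [Set.eq_empty_iff_forall_notMem]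
    intro x hx
    obtain ⟨i, hi⟩ := hno x hx.1
    exact hi (hx.2 _ ⟨i, rfl⟩)
  have h3 : d = 1 := by
    unfold DD at hd
    rw [h2] at hd
    have : RGD.Sup X (∅ : Set (I → ℤ)) = ⊥ := by
      unfold RGD.Sup
      exact iSup_of_empty _
    rw [this] at hd
    exact Subgroup.mem_bot.1 hd
  rw [h3, mul_one]
  exact hk.mem_of_one

/-- The stabiliser in the Weyl group of a family orthogonal only to `± x₀`: representatives. -/
theorem mem_T_sup {m : ℕ} {r : Fin m → I → ℤ} (hr : ∀ k, r k ∈ R) (ho : ∀ i j, i ≠ j → form cs h (r i) (r j) = 0)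
    {x₀ : I → ℤ} (hx₀ : IsRoot cs h x₀)
    (hno : ∀ x, IsRoot cs h x → (∀ k, form cs h x (r k) = 0) → x = x₀ ∨ x = -x₀) {g : Y} (hg : g ∈ GG cs h T X)
    (hc : ∀ k, ∀ x ∈ KK Z (r k), g * x = x * g) : g ∈ T ⊔ LL X x₀ := by
  obtain ⟨w, k, hk, hw, d, hd, rfl⟩ := RelFrame.stab m C r r hr hr ho ho hg
    (fun i => cj_eq_of_comm C fun x hx => hc i x (le_sup_left (a := Z (r i)) hx))
    (fun i => cj_eq_of_comm C fun x hx => hc i x (le_sup_right (a := Z (r i)) hx))
  have h3 : d ∈ LL X x₀ := by
    unfold DD RGD.Sup at hd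
    refine (iSup_le ?_ : _ ≤ LL X x₀) hd
    rintro ⟨x, hx⟩
    rcases hno x hx.1 fun k => hx.2 _ ⟨k, rfl⟩ with rfl | rfl
    · exact le_sup_left
    · exact le_sup_right
  refine mul_mem ?_ (le_sup_right (a := T) h3)
  rcases one_or_refl_of_fix hx₀ hno hw with rfl | hw'
  · exact le_sup_left (a := T) hk.mem_of_one
  · obtain ⟨l, hl, w', hl', hw''⟩ := exists_refl C hx₀
    have h4 : w' = w := by
      apply rep_injective cs h
      refine LinearMap.ext fun y => ?_
      rw [hw', hw'']
    subst h4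
    have h5 : l⁻¹ * k ∈ T := hl'.unique hk
    have h6 : k = l * (l⁻¹ * k) := by group
    rw [h6]
    exact mul_mem (le_sup_right (a := T) hl) (le_sup_left (a := T) h5)

end Grp

end Cfsg.Agent.Nodes.FrameCent
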