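import Mathlib
import Cfsg.Agent.Nodes.BOdd
import Cfsg.Agent.Nodes.FrameCent
import Cfsg.Agent.Cit.TypeDet.KindsAll
import Cfsg.Agent.Cit.TDef

/-!
# [Q1] of THEOREM T, chart level (project CIT)

* `eq_zero_of_orth` : a vector orthogonal to an orthogonal family of `rank` roots is `0`;
* `exists_frame` : for a chart of `⊤` of a standard type (not `G2`), `Z(G) = 1`: there is a frame `g` in `R` such that
  the centraliser of the classical groups of the frame contains no group isomorphic to a classical group.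
-/

set_option autoImplicit false
set_option linter.unusedSectionVars false
set_option linter.dupNamespace false

namespace Cfsg.Agent.Nodes.Q1Chart

open CoxeterSystem Cfsg.Agent.ChevalleyStructure.CoxeterGeom Cfsg.Agent.Tits.Roots
  Cfsg.Agent.Nodes.Coroot Cfsg.Agent.Nodes.KindBase Cfsg.Agent.Nodes.Perp Cfsg.Agent.Nodes.RGDLib
  Cfsg.Agent.Nodes.Chart Cfsg.Agent.Nodes.BNOf Cfsg.Agent.Nodes.FreeTorus Cfsg.Agent.Nodes.TyStd
  Cfsg.Agent.Nodes.Bruhat
open Cfsg.Agent.Cit (Hyp)

section Root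

variable {I W : Type*} [Fintype I] [DecidableEq I] [Group W] [Fintype W] {M : CoxeterMatrix I}
  {cs : CoxeterSystem M W} {A : I → I → ℤ} {h : IsCartan M A}

theorem form_sum {ι : Type*} (s : Finset ι) (c : ι → ℤ) (v : ι → I → ℤ) (y : I → ℤ) :
    form cs h (∑ i ∈ s, c i • v i) y = ∑ i ∈ s, c i * form cs h (v i) y := by
  classical
  induction s using Finset.induction_on with
  | empty =>
    have : form cs h (0 : I → ℤ) y = 0 := by
      have := form_smul_left cs h 0 0 y
      rw [zero_smul, zero_mul] at this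
      exact this
    rw [Finset.sum_empty, Finset.sum_empty, this]
  | insert a s ha ih =>
    rw [Finset.sum_insert ha, Finset.sum_insert ha, form_add_left, form_smul_left, ih]

/-- A vector orthogonal to an orthogonal family of `rank` non-zero vectors is zero. -/
theorem eq_zero_of_orth {m : ℕ} (hm : Fintype.card I ≤ m) {g : Fin m → I → ℤ} (hg : ∀ k, g k ≠ 0)
    (ho : ∀ i j, i ≠ j → form cs h (g i) (g j) = 0) {x : I → ℤ} (hx : ∀ k, form cs h x (g k) = 0) : x = 0 := by
  by_contra hne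
  let v : Option (Fin m) → I → ℤ := fun o => o.elim x g
  have hv0 : ∀ o, v o ≠ 0 := fun o => by
    cases o with
    | none => exact hne
    | some k => exact hg k
  have hvo : ∀ a b, a ≠ b → form cs h (v a) (v b) = 0 := by
    intro a b hab
    cases a with
    | none =>
      cases b with
      | none => exact absurd rfl hab
      | some k => exact hx k
    | some j =>
      cases b with
      | none =>
        rw [form_comm]
        exact hx j
      | some k => exact ho j k fun e => hab (by rw [e])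
  have hli : LinearIndependent ℤ v := by
    rw [Fintype.linearIndependent_iff]
    intro c hc o
    have h1 := form_sum (cs := cs) (h := h) Finset.univ c v (v o)
    rw [hc] at h1
    have h0 : form cs h (0 : I → ℤ) (v o) = 0 := by
      have := form_smul_left cs h 0 0 (v o)
      rw [zero_smul, zero_mul] at this
      exact this
    rw [h0, Finset.sum_eq_single o] at h1
    · have h2 := form_pos cs h (hv0 o)
      rcases mul_eq_zero.1 h1.symm with h3 | h3
      · exact h3
      · omega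
    · intro b _ hb
      rw [hvo b o hb, mul_zero]
    · intro h2
      exact absurd (Finset.mem_univ o) h2
  have h1 := hli.fintype_card_le_finrank
  rw [Module.finrank_fintype_fun_eq_card, Fintype.card_option, Fintype.card_fin] at h1
  omega

end Root

section Chart

universe u

variable {G : Type u} [Group G] [Finite G] {Om : Set (Subgroup G)} {p : ℕ}

/-- the conclusion for a chart -/
def Good (c : Chart Om p (⊤ : Subgroup G)) : Prop :=
  ∃ (m : ℕ) (g : Fin m → c.I → ℤ), (∀ i, g i ∈ c.R) ∧ (∀ i j, i ≠ j → form c.cs c.h (g i) (g j) = 0) ∧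
    ∀ J : Subgroup G, (∀ i, J ≤ Subgroup.centralizer (KK c.Z (g i) : Set G)) → ∀ r ∈ c.R, (J ≃* KK c.Z r) → False

/-- no root is orthogonal to the frame -/
theorem good_of_no (c : Chart Om p (⊤ : Subgroup G)) {m : ℕ} (g : Fin m → c.I → ℤ) (hg : ∀ i, g i ∈ c.R)
    (ho : ∀ i j, i ≠ j → form c.cs c.h (g i) (g j) = 0)
    (hno : ∀ x, IsRoot c.cs c.h x → (∀ k, form c.cs c.h x (g k) = 0) → False) : Good c := by
  refine ⟨m, g, hg, ho, fun J hJ r hr e => ?_⟩
  have hJT : J ≤ c.T := by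
    intro x hx
    refine FrameCent.mem_T c.cls hg ho (fun y hy => ?_) ?_ (fun k y hy => ?_)
    · by_contra h0
      push Not at h0
      exact hno y hy h0
    · have h1 : (⊤ : Subgroup G) ≤ GG c.cs c.h c.T c.X := c.gen.symm.le.trans le_sup_right
      exact h1 (Subgroup.mem_top x)
    · exact (Subgroup.mem_centralizer_iff.1 (hJ k hx) y hy).symm
  obtain ⟨x, hx, hx1⟩ := Z_ne_bot' c.cls hr
  have : Fact p.Prime := ⟨c.prime⟩
  obtain ⟨k, hk⟩ := (c.cls.rgd.pgrp' (c.cls.root r hr)) ⟨x, c.cls.le r hr hx⟩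
  have hk' : x ^ p ^ k = 1 := congrArg Subtype.val hk
  have hxK : x ∈ KK c.Z r := Subgroup.mem_sup_left hx
  have h1 : (e.symm ⟨x, hxK⟩) ^ p ^ k = 1 := by
    rw [← map_pow]
    have : (⟨x, hxK⟩ : KK c.Z r) ^ p ^ k = 1 := Subtype.ext hk'
    rw [this, map_one]
  have h2 : orderOf (e.symm ⟨x, hxK⟩) ∣ p ^ k := orderOf_dvd_of_pow_eq_one h1
  have h3 : orderOf (e.symm ⟨x, hxK⟩) ∣ Nat.card c.T := by
    have h4 : orderOf ((e.symm ⟨x, hxK⟩ : J) : G) = orderOf (⟨_, hJT (e.symm ⟨x, hxK⟩).2⟩ : c.T) :=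
      (Subgroup.orderOf_mk _ _).symm
    rw [← Subgroup.orderOf_coe, h4]
    exact orderOf_dvd_natCard _
  have h4 : e.symm ⟨x, hxK⟩ = 1 :=
    orderOf_eq_one_iff.1 (Nat.eq_one_of_dvd_coprimes (c.cls.rgd.tcop.pow_right k) h3 h2)
  rw [map_eq_one_iff e.symm e.symm.injective] at h4
  exact hx1 (congrArg Subtype.val h4)

/-- charts with `R` = all roots -/
theorem good_of_all (c : Chart Om p (⊤ : Subgroup G)) {ι : Type*} [Fintype ι] {g : ι → c.I → ℤ}
    (F : FrameSys c.cs c.h c.R g) (hR : ∀ i, sr i ∈ c.R) : Good c := by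
  have hall : ∀ x, IsRoot c.cs c.h x → x ∈ c.R := by
    rintro x ⟨w, i, rfl⟩
    exact c.cls.act _ (hR i) w
  let e := (Fintype.equivFin ι).symm
  refine good_of_no c (fun k => g (e k)) (fun k => F.mem _) (fun i j hij => ?_) (fun x hx h0 => ?_)
  · exact (cpr_zero_iff c.cs c.h _ (c.cls.root _ (F.mem _))).1 (F.orth _ _ fun h1 => hij (e.injective h1))
  · refine F.max x (hall x hx) fun k => ?_
    rw [cpr_zero_iff c.cs c.h _ (c.cls.root _ (F.mem _))]
    have := h0 (e.symm k)
    simpa using this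

/-- frames of `rank` members -/
theorem good_of_rank (c : Chart Om p (⊤ : Subgroup G)) {m : ℕ} {g : Fin m → c.I → ℤ}
    (F : FrameSys c.cs c.h c.R g) (hm : Fintype.card c.I ≤ m) : Good c := by
  have ho : ∀ i j, i ≠ j → form c.cs c.h (g i) (g j) = 0 := fun i j hij =>
    (cpr_zero_iff c.cs c.h _ (c.cls.root _ (F.mem _))).1 (F.orth _ _ hij)
  refine good_of_no c g F.mem ho fun x hx h0 => ?_
  exact hx.ne_zero (eq_zero_of_orth hm (fun k => (c.cls.root _ (F.mem k)).ne_zero) ho h0)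

section BOdd

open Cfsg.Agent.Nodes.TypeC Cfsg.Agent.Nodes.TypeCForm Cfsg.Agent.Nodes.KindBC Cfsg.Agent.Nodes.KindB

/-- Type `B n`, `n` odd: only `± α_last` are orthogonal to the frame. -/
theorem rankOne_root {n : ℕ} {W : Type*} [Group W] [Fintype W] (cs : CoxeterSystem (CoxeterMatrix.B n) W)
    {l : Fin n} (hl : (l : ℕ) + 1 = n) (ho : n % 2 = 1) {x : Fin n → ℤ} (hx : IsRoot cs (isCartan n) x)
    (h0 : ∀ k, cpr cs (isCartan n) x (fr n k) = 0) : x = sr l ∨ x = -sr l := by
  have hlt : ∀ i : Fin n, i ≠ l → (i : ℕ) < 2 * (n / 2) := by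
    intro i hi
    have h1 := i.2
    have h2 : (i : ℕ) ≠ (l : ℕ) := fun e => hi (Fin.ext e)
    omega
  have hz : ∀ i : Fin n, i ≠ l → ee x i = 0 := by
    intro i hi
    obtain ⟨k, -, hk⟩ := exists_index (hlt i hi)
    obtain ⟨h1, h2⟩ := ee_eq_zero cs (h0 k) (h0 (pt k))
    rcases hk with e | e
    · rw [e]; exact h1
    · rw [e]; exact h2
  have hnx : nx l = (l, true) := by
    unfold nx
    rw [dif_neg (by omega)]
  have hsr : (sr l : Fin n → ℤ) = rt (l, true) (l, true) := by rw [sr_eq_rt, hnx]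
  obtain ⟨⟨a, s⟩, ⟨b, t⟩, hab, rfl⟩ := exists_rt hx
  rw [hsr]
  by_cases hal : a = l
  · subst hal
    by_cases hbl : b = a
    · subst hbl
      cases s <;> cases t
      · right
        rw [← rt_ng]; rfl
      · exfalso
        rcases hab with h | h
        · exact h rfl
        · exact absurd h (by simp)
      · exfalso
        rcases hab with h | h
        · exact h rfl
        · exact absurd h (by simp)
      · left; rfl
    · exfalso
      have h1 := hz b hbl
      rw [ee_rt, Pi.add_apply, wt_apply, wt_apply, if_neg hbl, if_pos rfl] at h1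
      cases t <;> simp at h1
  · exfalso
    have h1 := hz a hal
    by_cases hba : b = a
    · subst hba
      rw [ee_rt, Pi.add_apply, wt_apply, wt_apply, if_pos rfl] at h1
      cases s <;> cases t
      · simp at h1
      · rcases hab with h | h
        · exact h rfl
        · exact absurd h (by simp)
      · rcases hab with h | h
        · exact h rfl
        · exact absurd h (by simp)
      · simp at h1
    · rw [ee_rt, Pi.add_apply, wt_apply, wt_apply, if_pos rfl, if_neg (Ne.symm hba)] at h1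
      cases s <;> simp at h1

end BOdd

section Types

/-- all roots are classical for the simply laced types -/
theorem long_all {c : Chart Om p (⊤ : Subgroup G)} {τ : Ty} (h : c.IsTy τ) (hl : ∀ i, τ.long i) (i : c.I) :
    sr i ∈ c.R := by
  obtain ⟨e, -, h2⟩ := h
  exact (h2 i).2 (hl _)

/-- Charts of type `A n`. -/
theorem good_A (c : Chart Om p (⊤ : Subgroup G)) {n : ℕ} (h : c.IsTy (.A n)) :
    ∃ c' : Chart Om p (⊤ : Subgroup G), c'.IsTy (.A n) ∧ Good c' := by
  let cs' : CoxeterSystem (Ty.A n).M (Ty.A n).M.Group := (Ty.A n).M.toCoxeterSystem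
  have hf : Finite (Ty.A n).M.Group := finite_of_isTy c h cs'
  let _ : Fintype (Ty.A n).M.Group := Fintype.ofFinite _
  have F : KindBase.FrameSys cs' (Ty.A n).isCartan {x | IsRoot cs' (Ty.A n).isCartan x} (KindA.g n) :=
    KindA.frameSys cs' (Ty.A n).isCartan
  have T : ∀ r ∈ {x | IsRoot cs' (Ty.A n).isCartan x}, ∀ s ∈ {x | IsRoot cs' (Ty.A n).isCartan x},
      ∃ w, s = rep cs' (Ty.A n).isCartan w r := by
    intro r hr s hs
    obtain ⟨w, hw⟩ := KindA.trans cs' (Ty.A n).isCartan hr hs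
    exact ⟨w, hw.symm⟩
  obtain ⟨e, hM, hA, hR, h1⟩ := exists_chart_of_isTy c h (W' := (Ty.A n).M.Group) cs'
    (R' := {x | IsRoot cs' (Ty.A n).isCartan x}) F.root F.act
    (fun i => ⟨fun _ => trivial, fun _ => isRoot_sr _ _ i⟩) T
  exact ⟨_, h1, good_of_all (reindex c e hM hA cs' (Ty.A n).isCartan F.root F.act hR T) F
    (long_all h1 fun _ => trivial)⟩

/-- Charts of type `D n`. -/
theorem good_D (c : Chart Om p (⊤ : Subgroup G)) {m : ℕ} (h : c.IsTy (.D m)) :
    ∃ c' : Chart Om p (⊤ : Subgroup G), c'.IsTy (.D m) ∧ Good c' := by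
  obtain ⟨_, e, hM, hA, hroot, hact, hR, htr, h1⟩ := Cfsg.Agent.Cit.TypeDet.KindsD.exists_std c h
  refine ⟨_, h1, good_of_all _ (g := KindD.g (n := m - 2)) ?_ (long_all h1 fun _ => trivial)⟩
  exact KindD.frameSys (TypeD.M (m - 2)).toCoxeterSystem

theorem good_E6 (c : Chart Om p (⊤ : Subgroup G)) (h : c.IsTy .E6) :
    ∃ c' : Chart Om p (⊤ : Subgroup G), c'.IsTy .E6 ∧ Good c' := by
  obtain ⟨c', g, h1, F, -⟩ := Cfsg.Agent.Cit.TypeDet.KindsEF.exists_rkf_E6 c h
  exact ⟨c', h1, good_of_all c' F (long_all h1 fun _ => trivial)⟩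

theorem good_E7 (c : Chart Om p (⊤ : Subgroup G)) (h : c.IsTy .E7) :
    ∃ c' : Chart Om p (⊤ : Subgroup G), c'.IsTy .E7 ∧ Good c' := by
  obtain ⟨c', g, h1, F, -⟩ := Cfsg.Agent.Cit.TypeDet.KindsEF.exists_rke7 c h
  exact ⟨c', h1, good_of_all c' F (long_all h1 fun _ => trivial)⟩

theorem good_E8 (c : Chart Om p (⊤ : Subgroup G)) (h : c.IsTy .E8) :
    ∃ c' : Chart Om p (⊤ : Subgroup G), c'.IsTy .E8 ∧ Good c' := by
  obtain ⟨c', g, h1, F, -⟩ := Cfsg.Agent.Cit.TypeDet.KindsEF.exists_rke8 c h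
  exact ⟨c', h1, good_of_all c' F (long_all h1 fun _ => trivial)⟩

theorem good_F4 (c : Chart Om p (⊤ : Subgroup G)) (h : c.IsTy .F4) :
    ∃ c' : Chart Om p (⊤ : Subgroup G), c'.IsTy .F4 ∧ Good c' := by
  obtain ⟨c', g, h1, F, -⟩ := Cfsg.Agent.Cit.TypeDet.KindsEF.exists_rkf_F4 c h
  exact ⟨c', h1, good_of_rank c' F h1.card.le⟩

theorem good_C (c : Chart Om p (⊤ : Subgroup G)) {n : ℕ} (h : c.IsTy (.C n)) :
    ∃ c' : Chart Om p (⊤ : Subgroup G), c'.IsTy (.C n) ∧ Good c' := by
  obtain ⟨c', g, h1, F, -⟩ := RKindsBC.exists_rkinds_C c h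
  exact ⟨c', h1, good_of_rank c' F h1.card.le⟩

theorem good_B_even (c : Chart Om p (⊤ : Subgroup G)) {n : ℕ} (hn : 2 ≤ n) (he : n % 2 = 0) (h : c.IsTy (.B n)) :
    ∃ c' : Chart Om p (⊤ : Subgroup G), c'.IsTy (.B n) ∧ Good c' := by
  obtain ⟨c', g, h1, F, -⟩ := RKindsBC.exists_rkinds_B c hn h
  refine ⟨c', h1, good_of_rank c' F ?_⟩
  rw [h1.card]
  change n ≤ _
  omega

end Types

section BOdd

open Cfsg.Agent.Nodes.TypeC Cfsg.Agent.Nodes.TypeCForm Cfsg.Agent.Nodes.KindBC Cfsg.Agent.Nodes.KindB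

/-- Type `B n`, `n` odd. -/
theorem good_B_odd (hyp : Hyp Om) (c : Chart Om p (⊤ : Subgroup G)) (hcen : Subgroup.center G = ⊥) {n : ℕ}
    (hn : 3 ≤ n) (ho : n % 2 = 1) (h : c.IsTy (.B n)) :
    ∃ c' : Chart Om p (⊤ : Subgroup G), c'.IsTy (.B n) ∧ Good c' := by
  let cs' : CoxeterSystem (CoxeterMatrix.B n) (CoxeterMatrix.B n).Group := (CoxeterMatrix.B n).toCoxeterSystem
  have hf : Finite (CoxeterMatrix.B n).Group := finite_of_isTy c h cs'
  let _ : Fintype (CoxeterMatrix.B n).Group := Fintype.ofFinite _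
  obtain ⟨e, hM, hA, hR, h1⟩ := exists_chart_of_isTy c h (W' := (CoxeterMatrix.B n).Group) cs' (R' := RB n)
    (fun r hr => root_RB cs' hr) (fun r hr w => act_RB cs' hr w) (fun i => RKindsBC.sr_mem_RB) (trans_RB cs')
  let c' : Chart Om p (⊤ : Subgroup G) := reindex c e hM hA cs' (Ty.B n).isCartan (fun r hr => root_RB cs' hr)
    (fun r hr w => act_RB cs' hr w) hR (trans_RB cs')
  refine ⟨c', h1, ?_⟩
  have C : Cls cs' (isCartan n) p c'.T c'.n c'.X (RB n) c'.Z c'.z := c'.cls
  have FS := frameSys cs'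
  let l : Fin n := ⟨n - 1, by omega⟩
  have hl : (l : ℕ) + 1 = n := by
    change n - 1 + 1 = n
    omega
  have ho' : ∀ i j : Fin (2 * (n / 2)), i ≠ j → form cs' (isCartan n) (fr n i) (fr n j) = 0 := fun i j hij =>
    (cpr_zero_iff cs' (isCartan n) _ (isRoot_fr cs' j)).1 (FS.orth _ _ hij)
  have h0n : (⟨0, by omega⟩ : Fin n) ≠ ⟨1, by omega⟩ := by
    intro e
    have := congrArg Fin.val e
    simp at this
  have h0l : (⟨0, by omega⟩ : Fin n) ≠ l := by
    intro e
    have := congrArg Fin.val e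
    simp [l] at this
    omega
  have h1l : (⟨1, by omega⟩ : Fin n) ≠ l := by
    intro e
    have := congrArg Fin.val e
    simp [l] at this
    omega
  have hr1 : rt ((⟨0, by omega⟩, true) : Fin n × Bool) (⟨1, by omega⟩, true) ∈ RB n := rt_mem_RB h0n
  have hr2 : rt ((⟨0, by omega⟩, true) : Fin n × Bool) (l, true) ∈ RB n := rt_mem_RB h0l
  have v1 : ee (rt ((⟨0, by omega⟩, true) : Fin n × Bool) (⟨1, by omega⟩, true)) l = 0 := by
    rw [ee_rt]
    simp [wt_apply, h0l.symm, h1l.symm]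
  have v2 : ee (rt ((⟨0, by omega⟩, true) : Fin n × Bool) (l, true)) l = 1 := by
    rw [ee_rt]
    simp [wt_apply, h0l.symm]
  have v3 : ee (rt ((⟨0, by omega⟩, true) : Fin n × Bool) (⟨1, by omega⟩, true)) ⟨0, by omega⟩ = 1 := by
    rw [ee_rt]
    simp [wt_apply, h0n]
  have n1 : rt ((⟨0, by omega⟩, true) : Fin n × Bool) (⟨1, by omega⟩, true) ≠
      rt ((⟨0, by omega⟩, true) : Fin n × Bool) (l, true) := by
    intro e
    rw [e, v2] at v1
    exact one_ne_zero v1
  have n2 : rt ((⟨0, by omega⟩, true) : Fin n × Bool) (⟨1, by omega⟩, true) ≠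
      -rt ((⟨0, by omega⟩, true) : Fin n × Bool) (l, true) := by
    intro e
    rw [e, ee_neg, Pi.neg_apply, v2] at v1
    norm_num at v1
  have n3 : form cs' (isCartan n) (rt ((⟨0, by omega⟩, true) : Fin n × Bool) (⟨1, by omega⟩, true))
      (rt ((⟨0, by omega⟩, true) : Fin n × Bool) (l, true)) ≠ 0 := by
    rw [Ne, ← cpr_zero_iff cs' (isCartan n) _ (root_RB cs' hr2),
      cpr_rt cs' _ (by exact h0l : ((⟨0, by omega⟩, true) : Fin n × Bool).1 ≠ (l, true).1), v1, v3]
    simp [sn]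
  have hz : ∀ r ∈ RB n, c'.z r ≠ 1 :=
    KindsOf.z_ne_one c' (r := rt ((⟨0, by omega⟩, true) : Fin n × Bool) (l, true)) hr2 hr1 n1 n2 n3
  have hu : ZRel.Uniq (RB n) c'.Z c'.z := KindsOf.uniq hyp c' hz
  refine ⟨2 * (n / 2), fr n, FS.mem, ho', fun J hJ r hr e' => ?_⟩
  have hJT : ∀ x ∈ J, x ∈ c'.T ⊔ LL c'.X (sr l) := by
    intro x hx
    refine FrameCent.mem_T_sup c'.cls (r := fr n) FS.mem ho' (isRoot_sr cs' (isCartan n) l) (fun y hy h0 => ?_) ?_
      (fun k y hy => ?_)
    · exact rankOne_root cs' hl ho hy fun k => (cpr_zero_iff cs' (isCartan n) _ (isRoot_fr cs' k)).2 (h0 k)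
    · have h2 : (⊤ : Subgroup G) ≤ GG c'.cs c'.h c'.T c'.X := c'.gen.symm.le.trans le_sup_right
      exact h2 (Subgroup.mem_top x)
    · exact (Subgroup.mem_centralizer_iff.1 (hJ k hx) y hy).symm
  have hodd : p ≠ 2 := c'.odd
  refine BOdd.false_of_le C hn c'.prime hodd hu c'.gen hcen hl hr (J.subtype.comp e'.symm.toMonoidHom) ?_ ?_
  · exact J.subtype_injective.comp e'.symm.injective
  · exact fun x => hJT _ (e'.symm x).2

end BOdd

/-- **[Q1], chart level.** A chart of `⊤` of one of the standard types (not `G2`), `Z(G) = 1`: there are an equivalent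
chart (of the same type) and an orthogonal family `g` of classical roots such that the centraliser of the classical
groups of the family contains no group isomorphic to a classical group. -/
theorem exists_frame (hyp : Hyp Om) (c : Chart Om p (⊤ : Subgroup G)) {τ : Ty} (hτ : c.IsTy τ)
    (ok : Cfsg.Agent.Cit.KindOk τ) (hcen : Subgroup.center G = ⊥) :
    ∃ c' : Chart Om p (⊤ : Subgroup G), c'.IsTy τ ∧
      ∃ (m : ℕ) (g : Fin m → c'.I → ℤ), (∀ i, g i ∈ c'.R) ∧
        (∀ i j, i ≠ j → form c'.cs c'.h (g i) (g j) = 0) ∧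
        ∀ J : Subgroup G, (∀ i, J ≤ Subgroup.centralizer (KK c'.Z (g i) : Set G)) →
          ∀ r ∈ c'.R, (J ≃* KK c'.Z r) → False := by
  cases τ with
  | A n => exact good_A c hτ
  | B n =>
    have h3 : 3 ≤ n := ok
    rcases Nat.mod_two_eq_zero_or_one n with he | ho
    · exact good_B_even c (by omega) he hτ
    · exact good_B_odd hyp c hcen h3 ho hτ
  | C n => exact good_C c hτ
  | D n => exact good_D c hτ
  | E6 => exact good_E6 c hτ
  | E7 => exact good_E7 c hτ
  | E8 => exact good_E8 c hτ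
  | F4 => exact good_F4 c hτ
  | G2 => exact ok.elim

/-- **`QOne.ChartStmt`.** -/
theorem exists_family (hyp : Hyp Om) (c : Chart Om p (⊤ : Subgroup G)) {τ : Ty} (hτ : c.IsTy τ)
    (ok : Cfsg.Agent.Cit.KindOk τ) (hcen : Subgroup.center G = ⊥) :
    ∃ (m : ℕ) (K : Fin m → Subgroup G), (∀ i, K i ∈ Om) ∧
      (∀ i j, i ≠ j → K i ≤ Subgroup.centralizer (K j : Set G)) ∧
      ∀ J : Subgroup G, (∀ i, J ≤ Subgroup.centralizer (K i : Set G)) → ∀ L ∈ Om, ∀ _ : J ≃* L, False := by
  obtain ⟨c', -, m, g, hg, ho, hJ⟩ := exists_frame hyp c hτ ok hcen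
  refine ⟨m, fun i => KK c'.Z (g i), fun i => c'.om _ (hg i), fun i j hij => ?_, fun J h1 L hL e => ?_⟩
  · exact Cfsg.Agent.Cit.TypeDet.cm_iff_le_centralizer.1 (RelFrame.cm_KK c'.cls (hg i) (hg j) (ho i j hij))
  · obtain ⟨r, hr, x, -, rfl⟩ := c'.om_conj L hL le_top
    exact hJ J h1 r hr (e.trans ((Subgroup.equivMapOfInjective (KK c'.Z r) (MulAut.conj x).toMonoidHom
      (MulAut.conj x).injective).symm))

end Chart

end Cfsg.Agent.Nodes.Q1Chart
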