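import Mathlib
import Cfsg.Agent.Nodes.RGDLib

/-!
Unique factorisation in the positive unipotent group of a root group datum (project CIT, charts).

* `Closed S` : `S` contains every root between two of its elements;
* `Fut w` : the positive roots which stay positive under `w⁻¹`;
* `inf_eq` : `Sup X S ⊓ Sup X S' = Sup X (S ∩ S')` for closed sets of positive roots;
* `card_sup` : the order of `Sup X S` for a closed set of positive roots.
-/

set_option autoImplicit false
set_option linter.unusedSectionVars false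

namespace Cfsg.Agent.Nodes.Unique

open CoxeterSystem Cfsg.Agent.ChevalleyStructure.CoxeterGeom Cfsg.Agent.Tits.Roots Cfsg.Agent.Tits.Core
  Cfsg.Agent.Tits.RootComb Cfsg.Agent.Nodes.Comb Cfsg.Agent.Nodes.Reps Cfsg.Agent.Nodes.BNOf
  Cfsg.Agent.Nodes.BNOf.RGD
open scoped commutatorElement

variable {I W Y : Type*} [Fintype I] [DecidableEq I] [Group W] [Group Y] {M : CoxeterMatrix I}
  {cs : CoxeterSystem M W} {A : I → I → ℤ} {h : IsCartan M A} {p : ℕ} {T : Subgroup Y} {n : I → Y}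
  {X : (I → ℤ) → Subgroup Y}

/-! ### Combinatorics -/

/-- Two roots on the same ray are equal. -/
theorem eq_of_ray {x y : I → ℤ} (hx : IsRoot cs h x) (hy : IsRoot cs h y) {a b : ℤ} (ha : 0 < a) (hb : 0 < b)
    (he : a • x = b • y) : x = y := by
  obtain ⟨w, i, rfl⟩ := hy
  have h1 : a • rep cs h w⁻¹ x = b • sr i := by
    rw [← map_smul, he, map_smul, rep_inv_apply]
  have h2 : rep cs h w⁻¹ x = sr i := by
    refine (hx.act w⁻¹).eq_sr ?_ i ?_
    · intro k
      have h3 := congrFun h1 k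
      rw [Pi.smul_apply, Pi.smul_apply, smul_eq_mul, smul_eq_mul] at h3
      have h4 : 0 ≤ b * sr i k := mul_nonneg hb.le (sr_nonneg i k)
      rw [← h3] at h4
      exact nonneg_of_mul_nonneg_right h4 ha
    · intro k hk
      have h3 := congrFun h1 k
      rw [Pi.smul_apply, Pi.smul_apply, sr_ne hk, smul_zero, smul_eq_mul] at h3
      exact (mul_eq_zero.1 h3).resolve_left ha.ne'
  rw [← h2, rep_apply_inv]

theorem btwn_ne_left {x y z : I → ℤ} (hx : IsRoot cs h x) (hy : IsRoot cs h y) (hx0 : 0 ≤ x) (hy0 : 0 ≤ y)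
    (hxy : x ≠ y) (hz : Btwn cs h x y z) : z ≠ x := by
  rintro rfl
  obtain ⟨-, m, a, b, hm, ha, hb, he⟩ := hz
  have h1 : (m - a) • z = b • y := by rw [sub_smul, he]; abel
  have h2 : 0 < m - a := by
    by_contra hcon
    push Not at hcon
    obtain ⟨k, hk⟩ : ∃ k, 0 < y k := by
      by_contra h3
      push Not at h3
      exact hy.ne_zero (funext fun k => le_antisymm (h3 k) (hy0 k))
    have h3 := congrFun h1 k
    rw [Pi.smul_apply, Pi.smul_apply, smul_eq_mul, smul_eq_mul] at h3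
    have h4 : 0 < b * y k := mul_pos hb hk
    have h5 : (m - a) * z k ≤ 0 := mul_nonpos_of_nonpos_of_nonneg hcon (hx0 k)
    linarith
  exact hxy (eq_of_ray hx hy h2 hb h1)

theorem btwn_ne_right {x y z : I → ℤ} (hx : IsRoot cs h x) (hy : IsRoot cs h y) (hx0 : 0 ≤ x) (hy0 : 0 ≤ y)
    (hxy : x ≠ y) (hz : Btwn cs h x y z) : z ≠ y :=
  btwn_ne_left hy hx hy0 hx0 hxy.symm hz.symm

theorem btwn_self {x z : I → ℤ} (hx : IsRoot cs h x) (hz : Btwn cs h x x z) : z = x := by
  obtain ⟨hz, m, a, b, hm, ha, hb, he⟩ := hz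
  refine eq_of_ray hz hx hm (add_pos ha hb) ?_
  rw [he, add_smul]

/-- Closed sets of roots. -/
def Closed (cs : CoxeterSystem M W) (h : IsCartan M A) (S : Set (I → ℤ)) : Prop :=
  ∀ x ∈ S, ∀ y ∈ S, ∀ z, Btwn cs h x y z → z ∈ S

theorem Closed.inter {S S' : Set (I → ℤ)} (hS : Closed cs h S) (hS' : Closed cs h S') : Closed cs h (S ∩ S') :=
  fun x hx y hy z hz => ⟨hS x hx.1 y hy.1 z hz, hS' x hx.2 y hy.2 z hz⟩

/-- The positive roots which stay positive under `w⁻¹`. -/
def Fut (cs : CoxeterSystem M W) (h : IsCartan M A) (w : W) : Set (I → ℤ) :=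
  {x | IsRoot cs h x ∧ 0 ≤ x ∧ 0 ≤ rep cs h w⁻¹ x}

theorem fut_one : Fut cs h (1 : W) = Pos cs h := by
  ext x
  constructor
  · rintro ⟨hx, h0, -⟩; exact ⟨hx, h0⟩
  · rintro ⟨hx, h0⟩
    exact ⟨hx, h0, by rwa [inv_one, map_one, Module.End.one_apply]⟩

theorem fut_subset_pos (w : W) : Fut cs h w ⊆ Pos cs h := fun _ hx => ⟨hx.1, hx.2.1⟩

theorem closed_pos : Closed cs h (Pos cs h) := fun _ hx _ hy _ hz => ⟨hz.1, nonneg_of_btwn hx.2 hy.2 hz⟩

theorem closed_fut (w : W) : Closed cs h (Fut cs h w) := fun _ hx _ hy _ hz =>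
  ⟨hz.1, nonneg_of_btwn hx.2.1 hy.2.1 hz, nonneg_of_btwn hx.2.2 hy.2.2 (hz.act w⁻¹)⟩

theorem finite_pos [Finite W] : (Pos cs h).Finite := (finite_roots (cs := cs) (h := h)).subset fun _ hx => hx.1

theorem finite_fut [Finite W] (w : W) : (Fut cs h w).Finite := finite_pos.subset (fut_subset_pos w)

/-- `Fut (w s_i) = Fut w \ {w α_i}`. -/
theorem fut_mul {w : W} {i : I} (hw : 0 ≤ rep cs h w (sr i)) :
    Fut cs h (w * cs.simple i) = Fut cs h w \ {rep cs h w (sr i)} := by
  have e1 : ∀ y : I → ℤ, rep cs h (w * cs.simple i)⁻¹ y = rep cs h (cs.simple i) (rep cs h w⁻¹ y) := by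
    intro y
    rw [← rep_mul_apply, mul_inv_rev, cs.inv_simple]
  ext y
  constructor
  · rintro ⟨hy, h0, h1⟩
    rw [e1] at h1
    have hne : rep cs h w⁻¹ y ≠ sr i := by
      intro he
      rw [he, rep_simple_sr] at h1
      exact (isRoot_sr cs h i).not_pos_neg (sr_nonneg i) (neg_nonneg.1 h1)
    refine ⟨⟨hy, h0, ?_⟩, ?_⟩
    · have hne' : rep cs h (cs.simple i) (rep cs h w⁻¹ y) ≠ sr i := by
        intro he
        have h2 : rep cs h w⁻¹ y = - sr i := by
          have := congrArg (rep cs h (cs.simple i)) he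
          rwa [← rep_mul_apply, cs.simple_mul_simple_self, map_one, Module.End.one_apply, rep_simple_sr] at this
        have h3 : y = - rep cs h w (sr i) := by
          rw [← rep_apply_inv cs h w y, h2, map_neg]
        rw [h3] at h0
        exact ((isRoot_sr cs h i).act w).not_pos_neg hw (neg_nonneg.1 h0)
      have h2 := ((hy.act w⁻¹).act (cs.simple i)).simple_nonneg h1 i hne'
      rwa [← rep_mul_apply, cs.simple_mul_simple_self, map_one, Module.End.one_apply] at h2
    · intro he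
      rw [Set.mem_singleton_iff] at he
      exact hne (by rw [he, rep_inv_apply])
  · rintro ⟨⟨hy, h0, h1⟩, hne⟩
    refine ⟨hy, h0, ?_⟩
    rw [e1]
    refine (hy.act w⁻¹).simple_nonneg h1 i ?_
    intro he
    exact hne (by rw [Set.mem_singleton_iff, ← he, rep_apply_inv])

theorem mem_fut {w : W} {i : I} (hw : 0 ≤ rep cs h w (sr i)) : rep cs h w (sr i) ∈ Fut cs h w :=
  ⟨⟨w, i, rfl⟩, hw, by rw [rep_inv_apply]; exact sr_nonneg i⟩

/-- If `Fut w` is not empty there is `i` with `w α_i > 0`. -/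
theorem exists_simple {w : W} {y : I → ℤ} (hy : y ∈ Fut cs h w) : ∃ i, 0 ≤ rep cs h w (sr i) := by
  by_contra hcon
  push Not at hcon
  have h1 : ∀ i, rep cs h w (sr i) ≤ 0 := fun i =>
    (((isRoot_sr cs h i).act w).not_nonneg_iff).1 (hcon i)
  have h2 : y = ∑ k, (rep cs h w⁻¹ y) k • rep cs h w (sr k) := by
    conv_lhs => rw [← rep_apply_inv cs h w y]
    have h3 : rep cs h w⁻¹ y = ∑ k, (rep cs h w⁻¹ y) k • sr k := by
      funext j
      simp [Finset.sum_apply, sr, Pi.single_apply]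
    conv_lhs => rw [h3]
    rw [map_sum]
    exact Finset.sum_congr rfl fun k _ => map_smul _ _ _
  have h3 : y ≤ 0 := by
    rw [h2]
    refine Finset.sum_nonpos fun k _ => ?_
    intro j
    rw [Pi.smul_apply, smul_eq_mul]
    exact mul_nonpos_of_nonneg_of_nonpos (hy.2.2 k) (h1 k j)
  exact hy.1.not_pos_neg hy.2.1 h3

/-! ### Groups -/

variable (Rd : RGD cs h p T n X)

include Rd

/-- `X (-α_i) ∩ B = 1`. -/
theorem neg_inf_B [Finite W] (i : I) : X (-sr i) ⊓ B cs h T X = ⊥ := by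
  rw [eq_bot_iff]
  rintro u ⟨hu, hB⟩
  rw [Subgroup.mem_bot]
  by_contra hne
  obtain ⟨a, ha, t, ht, b, hb, e⟩ := Rd.rk1 i u hu hne
  have h1 : n i ∈ B cs h T X := by
    have : n i = (a * t)⁻¹ * u * b⁻¹ := by rw [e]; group
    rw [this]
    exact mul_mem (mul_mem (inv_mem (mul_mem (X_le_B (isRoot_sr cs h i) (sr_nonneg i) ha) (T_le_B ht))) hB)
      (inv_mem (X_le_B (isRoot_sr cs h i) (sr_nonneg i) hb))
  have h2 := Rd.eq_one_of_mem_B (rp_simple cs Rd.nsys i) h1
  have h3 := rep_simple_sr cs h i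
  rw [h2, map_one, Module.End.one_apply] at h3
  have h4 := congrFun h3 i
  rw [Pi.neg_apply, sr_self] at h4
  omega

/-- `X (w α_i) ∩ Sup X (Fut (w s_i)) = 1`. -/
theorem tail_inf [Finite W] {w : W} {i : I} : X (rep cs h w (sr i)) ⊓ Sup X (Fut cs h (w * cs.simple i)) = ⊥ := by
  obtain ⟨g, hg⟩ := exists_rp cs Rd.nsys (w * cs.simple i)
  rw [eq_bot_iff]
  rintro u ⟨hu, hu'⟩
  rw [Subgroup.mem_bot]
  have h1 : g⁻¹ * u * g ∈ X (-sr i) := by
    have := Rd.conj_mem' hg ⟨w, i, rfl⟩ hu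
    rwa [mul_inv_rev, cs.inv_simple, rep_mul_apply, rep_inv_apply, rep_simple_sr] at this
  have h2 : Sup X (Fut cs h (w * cs.simple i)) ≤ cj g (B cs h T X) := by
    refine Sup_le fun z hz a ha => ?_
    rw [mem_cj]
    exact X_le_B (hz.1.act _) hz.2.2 (Rd.conj_mem' hg hz.1 ha)
  have h3 := h2 hu'
  rw [mem_cj] at h3
  have h4 : g⁻¹ * u * g ∈ X (-sr i) ⊓ B cs h T X := ⟨h1, h3⟩
  rw [neg_inf_B Rd i, Subgroup.mem_bot] at h4
  have h5 : u = g * (g⁻¹ * u * g) * g⁻¹ := by group
  rw [h5, h4]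
  group

/-- Peeling off one root. -/
theorem normalizer_peel {S : Set (I → ℤ)} (hS : S ⊆ Pos cs h) (hc : Closed cs h S) {x : I → ℤ} (hx : x ∈ S) :
    X x ≤ Subgroup.normalizer (Sup X (S \ {x}) : Set Y) := by
  refine Rd.X_le_normalizer_diff hS (hS hx).1 (hS hx).2 fun y hy hyx z hz => ?_
  exact ⟨hc x hx y hy z hz, btwn_ne_left (hS hx).1 (hS hy).1 (hS hx).2 (hS hy).2 hyx.symm hz⟩

omit Rd in
theorem sup_peel {S : Set (I → ℤ)} {x : I → ℤ} (hx : x ∈ S) : Sup X S = X x ⊔ Sup X (S \ {x}) := by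
  apply le_antisymm
  · refine Sup_le fun z hz => ?_
    by_cases hz0 : z = x
    · subst hz0; exact le_sup_left
    · exact le_trans (le_Sup (S := S \ {x}) ⟨hz, hz0⟩) le_sup_right
  · exact sup_le (le_Sup hx) (Sup_mono Set.sdiff_subset)

theorem mem_peel {S : Set (I → ℤ)} (hS : S ⊆ Pos cs h) (hc : Closed cs h S) {x : I → ℤ} (hx : x ∈ S) {g : Y} :
    g ∈ Sup X S ↔ ∃ a ∈ X x, ∃ b ∈ Sup X (S \ {x}), g = a * b := by
  constructor
  · intro hg
    have h1 : g ∈ ((X x ⊔ Sup X (S \ {x}) : Subgroup Y) : Set Y) := by rw [← sup_peel hx]; exact hg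
    rw [Subgroup.coe_mul_of_left_le_normalizer_right _ _ (normalizer_peel Rd hS hc hx), Set.mem_mul] at h1
    obtain ⟨a, ha, b, hb, e⟩ := h1
    exact ⟨a, ha, b, hb, e.symm⟩
  · rintro ⟨a, ha, b, hb, rfl⟩
    exact mul_mem (le_Sup hx ha) (Sup_mono Set.sdiff_subset hb)

omit Rd in
/-- `S \ {w α_i}` is closed if `S ⊆ Fut w` is. -/
theorem closed_diff {w : W} {i : I} (hw : 0 ≤ rep cs h w (sr i)) {S : Set (I → ℤ)} (hS : S ⊆ Fut cs h w)
    (hc : Closed cs h S) : Closed cs h (S \ {rep cs h w (sr i)}) := by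
  intro x hx y hy z hz
  have h1 : S \ {rep cs h w (sr i)} ⊆ Fut cs h (w * cs.simple i) := by
    rw [fut_mul hw]
    exact Set.sdiff_subset_sdiff_left hS
  have h2 := closed_fut (w * cs.simple i) x (h1 hx) y (h1 hy) z hz
  rw [fut_mul hw] at h2
  exact ⟨hc x hx.1 y hy.1 z hz, h2.2⟩

/-- **Unique factorisation**: for closed sets of positive roots `Sup X S ∩ Sup X S' = Sup X (S ∩ S')`. -/
theorem inf_eq_fut [Finite W] (w : W) {S S' : Set (I → ℤ)} (hS : S ⊆ Fut cs h w) (hS' : S' ⊆ Fut cs h w)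
    (hc : Closed cs h S) (hc' : Closed cs h S') : Sup X S ⊓ Sup X S' = Sup X (S ∩ S') := by
  induction hn : (Fut cs h w).ncard generalizing w S S' with
  | zero =>
    have h1 := (Set.ncard_eq_zero (finite_fut w)).1 hn
    rw [h1, Set.subset_empty_iff] at hS hS'
    subst hS hS'
    rw [Set.inter_self, inf_idem]
  | succ k ih =>
    have hne : (Fut cs h w).Nonempty := by
      rw [Set.nonempty_iff_ne_empty]
      intro h1
      rw [h1, Set.ncard_empty] at hn
      omega
    obtain ⟨y, hy⟩ := hne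
    obtain ⟨i, hi⟩ := exists_simple hy
    set x := rep cs h w (sr i) with hxdef
    have hcard : (Fut cs h (w * cs.simple i)).ncard = k := by
      rw [fut_mul hi, Set.ncard_sdiff_singleton_of_mem (mem_fut hi), hn]
      rfl
    have hsub : ∀ {S : Set (I → ℤ)}, S ⊆ Fut cs h w → S \ {x} ⊆ Fut cs h (w * cs.simple i) := by
      intro S hS
      rw [fut_mul hi]
      exact Set.sdiff_subset_sdiff_left hS
    have key := ih (w * cs.simple i) (hsub hS) (hsub hS') (closed_diff hi hS hc) (closed_diff hi hS' hc') hcard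
    have htail : ∀ a ∈ X x, a ∈ Sup X (Fut cs h (w * cs.simple i)) → a = 1 := by
      intro a ha ha'
      have h1 : a ∈ X x ⊓ Sup X (Fut cs h (w * cs.simple i)) := ⟨ha, ha'⟩
      rw [hxdef, tail_inf Rd, Subgroup.mem_bot] at h1
      exact h1
    have hmono : ∀ {S : Set (I → ℤ)}, S ⊆ Fut cs h w → Sup X (S \ {x}) ≤ Sup X (Fut cs h (w * cs.simple i)) :=
      fun hS => Sup_mono (hsub hS)
    have hpos : ∀ {S : Set (I → ℤ)}, S ⊆ Fut cs h w → S ⊆ Pos cs h := fun hS => hS.trans (fut_subset_pos w)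
    have hdiff : ∀ {S : Set (I → ℤ)}, x ∉ S → S \ {x} = S := fun hx => Set.sdiff_singleton_eq_self hx
    apply le_antisymm
    · rintro g ⟨hg, hg'⟩
      by_cases hx : x ∈ S
      · obtain ⟨a, ha, b, hb, e⟩ := (mem_peel Rd (hpos hS) hc hx).1 hg
        by_cases hx' : x ∈ S'
        · obtain ⟨a', ha', b', hb', e'⟩ := (mem_peel Rd (hpos hS') hc' hx').1 hg'
          have h1 : a'⁻¹ * a = b' * b⁻¹ := by
            have h2 : a * b = a' * b' := by rw [← e, ← e']
            have h3 : a'⁻¹ * a = a'⁻¹ * (a * b) * b⁻¹ := by group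
            rw [h3, h2]; group
          have h2 : a'⁻¹ * a = 1 := by
            refine htail _ (mul_mem (inv_mem ha') ha) ?_
            rw [h1]
            exact mul_mem (hmono hS' hb') (inv_mem (hmono hS hb))
          have h3 : b' = b := by
            rw [h2] at h1
            exact (mul_inv_eq_one.1 h1.symm)
          have h4 : b ∈ Sup X (S \ {x}) ⊓ Sup X (S' \ {x}) := ⟨hb, h3 ▸ hb'⟩
          rw [key] at h4
          rw [e]
          exact mul_mem (le_Sup (S := S ∩ S') ⟨hx, hx'⟩ ha) (Sup_mono (Set.inter_subset_inter Set.sdiff_subset Set.sdiff_subset) h4)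
        · have h1 : a = 1 := by
            refine htail _ ha ?_
            have h2 : a = g * b⁻¹ := by rw [e]; group
            rw [h2]
            refine mul_mem ?_ (inv_mem (hmono hS hb))
            rw [← hdiff hx'] at hg'
            exact hmono hS' hg'
          have h4 : g ∈ Sup X (S \ {x}) ⊓ Sup X (S' \ {x}) := by
            refine ⟨?_, by rw [hdiff hx']; exact hg'⟩
            rw [e, h1, one_mul]; exact hb
          rw [key] at h4
          exact Sup_mono (Set.inter_subset_inter Set.sdiff_subset Set.sdiff_subset) h4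
      · by_cases hx' : x ∈ S'
        · obtain ⟨a, ha, b, hb, e⟩ := (mem_peel Rd (hpos hS') hc' hx').1 hg'
          have h1 : a = 1 := by
            refine htail _ ha ?_
            have h2 : a = g * b⁻¹ := by rw [e]; group
            rw [h2]
            refine mul_mem ?_ (inv_mem (hmono hS' hb))
            rw [← hdiff hx] at hg
            exact hmono hS hg
          have h4 : g ∈ Sup X (S \ {x}) ⊓ Sup X (S' \ {x}) := by
            refine ⟨by rw [hdiff hx]; exact hg, ?_⟩
            rw [e, h1, one_mul]; exact hb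
          rw [key] at h4
          exact Sup_mono (Set.inter_subset_inter Set.sdiff_subset Set.sdiff_subset) h4
        · have h4 : g ∈ Sup X (S \ {x}) ⊓ Sup X (S' \ {x}) := by
            rw [hdiff hx, hdiff hx']; exact ⟨hg, hg'⟩
          rw [key] at h4
          exact Sup_mono (Set.inter_subset_inter Set.sdiff_subset Set.sdiff_subset) h4
    · exact le_inf (Sup_mono Set.inter_subset_left) (Sup_mono Set.inter_subset_right)

theorem inf_eq [Finite W] {S S' : Set (I → ℤ)} (hS : S ⊆ Pos cs h) (hS' : S' ⊆ Pos cs h)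
    (hc : Closed cs h S) (hc' : Closed cs h S') : Sup X S ⊓ Sup X S' = Sup X (S ∩ S') := by
  rw [← fut_one] at hS hS'
  exact inf_eq_fut Rd 1 hS hS' hc hc'

end Cfsg.Agent.Nodes.Unique
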