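import Mathlib
import Cfsg.Agent.Nodes.RGDTypeA
import Cfsg.Agent.Nodes.Chart

/-!
The classical root groups of the root group datum of type `A_n` of `SL_{n+1}(F)` (project CIT, charts).

* `exists_perm` : every permutation of the indices is induced by the Weyl group;
* `form_disjoint`, `form_adj_neg` : the invariant form on roots of type `A_n`;
* `zA` : the involutions `z r`, `cls` : the structure `Cls` for `SL_{n+1}(F)`, all roots.
-/

set_option autoImplicit false
set_option linter.unusedSectionVars false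

namespace Cfsg.Agent.Nodes.ClsTypeA

open Matrix CoxeterSystem Cfsg.Agent.ChevalleyStructure.CoxeterGeom Cfsg.Agent.Tits.Roots
open Cfsg.Agent.Nodes.Reps Cfsg.Agent.Nodes.BNOf Cfsg.Agent.Nodes.RGDLib Cfsg.Agent.Nodes.RootsA
open Cfsg.Agent.Nodes.RGDTypeA Cfsg.Agent.Nodes.Chart
open Cfsg.Agent.LieRecognition.BNCox (cA)
open Cfsg.Agent.LieClassical.SLGen
open Cfsg.Agent.TitsThree.KSideA (tv tv_of_ne tv_add tv_zero tv_neg tv_comm tv_commute diag2n_eq)
open scoped commutatorElement

section Form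

variable {n : ℕ} {W : Type*} [Group W] (cs : CoxeterSystem (cA n) W) {A : Fin n → Fin n → ℤ}
  (h : IsCartan (cA n) A)

/-- Every permutation of the indices is induced by the Weyl group. -/
theorem exists_perm (σ : Equiv.Perm (Fin (n + 1))) :
    ∃ w : W, ∀ a b, rep cs h w (rtA a b) = rtA (σ a) (σ b) := by
  have hσ : σ ∈ Submonoid.closure (Set.range fun i : Fin n ↦ Equiv.swap i.castSucc i.succ) := by
    rw [Equiv.Perm.mclosure_swap_castSucc_succ]
    exact Submonoid.mem_top _
  induction hσ using Submonoid.closure_induction with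
  | mem x hx =>
    obtain ⟨i, rfl⟩ := hx
    exact ⟨cs.simple i, fun a b => rep_simple_rtA cs h i a b⟩
  | one => exact ⟨1, fun a b => by rw [map_one, Module.End.one_apply]; rfl⟩
  | mul x y _ _ hx hy =>
    obtain ⟨w, hw⟩ := hx
    obtain ⟨v, hv⟩ := hy
    exact ⟨w * v, fun a b => by rw [rep_mul_apply, hv, hw]; rfl⟩

variable [Fintype W]

theorem form_perm (σ : Equiv.Perm (Fin (n + 1))) (a b c d : Fin (n + 1)) :
    form cs h (rtA (σ a) (σ b)) (rtA (σ c) (σ d)) = form cs h (rtA a b) (rtA c d) := by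
  obtain ⟨w, hw⟩ := exists_perm cs h σ
  rw [← hw, ← hw, form_rep]

theorem form_disjoint {a b c d : Fin (n + 1)} (hac : a ≠ c) (had : a ≠ d) (hbc : b ≠ c) (hbd : b ≠ d) :
    form cs h (rtA a b) (rtA c d) = 0 := by
  have h1 := form_perm cs h (Equiv.swap a b) a b c d
  rw [Equiv.swap_apply_left, Equiv.swap_apply_right, Equiv.swap_apply_of_ne_of_ne hac.symm hbc.symm,
    Equiv.swap_apply_of_ne_of_ne had.symm hbd.symm, ← rtA_neg a b, form_neg_left] at h1
  linarith

theorem form_self {a b c d : Fin (n + 1)} (hab : a ≠ b) (hcd : c ≠ d) :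
    form cs h (rtA a b) (rtA a b) = form cs h (rtA c d) (rtA c d) := by
  obtain ⟨σ, h1, h2⟩ : ∃ σ : Equiv.Perm (Fin (n + 1)), σ a = c ∧ σ b = d := by
    let τ : Equiv.Perm (Fin (n + 1)) := Equiv.swap a c
    refine ⟨Equiv.swap (τ b) d * τ, ?_, ?_⟩
    · change Equiv.swap (τ b) d (τ a) = c
      have h3 : τ a = c := Equiv.swap_apply_left a c
      rw [h3]
      apply Equiv.swap_apply_of_ne_of_ne
      · intro h4
        rw [← h3] at h4
        exact hab (τ.injective h4)
      · exact hcd
    · exact Equiv.swap_apply_left _ _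
  have h3 := form_perm cs h σ a b a b
  rw [h1, h2] at h3
  exact h3.symm

theorem form_adj_neg {a b d : Fin (n + 1)} (hab : a ≠ b) (hbd : b ≠ d) (had : a ≠ d) :
    form cs h (rtA a b) (rtA b d) < 0 := by
  have h1 := form_self cs h had hab
  have h2 := form_self cs h hbd hab
  have h3 := form_pos cs h (rtA_ne_zero hab)
  rw [← rtA_add a b d, form_add_left, form_add_right, form_add_right, form_comm cs h (rtA b d) (rtA a b)] at h1
  linarith

/-- Non-commuting pairs have negative scalar product. -/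
theorem ne_of_nonneg {a b c d : Fin (n + 1)} (hab : a ≠ b) (hcd : c ≠ d)
    (h0 : 0 ≤ form cs h (rtA c d) (rtA a b)) : d ≠ a ∧ c ≠ b := by
  constructor
  · rintro rfl
    by_cases hcb : c = b
    · subst hcb
      rw [← rtA_neg d c, form_neg_left] at h0
      have := form_pos cs h (rtA_ne_zero hab)
      linarith
    · have := form_adj_neg cs h hcd hab hcb
      linarith
  · rintro rfl
    by_cases hda : d = a
    · subst hda
      rw [← rtA_neg d c, form_neg_left] at h0
      have := form_pos cs h (rtA_ne_zero hab)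
      linarith
    · have := form_adj_neg cs h hab hcd (Ne.symm hda)
      rw [form_comm] at this
      linarith

end Form

section Mat

variable {ι F : Type*} [Field F] [DecidableEq ι] [Fintype ι]

/-- The involution `diag(-1, -1)` on the places `a`, `b`. -/
noncomputable def zab {a b : ι} (hab : a ≠ b) : SpecialLinearGroup ι F :=
  SpecialLinearGroup.diag2n hab (-1) (neg_ne_zero.2 one_ne_zero)

theorem zab_val {a b : ι} (hab : a ≠ b) :
    (zab hab : SpecialLinearGroup ι F).1 = diagonal fun k => if k = a ∨ k = b then -1 else 1 := by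
  rw [zab, SpecialLinearGroup.diag2n_coe]
  congr 1
  funext k
  by_cases h1 : k = a
  · rw [if_pos h1, if_pos (Or.inl h1)]
  · by_cases h2 : k = b
    · rw [if_neg h1, if_pos h2, if_pos (Or.inr h2), inv_neg, inv_one]
    · rw [if_neg h1, if_neg h2, if_neg (not_or.2 ⟨h1, h2⟩)]

theorem zab_apply {a b : ι} (hab : a ≠ b) (c : ι) :
    (zab hab : SpecialLinearGroup ι F).1 c c = if c = a ∨ c = b then -1 else 1 := by
  rw [zab_val, Matrix.diagonal_apply_eq]

theorem zab_symm {a b : ι} (hab : a ≠ b) : (zab hab.symm : SpecialLinearGroup ι F) = zab hab := by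
  apply Subtype.ext
  rw [zab_val, zab_val]
  congr 1
  funext k
  simp only [or_comm]

theorem zab_mem_T {a b : ι} (hab : a ≠ b) : zab hab ∈ T ι F := diag_mem_T hab _

theorem zab_mul_self {a b : ι} (hab : a ≠ b) : (zab hab * zab hab : SpecialLinearGroup ι F) = 1 := by
  apply Subtype.ext
  change (zab hab : SpecialLinearGroup ι F).1 * (zab hab : SpecialLinearGroup ι F).1 = 1
  rw [zab_val, Matrix.diagonal_mul_diagonal, ← Matrix.diagonal_one]
  congr 1
  funext k
  split_ifs <;> simp

theorem zab_inv {a b : ι} (hab : a ≠ b) : (zab hab : SpecialLinearGroup ι F)⁻¹ = zab hab :=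
  inv_eq_of_mul_eq_one_right (zab_mul_self hab)

theorem T_comm {s t : SpecialLinearGroup ι F} (hs : s ∈ T ι F) (ht : t ∈ T ι F) : s * t = t * s := by
  have key : ∀ {s t : SpecialLinearGroup ι F}, s ∈ T ι F → t ∈ T ι F → ∀ a b,
      (s * t).1 a b = if a = b then s.1 a a * t.1 a a else 0 := by
    intro s t hs ht a b
    change (s.1 * t.1) a b = _
    rw [Matrix.mul_apply]
    by_cases hab : a = b
    · subst hab
      rw [if_pos rfl, Finset.sum_eq_single a]
      · intro c _ hc
        have : s.1 a c = 0 := by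
          by_contra h0
          exact hc (mem_T.1 hs a c h0).symm
        rw [this, zero_mul]
      · intro h0
        exact absurd (Finset.mem_univ _) h0
    · rw [if_neg hab]
      apply Finset.sum_eq_zero
      intro c _
      by_cases hac : a = c
      · subst hac
        have : t.1 a b = 0 := by
          by_contra h0
          exact hab (mem_T.1 ht a b h0)
        rw [this, mul_zero]
      · have : s.1 a c = 0 := by
          by_contra h0
          exact hac (mem_T.1 hs a c h0)
        rw [this, zero_mul]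
  apply Subtype.ext
  ext a b
  rw [key hs ht, key ht hs, mul_comm]

theorem Mono.conj_zab {σ : Equiv.Perm ι} {g : SpecialLinearGroup ι F} (hg : Mono σ g) {a b : ι} (hab : a ≠ b)
    (hab' : σ a ≠ σ b) : g * zab hab * g⁻¹ = zab hab' := by
  rw [mul_inv_eq_iff_eq_mul]
  apply Subtype.ext
  change g.1 * (zab hab : SpecialLinearGroup ι F).1 = (zab hab' : SpecialLinearGroup ι F).1 * g.1
  rw [zab_val, zab_val]
  ext i j
  rw [Matrix.mul_diagonal, Matrix.diagonal_mul]
  by_cases hij : g.1 i j = 0
  · rw [hij, zero_mul, mul_zero]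
  · have := hg i j hij
    subst this
    have h1 : (σ j = σ a ∨ σ j = σ b) ↔ (j = a ∨ j = b) := by
      rw [σ.injective.eq_iff, σ.injective.eq_iff]
    simp only [h1]
    rw [mul_comm]

theorem zab_conj_tv {a b : ι} (hab : a ≠ b) {c d : ι} (hcd : c ≠ d) (t : F) :
    zab hab * tv c d t * (zab hab)⁻¹ = tv c d ((if c = a ∨ c = b then -1 else 1) *
      (if d = a ∨ d = b then -1 else 1) * t) := by
  rw [(mem_T.1 (zab_mem_T hab)).conj_tv hcd]
  change tv c d (_ * t * _) = _
  rw [show ((1 : Equiv.Perm ι) c) = c from rfl, show ((1 : Equiv.Perm ι) d) = d from rfl, zab_apply, zab_apply]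
  congr 1
  by_cases h1 : d = a ∨ d = b
  · rw [if_pos h1, inv_neg, inv_one]
    ring
  · rw [if_neg h1, inv_one]
    ring

theorem zab_mem {a b : ι} (hab : a ≠ b) : zab hab ∈ XX F a b ⊔ XX F b a := by
  rw [zab, diag2n_eq]
  have h1 : ∀ t : F, tv a b t ∈ XX F a b ⊔ XX F b a := fun t => (le_sup_left : XX F a b ≤ _) (tv_mem_XX a b t)
  have h2 : ∀ t : F, tv b a t ∈ XX F a b ⊔ XX F b a := fun t => (le_sup_right : XX F b a ≤ _) (tv_mem_XX b a t)
  exact mul_mem (mul_mem (mul_mem (h1 _) (h2 _)) (h1 _)) (inv_mem (mul_mem (mul_mem (h1 _) (h2 _)) (h1 _)))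

end Mat

section Group

variable {n : ℕ} {F : Type*} [Field F]

open Classical in
/-- The involutions `z r`. -/
noncomputable def zA (F : Type*) [Field F] (x : Fin n → ℤ) : SpecialLinearGroup (Fin (n + 1)) F :=
  if hx : ∃ z : Fin (n + 1) × Fin (n + 1), z.1 ≠ z.2 ∧ rtA z.1 z.2 = x then zab hx.choose_spec.1 else 1

theorem zA_rtA {a b : Fin (n + 1)} (hab : a ≠ b) : zA F (rtA a b) = zab hab := by
  have hx : ∃ z : Fin (n + 1) × Fin (n + 1), z.1 ≠ z.2 ∧ rtA z.1 z.2 = rtA a b := ⟨(a, b), hab, rfl⟩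
  rw [zA, dif_pos hx]
  obtain ⟨h1, h2⟩ := rtA_inj hx.choose_spec.1 hx.choose_spec.2
  apply Subtype.ext
  rw [zab_val, zab_val, h1, h2]

variable {W : Type*} [Group W] [Fintype W] (cs : CoxeterSystem (cA n) W) {A : Fin n → Fin n → ℤ}
  (h : IsCartan (cA n) A)

/-- The classical root groups of `SL_{n+1}(F)`. -/
theorem cls [Finite F] {p : ℕ} [Fact p.Prime] [CharP F p] :
    Cls cs h p (T (Fin (n + 1)) F) (ns n F) (X F) {x | IsRoot cs h x} (X F) (zA F) where
  rgd := rgd cs h
  root r hr := hr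
  act r hr w := IsRoot.act hr w
  le r hr := le_rfl
  ne_bot r hr := by
    obtain ⟨a, b, hab, rfl⟩ := exists_of_isRoot cs h hr
    rw [X_rtA hab]
    intro h0
    have h1 : tv a b (1 : F) ∈ (⊥ : Subgroup (SpecialLinearGroup (Fin (n + 1)) F)) := by
      rw [← h0]
      exact tv_mem_XX _ _ _
    rw [Subgroup.mem_bot, ← tv_zero a b] at h1
    exact one_ne_zero (tv_inj hab h1)
  conj i r hr := (rgd cs h).conj i r hr
  tor r hr := (rgd cs h).tor r hr
  cent r hr y hy h0 u hu v hv := by
    obtain ⟨a, b, hab, rfl⟩ := exists_of_isRoot cs h hr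
    obtain ⟨c, d, hcd, rfl⟩ := exists_of_isRoot cs h hy
    obtain ⟨h1, h2⟩ := ne_of_nonneg cs h hab hcd h0
    rw [X_rtA hcd] at hu
    rw [X_rtA hab] at hv
    obtain ⟨s, rfl⟩ := hu
    obtain ⟨t, rfl⟩ := hv
    exact (tv_commute h1 h2 s t).eq
  notp r hr := by
    obtain ⟨a, b, hab, rfl⟩ := exists_of_isRoot cs h hr
    rw [rtA_neg, X_rtA hab, X_rtA hab.symm]
    exact not_isPGroup hab
  z_mem r hr := by
    obtain ⟨a, b, hab, rfl⟩ := exists_of_isRoot cs h hr
    rw [rtA_neg, X_rtA hab, X_rtA hab.symm, zA_rtA hab]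
    exact zab_mem hab
  z_torus r hr := by
    obtain ⟨a, b, hab, rfl⟩ := exists_of_isRoot cs h hr
    rw [zA_rtA hab]
    exact zab_mem_T hab
  z_T r hr t ht := by
    obtain ⟨a, b, hab, rfl⟩ := exists_of_isRoot cs h hr
    rw [zA_rtA hab]
    exact T_comm (zab_mem_T hab) ht
  z_sq r hr := by
    obtain ⟨a, b, hab, rfl⟩ := exists_of_isRoot cs h hr
    rw [zA_rtA hab]
    exact zab_mul_self hab
  z_conj i r hr := by
    obtain ⟨a, b, hab, rfl⟩ := exists_of_isRoot cs h hr
    have hab' : Equiv.swap i.castSucc i.succ a ≠ Equiv.swap i.castSucc i.succ b := fun e =>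
      hab ((Equiv.injective _) e)
    rw [rep_simple_rtA, zA_rtA hab, zA_rtA hab']
    exact Mono.conj_zab (mono_ns i) hab hab'
  z_neg r hr := by
    obtain ⟨a, b, hab, rfl⟩ := exists_of_isRoot cs h hr
    rw [rtA_neg, zA_rtA hab, zA_rtA hab.symm, zab_symm]
  z_cent r hr v hv := by
    obtain ⟨a, b, hab, rfl⟩ := exists_of_isRoot cs h hr
    rw [X_rtA hab] at hv
    obtain ⟨t, rfl⟩ := hv
    rw [zA_rtA hab]
    have h1 := zab_conj_tv (F := F) hab hab t
    rw [if_pos (Or.inl rfl), if_pos (Or.inr rfl), neg_one_mul, neg_neg, one_mul,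
      mul_inv_eq_iff_eq_mul] at h1
    exact h1
  z_inv r hr y hy hyr hyr' h0 u hu := by
    obtain ⟨a, b, hab, rfl⟩ := exists_of_isRoot cs h hr
    obtain ⟨c, d, hcd, rfl⟩ := exists_of_isRoot cs h hy
    rw [X_rtA hcd] at hu
    obtain ⟨t, rfl⟩ := hu
    rw [zA_rtA hab]
    have h1 := zab_conj_tv (F := F) hab hcd t
    rw [zab_inv] at h1
    rw [h1, ← tv_neg]
    congr 1
    by_cases hca : c = a ∨ c = b
    · rw [if_pos hca]
      by_cases hda : d = a ∨ d = b
      · exfalso
        rcases hca with rfl | rfl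
        · rcases hda with rfl | rfl
          · exact hcd rfl
          · exact hyr rfl
        · rcases hda with rfl | rfl
          · exact hyr' (rtA_neg _ _).symm
          · exact hcd rfl
      · rw [if_neg hda]
        ring
    · rw [if_neg hca]
      by_cases hda : d = a ∨ d = b
      · rw [if_pos hda]
        ring
      · exfalso
        rw [not_or] at hca hda
        exact h0 (form_disjoint cs h hca.1 hca.2 hda.1 hda.2)
  z_inv_self r hr u hu := by
    obtain ⟨a, b, hab, rfl⟩ := exists_of_isRoot cs h hr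
    rw [X_rtA hab] at hu ⊢
    obtain ⟨t, rfl⟩ := hu
    rw [zA_rtA hab]
    have h1 := zab_conj_tv (F := F) hab hab t
    rw [zab_inv] at h1
    rw [h1]
    exact mul_mem (tv_mem_XX _ _ _) (tv_mem_XX _ _ _)

end Group

end Cfsg.Agent.Nodes.ClsTypeA
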