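import Mathlib
import Cfsg.Agent.Nodes.ClsTypeA
import Cfsg.Agent.Nodes.ClsMap

/-!
The chart of a group isomorphic to `PSL_{n+1}(F)` (project CIT, charts).

* `blk a b` : the block subgroup `SL_2(F)` on the places `a`, `b`; `sup_XX_eq : XX F a b ⊔ XX F b a = blk a b`;
* `irr` : type `A_n` is irreducible, `trans` : the roots are conjugate;
* `chartA` : the chart of `⊤ : Subgroup G` for `e : SL_{n+1}(F) →* G` surjective with central kernel.
-/

set_option autoImplicit false
set_option linter.unusedSectionVars false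

namespace Cfsg.Agent.Nodes.ChartTypeA

open Matrix CoxeterSystem Cfsg.Agent.ChevalleyStructure.CoxeterGeom Cfsg.Agent.Tits.Roots
open Cfsg.Agent.Nodes.Reps Cfsg.Agent.Nodes.BNOf Cfsg.Agent.Nodes.RGDLib Cfsg.Agent.Nodes.RootsA
open Cfsg.Agent.Nodes.RGDTypeA Cfsg.Agent.Nodes.Chart Cfsg.Agent.Nodes.ClsTypeA Cfsg.Agent.Nodes.ClsMap
open Cfsg.Agent.LieRecognition.BNCox (cA cA_apply)
open Cfsg.Agent.LieClassical.SLGen
open Cfsg.Agent.TitsThree.KSideA (tv tv_of_ne tv_add tv_zero tv_neg tv_comm tv_commute diag2n_eq)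

section Mat

variable {ι F : Type*} [Field F] [DecidableEq ι] [Fintype ι]

/-- The entries outside the places `a`, `b` are those of the identity matrix. -/
def Blk (a b : ι) (g : Matrix ι ι F) : Prop :=
  ∀ i j, ¬ ((i = a ∨ i = b) ∧ (j = a ∨ j = b)) → g i j = (1 : Matrix ι ι F) i j

theorem Blk.mulVec {a b : ι} (hab : a ≠ b) {g : Matrix ι ι F} (hg : Blk a b g) (v : ι → F) (l : ι) :
    (g *ᵥ v) l = if l = a then g a a * v a + g a b * v b else
      if l = b then g b a * v a + g b b * v b else v l := by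
  have key : ∀ l, l = a ∨ l = b → (g *ᵥ v) l = g l a * v a + g l b * v b := by
    intro l hl
    change ∑ k, g l k * v k = _
    rw [← Finset.sum_subset (Finset.subset_univ {a, b})]
    · rw [Finset.sum_pair hab]
    · intro k _ hk
      rw [Finset.mem_insert, Finset.mem_singleton] at hk
      rw [hg l k (fun h => hk h.2), Matrix.one_apply_ne, zero_mul]
      rintro rfl
      exact hk hl
  by_cases h1 : l = a
  · subst h1
    rw [if_pos rfl, key l (Or.inl rfl)]
  · by_cases h2 : l = b
    · subst h2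
      rw [if_neg h1, if_pos rfl, key l (Or.inr rfl)]
    · rw [if_neg h1, if_neg h2]
      change ∑ k, g l k * v k = _
      rw [Finset.sum_eq_single l]
      · rw [hg l l (fun h => (not_or.2 ⟨h1, h2⟩) h.1), Matrix.one_apply_eq, one_mul]
      · intro k _ hk
        rw [hg l k (fun h => (not_or.2 ⟨h1, h2⟩) h.1), Matrix.one_apply_ne hk.symm, zero_mul]
      · intro h0
        exact absurd (Finset.mem_univ _) h0

theorem blk_one (a b : ι) : Blk a b (1 : Matrix ι ι F) := fun _ _ _ => rfl

theorem Blk.mul {a b : ι} {g k : Matrix ι ι F} (hg : Blk a b g) (hk : Blk a b k) : Blk a b (g * k) := by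
  intro i j hij
  rw [Matrix.mul_apply]
  by_cases hi : i = a ∨ i = b
  · have hj : ¬ (j = a ∨ j = b) := fun h => hij ⟨hi, h⟩
    rw [Finset.sum_eq_single j]
    · rw [hk j j (fun h => hj h.2), Matrix.one_apply_eq, mul_one, hg i j (fun h => hj h.2)]
    · intro l _ hl
      rw [hk l j (fun h => hj h.2), Matrix.one_apply_ne hl, mul_zero]
    · intro h0
      exact absurd (Finset.mem_univ _) h0
  · rw [Finset.sum_eq_single i]
    · rw [hg i i (fun h => hi h.1), Matrix.one_apply_eq, one_mul, hk i j (fun h => hi h.1)]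
    · intro l _ hl
      rw [hg i l (fun h => hi h.1), Matrix.one_apply_ne hl.symm, zero_mul]
    · intro h0
      exact absurd (Finset.mem_univ _) h0

theorem blk_tv {a b : ι} (hab : a ≠ b) (t : F) : Blk a b (tv a b t : SpecialLinearGroup ι F).1 := by
  intro i j hij
  rw [tv_val hab, Matrix.add_apply, Matrix.single_apply, if_neg, add_zero]
  rintro ⟨rfl, rfl⟩
  exact hij ⟨Or.inl rfl, Or.inr rfl⟩

theorem Blk.symm {a b : ι} {g : Matrix ι ι F} (hg : Blk a b g) : Blk b a g := by
  intro i j hij
  refine hg i j fun h => hij ⟨h.1.symm, h.2.symm⟩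

theorem blk_ext {a b : ι} (hab : a ≠ b) {g k : SpecialLinearGroup ι F} (hg : Blk a b g.1) (hk : Blk a b k.1)
    (h1 : g.1 a a = k.1 a a) (h2 : g.1 a b = k.1 a b) (h3 : g.1 b a = k.1 b a) (h4 : g.1 b b = k.1 b b) :
    g = k := by
  apply smul_ext
  intro v
  ext l
  change (g.1 *ᵥ v) l = (k.1 *ᵥ v) l
  rw [hg.mulVec hab, hk.mulVec hab, h1, h2, h3, h4]

theorem mul_blk_apply {a b : ι} (hab : a ≠ b) {g k : Matrix ι ι F} (hg : Blk a b g) {i : ι} (j : ι)
    (hi : i = a ∨ i = b) : (g * k) i j = g i a * k a j + g i b * k b j := by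
  rw [Matrix.mul_apply, ← Finset.sum_subset (Finset.subset_univ {a, b})]
  · rw [Finset.sum_pair hab]
  · intro l _ hl
    rw [Finset.mem_insert, Finset.mem_singleton] at hl
    rw [hg i l (fun h => hl h.2), Matrix.one_apply_ne, zero_mul]
    rintro rfl
    exact hl hi

theorem tv_aa {a b : ι} (hab : a ≠ b) (t : F) : (tv a b t : SpecialLinearGroup ι F).1 a a = 1 := by
  rw [tv_val hab, Matrix.add_apply, Matrix.one_apply_eq, Matrix.single_apply, if_neg (fun h => hab h.2.symm), add_zero]

theorem tv_ab {a b : ι} (hab : a ≠ b) (t : F) : (tv a b t : SpecialLinearGroup ι F).1 a b = t := by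
  simp [tv_val hab, Matrix.one_apply_ne hab]

theorem tv_ba {a b : ι} (hab : a ≠ b) (t : F) : (tv a b t : SpecialLinearGroup ι F).1 b a = 0 := by
  simp [tv_val hab, Matrix.one_apply_ne hab.symm, hab]

theorem tv_bb {a b : ι} (hab : a ≠ b) (t : F) : (tv a b t : SpecialLinearGroup ι F).1 b b = 1 := by
  simp [tv_val hab, hab]

theorem blk_mem {a b : ι} (hab : a ≠ b) {g : SpecialLinearGroup ι F} (hg : Blk a b g.1) :
    g ∈ XX F a b ⊔ XX F b a := by
  have h1 : ∀ t : F, tv a b t ∈ XX F a b ⊔ XX F b a := fun t => (le_sup_left : XX F a b ≤ _) (tv_mem_XX a b t)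
  have h2 : ∀ t : F, tv b a t ∈ XX F a b ⊔ XX F b a := fun t => (le_sup_right : XX F b a ≤ _) (tv_mem_XX b a t)
  -- a block matrix with `a`-column and `a`-row trivial
  have key0 : ∀ g : SpecialLinearGroup ι F, Blk a b g.1 → g.1 a a = 1 → g.1 b a = 0 → g.1 a b = 0 → g = 1 := by
    intro g hg haa hba hab'
    have hd : g.1 = diagonal fun l => if l = b then g.1 b b else 1 := by
      ext i j
      by_cases hij : i = j
      · subst hij
        rw [Matrix.diagonal_apply_eq]
        by_cases hi : i = b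
        · subst hi; rw [if_pos rfl]
        · rw [if_neg hi]
          by_cases hi' : i = a
          · subst hi'; exact haa
          · rw [hg i i (fun h => (not_or.2 ⟨hi', hi⟩) h.1), Matrix.one_apply_eq]
      · rw [Matrix.diagonal_apply_ne _ hij]
        by_cases hc : (i = a ∨ i = b) ∧ (j = a ∨ j = b)
        · rcases hc with ⟨rfl | rfl, rfl | rfl⟩
          · exact absurd rfl hij
          · exact hab'
          · exact hba
          · exact absurd rfl hij
        · rw [hg i j hc, Matrix.one_apply_ne hij]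
    have hdet := g.2
    rw [hd, Matrix.det_diagonal, Finset.prod_ite_eq' Finset.univ b (fun _ => g.1 b b),
      if_pos (Finset.mem_univ _)] at hdet
    exact blk_ext hab hg (blk_one a b) (by rw [haa]; exact (Matrix.one_apply_eq a).symm)
      (by rw [hab']; exact (Matrix.one_apply_ne hab).symm) (by rw [hba]; exact (Matrix.one_apply_ne hab.symm).symm)
      (by rw [hdet]; exact (Matrix.one_apply_eq b).symm)
  have key1 : ∀ g : SpecialLinearGroup ι F, Blk a b g.1 → g.1 a a = 1 → g ∈ XX F a b ⊔ XX F b a := by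
    intro g hg haa
    -- clear the entry `b a`
    set g1 : SpecialLinearGroup ι F := tv b a (-g.1 b a) * g with hg1
    have hB1 : Blk a b g1.1 := Blk.mul (blk_tv hab.symm _).symm hg
    have e1 : g1.1 a a = 1 := by
      change ((tv b a (-g.1 b a)).1 * g.1) a a = 1
      rw [mul_blk_apply hab (blk_tv hab.symm _).symm a (Or.inl rfl), tv_bb hab.symm, tv_ba hab.symm, haa]
      ring
    have e2 : g1.1 b a = 0 := by
      change ((tv b a (-g.1 b a)).1 * g.1) b a = 0
      rw [mul_blk_apply hab (blk_tv hab.symm _).symm a (Or.inr rfl), tv_ab hab.symm, tv_aa hab.symm, haa]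
      ring
    set g2 : SpecialLinearGroup ι F := g1 * tv a b (-g1.1 a b) with hg2
    have hB2 : Blk a b g2.1 := Blk.mul hB1 (blk_tv hab _)
    have e3 : g2.1 a a = 1 := by
      change (g1.1 * (tv a b (-g1.1 a b)).1) a a = 1
      rw [mul_blk_apply hab hB1 a (Or.inl rfl), tv_aa hab, tv_ba hab, e1]
      ring
    have e4 : g2.1 b a = 0 := by
      change (g1.1 * (tv a b (-g1.1 a b)).1) b a = 0
      rw [mul_blk_apply hab hB1 a (Or.inr rfl), tv_aa hab, tv_ba hab, e2]
      ring
    have e5 : g2.1 a b = 0 := by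
      change (g1.1 * (tv a b (-g1.1 a b)).1) a b = 0
      rw [mul_blk_apply hab hB1 b (Or.inl rfl), tv_ab hab, tv_bb hab, e1]
      ring
    have h3 := key0 g2 hB2 e3 e4 e5
    have h4 : g = (tv b a (-g.1 b a))⁻¹ * (tv a b (-g1.1 a b))⁻¹ := by
      rw [hg2] at h3
      have h5 : g1 = (tv a b (-g1.1 a b))⁻¹ := eq_inv_of_mul_eq_one_left h3
      have h6 : g = (tv b a (-g.1 b a))⁻¹ * g1 := by rw [hg1]; group
      rw [← h5]
      exact h6
    rw [h4]
    exact mul_mem (inv_mem (h2 _)) (inv_mem (h1 _))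
  have key2 : ∀ g : SpecialLinearGroup ι F, Blk a b g.1 → g.1 b a ≠ 0 → g ∈ XX F a b ⊔ XX F b a := by
    intro g hg hne
    set g1 : SpecialLinearGroup ι F := tv a b ((1 - g.1 a a) / g.1 b a) * g with hg1
    have hB1 : Blk a b g1.1 := Blk.mul (blk_tv hab _) hg
    have e1 : g1.1 a a = 1 := by
      change ((tv a b ((1 - g.1 a a) / g.1 b a)).1 * g.1) a a = 1
      rw [mul_blk_apply hab (blk_tv hab _) a (Or.inl rfl), tv_aa hab, tv_ab hab]
      field_simp
      ring
    have h3 : g = (tv a b ((1 - g.1 a a) / g.1 b a))⁻¹ * g1 := by rw [hg1]; group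
    rw [h3]
    exact mul_mem (inv_mem (h1 _)) (key1 g1 hB1 e1)
  by_cases hne : g.1 b a = 0
  · by_cases haa : g.1 a a = 0
    · exfalso
      -- then column `a` vanishes
      have h3 : (g⁻¹ * g).1 a a = 1 := by
        rw [inv_mul_cancel]
        exact Matrix.one_apply_eq a
      have h4 : ((g⁻¹).1 * g.1) a a = 0 := by
        rw [Matrix.mul_apply]
        apply Finset.sum_eq_zero
        intro l _
        have : g.1 l a = 0 := by
          by_cases hl : l = a
          · rw [hl, haa]
          · by_cases hl' : l = b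
            · rw [hl', hne]
            · rw [hg l a (fun h => (not_or.2 ⟨hl, hl'⟩) h.1), Matrix.one_apply_ne hl]
        rw [this, mul_zero]
      rw [show (g⁻¹ * g).1 a a = ((g⁻¹).1 * g.1) a a from rfl, h4] at h3
      exact zero_ne_one h3
    · set g1 : SpecialLinearGroup ι F := tv b a 1 * g with hg1
      have hB1 : Blk a b g1.1 := Blk.mul (blk_tv hab.symm _).symm hg
      have e1 : g1.1 b a ≠ 0 := by
        change ((tv b a (1 : F) : SpecialLinearGroup ι F).1 * g.1) b a ≠ 0
        rw [mul_blk_apply hab (blk_tv hab.symm _).symm a (Or.inr rfl), tv_ab hab.symm, tv_aa hab.symm, hne,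
          one_mul, mul_zero, add_zero]
        exact haa
      have h3 : g = (tv b a 1)⁻¹ * g1 := by rw [hg1]; group
      rw [h3]
      exact mul_mem (inv_mem (h2 _)) (key2 g1 hB1 e1)
  · exact key2 g hg hne

theorem Blk.inv {a b : ι} {g : SpecialLinearGroup ι F} (hg : Blk a b g.1) : Blk a b (g⁻¹).1 := by
  intro i j hij
  by_cases hj : j = a ∨ j = b
  · have hi : ¬ (i = a ∨ i = b) := fun h => hij ⟨h, hj⟩
    have h1 : (g.1 * (g⁻¹).1) i j = (1 : Matrix ι ι F) i j := by
      rw [show g.1 * (g⁻¹).1 = (g * g⁻¹).1 from rfl, mul_inv_cancel]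
      rfl
    rw [Matrix.mul_apply, Finset.sum_eq_single i] at h1
    · rwa [hg i i (fun h => hi h.1), Matrix.one_apply_eq, one_mul] at h1
    · intro l _ hl
      rw [hg i l (fun h => hi h.1), Matrix.one_apply_ne hl.symm, zero_mul]
    · intro h0
      exact absurd (Finset.mem_univ _) h0
  · have h1 : ((g⁻¹).1 * g.1) i j = (1 : Matrix ι ι F) i j := by
      rw [show (g⁻¹).1 * g.1 = (g⁻¹ * g).1 from rfl, inv_mul_cancel]
      rfl
    rw [Matrix.mul_apply, Finset.sum_eq_single j] at h1
    · rwa [hg j j (fun h => hj h.2), Matrix.one_apply_eq, mul_one] at h1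
    · intro l _ hl
      rw [hg l j (fun h => hj h.2), Matrix.one_apply_ne hl, mul_zero]
    · intro h0
      exact absurd (Finset.mem_univ _) h0

/-- The block subgroup `SL_2(F)` on the places `a`, `b`. -/
def blk (F : Type*) [Field F] (a b : ι) : Subgroup (SpecialLinearGroup ι F) where
  carrier := {g | Blk a b g.1}
  mul_mem' := fun h1 h2 => Blk.mul h1 h2
  one_mem' := blk_one a b
  inv_mem' := fun h => Blk.inv h

theorem mem_blk {a b : ι} {g : SpecialLinearGroup ι F} : g ∈ blk F a b ↔ Blk a b g.1 := Iff.rfl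

theorem sup_XX_eq {a b : ι} (hab : a ≠ b) : XX F a b ⊔ XX F b a = blk F a b := by
  apply le_antisymm
  · refine sup_le ?_ ?_
    · rintro _ ⟨t, rfl⟩
      exact blk_tv hab t
    · rintro _ ⟨t, rfl⟩
      exact (blk_tv hab.symm t).symm
  · intro g hg
    exact blk_mem hab hg

theorem blk_iff_fromBlocks {κ : Type*} [Fintype κ] [DecidableEq κ] (e : Fin 2 ⊕ κ ≃ ι) {g : Matrix ι ι F} :
    Blk (e (Sum.inl 0)) (e (Sum.inl 1)) g ↔ ∃ P, g.submatrix e e = fromBlocks P 0 0 1 := by
  constructor
  · intro hg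
    have hout : ∀ (k : κ), ¬ (e (Sum.inr k) = e (Sum.inl 0) ∨ e (Sum.inr k) = e (Sum.inl 1)) := by
      intro k h
      rcases h with h | h
      · exact absurd (e.injective h) (by simp)
      · exact absurd (e.injective h) (by simp)
    refine ⟨(g.submatrix e e).toBlocks₁₁, ?_⟩
    ext i j
    rcases i with i | i
    · rcases j with j | j
      · rfl
      · rw [Matrix.submatrix_apply, hg _ _ (fun h => hout j h.2), Matrix.fromBlocks_apply₁₂, Matrix.one_apply_ne]
        · rfl
        · intro h
          exact absurd (e.injective h) (by simp)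
    · rcases j with j | j
      · rw [Matrix.submatrix_apply, hg _ _ (fun h => hout i h.1), Matrix.fromBlocks_apply₂₁, Matrix.one_apply_ne]
        · rfl
        · intro h
          exact absurd (e.injective h) (by simp)
      · rw [Matrix.submatrix_apply, hg _ _ (fun h => hout i h.1), Matrix.fromBlocks_apply₂₂, Matrix.one_apply,
          Matrix.one_apply]
        simp
  · rintro ⟨P, hP⟩ i j hij
    obtain ⟨i, rfl⟩ := e.surjective i
    obtain ⟨j, rfl⟩ := e.surjective j
    have h1 : g (e i) (e j) = (fromBlocks P 0 0 1 : Matrix (Fin 2 ⊕ κ) (Fin 2 ⊕ κ) F) i j := by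
      rw [← hP, Matrix.submatrix_apply]
    have hin : ∀ k : Fin 2, e (Sum.inl k) = e (Sum.inl 0) ∨ e (Sum.inl k) = e (Sum.inl 1) := by
      intro k
      fin_cases k
      · exact Or.inl rfl
      · exact Or.inr rfl
    rw [h1]
    rcases i with i | i
    · rcases j with j | j
      · exact absurd ⟨hin i, hin j⟩ hij
      · rw [Matrix.fromBlocks_apply₁₂, Matrix.one_apply_ne]
        · rfl
        · intro h
          exact absurd (e.injective h) (by simp)
    · rcases j with j | j
      · rw [Matrix.fromBlocks_apply₂₁, Matrix.one_apply_ne]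
        · rfl
        · intro h
          exact absurd (e.injective h) (by simp)
      · rw [Matrix.fromBlocks_apply₂₂, Matrix.one_apply, Matrix.one_apply]
        simp

end Mat

section Irr

variable {n : ℕ}

/-- Type `A_n` is irreducible. -/
theorem irr (J : Set (Fin n)) (hJ : J.Nonempty) (hJ' : J ≠ Set.univ) :
    ∃ a ∈ J, ∃ b, b ∉ J ∧ cA n a b ≠ 2 := by
  by_contra hcon
  push Not at hcon
  have hadj : ∀ i j : Fin n, (i.val + 1 = j.val ∨ j.val + 1 = i.val) → i ∈ J → j ∈ J := by
    intro i j hij hi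
    by_contra hj
    have h1 := hcon i hi j hj
    rw [cA_apply] at h1
    unfold Cfsg.Agent.LieRecognition.CoxClass.mA at h1
    rw [if_neg (by omega), if_pos hij] at h1
    omega
  obtain ⟨i, hi⟩ := hJ
  apply hJ'
  rw [Set.eq_univ_iff_forall]
  have hup : ∀ (k : ℕ) (j : Fin n), i.val + k = j.val → j ∈ J := by
    intro k
    induction k with
    | zero =>
      intro j hj
      have : j = i := Fin.ext (by omega)
      rw [this]; exact hi
    | succ k ih =>
      intro j hj
      have hj2 := j.2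
      exact hadj ⟨j.val - 1, by omega⟩ j (by simp only; omega) (ih _ (by simp only; omega))
  have hdn : ∀ (k : ℕ) (j : Fin n), j.val + k = i.val → j ∈ J := by
    intro k
    induction k with
    | zero =>
      intro j hj
      have : j = i := Fin.ext (by omega)
      rw [this]; exact hi
    | succ k ih =>
      intro j hj
      have hi2 := i.2
      have hb : j.val + 1 < n := by omega
      exact hadj ⟨j.val + 1, hb⟩ j (Or.inr rfl) (ih ⟨j.val + 1, hb⟩ (by simp only; omega))
  intro j
  rcases Nat.le_total i.val j.val with hle | hle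
  · exact hup (j.val - i.val) j (by omega)
  · exact hdn (i.val - j.val) j (by omega)

theorem exists_perm_pair {ι : Type*} [DecidableEq ι] {a b c d : ι} (hab : a ≠ b) (hcd : c ≠ d) :
    ∃ σ : Equiv.Perm ι, σ a = c ∧ σ b = d := by
  let τ : Equiv.Perm ι := Equiv.swap a c
  have h3 : τ a = c := Equiv.swap_apply_left a c
  refine ⟨Equiv.swap (τ b) d * τ, ?_, ?_⟩
  · change Equiv.swap (τ b) d (τ a) = c
    rw [h3]
    apply Equiv.swap_apply_of_ne_of_ne
    · intro h4
      rw [← h3] at h4
      exact hab (τ.injective h4)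
    · exact hcd
  · exact Equiv.swap_apply_left _ _

variable {W : Type*} [Group W] (cs : CoxeterSystem (cA n) W) {A : Fin n → Fin n → ℤ}
  (h : IsCartan (cA n) A)

theorem trans {r s : Fin n → ℤ} (hr : IsRoot cs h r) (hs : IsRoot cs h s) : ∃ w, s = rep cs h w r := by
  obtain ⟨a, b, hab, rfl⟩ := exists_of_isRoot cs h hr
  obtain ⟨c, d, hcd, rfl⟩ := exists_of_isRoot cs h hs
  obtain ⟨σ, h1, h2⟩ := exists_perm_pair hab hcd
  obtain ⟨w, hw⟩ := exists_perm cs h σ
  exact ⟨w, by rw [hw, h1, h2]⟩

end Irr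

section Chart

variable {n : ℕ} {F G : Type*} [Field F] [Finite F] [Group G]

noncomputable instance fintypeW (n : ℕ) : Fintype (cA n).Group :=
  haveI : Finite (cA n).Group := finite_W (cA n).toCoxeterSystem (isCartan n)
  Fintype.ofFinite _

/-- The image of the block subgroup `SL_2(F)` on the places `a`, `b`. -/
def KK (f : SpecialLinearGroup (Fin (n + 1)) F →* G) (a b : Fin (n + 1)) : Subgroup G := (blk F a b).map f

theorem KK_symm (f : SpecialLinearGroup (Fin (n + 1)) F →* G) (a b : Fin (n + 1)) : KK f a b = KK f b a := by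
  unfold KK
  congr 1
  ext g
  exact ⟨fun h => Blk.symm h, fun h => Blk.symm h⟩

theorem mono_cj_blk {ι : Type*} [DecidableEq ι] [Fintype ι] {σ : Equiv.Perm ι} {g : SpecialLinearGroup ι F}
    (hg : Mono σ g) {a b : ι} (hab : a ≠ b) : cj g (blk F a b) = blk F (σ a) (σ b) := by
  rw [← sup_XX_eq hab, cj_sup, hg.cj_XX hab, hg.cj_XX hab.symm, sup_XX_eq fun e => hab (σ.injective e)]

/-- All block subgroups `SL_2(F)` are conjugate. -/
theorem exists_cj_blk (a b c d : Fin (n + 1)) (hab : a ≠ b) (hcd : c ≠ d) :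
    ∃ g : SpecialLinearGroup (Fin (n + 1)) F, cj g (blk F a b) = blk F c d := by
  obtain ⟨σ, h1, h2⟩ := exists_perm_pair hab hcd
  have hσ : σ ∈ Submonoid.closure (Set.range fun i : Fin n ↦ Equiv.swap i.castSucc i.succ) := by
    rw [Equiv.Perm.mclosure_swap_castSucc_succ]
    exact Submonoid.mem_top _
  have key : ∀ σ ∈ Submonoid.closure (Set.range fun i : Fin n ↦ Equiv.swap i.castSucc i.succ),
      ∃ g : SpecialLinearGroup (Fin (n + 1)) F, Mono σ g := by
    intro σ hσ
    induction hσ using Submonoid.closure_induction with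
    | mem x hx =>
      obtain ⟨i, rfl⟩ := hx
      exact ⟨_, mono_ns i⟩
    | one => exact ⟨1, mono_one⟩
    | mul x y _ _ hx hy =>
      obtain ⟨g, hg⟩ := hx
      obtain ⟨k, hk⟩ := hy
      exact ⟨g * k, hg.mul hk⟩
  obtain ⟨g, hg⟩ := key σ hσ
  exact ⟨g, by rw [mono_cj_blk hg hab, h1, h2]⟩

/-- **The chart** of a group `G` which is the image of `SL_{n+1}(F)` under a homomorphism with central kernel: the
classical subgroups are the conjugates of the image of a block subgroup `SL_2(F)`. -/
noncomputable def chartA {p : ℕ} [hp : Fact p.Prime] [CharP F p] (h2 : p ≠ 2) (hn : 1 ≤ n)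
    (f : SpecialLinearGroup (Fin (n + 1)) F →* G) (hs : Function.Surjective f)
    (hf : f.ker ≤ Subgroup.center (SpecialLinearGroup (Fin (n + 1)) F)) (Om : Set (Subgroup G))
    (hcj : ∀ K ∈ Om, ∀ g, cj g K ∈ Om) (a b : Fin (n + 1)) (hab : a ≠ b) (hJ : KK f a b ∈ Om)
    (hOm : ∀ K ∈ Om, ∃ g, K = cj g (KK f a b)) : Chart Om p (⊤ : Subgroup G) :=
  haveI : NeZero n := ⟨by omega⟩
  { prime := hp.out
    odd := h2
    I := Fin n
    W := (cA n).Group
    M := cA n
    cs := (cA n).toCoxeterSystem
    A := AA n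
    h := isCartan n
    T := (T (Fin (n + 1)) F).map f
    n := fun i => f (ns n F i)
    X := fun x => (X F x).map f
    R := {x | IsRoot (cA n).toCoxeterSystem (isCartan n) x}
    Z := fun x => (X F x).map f
    z := fun x => f (zA F x)
    cls := cls_map_of_ker_le_center (cls _ _) f hf
    irr := irr
    ne := ⟨⟨0, by omega⟩⟩
    T_le := le_top
    gen := by rw [G1_map, G1_eq_top, Subgroup.map_top_of_surjective _ hs]
    trans := fun r hr s hs => trans _ _ hr hs
    Rne := ⟨_, isRoot_sr _ _ (0 : Fin n)⟩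
    om := by
      intro r hr
      obtain ⟨c, d, hcd, rfl⟩ := exists_of_isRoot _ _ hr
      rw [rtA_neg, X_rtA hcd, X_rtA hcd.symm, ← Subgroup.map_sup, sup_XX_eq hcd]
      obtain ⟨g, hg⟩ := exists_cj_blk (F := F) a b c d hab hcd
      rw [← hg, ← cj_map]
      exact hcj _ hJ _
    om_conj := by
      intro K hK _
      obtain ⟨g, hg⟩ := hOm K hK
      refine ⟨rtA a b, isRoot_rtA _ _ hab, g, Subgroup.mem_top _, ?_⟩
      rw [rtA_neg, X_rtA hab, X_rtA hab.symm, ← Subgroup.map_sup, sup_XX_eq hab]
      exact hg }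

end Chart

end Cfsg.Agent.Nodes.ChartTypeA
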