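import Mathlib
import Cfsg.Agent.Nodes.TypeC
import Cfsg.Agent.Nodes.Reps
import Cfsg.Agent.TitsThree.WittWeyl

/-!
Root groups of a Witt frame indexed by the roots of type `C_n` (project CIT, charts): definition,
conjugation by monomial isometries, commutator relations.
-/

set_option autoImplicit false

namespace Cfsg.Agent.Nodes.WittRoot

open Cfsg.Agent.ChevalleyStructure.CoxeterGeom Cfsg.Agent.Tits.Roots Cfsg.Agent.Nodes.TypeC
open Cfsg.Agent.Nodes.Comb Cfsg.Agent.Nodes.Reps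
open Cfsg.Agent.TitsThree.Siegel Cfsg.Agent.TitsThree.WittFrame Cfsg.Agent.TitsThree.WittWeyl
open scoped commutatorElement

variable {F : Type*} [Field F] {V : Type*} [AddCommGroup V] [Module F V] {H : HForm F V} {n : ℕ}
  (Fr : Frame H (Fin n))

/-! ### Root groups -/

/-- Root groups of type I. -/
def XG (a b : Fin n × Bool) : Subgroup (V ≃ₗ[F] V) where
  carrier := {g | ∃ t, g = Fr.X a b t}
  one_mem' := ⟨0, (Fr.X_zero a b).symm⟩
  mul_mem' := by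
    rintro _ _ ⟨s, rfl⟩ ⟨t, rfl⟩
    exact ⟨s + t, (Fr.X_add a b s t).symm⟩
  inv_mem' := by
    rintro _ ⟨t, rfl⟩
    exact ⟨-t, (Fr.X_neg a b t).symm⟩

/-- Root groups of type II. -/
def ZG (a : Fin n × Bool) : Subgroup (V ≃ₗ[F] V) where
  carrier := {g | ∃ p, g = Fr.Z a p}
  one_mem' := ⟨1, (Fr.Z_one a).symm⟩
  mul_mem' := by
    rintro _ _ ⟨s, rfl⟩ ⟨t, rfl⟩
    exact ⟨s * t, (Fr.Z_mul a s t).symm⟩
  inv_mem' := by
    rintro _ ⟨t, rfl⟩
    exact ⟨t⁻¹, (Fr.Z_inv a t).symm⟩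

theorem mem_XG {a b : Fin n × Bool} {g : V ≃ₗ[F] V} : g ∈ XG Fr a b ↔ ∃ t, g = Fr.X a b t := Iff.rfl
theorem mem_ZG {a : Fin n × Bool} {g : V ≃ₗ[F] V} : g ∈ ZG Fr a ↔ ∃ p, g = Fr.Z a p := Iff.rfl

theorem XG_swap {a b : Fin n × Bool} (h : a.1 ≠ b.1) : XG Fr a b = XG Fr b a := by
  apply le_antisymm
  · rintro _ ⟨t, rfl⟩; exact ⟨_, Fr.X_swap h t⟩
  · rintro _ ⟨t, rfl⟩; exact ⟨_, Fr.X_swap h.symm t⟩

/-- The root group of a pair of signed indices. -/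
def PG (a b : Fin n × Bool) : Subgroup (V ≃ₗ[F] V) := if a = b then ZG Fr a else XG Fr a b

theorem PG_self (a : Fin n × Bool) : PG Fr a a = ZG Fr a := if_pos rfl
theorem PG_ne {a b : Fin n × Bool} (h : a.1 ≠ b.1) : PG Fr a b = XG Fr a b :=
  if_neg fun h' => h (congrArg Prod.fst h')

theorem PG_swap {a b : Fin n × Bool} (h : Ok a b) : PG Fr a b = PG Fr b a := by
  rcases h with h | rfl
  · rw [PG_ne Fr h, PG_ne Fr h.symm, XG_swap Fr h]
  · rfl

/-- The root group of a root. -/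
def rg (x : Fin n → ℤ) : Subgroup (V ≃ₗ[F] V) :=
  ⨆ q : {q : (Fin n × Bool) × (Fin n × Bool) // Ok q.1 q.2 ∧ ee x = wt q.1 + wt q.2}, PG Fr q.1.1 q.1.2

theorem rg_eq {x : Fin n → ℤ} {a b : Fin n × Bool} (hab : Ok a b) (e : ee x = wt a + wt b) :
    rg Fr x = PG Fr a b := by
  apply le_antisymm
  · refine iSup_le ?_
    rintro ⟨⟨c, d⟩, hcd, e'⟩
    rcases wt_add_eq hab hcd (e.symm.trans e') with ⟨rfl, rfl⟩ | ⟨rfl, rfl⟩
    · exact le_rfl
    · exact (PG_swap Fr hcd).le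
  · exact le_iSup (fun q : {q : (Fin n × Bool) × (Fin n × Bool) // Ok q.1 q.2 ∧ ee x = wt q.1 + wt q.2} =>
      PG Fr q.1.1 q.1.2) ⟨(a, b), hab, e⟩

/-! ### Monomial isometries -/

/-- `g` permutes the lines of the frame according to `π`. -/
def Mono (g : V ≃ₗ[F] V) (π : Fin n × Bool → Fin n × Bool) : Prop :=
  ∀ x, ∃ l : F, l ≠ 0 ∧ g (Fr.b x) = l • Fr.b (π x)

variable {Fr}

theorem Mono.one : Mono Fr (1 : V ≃ₗ[F] V) id := fun x => ⟨1, one_ne_zero, by rw [one_smul]; rfl⟩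

theorem Mono.mul {g k : V ≃ₗ[F] V} {π ρ : Fin n × Bool → Fin n × Bool} (hg : Mono Fr g π) (hk : Mono Fr k ρ) :
    Mono Fr (g * k) (fun x => π (ρ x)) := by
  intro x
  obtain ⟨l, hl, e⟩ := hk x
  obtain ⟨m, hm, e'⟩ := hg (ρ x)
  exact ⟨l * m, mul_ne_zero hl hm, by rw [mul_apply', e, map_smul, e', smul_smul]⟩

theorem Mono.inv {g : V ≃ₗ[F] V} {π ρ : Fin n × Bool → Fin n × Bool} (hg : Mono Fr g π) (hρ : ∀ x, π (ρ x) = x) :
    Mono Fr g⁻¹ ρ := by
  intro x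
  obtain ⟨l, hl, e⟩ := hg (ρ x)
  rw [hρ] at e
  refine ⟨l⁻¹, inv_ne_zero hl, ?_⟩
  have h1 : g⁻¹ (g (Fr.b (ρ x))) = Fr.b (ρ x) := by
    rw [← mul_apply', inv_mul_cancel]; rfl
  rw [e, map_smul] at h1
  rw [← h1, smul_smul, inv_mul_cancel₀ hl, one_smul]

theorem Mono.pow {g : V ≃ₗ[F] V} {π : Fin n × Bool → Fin n × Bool} (hg : Mono Fr g π) (m : ℕ) :
    Mono Fr (g ^ m) (π^[m]) := by
  induction m with
  | zero => exact Mono.one
  | succ m ih =>
    rw [pow_succ', Function.iterate_succ']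
    exact hg.mul ih

theorem Mono.congr {g : V ≃ₗ[F] V} {π ρ : Fin n × Bool → Fin n × Bool} (hg : Mono Fr g π) (h : ∀ x, π x = ρ x) :
    Mono Fr g ρ := by
  intro x
  rw [← h x]
  exact hg x

variable (Fr)

/-- A group of isometries containing the root elements of a frame with anisotropic part. -/
structure Amb (G0 : Subgroup (V ≃ₗ[F] V)) : Prop where
  iso : ∀ g ∈ G0, H.IsIso g
  ok : ∀ g ∈ G0, ∀ w c, Fr.ok w c → g w ∈ Fr.V0 → Fr.ok (g w) c
  X_mem : ∀ a b t, Fr.X a b t ∈ G0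
  Z_mem : ∀ a p, Fr.Z a p ∈ G0
  V0 : ∀ v, (∀ x, H.h v (Fr.b x) = 0) → v ∈ Fr.V0
  aniso : ∀ v ∈ Fr.V0, H.h v v = 0 → v = 0
  ok_aniso : ∀ w, Fr.ok w 0 → w = 0

variable {Fr} {G0 : Subgroup (V ≃ₗ[F] V)} (hA : Amb Fr G0)

include hA

/-- A monomial element preserves `V0`. -/
theorem Amb.map_V0 {g : V ≃ₗ[F] V} (hg : g ∈ G0) {π ρ : Fin n × Bool → Fin n × Bool} (hm : Mono Fr g π)
    (hρ : ∀ x, π (ρ x) = x) {w : V} (hw : w ∈ Fr.V0) : g w ∈ Fr.V0 := by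
  apply hA.V0
  intro x
  obtain ⟨l, hl, e⟩ := hm (ρ x)
  rw [hρ] at e
  have h1 : Fr.b x = l⁻¹ • g (Fr.b (ρ x)) := by rw [e, smul_smul, inv_mul_cancel₀ hl, one_smul]
  rw [h1, H.smul_right, hA.iso g hg, Fr.h0' _ hw, mul_zero]

theorem Amb.exists_adm {g : V ≃ₗ[F] V} (hg : g ∈ G0) {π ρ : Fin n × Bool → Fin n × Bool} (hm : Mono Fr g π)
    (hρ : ∀ x, π (ρ x) = x) (p : Fr.Adm) : ∃ q : Fr.Adm, g p.w = q.w ∧ p.c = q.c :=
  ⟨⟨g p.w, p.c, hA.ok g hg _ _ p.ok (hA.map_V0 hg hm hρ (Fr.ok_mem p.ok))⟩, rfl, rfl⟩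

theorem Amb.conj_PG {g : V ≃ₗ[F] V} (hg : g ∈ G0) {π ρ : Fin n × Bool → Fin n × Bool} (hm : Mono Fr g π)
    (hρ : ∀ x, π (ρ x) = x) {a b : Fin n × Bool} (hab : Ok a b) (hab' : Ok (π a) (π b))
    (hne : a.1 ≠ b.1 → (π a).1 ≠ (π b).1) : cj g (PG Fr a b) ≤ PG Fr (π a) (π b) := by
  rintro u hu
  rw [mem_cj] at hu
  have e0 : u = g * (g⁻¹ * u * g) * g⁻¹ := by group
  rcases hab with h | rfl
  · rw [PG_ne Fr h] at hu
    obtain ⟨t, ht⟩ := hu
    obtain ⟨l, -, hl⟩ := hm a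
    obtain ⟨m, -, hm'⟩ := hm b
    rw [e0, ht, conj_X Fr (hA.iso g hg) h (hne h) hl hm', PG_ne Fr (hne h)]
    exact ⟨_, rfl⟩
  · rw [PG_self] at hu ⊢
    obtain ⟨p, hp⟩ := hu
    obtain ⟨l, -, hl⟩ := hm a
    obtain ⟨q, hq, hq'⟩ := hA.exists_adm hg hm hρ p
    rw [e0, hp, conj_Z Fr (hA.iso g hg) hl p q hq hq']
    exact ⟨_, rfl⟩

/-- Conjugation of the root groups by a monomial element inducing `sg i`. -/
theorem Amb.cj_sg {g : V ≃ₗ[F] V} (hg : g ∈ G0) {i : Fin n} (hm : Mono Fr g (sg i)) {a b : Fin n × Bool}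
    (hab : Ok a b) : cj g (PG Fr a b) = PG Fr (sg i a) (sg i b) := by
  have hm' : Mono Fr g⁻¹ (sg i) := hm.inv (sg_sg i)
  apply le_antisymm
  · exact hA.conj_PG hg hm (sg_sg i) hab (hab.sg i) fun h h' => h ((sg_fst_eq i).1 h')
  · have h1 := hA.conj_PG (inv_mem hg) hm' (sg_sg i) (hab.sg i) ((hab.sg i).sg i) fun h h' => h ((sg_fst_eq i).1 h')
    rw [sg_sg, sg_sg] at h1
    have h2 := cj_mono g h1
    rwa [cj_cj_inv] at h2

/-- Conjugation of the root groups by a diagonal element. -/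
theorem Amb.cj_id {g : V ≃ₗ[F] V} (hg : g ∈ G0) (hm : Mono Fr g id) {a b : Fin n × Bool}
    (hab : Ok a b) : cj g (PG Fr a b) = PG Fr a b := by
  have hm' : Mono Fr g⁻¹ id := hm.inv fun _ => rfl
  apply le_antisymm
  · exact hA.conj_PG hg hm (ρ := id) (fun _ => rfl) hab hab fun h => h
  · have h1 := hA.conj_PG (inv_mem hg) hm' (ρ := id) (fun _ => rfl) hab hab fun h => h
    have h2 := cj_mono g h1
    rwa [cj_cj_inv] at h2

theorem Amb.PG_le {a b : Fin n × Bool} : PG Fr a b ≤ G0 := by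
  unfold PG
  split_ifs
  · rintro _ ⟨p, rfl⟩; exact hA.Z_mem _ _
  · rintro _ ⟨t, rfl⟩; exact hA.X_mem _ _ _

theorem Amb.rg_le (x : Fin n → ℤ) : rg Fr x ≤ G0 := iSup_le fun _ => hA.PG_le

omit hA

/-! ### Commutators -/

section Comm

variable {W : Type*} [Group W] (cs : CoxeterSystem (CoxeterMatrix.B n) W)

theorem PG_le_btw {x y : Fin n → ℤ} {u v : Fin n × Bool} (huv : Ok u v) {m c d : ℤ} (hm : 0 < m) (hc : 0 < c)
    (hd : 0 < d) (e : m • (wt u + wt v) = c • ee x + d • ee y) :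
    PG Fr u v ≤ btw cs (isCartan n) (rg Fr) x y := by
  obtain ⟨z, hz, ez⟩ := rt_of_ok (cs := cs) huv
  rw [← rg_eq Fr huv ez]
  refine le_btw_of ⟨hz, m, c, d, hm, hc, hd, ee_injective ?_⟩
  rw [ee_smul, ee_add, ee_smul, ee_smul, ez, e]

theorem comm_ZZ {x y : Fin n → ℤ} {a b : Fin n × Bool} (hab : a.1 ≠ b.1) (ex : ee x = wt a + wt a)
    (ey : ee y = wt b + wt b) {g k : V ≃ₗ[F] V} (hg : g ∈ ZG Fr a) (hk : k ∈ ZG Fr b) :
    ⁅g, k⁆ ∈ btw cs (isCartan n) (rg Fr) x y := by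
  obtain ⟨p, rfl⟩ := hg
  obtain ⟨q, rfl⟩ := hk
  refine PG_le_btw cs (u := a) (v := b) (Or.inl hab) (m := 2) (c := 1) (d := 1) (by norm_num) one_pos one_pos ?_ ?_
  · rw [ex, ey, one_smul, one_smul, two_smul]; abel
  · rw [PG_ne Fr hab, commutatorElement_def, Fr.Z_mul_Z hab]
    exact ⟨-(Fr.η b * H.σ (H.h p.w q.w)), by group⟩

theorem comm_XZ {x y : Fin n → ℤ} {a b : Fin n × Bool} (hab : a.1 ≠ b.1) (ex : ee x = wt a + wt (ng b))
    (ey : ee y = wt b + wt b) {g k : V ≃ₗ[F] V} (hg : g ∈ XG Fr a (ng b)) (hk : k ∈ ZG Fr b) :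
    ⁅g, k⁆ ∈ btw cs (isCartan n) (rg Fr) x y := by
  obtain ⟨t, rfl⟩ := hg
  obtain ⟨p, rfl⟩ := hk
  have e1 := Fr.conj_X_Z hab t p
  have e2 : ⁅Fr.X a (ng b) t, Fr.Z b p⁆ = Fr.Z a (Frame.Adm.smul (H.σ t) p) *
      Fr.X a b (-(H.ε⁻¹ * Fr.η b * H.σ p.c * t)) := by
    rw [commutatorElement_def]
    have e3 : Fr.X a (ng b) t * Fr.Z b p * (Fr.X a (ng b) t)⁻¹ = _ := e1
    rw [e3]; group
  rw [e2]
  refine mul_mem ?_ ?_
  · refine PG_le_btw cs (u := a) (v := a) (Or.inr rfl) (m := 1) (c := 2) (d := 1) one_pos (by norm_num) one_pos ?_ ?_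
    · rw [ex, ey, one_smul, one_smul, two_smul, wt_ng]; abel
    · rw [PG_self]; exact ⟨_, rfl⟩
  · refine PG_le_btw cs (u := a) (v := b) (Or.inl hab) (m := 1) (c := 1) (d := 1) one_pos one_pos one_pos ?_ ?_
    · rw [ex, ey, one_smul, one_smul, one_smul, wt_ng]; abel
    · rw [PG_ne Fr hab]; exact ⟨_, rfl⟩

theorem comm_XX_ne {x y : Fin n → ℤ} {a b d : Fin n × Bool} (hab : a.1 ≠ b.1) (hbd : b.1 ≠ d.1) (had : a.1 ≠ d.1)
    (ex : ee x = wt a + wt b) (ey : ee y = wt (ng b) + wt d) {g k : V ≃ₗ[F] V} (hg : g ∈ XG Fr a b)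
    (hk : k ∈ XG Fr (ng b) d) : ⁅g, k⁆ ∈ btw cs (isCartan n) (rg Fr) x y := by
  obtain ⟨s, rfl⟩ := hg
  obtain ⟨t, rfl⟩ := hk
  have e1 := Fr.conj_X_X hab hbd had s t
  have e2 : ⁅Fr.X a b s, Fr.X (ng b) d t⁆ = Fr.X a d (s * t) := by
    rw [commutatorElement_def]
    have e3 : Fr.X a b s * Fr.X (ng b) d t * (Fr.X a b s)⁻¹ = _ := e1
    rw [e3]
    exact mul_inv_cancel_right _ _
  rw [e2]
  refine PG_le_btw cs (u := a) (v := d) (Or.inl had) (m := 1) (c := 1) (d := 1) one_pos one_pos one_pos ?_ ?_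
  · rw [ex, ey, one_smul, one_smul, one_smul, wt_ng]; abel
  · rw [PG_ne Fr had]; exact ⟨_, rfl⟩

theorem comm_XX_eq {x y : Fin n → ℤ} {a b : Fin n × Bool} (hab : a.1 ≠ b.1)
    (ex : ee x = wt a + wt b) (ey : ee y = wt a + wt (ng b)) {g k : V ≃ₗ[F] V} (hg : g ∈ XG Fr a b)
    (hk : k ∈ XG Fr a (ng b)) : ⁅g, k⁆ ∈ btw cs (isCartan n) (rg Fr) x y := by
  obtain ⟨s, rfl⟩ := hg
  obtain ⟨t, rfl⟩ := hk
  have e1 := Fr.X_mul_X_same hab s t
  have e2 : ⁅Fr.X a b s, Fr.X a (ng b) t⁆ = Fr.Z a (Frame.Adm.tr (H.σ s * t * (Fr.η (neg b))⁻¹)) := by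
    rw [commutatorElement_def]
    have e3 : Fr.X a b s * Fr.X a (ng b) t = _ := e1
    rw [e3]
    show _ * (Fr.X a (ng b) t * Fr.X a b s) * (Fr.X a b s)⁻¹ * (Fr.X a (ng b) t)⁻¹ = _
    group
  rw [e2]
  refine PG_le_btw cs (u := a) (v := a) (Or.inr rfl) (m := 1) (c := 1) (d := 1) one_pos one_pos one_pos ?_ ?_
  · rw [ex, ey, one_smul, one_smul, one_smul, wt_ng]; abel
  · rw [PG_self]; exact ⟨_, rfl⟩

/-- commutators of two root groups of type I -/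
theorem comm_XX {x y : Fin n → ℤ} {a b c d : Fin n × Bool} (hab : a.1 ≠ b.1) (hcd : c.1 ≠ d.1) (hc : c = ng b)
    (ex : ee x = wt a + wt b) (ey : ee y = wt c + wt d) (hxy : x ≠ -y) {g k : V ≃ₗ[F] V} (hg : g ∈ XG Fr a b)
    (hk : k ∈ XG Fr c d) : ⁅g, k⁆ ∈ btw cs (isCartan n) (rg Fr) x y := by
  subst hc
  by_cases had : a.1 = d.1
  · by_cases had' : d = a
    · subst had'
      rw [XG_swap Fr hcd] at hk
      exact comm_XX_eq cs hab ex (by rw [ey, add_comm]) hg hk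
    · exfalso
      have h1 : d = ng a := by
        obtain ⟨a, s⟩ := a
        obtain ⟨d, t⟩ := d
        simp only at had
        subst had
        cases s <;> cases t <;> simp_all [ng]
      apply hxy
      apply ee_injective
      rw [ee_neg, ex, ey, h1, wt_ng, wt_ng]; abel
  · exact comm_XX_ne cs hab hcd had ex ey hg hk

theorem comm_rg {x y : Fin n → ℤ} (hx : IsRoot cs (isCartan n) x) (hy : IsRoot cs (isCartan n) y) (hxy : x ≠ y)
    (hxy' : x ≠ -y) {g k : V ≃ₗ[F] V} (hg : g ∈ rg Fr x) (hk : k ∈ rg Fr y) :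
    ⁅g, k⁆ ∈ btw cs (isCartan n) (rg Fr) x y := by
  obtain ⟨a, b, hab, ex⟩ := exists_of_isRoot cs hx
  obtain ⟨c, d, hcd, ey⟩ := exists_of_isRoot cs hy
  rw [rg_eq Fr hab ex] at hg
  rw [rg_eq Fr hcd ey] at hk
  have hsymm : ⁅k, g⁆ ∈ btw cs (isCartan n) (rg Fr) y x → ⁅g, k⁆ ∈ btw cs (isCartan n) (rg Fr) x y := by
    intro h1
    have h2 : ⁅g, k⁆ = ⁅k, g⁆⁻¹ := (commutatorElement_inv k g).symm
    rw [h2]
    refine inv_mem ?_
    refine (iSup_le fun z => ?_ : btw cs (isCartan n) (rg Fr) y x ≤ _) h1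
    exact le_btw_of z.2.symm
  rcases hab with hab | rfl
  · rcases hcd with hcd | rfl
    · rw [PG_ne Fr hab] at hg
      rw [PG_ne Fr hcd] at hk
      by_cases h1 : c = ng b
      · exact comm_XX cs hab hcd h1 ex ey hxy' hg hk
      by_cases h2 : c = ng a
      · rw [XG_swap Fr hab] at hg
        exact comm_XX cs hab.symm hcd h2 (by rw [ex, add_comm]) ey hxy' hg hk
      by_cases h3 : d = ng b
      · rw [XG_swap Fr hcd] at hk
        exact comm_XX cs hab hcd.symm h3 ex (by rw [ey, add_comm]) hxy' hg hk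
      by_cases h4 : d = ng a
      · rw [XG_swap Fr hab] at hg
        rw [XG_swap Fr hcd] at hk
        exact comm_XX cs hab.symm hcd.symm h4 (by rw [ex, add_comm]) (by rw [ey, add_comm]) hxy' hg hk
      obtain ⟨s, rfl⟩ := hg
      obtain ⟨t, rfl⟩ := hk
      rw [commutatorElement_eq_one_iff_commute.2 (Fr.commute_XX (x := a) (y := b) (z := c) (u := d) h2 h1 h4 h3 s t)]
      exact one_mem _
    · rw [PG_ne Fr hab] at hg
      rw [PG_self] at hk
      by_cases h1 : b = ng c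
      · subst h1
        exact comm_XZ (a := a) (b := c) cs hab ex ey hg hk
      by_cases h2 : a = ng c
      · subst h2
        rw [XG_swap Fr hab] at hg
        exact comm_XZ (a := b) (b := c) cs hab.symm (by rw [ex, add_comm]) ey hg hk
      obtain ⟨t, rfl⟩ := hg
      obtain ⟨p, rfl⟩ := hk
      rw [commutatorElement_eq_one_iff_commute.2 (Fr.commute_ZX (x := c) (y := a) (z := b) h2 h1 p t).symm]
      exact one_mem _
  · rcases hcd with hcd | rfl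
    · rw [PG_self] at hg
      rw [PG_ne Fr hcd] at hk
      apply hsymm
      by_cases h1 : d = ng a
      · subst h1
        exact comm_XZ (a := c) (b := a) cs hcd ey ex hk hg
      by_cases h2 : c = ng a
      · subst h2
        rw [XG_swap Fr hcd] at hk
        exact comm_XZ (a := d) (b := a) cs hcd.symm (by rw [ey, add_comm]) ex hk hg
      obtain ⟨t, rfl⟩ := hk
      obtain ⟨p, rfl⟩ := hg
      rw [commutatorElement_eq_one_iff_commute.2 (Fr.commute_ZX (x := a) (y := c) (z := d) h2 h1 p t).symm]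
      exact one_mem _
    · rw [PG_self] at hg hk
      have hne : a.1 ≠ c.1 := by
        intro h1
        by_cases h2 : a = c
        · subst h2
          exact hxy (ee_injective (ex.trans ey.symm))
        · have h3 : a = ng c := by
            obtain ⟨a, s⟩ := a
            obtain ⟨c, t⟩ := c
            simp only at h1
            subst h1
            cases s <;> cases t <;> simp_all [ng]
          apply hxy'
          apply ee_injective
          rw [ee_neg, ex, ey, h3, wt_ng]; abel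
      exact comm_ZZ cs hne ex ey hg hk

end Comm

end Cfsg.Agent.Nodes.WittRoot
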