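import Mathlib
import Cfsg.Agent.Nodes.WittRoot
import Cfsg.Agent.Nodes.BNOf

/-!
Every Witt frame with anisotropic part gives a root group datum of type `C_n` (project CIT, charts):
`Amb.rgd`.
-/

set_option autoImplicit false

namespace Cfsg.Agent.Nodes.WittRGD

open Cfsg.Agent.ChevalleyStructure.CoxeterGeom Cfsg.Agent.Tits.Roots Cfsg.Agent.Nodes.TypeC
open Cfsg.Agent.Nodes.Comb Cfsg.Agent.Nodes.Reps Cfsg.Agent.Nodes.WittRoot Cfsg.Agent.Nodes.BNOf
open Cfsg.Agent.TitsThree Cfsg.Agent.TitsThree.Siegel Cfsg.Agent.TitsThree.WittFrame Cfsg.Agent.TitsThree.WittWeyl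
open scoped commutatorElement

variable {F : Type*} [Field F] {V : Type*} [AddCommGroup V] [Module F V] {H : HForm F V} {n : ℕ}
  (Fr : Frame H (Fin n)) (G0 : Subgroup (V ≃ₗ[F] V))

/-- The torus: elements of the ambient group fixing all lines of the frame. -/
def Tor : Subgroup (V ≃ₗ[F] V) where
  carrier := {g | g ∈ G0 ∧ Mono Fr g id}
  one_mem' := ⟨one_mem _, Mono.one⟩
  mul_mem' := fun ⟨h1, h2⟩ ⟨h3, h4⟩ => ⟨mul_mem h1 h3, h2.mul h4⟩
  inv_mem' := fun ⟨h1, h2⟩ => ⟨inv_mem h1, h2.inv fun _ => rfl⟩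

theorem mem_Tor {g : V ≃ₗ[F] V} : g ∈ Tor Fr G0 ↔ g ∈ G0 ∧ Mono Fr g id := Iff.rfl

/-- The Weyl elements. -/
noncomputable def nn (p0 : Fr.Adm) (i : Fin n) : V ≃ₗ[F] V :=
  if (i : ℕ) + 1 < n then nX Fr (i, true) (nx i) 1 else nZ Fr (i, true) p0

theorem eq_or_ng {a b : Fin n × Bool} (h : a.1 = b.1) : a = b ∨ a = ng b := by
  obtain ⟨a, s⟩ := a
  obtain ⟨b, t⟩ := b
  simp only at h
  subst h
  cases s <;> cases t <;> simp [ng]

variable {Fr G0}

theorem mono_nX {i : Fin n} (hi : (i : ℕ) + 1 < n) {t : F} (ht : t ≠ 0) :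
    Mono Fr (nX Fr (i, true) (nx i) t) (sg i) := by
  have hne : ((i, true) : Fin n × Bool).1 ≠ (nx i).1 := by
    unfold nx; rw [dif_pos hi]; simp [Fin.ext_iff]
  have hnx : nx i = (⟨i + 1, hi⟩, false) := by unfold nx; rw [dif_pos hi]
  have h3 := H.ε_ne
  have hσ : H.σ t ≠ 0 := by simpa using ht
  intro x
  by_cases h1 : x.1 = i
  · obtain ⟨j, s⟩ := x
    simp only at h1
    subst h1
    rw [sg_up hi]
    cases s
    · -- `b (j, false) = b (neg a)`
      have e := nX_apply_neg' Fr hne ht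
      have e1 : neg ((j, true) : Fin n × Bool) = (j, false) := rfl
      rw [e1, hnx] at e
      rw [hnx]
      refine ⟨_, ?_, e.trans (neg_smul _ _).symm⟩
      exact neg_ne_zero.2 (mul_ne_zero (mul_ne_zero (mul_ne_zero (inv_ne_zero h3) (Fr.η_ne _)) (Fr.η_ne _)) hσ)
    · have e := nX_apply_self Fr hne ht
      have e1 : neg (nx j) = ((⟨j + 1, hi⟩, true) : Fin n × Bool) := by rw [hnx]; rfl
      rw [e1] at e
      refine ⟨-t⁻¹, neg_ne_zero.2 (inv_ne_zero ht), e.trans ?_⟩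
      rw [neg_smul]
  · by_cases h2 : x.1 = ⟨i + 1, hi⟩
    · obtain ⟨j, s⟩ := x
      simp only at h2
      subst h2
      rw [sg_down hi]
      cases s
      · have e := nX_apply_self' Fr hne ht
        have e1 : neg ((i, true) : Fin n × Bool) = (i, false) := rfl
        rw [e1] at e
        have e2 : Fr.b ((⟨i + 1, hi⟩, false) : Fin n × Bool) = Fr.b (nx i) := by rw [hnx]
        refine ⟨_, ?_, (congrArg _ e2).trans e⟩
        exact inv_ne_zero (mul_ne_zero (mul_ne_zero (mul_ne_zero (inv_ne_zero h3) (Fr.η_ne _)) (Fr.η_ne _)) hσ)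
      · have e := nX_apply_neg Fr hne ht
        have e1 : neg (nx i) = ((⟨i + 1, hi⟩, true) : Fin n × Bool) := by rw [hnx]; rfl
        rw [e1] at e
        exact ⟨t, ht, e⟩
    · have e := nX_apply_of_ne Fr hne (z := x) h1 (by rw [hnx]; exact h2) t
      refine ⟨1, one_ne_zero, ?_⟩
      rw [one_smul, sg_of_ne h1 (fun h' => h2 (Fin.ext h'))]
      exact e

theorem mono_nZ {i : Fin n} (hi : ¬ (i : ℕ) + 1 < n) {p : Fr.Adm} (hp : p.c ≠ 0) :
    Mono Fr (nZ Fr (i, true) p) (sg i) := by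
  have h3 := H.ε_ne
  have hσ : H.σ p.c ≠ 0 := by simpa using hp
  have hη := Fr.η_ne (i, true)
  intro x
  by_cases h1 : x.1 = i
  · obtain ⟨j, s⟩ := x
    simp only at h1
    subst h1
    rw [sg_last hi]
    cases s
    · exact ⟨Fr.η (j, true) * p.c, mul_ne_zero hη hp, nZ_apply_neg Fr (j, true) p hp⟩
    · exact ⟨_, by simp [*], nZ_apply_self Fr (j, true) p hp⟩
  · refine ⟨1, one_ne_zero, ?_⟩
    rw [one_smul, sg_of_ne h1 (fun h' => by have := x.1.2; omega)]
    exact nZ_apply_of_ne Fr (x := (i, true)) (z := x) h1 p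

theorem mono_nn {p0 : Fr.Adm} (hp0 : p0.c ≠ 0) (i : Fin n) : Mono Fr (nn Fr p0 i) (sg i) := by
  unfold nn
  split_ifs with h
  · exact mono_nX h one_ne_zero
  · exact mono_nZ h hp0

variable (hA : Amb Fr G0)

include hA

theorem nX_mem (a b : Fin n × Bool) (t : F) : nX Fr a b t ∈ G0 :=
  mul_mem (mul_mem (hA.X_mem _ _ _) (hA.X_mem _ _ _)) (hA.X_mem _ _ _)

theorem nZ_mem (a : Fin n × Bool) (p : Fr.Adm) : nZ Fr a p ∈ G0 :=
  mul_mem (mul_mem (hA.Z_mem _ _) (hA.Z_mem _ _)) (hA.Z_mem _ _)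

theorem nn_mem (p0 : Fr.Adm) (i : Fin n) : nn Fr p0 i ∈ G0 := by
  unfold nn
  split_ifs
  · exact nX_mem hA _ _ _
  · exact nZ_mem hA _ _

theorem tor_of_mono {g k : V ≃ₗ[F] V} (hg : g ∈ G0) (hk : k ∈ G0) {i : Fin n} (h1 : Mono Fr g (sg i))
    (h2 : Mono Fr k (sg i)) : g * k⁻¹ ∈ Tor Fr G0 :=
  ⟨mul_mem hg (inv_mem hk), (h1.mul (h2.inv (sg_sg i))).congr fun x => sg_sg i x⟩

theorem nsys {p0 : Fr.Adm} (hp0 : p0.c ≠ 0) : NSys (CoxeterMatrix.B n) (Tor Fr G0) (nn Fr p0) where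
  norm i := by
    have key : ∀ g : V ≃ₗ[F] V, g ∈ G0 → Mono Fr g (sg i) → ∀ t ∈ Tor Fr G0, g * t * g⁻¹ ∈ Tor Fr G0 := by
      intro g hg hm t ht
      refine ⟨mul_mem (mul_mem hg ht.1) (inv_mem hg), ?_⟩
      exact ((hm.mul ht.2).mul (hm.inv (sg_sg i))).congr fun x => sg_sg i x
    rw [Subgroup.mem_normalizer_iff]
    intro t
    refine ⟨fun ht => key _ (nn_mem hA p0 i) (mono_nn hp0 i) t ht, fun ht => ?_⟩
    have h1 := key _ (inv_mem (nn_mem hA p0 i)) ((mono_nn hp0 i).inv (sg_sg i)) _ ht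
    have h2 : (nn Fr p0 i)⁻¹ * (nn Fr p0 i * t * (nn Fr p0 i)⁻¹) * (nn Fr p0 i)⁻¹⁻¹ = t := by group
    rwa [h2] at h1
  rel i j := by
    refine ⟨pow_mem (mul_mem (nn_mem hA p0 i) (nn_mem hA p0 j)) _, ?_⟩
    exact (((mono_nn hp0 i).mul (mono_nn hp0 j)).pow _).congr fun x => sg_braid i j x

/-! ### Rank one -/

omit hA in
theorem ee_neg_sr (i : Fin n) : ee (-sr i) = wt (ng (i, true)) + wt (ng (nx i)) := by
  rw [ee_neg, ee_sr, bt, wt_ng, wt_ng]; abel

omit hA in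
theorem rg_sr (i : Fin n) : rg Fr (sr i) = PG Fr (i, true) (nx i) := rg_eq Fr (ok_nx i) (ee_sr i)

omit hA in
theorem rg_neg_sr (i : Fin n) : rg Fr (-sr i) = PG Fr (ng (i, true)) (ng (nx i)) :=
  rg_eq Fr (ok_nx i).ng (ee_neg_sr i)

theorem rk1 {p0 : Fr.Adm} (hp0 : p0.c ≠ 0) (i : Fin n) {u : V ≃ₗ[F] V} (hu : u ∈ rg Fr (-sr i)) (hne : u ≠ 1) :
    ∃ a ∈ rg Fr (sr i), ∃ t ∈ Tor Fr G0, ∃ b ∈ rg Fr (sr i), u = a * t * nn Fr p0 i * b := by
  rw [rg_neg_sr] at hu
  rw [rg_sr]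
  by_cases hi : (i : ℕ) + 1 < n
  · have hnx : nx i = (⟨i + 1, hi⟩, false) := by unfold nx; rw [dif_pos hi]
    have hne' : ((i, true) : Fin n × Bool).1 ≠ (nx i).1 := by rw [hnx]; simp [Fin.ext_iff]
    rw [PG_ne Fr (a := ng (i, true)) (b := ng (nx i)) hne', XG_swap Fr (a := ng (i, true)) (b := ng (nx i)) hne'] at hu
    rw [PG_ne Fr hne']
    obtain ⟨s, rfl⟩ := hu
    have hs : s ≠ 0 := by rintro rfl; exact hne (Fr.X_zero _ _)
    have ht : -s⁻¹ ≠ 0 := neg_ne_zero.2 (inv_ne_zero hs)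
    refine ⟨Fr.X (i, true) (nx i) s⁻¹, ⟨_, rfl⟩, nX Fr (i, true) (nx i) (-s⁻¹) * (nn Fr p0 i)⁻¹,
      tor_of_mono hA (nX_mem hA _ _ _) (nn_mem hA _ _) (mono_nX hi ht) (mono_nn hp0 i),
      Fr.X (i, true) (nx i) s⁻¹, ⟨_, rfl⟩, ?_⟩
    have e1 : Fr.X (i, true) (nx i) s⁻¹ = (Fr.X (i, true) (nx i) (-s⁻¹))⁻¹ := by
      rw [← Fr.X_neg, _root_.neg_neg]
    have e2 : -(-s⁻¹)⁻¹ = s := by rw [inv_neg, inv_inv, _root_.neg_neg]
    rw [e1, nX, e2]
    show Fr.X (neg (nx i)) (neg (i, true)) s = _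
    group
  · have hnx : nx i = (i, true) := by unfold nx; rw [dif_neg hi]
    rw [hnx, PG_self] at hu ⊢
    obtain ⟨q, rfl⟩ := hu
    have hη := Fr.η_ne (i, true)
    have hq : q.c ≠ 0 := by
      intro h0
      apply hne
      have hw : q.w = 0 := hA.ok_aniso _ (by have := q.ok; rwa [h0] at this)
      have : q = 1 := by ext <;> simp [hw, h0]
      rw [this, Fr.Z_one]
    set μ : F := -(Fr.η (i, true) * q.c)⁻¹ with hμ
    have hμ0 : μ ≠ 0 := neg_ne_zero.2 (inv_ne_zero (mul_ne_zero hη hq))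
    have hσμ : H.σ μ ≠ 0 := by simpa using hμ0
    have hσq : H.σ q.c ≠ 0 := by simpa using hq
    set p : Fr.Adm := Frame.Adm.smul μ q with hp
    have hpc : p.c = μ * H.σ μ * q.c := rfl
    have hp' : p.c ≠ 0 := by rw [hpc]; exact mul_ne_zero (mul_ne_zero hμ0 hσμ) hq
    have hmid : Frame.Adm.smul (-(Fr.η (i, true) * (H.σ p.c)⁻¹)) p = q := by
      rw [hp, Frame.Adm.smul_smul]
      have e1 : -(Fr.η (i, true) * (H.σ (Frame.Adm.smul μ q).c)⁻¹) * μ = 1 := by
        rw [Frame.Adm.smul_c, map_mul, map_mul, H.σσ, hμ]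
        simp only [map_neg, map_inv₀, map_mul, Fr.σ_η]
        field_simp
      rw [e1, Frame.Adm.one_smul]
    refine ⟨(Fr.Z (i, true) p)⁻¹, ⟨p⁻¹, (Fr.Z_inv _ _).symm⟩, nZ Fr (i, true) p * (nn Fr p0 i)⁻¹,
      tor_of_mono hA (nZ_mem hA _ _) (nn_mem hA _ _) (mono_nZ hi hp') (mono_nn hp0 i),
      (Fr.Z (i, true) (Frame.Adm.smul (H.ε * p.c * (H.σ p.c)⁻¹) p))⁻¹, ⟨_, (Fr.Z_inv _ _).symm⟩, ?_⟩
    rw [nZ, hmid]
    show Fr.Z (neg (i, true)) q = _
    group

/-! ### `p`-groups -/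

omit hA in
theorem isPGroup_PG {p : ℕ} [Fact p.Prime] [CharP F p] (a b : Fin n × Bool) : IsPGroup p ↥(PG Fr a b) := by
  by_cases h : a = b
  · subst h
    rw [PG_self]
    rintro ⟨_, q, rfl⟩
    have hp : ∀ v : V, (p : ℕ) • v = 0 := by
      intro v
      rw [← Nat.cast_smul_eq_nsmul F, CharP.cast_eq_zero, zero_smul]
    have h1 : ∀ m : ℕ, (q ^ m).w = m • q.w := by
      intro m
      induction m with
      | zero => simp
      | succ m ih => rw [pow_succ, Frame.Adm.mul_w, ih, succ_nsmul]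
    have h2 : ∀ (r : Fr.Adm), r.w = 0 → ∀ m : ℕ, (r ^ m).w = 0 ∧ (r ^ m).c = m * r.c := by
      intro r hr m
      induction m with
      | zero => simp
      | succ m ih =>
        refine ⟨by rw [pow_succ, Frame.Adm.mul_w, ih.1, hr, add_zero], ?_⟩
        rw [pow_succ, Frame.Adm.mul_c, ih.2, hr, H.zero_left]
        push_cast; ring
    have h3 : (q ^ p) ^ p = 1 := by
      have hw : (q ^ p).w = 0 := by rw [h1, hp]
      obtain ⟨h4, h5⟩ := h2 _ hw p
      have h6 : ((q ^ p) ^ p).c = 0 := by rw [h5, CharP.cast_eq_zero, zero_mul]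
      exact Frame.Adm.ext (by rw [h4]; rfl) (by rw [h6]; rfl)
    have hZpow : ∀ m : ℕ, Fr.Z a q ^ m = Fr.Z a (q ^ m) := by
      intro m
      induction m with
      | zero => rw [pow_zero, pow_zero, Fr.Z_one]
      | succ m ih => rw [pow_succ, pow_succ, Fr.Z_mul, ih]
    refine ⟨2, Subtype.ext ?_⟩
    show Fr.Z a q ^ p ^ 2 = 1
    rw [hZpow, pow_two, pow_mul, h3, Fr.Z_one]
  · rw [show PG Fr a b = XG Fr a b from if_neg h]
    rintro ⟨_, t, rfl⟩
    have hXpow : ∀ m : ℕ, Fr.X a b t ^ m = Fr.X a b (m * t) := by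
      intro m
      induction m with
      | zero => rw [pow_zero, Nat.cast_zero, zero_mul, Fr.X_zero]
      | succ m ih => rw [pow_succ, ih, ← Fr.X_add]; congr 1; push_cast; ring
    refine ⟨1, Subtype.ext ?_⟩
    show Fr.X a b t ^ p ^ 1 = 1
    rw [hXpow, pow_one, CharP.cast_eq_zero, zero_mul, Fr.X_zero]

omit hA in
theorem nn_mem_sup (p0 : Fr.Adm) (i : Fin n) : nn Fr p0 i ∈ rg Fr (sr i) ⊔ rg Fr (-sr i) := by
  rw [rg_sr, rg_neg_sr]
  unfold nn
  split_ifs with hi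
  · have hnx : nx i = (⟨i + 1, hi⟩, false) := by unfold nx; rw [dif_pos hi]
    have hne' : ((i, true) : Fin n × Bool).1 ≠ (nx i).1 := by rw [hnx]; simp [Fin.ext_iff]
    rw [PG_ne Fr (a := ng (i, true)) (b := ng (nx i)) hne', XG_swap Fr (a := ng (i, true)) (b := ng (nx i)) hne',
      PG_ne Fr hne']
    have h1 : ∀ t, Fr.X (i, true) (nx i) t ∈ XG Fr (i, true) (nx i) ⊔ XG Fr (ng (nx i)) (ng (i, true)) :=
      fun t => (le_sup_left : _ ≤ XG Fr (i, true) (nx i) ⊔ XG Fr (ng (nx i)) (ng (i, true))) ⟨t, rfl⟩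
    exact mul_mem (mul_mem (h1 _) ((le_sup_right : XG Fr (ng (nx i)) (ng (i, true)) ≤ _) ⟨_, rfl⟩)) (h1 _)
  · have hnx : nx i = (i, true) := by unfold nx; rw [dif_neg hi]
    rw [hnx, PG_self, PG_self]
    have h1 : ∀ t, Fr.Z (i, true) t ∈ ZG Fr (i, true) ⊔ ZG Fr (ng (i, true)) :=
      fun t => (le_sup_left : _ ≤ ZG Fr (i, true) ⊔ ZG Fr (ng (i, true))) ⟨t, rfl⟩
    exact mul_mem (mul_mem (h1 _) ((le_sup_right : ZG Fr (ng (i, true)) ≤ _) ⟨_, rfl⟩)) (h1 _)

omit hA in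
theorem b_ne_zero (x : Fin n × Bool) : Fr.b x ≠ 0 := by
  intro h0
  have h1 := Fr.hb_neg_self x
  rw [h0, H.zero_right] at h1
  exact Fr.η_ne x h1.symm

omit hA in
/-- Different lines. -/
theorem not_prop {x y : Fin n × Bool} (hxy : x ≠ y) {l : F} (hl : l ≠ 0) : Fr.b x ≠ l • Fr.b y := by
  intro h0
  have h1 := Fr.hb_self_neg x
  have h2 : H.h (Fr.b x) (Fr.b (ng x)) = 0 := by
    rw [h0, H.smul_left]
    by_cases h3 : ng x = neg y
    · exfalso
      apply hxy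
      have := congrArg ng h3
      rw [ng_ng] at this
      rw [this]
      exact (ng_ng y)
    · rw [Fr.hb_ne h3, mul_zero]
  exact Fr.η_ne _ (h1.symm.trans h2)

omit hA in
theorem notp {p : ℕ} (hp2 : Odd p) {p0 : Fr.Adm} (hp0 : p0.c ≠ 0) (i : Fin n) :
    ¬ IsPGroup p ↥(rg Fr (sr i) ⊔ rg Fr (-sr i)) := by
  intro hP
  obtain ⟨k, hk⟩ := hP ⟨nn Fr p0 i, nn_mem_sup p0 i⟩
  have hk' : nn Fr p0 i ^ p ^ k = 1 := congrArg Subtype.val hk
  have hodd : Odd (p ^ k) := hp2.pow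
  have hm := (mono_nn hp0 i).pow (p ^ k)
  rw [hk'] at hm
  have hit : ∀ x, (sg i)^[p ^ k] x = sg i x := by
    intro x
    obtain ⟨m, hm'⟩ := hodd
    rw [hm', Function.iterate_add_apply, Function.iterate_one, Function.iterate_mul]
    have h1 : (sg i)^[2] = id := by
      funext y
      exact sg_sg i y
    rw [h1, Function.iterate_id]
    rfl
  obtain ⟨l, hl, e⟩ := hm (i, true)
  rw [hit] at e
  have h1 : ((i, true) : Fin n × Bool) ≠ sg i (i, true) := by
    by_cases hi : (i : ℕ) + 1 < n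
    · rw [sg_up hi]; simp [Fin.ext_iff]
    · rw [sg_last hi]; simp
  exact not_prop h1 hl e

/-! ### The torus is a `p'`-group -/

omit hA in
theorem Mono.apply_of_pow {p : ℕ} [Fact p.Prime] [CharP F p] {g : V ≃ₗ[F] V} (hm : Mono Fr g id) (hg : g ^ p = 1)
    (x : Fin n × Bool) : g (Fr.b x) = Fr.b x := by
  obtain ⟨l, hl, e⟩ := hm x
  have e' : g (Fr.b x) = l • Fr.b x := e
  have h1 : ∀ m : ℕ, (g ^ m) (Fr.b x) = l ^ m • Fr.b x := by
    intro m
    induction m with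
    | zero => rw [pow_zero, pow_zero, one_smul]; rfl
    | succ m ih => rw [pow_succ, mul_apply', e', map_smul, ih, smul_smul, pow_succ, mul_comm]
  have h2 := h1 p
  rw [hg] at h2
  have h3 : l ^ p = 1 := by
    by_contra hne
    have h4 : (l ^ p - 1) • Fr.b x = 0 := by
      rw [sub_smul, ← h2, one_smul]
      exact sub_self _
    exact b_ne_zero x ((smul_eq_zero.1 h4).resolve_left (sub_ne_zero.2 hne))
  have h4 : (l - 1) ^ p = 0 := by rw [sub_pow_char, h3, one_pow, sub_self]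
  have h5 : l = 1 := by
    have := pow_eq_zero_iff (Fact.out : p.Prime).ne_zero |>.1 h4
    exact sub_eq_zero.1 this
  rw [e', h5, one_smul]

theorem Amb.eq_one_of_fix {g : V ≃ₗ[F] V} (hb : ∀ x, g (Fr.b x) = Fr.b x) (h0 : ∀ w ∈ Fr.V0, g w = w) : g = 1 := by
  ext v
  set u : V := ∑ x, (H.h v (Fr.b (neg x)) * (Fr.η (neg x))⁻¹) • Fr.b x with hu
  have h1 : v - u ∈ Fr.V0 := by
    apply hA.V0
    intro y
    rw [H.sub_left, sub_eq_zero]
    have h2 : H.h u (Fr.b y) = ∑ x, (H.h v (Fr.b (neg x)) * (Fr.η (neg x))⁻¹) * H.h (Fr.b x) (Fr.b y) := by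
      rw [hu]
      have : ∀ (s : Finset (Fin n × Bool)) (f : Fin n × Bool → F), H.h (∑ x ∈ s, f x • Fr.b x) (Fr.b y) =
          ∑ x ∈ s, f x * H.h (Fr.b x) (Fr.b y) := by
        intro s f
        induction s using Finset.induction_on with
        | empty => simp [H.zero_left]
        | insert a s ha ih => rw [Finset.sum_insert ha, Finset.sum_insert ha, H.add_left, H.smul_left, ih]
      exact this _ _
    rw [h2, Finset.sum_eq_single (neg y)]
    · rw [WittFrame.neg_neg, Fr.hb_neg_self]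
      have := Fr.η_ne y
      field_simp
    · intro x _ hx
      rw [Fr.hb_ne, mul_zero]
      rintro rfl
      exact hx (WittFrame.neg_neg x).symm
    · intro h; exact absurd (Finset.mem_univ _) h
  have h2 : g u = u := by
    rw [hu, map_sum]
    exact Finset.sum_congr rfl fun x _ => by rw [map_smul, hb]
  have h3 : v = (v - u) + u := by abel
  show g v = v
  rw [h3, map_add, h0 _ h1, h2]

theorem tcop [Finite V] {p : ℕ} [Fact p.Prime] [CharP F p] : (Nat.card (Tor Fr G0)).Coprime p := by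
  have : Finite (V ≃ₗ[F] V) := Finite.of_injective (fun g : V ≃ₗ[F] V => (g : V → V)) DFunLike.coe_injective
  rw [Nat.coprime_comm, (Fact.out : p.Prime).coprime_iff_not_dvd]
  intro hdvd
  obtain ⟨⟨g, hgT⟩, hg⟩ := exists_prime_orderOf_dvd_card' p hdvd
  have hgp : g ^ p = 1 := by
    have := pow_orderOf_eq_one (⟨g, hgT⟩ : Tor Fr G0)
    rw [hg] at this
    exact congrArg Subtype.val this
  have hb := Mono.apply_of_pow hgT.2 hgp
  have hV0 : ∀ w ∈ Fr.V0, g w ∈ Fr.V0 := fun w hw => hA.map_V0 hgT.1 hgT.2 (ρ := id) (fun _ => rfl) hw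
  -- the nilpotent part
  have hN : ∀ w ∈ Fr.V0, g w = w := by
    set N : Module.End F V := (g : V →ₗ[F] V) - 1 with hNdef
    have hNa : ∀ v, N v = g v - v := fun v => rfl
    have hpow : ∀ m : ℕ, ((g : V →ₗ[F] V) : Module.End F V) ^ m = ((g ^ m : V ≃ₗ[F] V) : V →ₗ[F] V) := by
      intro m
      induction m with
      | zero => rfl
      | succ m ih => rw [pow_succ, ih, pow_succ]; rfl
    have hNp : N ^ p = 0 := by
      have : CharP (Module.End F V) p ∨ Subsingleton V := by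
        by_cases hs : Subsingleton V
        · exact Or.inr hs
        · left
          rw [not_subsingleton_iff_nontrivial] at hs
          exact charP_of_injective_algebraMap (algebraMap F (Module.End F V)).injective p
      rcases this with h | h
      · rw [hNdef, sub_pow_char_of_commute p (Commute.one_right _), one_pow, hpow, hgp]
        exact sub_self _
      · exact Subsingleton.elim _ _
    have hNV : ∀ w ∈ Fr.V0, N w ∈ Fr.V0 := fun w hw => by
      rw [hNa]; exact Submodule.sub_mem _ (hV0 w hw) hw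
    have key : ∀ m : ℕ, ∀ w ∈ Fr.V0, (N ^ m) w = 0 → N w = 0 := by
      intro m
      induction m with
      | zero =>
        intro w _ h0
        rw [pow_zero, Module.End.one_apply] at h0
        rw [h0, map_zero]
      | succ m ih =>
        intro w hw h0
        rw [pow_succ, Module.End.mul_apply] at h0
        have h1 := ih (N w) (hNV w hw) h0
        -- `u = N w` is fixed and `h(u,u) = 0`
        have h2 : g (N w) = N w := by rw [hNa] at h1; exact sub_eq_zero.1 h1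
        apply hA.aniso _ (hNV w hw)
        have h3 : H.h (N w) (N w) = H.h (g w) (N w) - H.h w (N w) := by
          conv_lhs => rw [hNa w]
          rw [H.sub_left]
          rfl
        have h4 : H.h (g w) (N w) = H.h w (N w) := by
          conv_lhs => rw [← h2]
          exact hA.iso g hgT.1 _ _
        rw [h3, h4, sub_self]
    intro w hw
    have h1 := key p w hw (by rw [hNp]; rfl)
    rw [hNa] at h1
    exact sub_eq_zero.1 h1
  have h1 : g = 1 := Amb.eq_one_of_fix hA hb hN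
  subst h1
  have h2 : (⟨1, hgT⟩ : Tor Fr G0) = 1 := rfl
  rw [h2, orderOf_one] at hg
  exact (Fact.out : p.Prime).one_lt.ne hg

/-- **The root group datum of a Witt frame.** -/
theorem rgd [Finite V] {p : ℕ} [Fact p.Prime] [CharP F p] (hp2 : Odd p) {p0 : Fr.Adm} (hp0 : p0.c ≠ 0)
    {W : Type*} [Group W] (cs : CoxeterSystem (CoxeterMatrix.B n) W) :
    RGD cs (isCartan n) p (Tor Fr G0) (nn Fr p0) (rg Fr) where
  nsys := nsys hA hp0
  conj i x hx := by
    obtain ⟨a, b, hab, e⟩ := exists_of_isRoot cs hx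
    rw [rg_eq Fr hab e, rep_simple, rg_eq Fr (hab.sg i) (ee_refl_of e)]
    exact hA.cj_sg (nn_mem hA p0 i) (mono_nn hp0 i) hab
  tor x hx t ht := by
    obtain ⟨a, b, hab, e⟩ := exists_of_isRoot cs hx
    rw [rg_eq Fr hab e]
    exact hA.cj_id ht.1 ht.2 hab
  comm x y hx hy hxy hxy' a ha b hb := comm_rg cs hx hy hxy hxy' ha hb
  rk1 i u hu hne := rk1 hA hp0 i hu hne
  pgrp i := by rw [rg_sr]; exact isPGroup_PG _ _
  notp i := notp hp2 hp0 i
  tcop := tcop hA

end Cfsg.Agent.Nodes.WittRGD
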