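import Mathlib
import Cfsg.Agent.Nodes.WittModel
import Cfsg.Agent.Nodes.TypeCForm
import Cfsg.Agent.Nodes.ClsMap
import Cfsg.Agent.Nodes.Chart

/-!
Classical root groups of a Witt frame (long roots, central parts `Z a (0, c)`): the structure `Chart.Cls`
(project CIT, charts of `PSp_2m(q)`, `PSU_n(q)`).
-/

set_option autoImplicit false

namespace Cfsg.Agent.Nodes.ClsWitt

open Cfsg.Agent.ChevalleyStructure.CoxeterGeom Cfsg.Agent.Tits.Roots Cfsg.Agent.Nodes.TypeC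
open Cfsg.Agent.Nodes.Comb Cfsg.Agent.Nodes.Reps Cfsg.Agent.Nodes.WittRoot Cfsg.Agent.Nodes.BNOf
open Cfsg.Agent.Nodes.WittRGD Cfsg.Agent.Nodes.RGDLib Cfsg.Agent.Nodes.TypeCForm Cfsg.Agent.Nodes.Chart
open Cfsg.Agent.TitsThree Cfsg.Agent.TitsThree.Siegel Cfsg.Agent.TitsThree.WittFrame
  Cfsg.Agent.TitsThree.WittWeyl Cfsg.Agent.TitsThree.FrameCN
open Cfsg.Agent.Tits.RootComb

variable {F : Type*} [Field F] {V : Type*} [AddCommGroup V] [Module F V] {H : HForm F V} {n : ℕ}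
  (Fr : Frame H (Fin n))

/-- The central part of the type II root group. -/
def ZL (a : Fin n × Bool) : Subgroup (V ≃ₗ[F] V) where
  carrier := {g | ∃ p : Fr.Adm, p.w = 0 ∧ g = Fr.Z a p}
  one_mem' := ⟨1, rfl, (Fr.Z_one a).symm⟩
  mul_mem' := by
    rintro _ _ ⟨s, hs, rfl⟩ ⟨t, ht, rfl⟩
    exact ⟨s * t, by rw [Frame.Adm.mul_w, hs, ht, add_zero], (Fr.Z_mul a s t).symm⟩
  inv_mem' := by
    rintro _ ⟨t, ht, rfl⟩
    exact ⟨t⁻¹, by rw [Frame.Adm.inv_w, ht, _root_.neg_zero], (Fr.Z_inv a t).symm⟩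

theorem mem_ZL {a : Fin n × Bool} {g : V ≃ₗ[F] V} : g ∈ ZL Fr a ↔ ∃ p : Fr.Adm, p.w = 0 ∧ g = Fr.Z a p := Iff.rfl

theorem ZL_le (a : Fin n × Bool) : ZL Fr a ≤ ZG Fr a := by
  rintro _ ⟨p, -, rfl⟩
  exact ⟨p, rfl⟩

/-- The long roots. -/
def LR (n : ℕ) : Set (Fin n → ℤ) := {x | ∃ a : Fin n × Bool, ee x = wt a + wt a}

/-- The classical root group of a vector. -/
def ZV (x : Fin n → ℤ) : Subgroup (V ≃ₗ[F] V) := ⨆ a : {a : Fin n × Bool // ee x = wt a + wt a}, ZL Fr a.1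

theorem wt_two_eq {a b : Fin n × Bool} (e : wt a + wt a = wt b + wt b) : a = b := by
  rcases wt_add_eq (Or.inr rfl) (Or.inr rfl) e with h | h
  · exact h.1
  · exact h.1

theorem ZV_eq {x : Fin n → ℤ} {a : Fin n × Bool} (e : ee x = wt a + wt a) : ZV Fr x = ZL Fr a := by
  apply le_antisymm
  · refine iSup_le ?_
    rintro ⟨b, hb⟩
    rw [wt_two_eq (e.symm.trans hb)]
  · exact le_iSup (fun a : {a : Fin n × Bool // ee x = wt a + wt a} => ZL Fr a.1) ⟨a, e⟩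

/-- The classical involutions of signed indices. -/
def zl (p0 : Fr.Adm) (a : Fin n × Bool) : V ≃ₗ[F] V := nZ Fr a p0 * nZ Fr a p0

open Classical in
/-- The classical involution of a vector. -/
noncomputable def zv (p0 : Fr.Adm) (x : Fin n → ℤ) : V ≃ₗ[F] V :=
  if h : ∃ a : Fin n × Bool, ee x = wt a + wt a then zl Fr p0 h.choose else 1

theorem zv_eq {p0 : Fr.Adm} {x : Fin n → ℤ} {a : Fin n × Bool} (e : ee x = wt a + wt a) :
    zv Fr p0 x = zl Fr p0 a := by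
  have h : ∃ a : Fin n × Bool, ee x = wt a + wt a := ⟨a, e⟩
  unfold zv
  rw [dif_pos h, wt_two_eq (h.choose_spec.symm.trans e)]

variable {Fr} {p0 : Fr.Adm} (hp0 : p0.c ≠ 0) (hw0 : p0.w = 0)

include hp0 hw0

theorem eps_c : H.ε * p0.c = -H.σ p0.c := by
  have h := p0.herm
  rw [hw0, H.zero_left, _root_.neg_zero] at h
  exact eq_neg_of_add_eq_zero_left h

theorem zl_self (a : Fin n × Bool) : zl Fr p0 a (Fr.b a) = -Fr.b a := by
  have hσ : H.σ p0.c ≠ 0 := by simpa using hp0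
  have hη := Fr.η_ne a
  have hc := eps_c hp0 hw0
  rw [zl, mul_apply', nZ_apply_self Fr a p0 hp0, map_smul, nZ_apply_neg Fr a p0 hp0, smul_smul]
  have : H.ε * (Fr.η a)⁻¹ * (H.σ p0.c)⁻¹ * (Fr.η a * p0.c) = -1 := by
    field_simp
    linear_combination hc
  rw [this, neg_smul, one_smul]

theorem zl_ng (a : Fin n × Bool) : zl Fr p0 a (Fr.b (ng a)) = -Fr.b (ng a) := by
  have hσ : H.σ p0.c ≠ 0 := by simpa using hp0
  have hη := Fr.η_ne a
  have hc := eps_c hp0 hw0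
  show zl Fr p0 a (Fr.b (neg a)) = -Fr.b (neg a)
  rw [zl, mul_apply', nZ_apply_neg Fr a p0 hp0, map_smul, nZ_apply_self Fr a p0 hp0, smul_smul]
  have : Fr.η a * p0.c * (H.ε * (Fr.η a)⁻¹ * (H.σ p0.c)⁻¹) = -1 := by
    field_simp
    linear_combination hc
  rw [this, neg_smul, one_smul]

omit hp0 hw0 in
theorem zl_ne {a y : Fin n × Bool} (h : y.1 ≠ a.1) : zl Fr p0 a (Fr.b y) = Fr.b y := by
  rw [zl, mul_apply', nZ_apply_of_ne Fr h, nZ_apply_of_ne Fr h]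

theorem zl_V0 (a : Fin n × Bool) {v : V} (hv : v ∈ Fr.V0) : zl Fr p0 a v = v := by
  have h1 : ∀ v ∈ Fr.V0, nZ Fr a p0 v = v := by
    intro v hv
    rw [nZ_apply_V0 Fr a p0 hp0 hv, hw0, smul_zero, add_zero]
  rw [zl, mul_apply', h1 v hv, h1 v hv]

/-- the sign of `z a` on `b y` -/
theorem zl_apply (a y : Fin n × Bool) : zl Fr p0 a (Fr.b y) = (if y.1 = a.1 then (-1 : F) else 1) • Fr.b y := by
  split_ifs with h
  · rw [neg_smul, one_smul]
    rcases eq_or_ng h with rfl | rfl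
    · exact zl_self hp0 hw0 _
    · exact zl_ng hp0 hw0 _
  · rw [one_smul]
    exact zl_ne h

theorem mono_zl (a : Fin n × Bool) : Mono Fr (zl Fr p0 a) id := fun y =>
  ⟨_, by split_ifs <;> simp, zl_apply hp0 hw0 a y⟩

variable {G0 : Subgroup (V ≃ₗ[F] V)} (hA : Amb Fr G0)

omit hp0 hw0 in
theorem zl_mem (a : Fin n × Bool) (hA : Amb Fr G0) : zl Fr p0 a ∈ G0 := mul_mem (nZ_mem hA _ _) (nZ_mem hA _ _)

omit hp0 hw0 in
include hA in
/-- Elements agreeing on the frame and on `V0` are equal. -/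
theorem ext_frame {g k : V ≃ₗ[F] V} (hb : ∀ x, g (Fr.b x) = k (Fr.b x)) (h0 : ∀ w ∈ Fr.V0, g w = k w) : g = k := by
  have h1 : k⁻¹ * g = 1 := by
    apply Amb.eq_one_of_fix hA
    · intro x
      rw [mul_apply', hb, ← mul_apply', inv_mul_cancel]; rfl
    · intro w hw
      rw [mul_apply', h0 w hw, ← mul_apply', inv_mul_cancel]; rfl
  rw [inv_mul_eq_one] at h1
  exact h1.symm

include hA

theorem zl_neg (a : Fin n × Bool) : zl Fr p0 (ng a) = zl Fr p0 a := by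
  apply ext_frame hA
  · intro x
    rw [zl_apply hp0 hw0, zl_apply hp0 hw0, ng_fst]
  · intro w hw
    rw [zl_V0 hp0 hw0 _ hw, zl_V0 hp0 hw0 _ hw]

theorem zl_sq (a : Fin n × Bool) : zl Fr p0 a * zl Fr p0 a = 1 := by
  apply ext_frame hA
  · intro x
    rw [mul_apply', zl_apply hp0 hw0, map_smul, zl_apply hp0 hw0, smul_smul]
    show _ = Fr.b x
    split_ifs <;> simp
  · intro w hw
    rw [mul_apply', zl_V0 hp0 hw0 _ hw, zl_V0 hp0 hw0 _ hw]
    rfl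

theorem zl_inv (a : Fin n × Bool) : (zl Fr p0 a)⁻¹ = zl Fr p0 a :=
  inv_eq_of_mul_eq_one_right (zl_sq hp0 hw0 hA a)

theorem zl_conj {g : V ≃ₗ[F] V} (hg : g ∈ G0) {i : Fin n} (hm : Mono Fr g (sg i)) (a : Fin n × Bool) :
    g * zl Fr p0 a * g⁻¹ = zl Fr p0 (sg i a) := by
  rw [mul_inv_eq_iff_eq_mul]
  apply ext_frame hA
  · intro x
    obtain ⟨l, -, e⟩ := hm x
    rw [mul_apply', mul_apply', zl_apply hp0 hw0, map_smul, e, map_smul, zl_apply hp0 hw0, smul_comm]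
    congr 2
    simp only [sg_fst_eq]
  · intro w hw
    rw [mul_apply', mul_apply', zl_V0 hp0 hw0 _ hw, zl_V0 hp0 hw0 _ (hA.map_V0 hg hm (sg_sg i) hw)]

theorem zl_T {t : V ≃ₗ[F] V} (ht : t ∈ Tor Fr G0) (a : Fin n × Bool) : zl Fr p0 a * t = t * zl Fr p0 a := by
  apply ext_frame hA
  · intro x
    obtain ⟨l, -, e⟩ := ht.2 x
    have e' : t (Fr.b x) = l • Fr.b x := e
    rw [mul_apply', mul_apply', zl_apply hp0 hw0, map_smul, e', map_smul, zl_apply hp0 hw0, smul_comm]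
  · intro w hw
    rw [mul_apply', mul_apply', zl_V0 hp0 hw0 _ hw,
      zl_V0 hp0 hw0 _ (hA.map_V0 ht.1 ht.2 (ρ := id) (fun _ => rfl) hw)]

/-- Conjugation of the type II root elements by the involutions. -/
theorem zl_conj_Z (a : Fin n × Bool) (p : Fr.Adm) : zl Fr p0 a * Fr.Z a p * zl Fr p0 a = Fr.Z a (Frame.Adm.smul (-1) p) := by
  have h1 := conj_Z Fr (hA.iso _ (zl_mem a hA)) (x := a) (x' := a) (l := -1)
    (by rw [zl_self hp0 hw0, neg_smul, one_smul]) p p (zl_V0 hp0 hw0 a (Fr.ok_mem p.ok)) rfl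
  rw [zl_inv hp0 hw0 hA, map_neg, map_one] at h1
  exact h1

theorem zl_conj_X {a b : Fin n × Bool} (hab : a.1 ≠ b.1) (t : F) :
    zl Fr p0 a * Fr.X a b t * zl Fr p0 a = Fr.X a b (-t) := by
  have h1 := conj_X Fr (hA.iso _ (zl_mem a hA)) hab hab (l := -1) (m := 1)
    (by rw [zl_self hp0 hw0, neg_smul, one_smul]) (by rw [zl_ne hab.symm, one_smul]) t
  rw [zl_inv hp0 hw0 hA, map_one, mul_one] at h1
  rw [h1]
  congr 1
  have := Fr.η_ne b
  field_simp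

omit hA hp0 hw0 in
theorem nZ_mem_sup (hw0 : p0.w = 0) (a : Fin n × Bool) : nZ Fr a p0 ∈ ZL Fr a ⊔ ZL Fr (ng a) := by
  have h1 : ∀ q : Fr.Adm, q.w = 0 → Fr.Z a q ∈ ZL Fr a ⊔ ZL Fr (ng a) := fun q hq =>
    (le_sup_left : ZL Fr a ≤ _) ⟨q, hq, rfl⟩
  have h2 : ∀ q : Fr.Adm, q.w = 0 → Fr.Z (neg a) q ∈ ZL Fr a ⊔ ZL Fr (ng a) := fun q hq =>
    (le_sup_right : ZL Fr (ng a) ≤ _) ⟨q, hq, rfl⟩
  exact mul_mem (mul_mem (h1 _ hw0) (h2 _ (by rw [Frame.Adm.smul_w, hw0, smul_zero])))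
    (h1 _ (by rw [Frame.Adm.smul_w, hw0, smul_zero]))

omit hA in
theorem zl_mem_sup (a : Fin n × Bool) : zl Fr p0 a ∈ ZL Fr a ⊔ ZL Fr (ng a) :=
  mul_mem (nZ_mem_sup hw0 a) (nZ_mem_sup hw0 a)

omit hA in
theorem zl_ne_one (h2 : (2 : F) ≠ 0) (a : Fin n × Bool) : zl Fr p0 a ≠ 1 := by
  intro h
  have h1 := zl_self hp0 hw0 a
  rw [h] at h1
  have h3 : Fr.b a = -Fr.b a := h1
  have h4 : (2 : F) • Fr.b a = 0 := by
    rw [two_smul]
    nth_rw 1 [h3]
    abel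
  exact b_ne_zero a ((smul_eq_zero.1 h4).resolve_left h2)

omit hp0 hw0 in
theorem cj_ZL_le {g : V ≃ₗ[F] V} (hg : g ∈ G0) {π ρ : Fin n × Bool → Fin n × Bool} (hm : Mono Fr g π)
    (hρ : ∀ x, π (ρ x) = x) (a : Fin n × Bool) : cj g (ZL Fr a) ≤ ZL Fr (π a) := by
  rintro u hu
  rw [mem_cj] at hu
  obtain ⟨p, hp, e⟩ := hu
  have e0 : u = g * (g⁻¹ * u * g) * g⁻¹ := by group
  obtain ⟨l, -, hl⟩ := hm a
  obtain ⟨q, hq, hq'⟩ := hA.exists_adm hg hm hρ p
  rw [e0, e, conj_Z Fr (hA.iso g hg) hl p q hq hq']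
  refine ⟨_, ?_, rfl⟩
  rw [Frame.Adm.smul_w, ← hq, hp, map_zero, smul_zero]

omit hp0 hw0 in
theorem cj_ZL_sg {g : V ≃ₗ[F] V} (hg : g ∈ G0) {i : Fin n} (hm : Mono Fr g (sg i)) (a : Fin n × Bool) :
    cj g (ZL Fr a) = ZL Fr (sg i a) := by
  apply le_antisymm (cj_ZL_le hA hg hm (sg_sg i) a)
  have h1 := cj_ZL_le hA (inv_mem hg) (hm.inv (sg_sg i)) (sg_sg i) (sg i a)
  rw [sg_sg] at h1
  have h2 := cj_mono g h1
  rwa [cj_cj_inv] at h2

omit hp0 hw0 in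
theorem cj_ZL_id {g : V ≃ₗ[F] V} (hg : g ∈ Tor Fr G0) (a : Fin n × Bool) :
    cj g (ZL Fr a) = ZL Fr a := by
  apply le_antisymm (cj_ZL_le hA hg.1 hg.2 (ρ := id) (fun _ => rfl) a)
  have h1 := cj_ZL_le hA (inv_mem hg.1) (hg.2.inv (ρ := id) fun _ => rfl) (ρ := id) (fun _ => rfl) a
  have h2 := cj_mono g h1
  rwa [cj_cj_inv] at h2

omit hp0 hw0 hA in
/-- `Z a (0, c)` commutes with all root elements of roots with non-negative product. -/
theorem commute_ZL {a c d : Fin n × Bool} (hcd : Ok c d) (hc : c ≠ ng a) (hd : d ≠ ng a) {g k : V ≃ₗ[F] V}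
    (hg : g ∈ PG Fr c d) (hk : k ∈ ZL Fr a) : g * k = k * g := by
  obtain ⟨p, hp, rfl⟩ := hk
  rcases hcd with h | rfl
  · rw [PG_ne Fr h] at hg
    obtain ⟨t, rfl⟩ := hg
    exact (Fr.commute_ZX (x := a) (y := c) (z := d) hc hd p t).symm
  · rw [PG_self] at hg
    obtain ⟨q, rfl⟩ := hg
    by_cases h : c.1 = a.1
    · rcases eq_or_ng h with rfl | h'
      · rw [← Fr.Z_mul, ← Fr.Z_mul]
        congr 1
        ext
        · simp only [Frame.Adm.mul_w, add_comm]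
        · simp only [Frame.Adm.mul_c, hp, H.zero_left, H.zero_right]; ring
      · exact absurd h' hc
    · have h1 := Fr.Z_mul_Z h q p
      rw [hp, H.zero_right, map_zero, mul_zero, _root_.neg_zero, Fr.X_zero, one_mul] at h1
      exact h1

/-- **The classical root groups of a Witt frame.** -/
theorem cls [Finite V] {p : ℕ} [Fact p.Prime] [CharP F p] (hp2 : Odd p)
    {W : Type*} [Group W] [Fintype W] (cs : CoxeterSystem (CoxeterMatrix.B n) W) :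
    Cls cs (isCartan n) p (Tor Fr G0) (nn Fr p0) (rg Fr) (LR n) (ZV Fr) (zv Fr p0) := by
  have h2 : (2 : F) ≠ 0 := by
    have : ((2 : ℕ) : F) ≠ 0 := by
      rw [Ne, CharP.cast_eq_zero_iff F p]
      intro h
      have h3 := (Nat.prime_dvd_prime_iff_eq (Fact.out : p.Prime) Nat.prime_two).1 h
      subst h3
      exact absurd hp2 (by decide)
    simpa using this
  refine
    { rgd := WittRGD.rgd hA hp2 hp0 cs
      root := ?_, act := ?_, le := ?_, ne_bot := ?_, conj := ?_, tor := ?_, cent := ?_, notp := ?_,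
      z_mem := ?_, z_torus := ?_, z_T := ?_, z_sq := ?_, z_conj := ?_, z_neg := ?_, z_cent := ?_,
      z_inv := ?_, z_inv_self := ?_ }
  · rintro r ⟨a, e⟩
    exact isRoot_iff.2 ⟨a, a, Or.inr rfl, e⟩
  · rintro r ⟨a, e⟩ w
    induction w using cs.simple_induction_left with
    | one => rw [map_one, Module.End.one_apply]; exact ⟨a, e⟩
    | mul_simple_left w i ih =>
      obtain ⟨b, e'⟩ := ih
      exact ⟨sg i b, by rw [rep_mul_apply, rep_simple, ee_refl_of e']⟩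
  · rintro r ⟨a, e⟩
    rw [ZV_eq Fr e, rg_eq Fr (Or.inr rfl) e, PG_self]
    exact ZL_le Fr a
  · rintro r ⟨a, e⟩ hbot
    rw [ZV_eq Fr e] at hbot
    have h1 : Fr.Z a p0 ∈ ZL Fr a := ⟨p0, hw0, rfl⟩
    rw [hbot, Subgroup.mem_bot] at h1
    have h3 := Z_apply_neg Fr a p0
    rw [h1, hw0, smul_zero, add_zero] at h3
    have h4 : (p0.c * Fr.η a) • Fr.b a = 0 := by
      have h5 : Fr.b (neg a) = Fr.b (neg a) + (p0.c * Fr.η a) • Fr.b a := h3
      exact left_eq_add.1 h5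
    exact b_ne_zero a ((smul_eq_zero.1 h4).resolve_left (mul_ne_zero hp0 (Fr.η_ne a)))
  · rintro i r ⟨a, e⟩
    rw [ZV_eq Fr e, rep_simple, ZV_eq Fr (ee_refl_of e)]
    exact cj_ZL_sg hA (nn_mem hA p0 i) (mono_nn hp0 i) a
  · rintro r ⟨a, e⟩ t ht
    rw [ZV_eq Fr e]
    exact cj_ZL_id hA ht a
  · rintro r ⟨a, e⟩ y hy hf g hg k hk
    rw [ZV_eq Fr e] at hk
    obtain ⟨c, d, hcd, ey⟩ := exists_of_isRoot cs hy
    rw [rg_eq Fr hcd ey] at hg
    rw [form_nonneg_iff cs (isRoot_iff.2 ⟨a, a, Or.inr rfl, e⟩), e, ey, ip_add_right, ip_add_left] at hf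
    have hca : c ≠ ng a := by
      rintro rfl
      rw [ip_wt_ng] at hf
      rcases hcd with h | h
      · have h1 : ip (wt d) (wt a) = 0 := ip_wt_ne (fun h' => h h'.symm)
        rw [h1] at hf; omega
      · rw [← h, ip_wt_ng] at hf; omega
    have hda : d ≠ ng a := by
      rintro rfl
      rw [ip_wt_ng] at hf
      rcases hcd with h | h
      · have h1 : ip (wt c) (wt a) = 0 := ip_wt_ne h
        rw [h1] at hf; omega
      · rw [h, ip_wt_ng] at hf; omega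
    exact commute_ZL hcd hca hda hg hk
  · rintro r ⟨a, e⟩ hP
    have e' : ee (-r) = wt (ng a) + wt (ng a) := by rw [ee_neg, e, wt_ng]; abel
    rw [ZV_eq Fr e, ZV_eq Fr e'] at hP
    obtain ⟨k, hk⟩ := hP ⟨_, zl_mem_sup hp0 hw0 a⟩
    have hk' : zl Fr p0 a ^ p ^ k = 1 := congrArg Subtype.val hk
    obtain ⟨m, hm⟩ : Odd (p ^ k) := hp2.pow
    rw [hm, pow_succ, pow_mul, pow_two, zl_sq hp0 hw0 hA, one_pow, one_mul] at hk'
    exact zl_ne_one hp0 hw0 h2 a hk'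
  · rintro r ⟨a, e⟩
    have e' : ee (-r) = wt (ng a) + wt (ng a) := by rw [ee_neg, e, wt_ng]; abel
    rw [ZV_eq Fr e, ZV_eq Fr e', zv_eq Fr e]
    exact zl_mem_sup hp0 hw0 a
  · rintro r ⟨a, e⟩
    rw [zv_eq Fr e]
    exact ⟨zl_mem a hA, mono_zl hp0 hw0 a⟩
  · rintro r ⟨a, e⟩ t ht
    rw [zv_eq Fr e]
    exact zl_T hp0 hw0 hA ht a
  · rintro r ⟨a, e⟩
    rw [zv_eq Fr e]
    exact zl_sq hp0 hw0 hA a
  · rintro i r ⟨a, e⟩
    rw [zv_eq Fr e, rep_simple, zv_eq Fr (ee_refl_of e)]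
    exact zl_conj hp0 hw0 hA (nn_mem hA p0 i) (mono_nn hp0 i) a
  · rintro r ⟨a, e⟩
    have e' : ee (-r) = wt (ng a) + wt (ng a) := by rw [ee_neg, e, wt_ng]; abel
    rw [zv_eq Fr e, zv_eq Fr e']
    exact zl_neg hp0 hw0 hA a
  · rintro r ⟨a, e⟩ b hb
    rw [ZV_eq Fr e] at hb
    rw [zv_eq Fr e]
    obtain ⟨q, hq, rfl⟩ := hb
    have h1 := zl_conj_Z hp0 hw0 hA a q
    have h3 : Frame.Adm.smul (-1) q = q := by
      ext
      · rw [Frame.Adm.smul_w, hq, smul_zero]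
      · rw [Frame.Adm.smul_c, map_neg, map_one]; ring
    rw [h3, ← eq_mul_inv_iff_mul_eq, zl_inv hp0 hw0 hA] at h1
    exact h1
  · rintro r ⟨a, e⟩ y hy hyr hyr' hf g hg
    rw [zv_eq Fr e]
    obtain ⟨c, d, hcd, ey⟩ := exists_of_isRoot cs hy
    rw [rg_eq Fr hcd ey] at hg
    rw [Ne, form_eq_zero_iff cs (isRoot_iff.2 ⟨a, a, Or.inr rfl, e⟩), e, ey, ip_add_right, ip_add_left] at hf
    rcases hcd with hcd | rfl
    · rw [PG_ne Fr hcd] at hg
      by_cases hca : c.1 = a.1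
      · have hz : zl Fr p0 a = zl Fr p0 c := by
          rcases eq_or_ng hca with h | h
          · rw [h]
          · rw [h, zl_neg hp0 hw0 hA]
        obtain ⟨t, rfl⟩ := hg
        rw [hz, zl_conj_X hp0 hw0 hA hcd, Fr.X_neg]
      · by_cases hda : d.1 = a.1
        · have hz : zl Fr p0 a = zl Fr p0 d := by
            rcases eq_or_ng hda with h | h
            · rw [h]
            · rw [h, zl_neg hp0 hw0 hA]
          rw [XG_swap Fr hcd] at hg
          obtain ⟨t, rfl⟩ := hg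
          rw [hz, zl_conj_X hp0 hw0 hA hcd.symm, Fr.X_neg]
        · exfalso
          apply hf
          rw [ip_wt_ne hca, ip_wt_ne hda]
          norm_num
    · exfalso
      by_cases hca : c.1 = a.1
      · rcases eq_or_ng hca with h | h
        · exact hyr (ee_injective (by rw [ey, e, h]))
        · exact hyr' (ee_injective (by rw [ee_neg, ey, e, h, wt_ng]; abel))
      · apply hf
        rw [ip_wt_ne hca]
        norm_num
  · rintro r ⟨a, e⟩ g hg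
    rw [rg_eq Fr (Or.inr rfl) e, PG_self] at hg
    rw [ZV_eq Fr e, zv_eq Fr e]
    obtain ⟨q, rfl⟩ := hg
    rw [zl_conj_Z hp0 hw0 hA, ← Fr.Z_mul]
    refine ⟨_, ?_, rfl⟩
    rw [Frame.Adm.mul_w, Frame.Adm.smul_w, neg_smul, one_smul, neg_add_cancel]

omit hp0 hw0 in
theorem zv_mem (x : Fin n → ℤ) : zv Fr p0 x ∈ G0 := by
  unfold zv
  split_ifs
  · exact zl_mem _ hA
  · exact one_mem _

end Cfsg.Agent.Nodes.ClsWitt

/-! ### Models -/

namespace Cfsg.Agent.Nodes.ClsWitt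

open Cfsg.Agent.ChevalleyStructure.CoxeterGeom Cfsg.Agent.Tits.Roots Cfsg.Agent.Nodes.TypeC
open Cfsg.Agent.Nodes.Comb Cfsg.Agent.Nodes.Reps Cfsg.Agent.Nodes.WittRoot Cfsg.Agent.Nodes.BNOf
open Cfsg.Agent.Nodes.WittRGD Cfsg.Agent.Nodes.RGDLib Cfsg.Agent.Nodes.TypeCForm Cfsg.Agent.Nodes.Chart
open Cfsg.Agent.TitsThree Cfsg.Agent.TitsThree.Siegel Cfsg.Agent.TitsThree.WittFrame
  Cfsg.Agent.TitsThree.WittWeyl Cfsg.Agent.TitsThree.FrameCN
open Cfsg.Agent.Nodes.ClsMap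

section Model

variable {F : Type*} [Field F] {V : Type*} [AddCommGroup V] [Module F V] {H : HForm F V} {n : ℕ}
  {Fr : Frame H (Fin n)} {K : Type*} [Group K] (M : Model Fr K) (hA : Amb Fr M.I)

/-- The classical root groups of a model. -/
def ZM (x : Fin n → ℤ) : Subgroup K := ((ZV Fr x).subgroupOf M.I).map M.φ

/-- The classical involutions of a model. -/
noncomputable def zM (p0 : Fr.Adm) (x : Fin n → ℤ) : K := M.φ ⟨zv Fr p0 x, zv_mem hA x⟩

/-- **The classical root groups of a model.** -/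
theorem cls_model [Finite V] {p0 : Fr.Adm} (hp0 : p0.c ≠ 0) (hw0 : p0.w = 0) {p : ℕ} [Fact p.Prime] [CharP F p]
    (hp2 : Odd p) {W : Type*} [Group W] [Fintype W] (cs : CoxeterSystem (CoxeterMatrix.B n) W) :
    Cls cs (isCartan n) p (WittModel.T M) (WittModel.nw M hA p0) (WittModel.X M) (LR n) (ZM M) (zM M hA p0) := by
  have : Finite (V ≃ₗ[F] V) := Finite.of_injective (fun g : V ≃ₗ[F] V => (g : V → V)) DFunLike.coe_injective
  exact cls_map_of_ker_le_center (cls_restrict (cls hp0 hw0 hA hp2 cs) M.I (fun x _ => hA.rg_le x)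
    (fun i => nn_mem hA p0 i) (fun x => ⟨zv Fr p0 x, zv_mem hA x⟩) (fun _ _ => rfl)) M.φ
    (WittModel.ker_le_center M hA)

end Model

end Cfsg.Agent.Nodes.ClsWitt
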