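import Mathlib
import Cfsg.Agent.Nodes.ClsWitt
import Cfsg.Agent.Nodes.ChartTypeA
import Cfsg.Agent.Nodes.WittU

/-!
The subgroup generated by two opposite classical root groups of a Witt frame is the block subgroup of the
corresponding plane (project CIT, charts of `PSp_2m(q)`, `PSU_n(q)`).

* `block_mem` : an element of the ambient group fixing the orthogonal complement of the `i`-th plane, of
  determinant one on the plane, lies in `ZL a ⊔ ZL (ng a)`;
* `sup_ZL_U` : `ZL a ⊔ ZL (ng a)` is the block subgroup of the places `2i`, `2i+1` of `SU_N`;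
* `sup_ZL_Sp` : `ZL a ⊔ ZL (ng a)` is the block subgroup of the places `inl i`, `inr i` of `Sp_2m`.
-/

set_option autoImplicit false

namespace Cfsg.Agent.Nodes.WittBlock

open Cfsg.Agent.ChevalleyStructure.CoxeterGeom Cfsg.Agent.Tits.Roots Cfsg.Agent.Nodes.TypeC
open Cfsg.Agent.Nodes.Comb Cfsg.Agent.Nodes.Reps Cfsg.Agent.Nodes.WittRoot Cfsg.Agent.Nodes.BNOf
open Cfsg.Agent.Nodes.WittRGD Cfsg.Agent.Nodes.RGDLib Cfsg.Agent.Nodes.ClsWitt
open Cfsg.Agent.TitsThree Cfsg.Agent.TitsThree.Siegel Cfsg.Agent.TitsThree.WittFrame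
  Cfsg.Agent.TitsThree.WittWeyl Cfsg.Agent.TitsThree.FrameCN

section General

variable {F : Type*} [Field F] {V : Type*} [AddCommGroup V] [Module F V] {H : HForm F V} {n : ℕ}
  {Fr : Frame H (Fin n)} {G0 : Subgroup (V ≃ₗ[F] V)}

theorem ok_of (h2 : (2 : F) ≠ 0) {c : F} (hc : H.ε * c + H.σ c = 0) : Fr.ok 0 c := by
  have h1 := Fr.ok_tr (c / 2)
  have h3 : H.σ (c / 2) = H.σ c / 2 := by rw [map_div₀, map_ofNat]
  have h4 : H.σ c = -(H.ε * c) := by linear_combination hc
  have hε := H.ε_ne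
  have h5 : c / 2 - H.ε⁻¹ * H.σ (c / 2) = c := by
    rw [h3, h4]
    field_simp
    ring
  rwa [h5] at h1

/-- The elements of `ZL a` on the plane. -/
theorem exists_up (h2 : (2 : F) ≠ 0) (a : Fin n × Bool) {x : F} (hx : Fr.η (ng a) * x + H.σ x * Fr.η a = 0) :
    ∃ u ∈ ZL Fr a, u (Fr.b a) = Fr.b a ∧ u (Fr.b (ng a)) = Fr.b (ng a) + x • Fr.b a ∧
      ∀ v, H.h v (Fr.b a) = 0 → u v = v := by
  have hη := Fr.η_ne a
  have hc : H.ε * (x / Fr.η a) + H.σ (x / Fr.η a) = 0 := by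
    rw [map_div₀, Fr.σ_η, div_inv_eq_mul, ← Fr.η_neg a]
    show Fr.η (ng a) * Fr.η a * (x / Fr.η a) + H.σ x * Fr.η a = 0
    field_simp
    linear_combination hx
  let p : Fr.Adm := ⟨0, x / Fr.η a, ok_of h2 hc⟩
  refine ⟨Fr.Z a p, ⟨p, rfl, rfl⟩, ?_, ?_, ?_⟩
  · rw [Z_apply, Fr.hb_self, H.zero_right]
    simp
  · have h1 := Z_apply_neg Fr a p
    show Fr.Z a p (Fr.b (neg a)) = Fr.b (neg a) + x • Fr.b a
    rw [h1]
    show Fr.b (neg a) + Fr.η a • (0 : V) + (x / Fr.η a * Fr.η a) • Fr.b a = _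
    rw [smul_zero, add_zero, div_mul_cancel₀ _ hη]
  · intro v hv
    rw [Z_apply, hv, H.zero_right]
    simp

theorem ng_ng (a : Fin n × Bool) : ng (ng a) = a := by
  obtain ⟨i, b⟩ := a
  cases b <;> rfl

/-- Two elements agreeing on a plane and fixing its orthogonal complement agree. -/
theorem ext_plane (hA : Amb Fr G0) {a : Fin n × Bool} {g k : V ≃ₗ[F] V}
    (hg : ∀ v, H.h v (Fr.b a) = 0 → H.h v (Fr.b (ng a)) = 0 → g v = v)
    (hk : ∀ v, H.h v (Fr.b a) = 0 → H.h v (Fr.b (ng a)) = 0 → k v = v)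
    (h1 : g (Fr.b a) = k (Fr.b a)) (h2 : g (Fr.b (ng a)) = k (Fr.b (ng a))) : g = k := by
  apply ext_frame hA
  · intro x
    by_cases hx : x.1 = a.1
    · rcases eq_or_ng hx with rfl | rfl
      · exact h1
      · exact h2
    · rw [hg _ (Fr.hb_of_ne hx) (Fr.hb_of_ne hx), hk _ (Fr.hb_of_ne hx) (Fr.hb_of_ne hx)]
  · intro w hw
    rw [hg _ (Fr.h0' _ hw) (Fr.h0' _ hw), hk _ (Fr.h0' _ hw) (Fr.h0' _ hw)]

/-- The plane is preserved. -/
theorem exists_coeff (hA : Amb Fr G0) {a : Fin n × Bool} {k : V ≃ₗ[F] V} (hk : k ∈ G0)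
    (hfix : ∀ v, H.h v (Fr.b a) = 0 → H.h v (Fr.b (ng a)) = 0 → k v = v) {v : V}
    (hv : v = Fr.b a ∨ v = Fr.b (ng a)) : ∃ α β : F, k v = α • Fr.b a + β • Fr.b (ng a) := by
  have hη : H.h (Fr.b (ng a)) (Fr.b a) = Fr.η a := Fr.hb_neg_self a
  have hη' : H.h (Fr.b a) (Fr.b (ng a)) = Fr.η (ng a) := Fr.hb_self_neg a
  have n1 := Fr.η_ne a
  have n2 := Fr.η_ne (ng a)
  let α := H.h (k v) (Fr.b (ng a)) / Fr.η (ng a)
  let β := H.h (k v) (Fr.b a) / Fr.η a
  refine ⟨α, β, ?_⟩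
  have key : ∀ u, H.h u (Fr.b a) = 0 → H.h u (Fr.b (ng a)) = 0 → H.h (k v) u = 0 := by
    intro u h1 h2
    rw [← hfix u h1 h2, hA.iso k hk]
    rcases hv with rfl | rfl
    · exact H.orth_symm h1
    · exact H.orth_symm h2
  let d := k v - α • Fr.b a - β • Fr.b (ng a)
  have hd1 : H.h d (Fr.b a) = 0 := by
    simp only [d, H.sub_left, H.smul_left, Fr.hb_self, hη, β]
    field_simp
    ring
  have hd2 : H.h d (Fr.b (ng a)) = 0 := by
    simp only [d, H.sub_left, H.smul_left, Fr.hb_self, hη', α]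
    field_simp
    ring
  have hd3 : ∀ u, H.h u (Fr.b a) = 0 → H.h u (Fr.b (ng a)) = 0 → H.h d u = 0 := by
    intro u h1 h2
    simp only [d, H.sub_left, H.smul_left, key u h1 h2, H.orth_symm h1, H.orth_symm h2]
    ring
  have hd : d ∈ Fr.V0 := by
    apply hA.V0
    intro x
    by_cases hx : x.1 = a.1
    · rcases eq_or_ng hx with rfl | rfl
      · exact hd1
      · exact hd2
    · exact hd3 _ (Fr.hb_of_ne hx) (Fr.hb_of_ne hx)
  have hd0 : d = 0 := hA.aniso d hd (hd3 d hd1 hd2)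
  have : k v = α • Fr.b a + β • Fr.b (ng a) + d := by simp only [d]; abel
  rw [this, hd0, add_zero]

theorem block_mem (hA : Amb Fr G0) (h2 : (2 : F) ≠ 0) {p0 : Fr.Adm} (hp0 : p0.c ≠ 0) (hw0 : p0.w = 0)
    {a : Fin n × Bool} {k : V ≃ₗ[F] V} (hk : k ∈ G0)
    (hfix : ∀ v, H.h v (Fr.b a) = 0 → H.h v (Fr.b (ng a)) = 0 → k v = v) {α β γ δ : F}
    (he : k (Fr.b a) = α • Fr.b a + γ • Fr.b (ng a)) (hf : k (Fr.b (ng a)) = β • Fr.b a + δ • Fr.b (ng a))
    (hdet : α * δ - β * γ = 1) : k ∈ ZL Fr a ⊔ ZL Fr (ng a) := by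
  have hη : H.h (Fr.b (ng a)) (Fr.b a) = Fr.η a := Fr.hb_neg_self a
  have hη' : H.h (Fr.b a) (Fr.b (ng a)) = Fr.η (ng a) := Fr.hb_self_neg a
  have n1 := Fr.η_ne a
  have n2 := Fr.η_ne (ng a)
  -- the first case
  have key : ∀ {k : V ≃ₗ[F] V} (_ : k ∈ G0)
      (_ : ∀ v, H.h v (Fr.b a) = 0 → H.h v (Fr.b (ng a)) = 0 → k v = v) {α β γ δ : F}
      (_ : k (Fr.b a) = α • Fr.b a + γ • Fr.b (ng a)) (_ : k (Fr.b (ng a)) = β • Fr.b a + δ • Fr.b (ng a))
      (_ : α * δ - β * γ = 1), γ ≠ 0 → k ∈ ZL Fr a ⊔ ZL Fr (ng a) := by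
    intro k hk hfix α β γ δ he hf hdet hγ
    have E1 : α * H.σ γ * Fr.η (ng a) + γ * H.σ α * Fr.η a = 0 := by
      have := hA.iso k hk (Fr.b a) (Fr.b a)
      rw [he, Fr.hb_self] at this
      simp only [H.add_left, H.add_right, H.smul_left, H.smul_right, Fr.hb_self, hη, hη'] at this
      linear_combination this
    have E2 : β * H.σ δ * Fr.η (ng a) + δ * H.σ β * Fr.η a = 0 := by
      have := hA.iso k hk (Fr.b (ng a)) (Fr.b (ng a))
      rw [hf, Fr.hb_self] at this
      simp only [H.add_left, H.add_right, H.smul_left, H.smul_right, Fr.hb_self, hη, hη'] at this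
      linear_combination this
    have E3 : α * H.σ δ * Fr.η (ng a) + γ * H.σ β * Fr.η a = Fr.η (ng a) := by
      have := hA.iso k hk (Fr.b a) (Fr.b (ng a))
      rw [he, hf, hη'] at this
      simp only [H.add_left, H.add_right, H.smul_left, H.smul_right, Fr.hb_self, hη, hη'] at this
      linear_combination this
    have E4 : β * H.σ γ * Fr.η (ng a) + δ * H.σ α * Fr.η a = Fr.η a := by
      have := hA.iso k hk (Fr.b (ng a)) (Fr.b a)
      rw [he, hf, hη] at this
      simp only [H.add_left, H.add_right, H.smul_left, H.smul_right, Fr.hb_self, hη, hη'] at this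
      linear_combination this
    have s1 : H.σ γ * Fr.η (ng a) = -(γ * Fr.η a) := by
      linear_combination (-(H.σ γ * Fr.η (ng a))) * hdet + δ * E1 - γ * E4
    have s2 : H.σ α = α := by
      have : H.σ α * Fr.η a = α * Fr.η a := by
        linear_combination (-(H.σ α * Fr.η a)) * hdet + α * E4 - β * E1
      exact mul_right_cancel₀ n1 this
    have s3 : H.σ δ = δ := by
      have : H.σ δ * Fr.η (ng a) = δ * Fr.η (ng a) := by
        linear_combination (-(H.σ δ * Fr.η (ng a))) * hdet + δ * E3 - γ * E2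
      exact mul_right_cancel₀ n2 this
    have hσγ : H.σ γ ≠ 0 := by simpa using hγ
    -- the three factors
    have adm1 : ∀ x, H.σ x = x → Fr.η (ng a) * ((x - 1) / γ) + H.σ ((x - 1) / γ) * Fr.η a = 0 := by
      intro x hx
      rw [map_div₀, map_sub, map_one, hx]
      have h3 : Fr.η a = -(H.σ γ * Fr.η (ng a)) / γ := by
        rw [s1]; field_simp
      rw [h3]
      field_simp
      ring
    have adm2 : Fr.η (ng (ng a)) * γ + H.σ γ * Fr.η (ng a) = 0 := by
      rw [ng_ng, s1]; ring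
    obtain ⟨u, hu, u1, u2, u3⟩ := exists_up h2 a (adm1 α s2)
    obtain ⟨l, hl, l1, l2, l3⟩ := exists_up h2 (ng a) adm2
    obtain ⟨u', hu', u1', u2', u3'⟩ := exists_up h2 a (adm1 δ s3)
    rw [ng_ng] at l2
    have hk' : k = u * l * u' := by
      apply ext_plane hA hfix
      · intro v hv hv'
        rw [mul_apply', mul_apply', u3' v hv, l3 v hv', u3 v hv]
      · rw [mul_apply', mul_apply', u1', l2, map_add, map_smul, u1, u2, he]
        match_scalars <;> field_simp
        ring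
      · rw [mul_apply', mul_apply', u2', map_add, map_smul, l1, l2, map_add, map_smul, map_add, map_smul, u1, u2,
          hf]
        match_scalars
        · field_simp
          linear_combination -hdet
        · field_simp
          ring
    rw [hk']
    exact mul_mem (mul_mem (Subgroup.mem_sup_left hu) (Subgroup.mem_sup_right hl)) (Subgroup.mem_sup_left hu')
  by_cases hγ : γ = 0
  · have hδ : δ ≠ 0 := by
      rintro rfl
      rw [hγ] at hdet
      simp at hdet
    have hadm : Fr.η (ng (ng a)) * (p0.c * Fr.η (ng a)) + H.σ (p0.c * Fr.η (ng a)) * Fr.η (ng a) = 0 := by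
      have h1 := eps_c hp0 hw0
      have h3 : Fr.η (ng a) * Fr.η a = H.ε := Fr.η_neg a
      rw [ng_ng, map_mul, Fr.σ_η]
      have n3 := Fr.η_ne (ng a)
      field_simp
      linear_combination h1 + p0.c * h3
    obtain ⟨l, hl, l1, l2, l3⟩ := exists_up h2 (ng a) hadm
    rw [ng_ng] at l2
    have hl' : l ∈ ZL Fr a ⊔ ZL Fr (ng a) := Subgroup.mem_sup_right hl
    have hlG : l ∈ G0 := by
      obtain ⟨q, -, rfl⟩ := hl
      exact hA.Z_mem _ _
    have h1 : k * l ∈ ZL Fr a ⊔ ZL Fr (ng a) := by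
      refine key (mul_mem hk hlG) (α := α + p0.c * Fr.η (ng a) * β) (β := β)
        (γ := p0.c * Fr.η (ng a) * δ) (δ := δ) ?_ ?_ ?_ ?_ ?_
      · intro v hv hv'
        rw [mul_apply', l3 v hv', hfix v hv hv']
      · rw [mul_apply', l2, map_add, map_smul, he, hf, hγ]
        module
      · rw [mul_apply', l1, hf]
      · rw [hγ] at hdet
        linear_combination hdet
      · exact mul_ne_zero (mul_ne_zero hp0 n2) hδ
    have h3 := mul_mem h1 (inv_mem hl')
    rwa [mul_inv_cancel_right] at h3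
  · exact key hk hfix he hf hdet hγ

/-- Elements of `ZL a` fix the orthogonal complement of the plane. -/
theorem fix_of_mem {a : Fin n × Bool} {k : V ≃ₗ[F] V} (hk : k ∈ ZL Fr a ⊔ ZL Fr (ng a)) :
    ∀ v, H.h v (Fr.b a) = 0 → H.h v (Fr.b (ng a)) = 0 → k v = v := by
  let S : Subgroup (V ≃ₗ[F] V) :=
    { carrier := {g | ∀ v, H.h v (Fr.b a) = 0 → H.h v (Fr.b (ng a)) = 0 → g v = v}
      mul_mem' := by
        intro x y hx hy v h1 h2
        rw [mul_apply', hy v h1 h2, hx v h1 h2]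
      one_mem' := fun v _ _ => rfl
      inv_mem' := by
        intro x hx v h1 h2
        have h3 := hx v h1 h2
        conv_lhs => rw [← h3]
        rw [← mul_apply', inv_mul_cancel]
        rfl }
  have h1 : ZL Fr a ⊔ ZL Fr (ng a) ≤ S := by
    refine sup_le ?_ ?_
    · rintro _ ⟨p, hp, rfl⟩ v h1 h2
      rw [Z_apply, h1, hp, H.zero_right]
      simp
    · rintro _ ⟨p, hp, rfl⟩ v h1 h2
      rw [Z_apply, h2, hp, H.zero_right]
      simp
  exact h1 hk

theorem sup_le_amb (hA : Amb Fr G0) (a : Fin n × Bool) : ZL Fr a ⊔ ZL Fr (ng a) ≤ G0 := by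
  refine sup_le ?_ ?_
  · rintro _ ⟨p, -, rfl⟩
    exact hA.Z_mem _ _
  · rintro _ ⟨p, -, rfl⟩
    exact hA.Z_mem _ _

end General

/-! ### Coordinate planes -/

section Coord

open Matrix Cfsg.Agent.Nodes.ChartTypeA Cfsg.Agent.Nodes.RGDTypeA

variable {F : Type*} [Field F] {ι : Type*} [Fintype ι] [DecidableEq ι] {H : HForm F (ι → F)} {n : ℕ}
  {Fr : Frame H (Fin n)} {G0 : Subgroup ((ι → F) ≃ₗ[F] (ι → F))}

/-- The plane of `a` is the coordinate plane of the places `p`, `q`. -/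
structure Plane (Fr : Frame H (Fin n)) (a : Fin n × Bool) (p q : ι) : Prop where
  ne : p ≠ q
  b0 : ∀ j, j ≠ p → j ≠ q → Fr.b a j = 0 ∧ Fr.b (ng a) j = 0
  det : Fr.b a p * Fr.b (ng a) q - Fr.b a q * Fr.b (ng a) p ≠ 0
  orth : ∀ v : ι → F, v p = 0 → v q = 0 → H.h v (Fr.b a) = 0 ∧ H.h v (Fr.b (ng a)) = 0

namespace Plane

variable {a : Fin n × Bool} {p q : ι} (hP : Plane Fr a p q)

include hP

omit [Fintype ι] [DecidableEq ι] in
theorem neg : Plane Fr (ng a) p q where
  ne := hP.ne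
  b0 j h1 h2 := by rw [ng_ng]; exact (hP.b0 j h1 h2).symm
  det := by
    rw [ng_ng]
    intro h
    apply hP.det
    linear_combination -h
  orth v h1 h2 := by rw [ng_ng]; exact (hP.orth v h1 h2).symm

omit [Fintype ι] [DecidableEq ι] in
/-- Every vector supported on the places is a combination of the frame vectors. -/
theorem exists_comb (v : ι → F) (hv : ∀ j, j ≠ p → j ≠ q → v j = 0) :
    ∃ x y : F, v = x • Fr.b a + y • Fr.b (ng a) := by
  have hD := hP.det
  refine ⟨(v p * Fr.b (ng a) q - v q * Fr.b (ng a) p) / (Fr.b a p * Fr.b (ng a) q - Fr.b a q * Fr.b (ng a) p),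
    (Fr.b a p * v q - Fr.b a q * v p) / (Fr.b a p * Fr.b (ng a) q - Fr.b a q * Fr.b (ng a) p), ?_⟩
  funext j
  simp only [Pi.add_apply, Pi.smul_apply, smul_eq_mul]
  by_cases h1 : j = p
  · subst h1
    rw [div_mul_eq_mul_div, div_mul_eq_mul_div, ← add_div, eq_div_iff hD]
    ring
  · by_cases h2 : j = q
    · subst h2
      rw [div_mul_eq_mul_div, div_mul_eq_mul_div, ← add_div, eq_div_iff hD]
      ring
    · rw [hv j h1 h2, (hP.b0 j h1 h2).1, (hP.b0 j h1 h2).2]; ring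

omit [Fintype ι] [DecidableEq ι] in
theorem eq_zero_of_orth {v : ι → F} (h1 : H.h v (Fr.b a) = 0) (h2 : H.h v (Fr.b (ng a)) = 0) :
    v p = 0 ∧ v q = 0 := by
  classical
  let v' : ι → F := fun j => if j = p ∨ j = q then 0 else v j
  have hv'p : v' p = 0 := if_pos (Or.inl rfl)
  have hv'q : v' q = 0 := if_pos (Or.inr rfl)
  obtain ⟨x, y, hxy⟩ := hP.exists_comb (v - v') (by
    intro j h3 h4
    rw [Pi.sub_apply]
    show v j - (if j = p ∨ j = q then 0 else v j) = 0
    rw [if_neg (not_or.2 ⟨h3, h4⟩), sub_self])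
  have e : v = x • Fr.b a + y • Fr.b (ng a) + v' := by rw [← hxy, sub_add_cancel]
  have hη : H.h (Fr.b (ng a)) (Fr.b a) = Fr.η a := Fr.hb_neg_self a
  have hη' : H.h (Fr.b a) (Fr.b (ng a)) = Fr.η (ng a) := Fr.hb_self_neg a
  obtain ⟨o1, o2⟩ := hP.orth v' hv'p hv'q
  rw [e, H.add_left, H.add_left, H.smul_left, H.smul_left, o1, Fr.hb_self, hη, mul_zero, zero_add, add_zero] at h1
  rw [e, H.add_left, H.add_left, H.smul_left, H.smul_left, o2, Fr.hb_self, hη', mul_zero, add_zero, add_zero] at h2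
  have hy : y = 0 := (mul_eq_zero.1 h1).resolve_right (Fr.η_ne a)
  have hx : x = 0 := (mul_eq_zero.1 h2).resolve_right (Fr.η_ne (ng a))
  rw [e, hx, hy]
  simp [hv'p, hv'q]

/-- An element of the ambient group fixing the orthogonal complement is a block matrix. -/
theorem blk_of_fix (hA : Amb Fr G0) {k : (ι → F) ≃ₗ[F] (ι → F)} (hk : k ∈ G0) {A : Matrix ι ι F}
    (hkA : ∀ v, k v = A *ᵥ v) (hfix : ∀ v, H.h v (Fr.b a) = 0 → H.h v (Fr.b (ng a)) = 0 → k v = v) :
    Blk p q A := by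
  have hcol : ∀ i j, A i j = k (Pi.single j 1) i := by
    intro i j
    rw [hkA, Matrix.mulVec_single_one]
    rfl
  intro i j hij
  by_cases hj : j = p ∨ j = q
  · have hi : ¬ (i = p ∨ i = q) := fun h => hij ⟨h, hj⟩
    obtain ⟨hi1, hi2⟩ := not_or.1 hi
    have hij' : i ≠ j := by rintro rfl; exact hi hj
    obtain ⟨x, y, hxy⟩ := hP.exists_comb (Pi.single j (1 : F)) (by
      intro l h1 h2
      rw [Pi.single_eq_of_ne]
      rintro rfl
      rcases hj with h | h
      · exact h1 h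
      · exact h2 h)
    obtain ⟨α, γ, e1⟩ := exists_coeff hA hk hfix (Or.inl rfl)
    obtain ⟨β, δ, e2⟩ := exists_coeff hA hk hfix (Or.inr rfl)
    rw [hcol, hxy, map_add, map_smul, map_smul, e1, e2]
    simp only [Pi.add_apply, Pi.smul_apply, smul_eq_mul, (hP.b0 i hi1 hi2).1, (hP.b0 i hi1 hi2).2]
    rw [Matrix.one_apply_ne hij']
    ring
  · obtain ⟨hj1, hj2⟩ := not_or.1 hj
    obtain ⟨o1, o2⟩ := hP.orth (Pi.single j (1 : F)) (Pi.single_eq_of_ne (Ne.symm hj1) _)
      (Pi.single_eq_of_ne (Ne.symm hj2) _)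
    rw [hcol, hfix _ o1 o2, Matrix.one_apply, Pi.single_apply]

theorem fix_of_blk {k : (ι → F) ≃ₗ[F] (ι → F)} {A : Matrix ι ι F} (hkA : ∀ v, k v = A *ᵥ v) (hB : Blk p q A) :
    ∀ v, H.h v (Fr.b a) = 0 → H.h v (Fr.b (ng a)) = 0 → k v = v := by
  intro v h1 h2
  obtain ⟨v1, v2⟩ := hP.eq_zero_of_orth h1 h2
  rw [hkA]
  funext l
  rw [hB.mulVec hP.ne, v1, v2]
  split_ifs with h3 h4
  · rw [h3, v1]; ring
  · rw [h4, v2]; ring
  · rfl

omit hP in
theorem det_eq (hpq : p ≠ q) {A : Matrix ι ι F} (hB : Blk p q A) {e f : ι → F} {α β γ δ : F}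
    (he : A *ᵥ e = α • e + γ • f) (hf : A *ᵥ f = β • e + δ • f) (hD : e p * f q - e q * f p ≠ 0) :
    A p p * A q q - A p q * A q p = α * δ - β * γ := by
  have e1 := congrFun he p
  have e2 := congrFun he q
  have e3 := congrFun hf p
  have e4 := congrFun hf q
  rw [hB.mulVec hpq, if_pos rfl] at e1 e3
  rw [hB.mulVec hpq, if_neg hpq.symm, if_pos rfl] at e2 e4
  simp only [Pi.add_apply, Pi.smul_apply, smul_eq_mul] at e1 e2 e3 e4
  apply mul_right_cancel₀ hD
  have key : (A p p * e p + A p q * e q) * (A q p * f p + A q q * f q) -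
      (A q p * e p + A q q * e q) * (A p p * f p + A p q * f q) =
      (A p p * A q q - A p q * A q p) * (e p * f q - e q * f p) := by ring
  rw [← key, e1, e2, e3, e4]
  ring

/-- **The block subgroup.** -/
theorem mem_sup_iff (hA : Amb Fr G0) (h2 : (2 : F) ≠ 0) {p0 : Fr.Adm} (hp0 : p0.c ≠ 0) (hw0 : p0.w = 0)
    {k : (ι → F) ≃ₗ[F] (ι → F)} (hk : k ∈ G0) {A : Matrix ι ι F} (hkA : ∀ v, k v = A *ᵥ v)
    (hdet : Blk p q A → A p p * A q q - A p q * A q p = 1) : k ∈ ZL Fr a ⊔ ZL Fr (ng a) ↔ Blk p q A := by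
  constructor
  · intro h
    exact hP.blk_of_fix hA hk hkA (fix_of_mem h)
  · intro hB
    have hfix := hP.fix_of_blk hkA hB
    obtain ⟨α, γ, e1⟩ := exists_coeff hA hk hfix (Or.inl rfl)
    obtain ⟨β, δ, e2⟩ := exists_coeff hA hk hfix (Or.inr rfl)
    refine block_mem hA h2 hp0 hw0 hk hfix e1 e2 ?_
    rw [hkA] at e1 e2
    rw [← det_eq hP.ne hB e1 e2 hP.det]
    exact hdet hB

end Plane

omit [Field F] in
theorem blk_of_mul_eq_one [Field F] {p q : ι} {g k : Matrix ι ι F} (hg : Blk p q g) (h1 : g * k = 1)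
    (h2 : k * g = 1) : Blk p q k := by
  intro i j hij
  by_cases hj : j = p ∨ j = q
  · have hi : ¬ (i = p ∨ i = q) := fun h => hij ⟨h, hj⟩
    have h3 : (g * k) i j = (1 : Matrix ι ι F) i j := by rw [h1]
    rw [Matrix.mul_apply, Finset.sum_eq_single i] at h3
    · rwa [hg i i (fun h => hi h.1), Matrix.one_apply_eq, one_mul] at h3
    · intro l _ hl
      rw [hg i l (fun h => hi h.1), Matrix.one_apply_ne hl.symm, zero_mul]
    · intro h0
      exact absurd (Finset.mem_univ _) h0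
  · have h3 : (k * g) i j = (1 : Matrix ι ι F) i j := by rw [h2]
    rw [Matrix.mul_apply, Finset.sum_eq_single j] at h3
    · rwa [hg j j (fun h => hj h.2), Matrix.one_apply_eq, mul_one] at h3
    · intro l _ hl
      rw [hg l j (fun h => hj h.2), Matrix.one_apply_ne hl, mul_zero]
    · intro h0
      exact absurd (Finset.mem_univ _) h0

/-- The determinant of a block matrix. -/
theorem det_blk {p q : ι} (hpq : p ≠ q) {g : SpecialLinearGroup ι F} (hg : Blk p q g.1) :
    g.1 p p * g.1 q q - g.1 p q * g.1 q p = 1 := by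
  let S : Subgroup (SpecialLinearGroup ι F) :=
    { carrier := {g | Blk p q g.1 ∧ g.1 p p * g.1 q q - g.1 p q * g.1 q p = 1}
      one_mem' := ⟨blk_one _ _, by
        show (1 : Matrix ι ι F) p p * (1 : Matrix ι ι F) q q - (1 : Matrix ι ι F) p q * (1 : Matrix ι ι F) q p = 1
        rw [Matrix.one_apply_eq, Matrix.one_apply_eq, Matrix.one_apply_ne hpq]
        ring⟩
      mul_mem' := by
        rintro x y ⟨hx, hx'⟩ ⟨hy, hy'⟩
        refine ⟨hx.mul hy, ?_⟩
        change (x.1 * y.1) p p * (x.1 * y.1) q q - (x.1 * y.1) p q * (x.1 * y.1) q p = 1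
        rw [mul_blk_apply hpq hx _ (Or.inl rfl), mul_blk_apply hpq hx _ (Or.inr rfl),
          mul_blk_apply hpq hx _ (Or.inl rfl), mul_blk_apply hpq hx _ (Or.inr rfl)]
        linear_combination hx' + (x.1 p p * x.1 q q - x.1 p q * x.1 q p) * hy'
      inv_mem' := by
        rintro x ⟨hx, hx'⟩
        refine ⟨hx.inv, ?_⟩
        have h1 : ∀ i j, (x.1 * (x⁻¹).1) i j = (1 : Matrix ι ι F) i j := by
          intro i j
          rw [show x.1 * (x⁻¹).1 = (x * x⁻¹).1 from rfl, mul_inv_cancel]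
          rfl
        have a1 := h1 p p
        have a2 := h1 p q
        have a3 := h1 q p
        have a4 := h1 q q
        rw [mul_blk_apply hpq hx _ (Or.inl rfl), Matrix.one_apply_eq] at a1
        rw [mul_blk_apply hpq hx _ (Or.inl rfl), Matrix.one_apply_ne hpq] at a2
        rw [mul_blk_apply hpq hx _ (Or.inr rfl), Matrix.one_apply_ne hpq.symm] at a3
        rw [mul_blk_apply hpq hx _ (Or.inr rfl), Matrix.one_apply_eq] at a4
        have key : (x.1 p p * (x⁻¹).1 p p + x.1 p q * (x⁻¹).1 q p) *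
            (x.1 q p * (x⁻¹).1 p q + x.1 q q * (x⁻¹).1 q q) -
            (x.1 p p * (x⁻¹).1 p q + x.1 p q * (x⁻¹).1 q q) *
            (x.1 q p * (x⁻¹).1 p p + x.1 q q * (x⁻¹).1 q p) =
            (x.1 p p * x.1 q q - x.1 p q * x.1 q p) *
            ((x⁻¹).1 p p * (x⁻¹).1 q q - (x⁻¹).1 p q * (x⁻¹).1 q p) := by ring
        rw [a1, a2, a3, a4, hx'] at key
        linear_combination -key }
  have h1 : XX F p q ⊔ XX F q p ≤ S := by
    refine sup_le ?_ ?_
    · rintro _ ⟨t, rfl⟩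
      refine ⟨blk_tv hpq t, ?_⟩
      rw [tv_aa hpq, tv_ab hpq, tv_ba hpq, tv_bb hpq]
      ring
    · rintro _ ⟨t, rfl⟩
      refine ⟨(blk_tv hpq.symm t).symm, ?_⟩
      rw [tv_aa hpq.symm, tv_ab hpq.symm, tv_ba hpq.symm, tv_bb hpq.symm]
      ring
  exact (h1 (blk_mem hpq hg)).2

end Coord

/-! ### Models -/

section Model

variable {F : Type*} [Field F] {V : Type*} [AddCommGroup V] [Module F V] {H : HForm F V} {n : ℕ}
  {Fr : Frame H (Fin n)} {K : Type*} [Group K] (M : Model Fr K) (hA : Amb Fr M.I)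

include hA in
/-- The classical subgroup of a model. -/
theorem sup_ZM {x : Fin n → ℤ} {a : Fin n × Bool} (e : ee x = wt a + wt a) :
    ZM M x ⊔ ZM M (-x) = ((ZL Fr a ⊔ ZL Fr (ng a)).subgroupOf M.I).map M.φ := by
  have e' : ee (-x) = wt (ng a) + wt (ng a) := by rw [ee_neg, e, wt_ng]; abel
  have h1 := sup_le_amb hA a
  rw [ZM, ZM, ZV_eq Fr e, ZV_eq Fr e', ← Subgroup.map_sup,
    ← Subgroup.subgroupOf_sup (le_sup_left.trans h1) (le_sup_right.trans h1)]

end Model

/-! ### Unitary groups -/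

section Unitary

open Matrix Cfsg Cfsg.Agent.LieClassical.HermBasic Cfsg.Agent.Nodes.ChartTypeA Cfsg.Agent.Nodes.WittU
open Cfsg.Agent.TitsThree.SiegelGen Cfsg.Agent.TitsThree.WBridge
open Cfsg.Agent.TitsThree.KSideU Cfsg.Agent.TitsThree.KSideUDesc

variable {F : Type*} [Field F] [Fintype F] {q N : ℕ} (hF : Fintype.card F = q ^ 2) {m : ℕ}

theorem plane_U (W : WFrame (PU hF N) m) (hW : Blocks hF W) (i : Fin m) {r s : Fin N} (hr : (r : ℕ) = 2 * i)
    (hs : (s : ℕ) = 2 * i + 1) : Plane (toFrame W) (i, true) r s := by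
  have hrs : r ≠ s := by
    intro h
    have := congrArg Fin.val h
    omega
  have hb : ∀ j, j ≠ r → j ≠ s → W.e i j = 0 ∧ W.f i j = 0 := fun j h1 h2 =>
    hW i j (fun h => h1 (Fin.ext (h.trans hr.symm))) (fun h => h2 (Fin.ext (h.trans hs.symm)))
  have hherm : ∀ (v w : Fin N → F), (∀ j, j ≠ r → j ≠ s → w j = 0) →
      hermForm N F q v w = v r * w r ^ q + v s * w s ^ q := by
    intro v w hw
    rw [hermForm, ← Finset.sum_subset (Finset.subset_univ {r, s}), Finset.sum_pair hrs]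
    intro j _ hj
    rw [Finset.mem_insert, Finset.mem_singleton, not_or] at hj
    rw [hw j hj.1 hj.2, zero_pow_q hF, mul_zero]
  refine ⟨hrs, hb, ?_, ?_⟩
  · intro hD
    have h1 : hermForm N F q (W.e i) (W.e i) = 0 := W.ee i i
    have h2 : hermForm N F q (W.f i) (W.f i) = 0 := W.ff i i
    have h3 : hermForm N F q (W.e i) (W.f i) = 1 := (W.ef i i).trans (if_pos rfl)
    have h4 : hermForm N F q (W.f i) (W.e i) = 1 := by
      have := (W.fe i i).trans (if_pos rfl)
      rw [HU_ε] at this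
      exact this
    rw [hherm _ _ fun j a b => (hb j a b).1] at h1 h4
    rw [hherm _ _ fun j a b => (hb j a b).2] at h2 h3
    have hD' : W.e i r * W.f i s - W.e i s * W.f i r = 0 := hD
    have key : (W.e i r * W.f i s - W.e i s * W.f i r) * (W.e i r ^ q * W.f i s ^ q - W.e i s ^ q * W.f i r ^ q) =
        (W.e i r * W.e i r ^ q + W.e i s * W.e i s ^ q) * (W.f i r * W.f i r ^ q + W.f i s * W.f i s ^ q) -
        (W.e i r * W.f i r ^ q + W.e i s * W.f i s ^ q) * (W.f i r * W.e i r ^ q + W.f i s * W.e i s ^ q) := by ring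
    rw [hD', h1, h2, h3, h4] at key
    norm_num at key
  · intro v h1 h2
    refine ⟨?_, ?_⟩
    · show hermForm N F q v (W.e i) = 0
      rw [hherm _ _ fun j a b => (hb j a b).1, h1, h2]; ring
    · show hermForm N F q v (W.f i) = 0
      rw [hherm _ _ fun j a b => (hb j a b).2, h1, h2]; ring

/-- The block subgroup of `SU_N` on the places `r`, `s`. -/
def blkU (F : Type*) [Field F] (q N : ℕ) (r s : Fin N) : Subgroup (SU N F q) := (blk F r s).subgroupOf (SU N F q)

omit [Fintype F] in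
theorem mem_blkU {r s : Fin N} {g : SU N F q} : g ∈ blkU F q N r s ↔ Blk r s g.1.1 := Iff.rfl

theorem two_ne {F : Type*} [Field F] {p : ℕ} [Fact p.Prime] [CharP F p] (hp2 : Odd p) : (2 : F) ≠ 0 := by
  have : ((2 : ℕ) : F) ≠ 0 := by
    rw [Ne, CharP.cast_eq_zero_iff F p]
    intro h
    have h3 := (Nat.prime_dvd_prime_iff_eq (Fact.out : p.Prime) Nat.prime_two).1 h
    subst h3
    exact absurd hp2 (by decide)
  simpa using this

/-- **The classical subgroups of `SU_N`** are the block subgroups. -/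
theorem sup_ZL_U (W : WFrame (PU hF N) m) (hW : Blocks hF W) (h2 : (2 : F) ≠ 0) (i : Fin m) {r s : Fin N}
    (hr : (r : ℕ) = 2 * i) (hs : (s : ℕ) = 2 * i + 1) (g : IU F q N) :
    g.1 ∈ ZL (toFrame W) (i, true) ⊔ ZL (toFrame W) (ng (i, true)) ↔ Blk r s (ofRange F q N g).1.1 := by
  obtain ⟨p0, hp0, hw0⟩ := exists_adm hF W
  have hP := plane_U hF W hW i hr hs
  refine hP.mem_sup_iff (amb_U hF W) h2 hp0 hw0 g.2 ?_ ?_
  · intro v
    conv_lhs => rw [← toLin_ofRange g]
    rfl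
  · intro hB
    exact det_blk hP.ne hB

/-- **The classical subgroups of `PSU_N`.** -/
theorem sup_ZM_U (hN : 3 ≤ N) (W : WFrame (PU hF N) m) (hW : Blocks hF W) (h2 : (2 : F) ≠ 0) (i : Fin m)
    {r s : Fin N} (hr : (r : ℕ) = 2 * i) (hs : (s : ℕ) = 2 * i + 1) {x : Fin m → ℤ}
    (hx : ee x = wt (i, true) + wt (i, true)) :
    ZM (KInstU.model hF hN W) x ⊔ ZM (KInstU.model hF hN W) (-x) =
      (blkU F q N r s).map (QuotientGroup.mk' (Subgroup.center (SU N F q))) := by
  rw [sup_ZM (KInstU.model hF hN W) (amb_U hF W) hx]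
  ext k
  constructor
  · rintro ⟨g, hg, rfl⟩
    exact ⟨ofRange F q N g, (sup_ZL_U hF W hW h2 i hr hs g).1 hg, rfl⟩
  · rintro ⟨g, hg, rfl⟩
    obtain ⟨g', rfl⟩ := (ofRange F q N).surjective g
    exact ⟨g', (sup_ZL_U hF W hW h2 i hr hs g').2 hg, rfl⟩

end Unitary

/-! ### Symplectic groups -/

section Symplectic

open Matrix Cfsg Cfsg.Agent.Nodes.ChartTypeA Cfsg.Agent.Nodes.WittU Cfsg.Agent.ClassicalGeometry.SympBasic
open Cfsg.Agent.TitsThree.SpIdent

variable {F : Type*} [Field F] {m : ℕ}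

theorem plane_Sp (i : Fin m) : Plane (frame m F) (i, true) (Sum.inr i) (Sum.inl i) := by
  refine ⟨by simp, ?_, ?_, ?_⟩
  · intro j h1 h2
    exact ⟨Pi.single_eq_of_ne h1 _, Pi.single_eq_of_ne h2 _⟩
  · show (Pi.single (Sum.inr i) (1 : F) : Fin m ⊕ Fin m → F) (Sum.inr i) *
      (Pi.single (Sum.inl i) (1 : F) : Fin m ⊕ Fin m → F) (Sum.inl i) -
      (Pi.single (Sum.inr i) (1 : F) : Fin m ⊕ Fin m → F) (Sum.inl i) *
      (Pi.single (Sum.inl i) (1 : F) : Fin m ⊕ Fin m → F) (Sum.inr i) ≠ 0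
    simp
  · intro v h1 h2
    refine ⟨?_, ?_⟩
    · show sympForm m F v (Pi.single (Sum.inr i) 1) = 0
      rw [sympForm_single_inr_right, h2, neg_zero]
    · show sympForm m F v (Pi.single (Sum.inl i) 1) = 0
      rw [sympForm_single_inl_right, h1]

/-- The block subgroup of `Sp_2m` on the places `inl i`, `inr i`. -/
def blkSp (F : Type*) [Field F] {m : ℕ} (i : Fin m) : Subgroup (Matrix.symplecticGroup (Fin m) F) where
  carrier := {g | Blk (Sum.inl i) (Sum.inr i) g.1}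
  mul_mem' := fun h1 h2 => Blk.mul h1 h2
  one_mem' := blk_one _ _
  inv_mem' := by
    intro g hg
    refine blk_of_mul_eq_one (k := (g⁻¹ : Matrix.symplecticGroup (Fin m) F).1) hg ?_ ?_
    · have : (g * g⁻¹).1 = (1 : Matrix.symplecticGroup (Fin m) F).1 := by rw [mul_inv_cancel]
      exact this
    · have : (g⁻¹ * g).1 = (1 : Matrix.symplecticGroup (Fin m) F).1 := by rw [inv_mul_cancel]
      exact this

theorem mem_blkSp {i : Fin m} {g : Matrix.symplecticGroup (Fin m) F} :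
    g ∈ blkSp F i ↔ Blk (Sum.inl i) (Sum.inr i) g.1 := Iff.rfl

/-- **The classical subgroups of `Sp_2m`** are the block subgroups. -/
theorem sup_ZL_Sp (h2 : (2 : F) ≠ 0) (i : Fin m) (g : isos (form m F)) :
    g.1 ∈ ZL (frame m F) (i, true) ⊔ ZL (frame m F) (ng (i, true)) ↔ Blk (Sum.inl i) (Sum.inr i) (toSp g).1 := by
  have hP := plane_Sp (F := F) i
  have hkA : ∀ v, g.1 v = (toSp g).1 *ᵥ v := fun v => (toSp_mulVec g v).symm
  rw [hP.mem_sup_iff amb_Sp h2 (p0 := adm 1) one_ne_zero rfl g.2 hkA ?_]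
  · exact ⟨fun h => h.symm, fun h => h.symm⟩
  · intro hB
    have e1 : ∀ j : Fin m ⊕ Fin m, (toSp g).1 *ᵥ Pi.single j 1 = fun l => (toSp g).1 l j := fun j =>
      Matrix.mulVec_single_one _ j
    have h3 : sympForm m F (g.1 (Pi.single (Sum.inr i) 1)) (g.1 (Pi.single (Sum.inl i) 1)) =
        sympForm m F (Pi.single (Sum.inr i) 1) (Pi.single (Sum.inl i) 1) := g.2 _ _
    rw [sympForm_single_inr_left, Pi.single_eq_same, hkA, hkA, e1, e1] at h3
    have hcol : ∀ j : Fin m ⊕ Fin m, (j = Sum.inr i ∨ j = Sum.inl i) →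
        (fun l => (toSp g).1 l j) = (toSp g).1 (Sum.inr i) j • (Pi.single (Sum.inr i) (1 : F) : Fin m ⊕ Fin m → F) +
          (toSp g).1 (Sum.inl i) j • Pi.single (Sum.inl i) (1 : F) := by
      intro j hj
      funext l
      simp only [Pi.add_apply, Pi.smul_apply, smul_eq_mul]
      by_cases hl : l = Sum.inr i
      · subst hl; simp
      · by_cases hl' : l = Sum.inl i
        · subst hl'; simp
        · rw [hB l j (fun h => (not_or.2 ⟨hl, hl'⟩) h.1), Pi.single_eq_of_ne hl, Pi.single_eq_of_ne hl',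
            Matrix.one_apply_ne]
          · ring
          · rintro rfl
            rcases hj with h | h
            · exact hl h
            · exact hl' h
    rw [hcol _ (Or.inl rfl), hcol _ (Or.inr rfl)] at h3
    simp only [sympForm_add_left, sympForm_smul_left, sympForm_single_inr_left, sympForm_single_inl_left,
      Pi.add_apply, Pi.smul_apply, smul_eq_mul] at h3
    simp at h3
    rw [coe_toSp]
    linear_combination h3

/-- **The classical subgroups of `PSp_2m`.** -/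
theorem sup_ZM_Sp (h2 : (2 : F) ≠ 0) (i : Fin m) {x : Fin m → ℤ} (hx : ee x = wt (i, true) + wt (i, true)) :
    ZM (KInstSp.model m F) x ⊔ ZM (KInstSp.model m F) (-x) =
      (blkSp F i).map (QuotientGroup.mk' (Subgroup.center (Matrix.symplecticGroup (Fin m) F))) := by
  rw [sup_ZM (KInstSp.model m F) amb_Sp hx]
  ext k
  constructor
  · rintro ⟨g, hg, rfl⟩
    exact ⟨toSp g, (sup_ZL_Sp h2 i g).1 hg, rfl⟩
  · rintro ⟨g, hg, rfl⟩
    obtain ⟨g', rfl⟩ := toSp_surjective g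
    exact ⟨g', (sup_ZL_Sp h2 i g').2 hg, rfl⟩

end Symplectic

end Cfsg.Agent.Nodes.WittBlock
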