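import Mathlib
import Cfsg.Agent.Nodes.Coroot

/-!
# The planes spanned by a long root and another root (project CIT, facts on charts)

`r` a root with `(y, y) ≤ (r, r) ≤ 2 (y, y)` for all roots `y` (structure `Lg`).

* `Lg.len` : `(y, r) > 0`, `y ≠ r` ⟹ `⟨y, r^∨⟩ = 1`, `(y, y) ∈ {(r, r), (r, r) / 2}`;
* `Lg.plane_a`, `Lg.plane_b` : the roots in the plane of `r` and `y`;
* `Lg.opp` : `r` between `y` and `y'`, `(y, r), (y', r) > 0` ⟹ `r = y + y'`.
-/

set_option autoImplicit false
set_option linter.unusedSectionVars false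

namespace Cfsg.Agent.Nodes.CenVV

open CoxeterSystem Cfsg.Agent.ChevalleyStructure.CoxeterGeom Cfsg.Agent.Tits.Roots Cfsg.Agent.Tits.Core
  Cfsg.Agent.Tits.RootComb Cfsg.Agent.Nodes.Comb Cfsg.Agent.Nodes.Reps
  Cfsg.Agent.Nodes.Coroot Cfsg.Agent.Nodes.PosPair

variable {I W : Type*} [Fintype I] [DecidableEq I] [Group W] [Fintype W] {M : CoxeterMatrix I}
  {cs : CoxeterSystem M W} {A : I → I → ℤ} {h : IsCartan M A}

/-- `r` is a long root and all roots have at least half its length (no `G₂`) -/
structure Lg (cs : CoxeterSystem M W) (h : IsCartan M A) (r : I → ℤ) : Prop where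
  root : IsRoot cs h r
  le : ∀ y, IsRoot cs h y → form cs h y y ≤ form cs h r r
  ge : ∀ y, IsRoot cs h y → form cs h r r ≤ 2 * form cs h y y

theorem Lg.act {r : I → ℤ} (L : Lg cs h r) (w : W) : Lg cs h (rep cs h w r) where
  root := L.root.act w
  le y hy := by rw [form_rep]; exact L.le y hy
  ge y hy := by rw [form_rep]; exact L.ge y hy

theorem Lg.neg {r : I → ℤ} (L : Lg cs h r) : Lg cs h (-r) where
  root := L.root.neg
  le y hy := by rw [form_neg_left, form_neg_right, neg_neg]; exact L.le y hy
  ge y hy := by rw [form_neg_left, form_neg_right, neg_neg]; exact L.ge y hy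

section

variable {r : I → ℤ} (L : Lg cs h r)

include L

theorem Lg.pos : 0 < form cs h r r := form_pos cs h L.root.ne_zero

theorem Lg.len {y : I → ℤ} (hy : IsRoot cs h y) (h0 : 0 < form cs h y r) (hne : y ≠ r) :
    2 * form cs h y r = form cs h r r ∧ (form cs h y y = form cs h r r ∨ 2 * form cs h y y = form cs h r r) := by
  have hrr := L.pos
  have hyy := form_pos cs h hy.ne_zero
  have h1 := two_form_cpr cs h y L.root
  have h2 := two_form_cpr cs h r hy
  rw [form_comm cs h r y] at h2
  have hne' : y ≠ -r := by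
    rintro rfl
    rw [form_neg_left] at h0
    linarith
  have h3 := gram_pos cs h hy L.root hne hne'
  have h4 := L.le y hy
  have h5 := L.ge y hy
  set c := cpr cs h y r
  set d := cpr cs h r y
  have hc : 0 < c := by
    by_contra hcon
    push Not at hcon
    have := mul_nonpos_of_nonpos_of_nonneg hcon hrr.le
    linarith
  have hd : 0 < d := by
    by_contra hcon
    push Not at hcon
    have := mul_nonpos_of_nonpos_of_nonneg hcon hyy.le
    linarith
  have hcd : c ≤ d := by
    by_contra hcon
    push Not at hcon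
    nlinarith
  have h6 : c * d * (form cs h r r * form cs h y y) < 4 * (form cs h r r * form cs h y y) := by
    have e : c * d * (form cs h r r * form cs h y y) = (2 * form cs h y r) * (2 * form cs h y r) := by
      calc c * d * (form cs h r r * form cs h y y) = (c * form cs h r r) * (d * form cs h y y) := by ring
        _ = (2 * form cs h y r) * (2 * form cs h y r) := by rw [← h1, ← h2]
    rw [e]
    nlinarith
  have h7 : c * d < 4 := lt_of_mul_lt_mul_right h6 (mul_pos hrr hyy).le
  have hc1 : c = 1 := by nlinarith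
  rw [hc1, one_mul] at h1
  refine ⟨h1, ?_⟩
  have h8 : d ≤ 2 := by
    by_contra hcon
    push Not at hcon
    nlinarith
  have h9 : d = 1 ∨ d = 2 := by omega
  rcases h9 with h9 | h9
  · left; rw [h9] at h2; linarith
  · right; rw [h9] at h2; linarith

/-- the roots in a plane of type `A₂` -/
theorem Lg.plane_a {y : I → ℤ} (hy : IsRoot cs h y) (h1 : 2 * form cs h y r = form cs h r r)
    (h2 : form cs h y y = form cs h r r) {w : I → ℤ} (hw : IsRoot cs h w) {m a b : ℤ} (hm : 0 < m)
    (e : m • w = a • r + b • y) :
    (a = m ∧ b = 0) ∨ (a = 0 ∧ b = m) ∨ (a = m ∧ b = -m) ∨ (a = -m ∧ b = 0) ∨ (a = 0 ∧ b = -m) ∨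
      (a = -m ∧ b = m) := by
  have hrr := L.pos
  set ρ := form cs h r r with hρ
  have hwr := two_form_cpr cs h w L.root
  have hwy := two_form_cpr cs h w hy
  rw [← hρ] at hwr
  rw [h2] at hwy
  set c := cpr cs h w r
  set d := cpr cs h w y
  have e1 : m * form cs h w r = a * ρ + b * form cs h y r := by
    rw [← form_smul_left, e, form_add_left, form_smul_left, form_smul_left]
  have e2 : m * form cs h w y = a * form cs h y r + b * ρ := by
    rw [← form_smul_left, e, form_add_left, form_smul_left, form_smul_left, form_comm cs h r y, h2]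
  have e3 : m * form cs h w w = a * form cs h w r + b * form cs h w y := by
    rw [← form_smul_left, e, form_add_left, form_smul_left, form_smul_left, form_comm cs h r w, form_comm cs h y w]
  have f1 : m * c = 2 * a + b := by
    have : (m * c) * ρ = (2 * a + b) * ρ := by linear_combination (-m) * hwr + 2 * e1 + b * h1
    exact mul_right_cancel₀ hrr.ne' this
  have f2 : m * d = a + 2 * b := by
    have : (m * d) * ρ = (a + 2 * b) * ρ := by linear_combination (-m) * hwy + 2 * e2 + a * h1
    exact mul_right_cancel₀ hrr.ne' this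
  have f3 : 3 * form cs h w w = (c * c - c * d + d * d) * ρ := by
    have : (2 * m) * (3 * form cs h w w) = (2 * m) * ((c * c - c * d + d * d) * ρ) := by
      linear_combination 6 * e3 + 3 * a * hwr + 3 * b * hwy + (c * ρ) * ((-2) * f1 + f2) + (d * ρ) * ((-2) * f2 + f1)
    exact mul_left_cancel₀ (by omega) this
  have g1 := L.le w hw
  have g2 := L.ge w hw
  rw [← hρ] at g1 g2
  have n1 : c * c - c * d + d * d ≤ 3 := by
    by_contra hcon
    push Not at hcon
    nlinarith
  have n2 : 2 ≤ c * c - c * d + d * d := by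
    by_contra hcon
    push Not at hcon
    have : c * c - c * d + d * d ≤ 1 := by omega
    nlinarith
  have hc1 : c ≤ 2 := by nlinarith [sq_nonneg (2 * d - c)]
  have hc2 : -2 ≤ c := by nlinarith [sq_nonneg (2 * d - c)]
  have hd1 : d ≤ 2 := by nlinarith [sq_nonneg (2 * c - d)]
  have hd2 : -2 ≤ d := by nlinarith [sq_nonneg (2 * c - d)]
  clear_value c d
  interval_cases c <;> interval_cases d <;> omega

/-- the roots in a plane of type `B₂` -/
theorem Lg.plane_b {y : I → ℤ} (hy : IsRoot cs h y) (h1 : 2 * form cs h y r = form cs h r r)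
    (h2 : 2 * form cs h y y = form cs h r r) {w : I → ℤ} (hw : IsRoot cs h w) {m a b : ℤ} (hm : 0 < m)
    (e : m • w = a • r + b • y) :
    (a = m ∧ b = 0) ∨ (a = 0 ∧ b = m) ∨ (a = m ∧ b = -m) ∨ (a = m ∧ b = -2 * m) ∨ (a = -m ∧ b = 0) ∨
      (a = 0 ∧ b = -m) ∨ (a = -m ∧ b = m) ∨ (a = -m ∧ b = 2 * m) := by
  have hrr := L.pos
  set κ := form cs h y y with hκ
  have hκ0 : 0 < κ := form_pos cs h hy.ne_zero
  have h3 : form cs h y r = κ := by linarith
  have hwr := two_form_cpr cs h w L.root
  have hwy := two_form_cpr cs h w hy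
  rw [← h2] at hwr
  rw [← hκ] at hwy
  set c := cpr cs h w r
  set d := cpr cs h w y
  have e1 : m * form cs h w r = a * (2 * κ) + b * κ := by
    rw [← form_smul_left, e, form_add_left, form_smul_left, form_smul_left, h3, ← h2]
  have e2 : m * form cs h w y = a * κ + b * κ := by
    rw [← form_smul_left, e, form_add_left, form_smul_left, form_smul_left, form_comm cs h r y, h3]
  have e3 : m * form cs h w w = a * form cs h w r + b * form cs h w y := by
    rw [← form_smul_left, e, form_add_left, form_smul_left, form_smul_left, form_comm cs h r w, form_comm cs h y w]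
  have f1 : m * c = 2 * a + b := by
    have : (m * c) * κ = (2 * a + b) * κ := by
      have : 2 * ((m * c) * κ) = 2 * ((2 * a + b) * κ) := by linear_combination (-m) * hwr + 2 * e1
      linarith
    exact mul_right_cancel₀ hκ0.ne' this
  have f2 : m * d = 2 * a + 2 * b := by
    have : (m * d) * κ = (2 * a + 2 * b) * κ := by linear_combination (-m) * hwy + 2 * e2
    exact mul_right_cancel₀ hκ0.ne' this
  have f3 : 2 * form cs h w w = (c * c + (c - d) * (c - d)) * κ := by
    have : m * (2 * form cs h w w) = m * ((c * c + (c - d) * (c - d)) * κ) := by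
      linear_combination 2 * e3 + a * hwr + b * hwy + (κ * (2 * c - d)) * (-f1) + (κ * (d - c)) * (-f2)
    exact mul_left_cancel₀ hm.ne' this
  have g1 := L.le w hw
  have g2 := L.ge w hw
  rw [← h2] at g1 g2
  have n1 : c * c + (c - d) * (c - d) ≤ 4 := by
    by_contra hcon
    push Not at hcon
    nlinarith
  have n2 : 2 ≤ c * c + (c - d) * (c - d) := by
    by_contra hcon
    push Not at hcon
    have : c * c + (c - d) * (c - d) ≤ 1 := by omega
    nlinarith
  obtain ⟨f, hf⟩ : ∃ f, f = c - d := ⟨_, rfl⟩
  rw [← hf] at n1 n2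
  have hc1 : c ≤ 2 := by nlinarith [sq_nonneg f]
  have hc2 : -2 ≤ c := by nlinarith [sq_nonneg f]
  have hd1 : f ≤ 2 := by nlinarith [sq_nonneg c]
  have hd2 : -2 ≤ f := by nlinarith [sq_nonneg c]
  have f2' : m * d = m * c - m * f := by rw [hf]; ring
  rw [f1, f2] at f2'
  clear_value c d
  interval_cases c <;> interval_cases f <;> omega

/-- the root `r - y` -/
theorem Lg.sub_root {y : I → ℤ} (hy : IsRoot cs h y) (h1 : 2 * form cs h y r = form cs h r r) :
    IsRoot cs h (r - y) := by
  have h2 := isRoot_refl cs h hy L.root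
  have h3 : cpr cs h y r = 1 := cpr_eq_of_form cs h L.root (by rw [one_mul]; exact h1)
  rw [h3, one_smul] at h2
  have h4 := h2.neg
  rwa [neg_sub] at h4

/-- `r` between `y` and `y'` -/
theorem Lg.opp {y y' : I → ℤ} (hy : IsRoot cs h y) (h0 : 0 < form cs h y r) (hne : y ≠ r)
    (hy' : IsRoot cs h y') (h0' : 0 < form cs h y' r) (hne' : y' ≠ r) (hb : Btwn cs h y y' r) : r = y + y' := by
  obtain ⟨h1, h2⟩ := L.len hy h0 hne
  obtain ⟨h1', h2'⟩ := L.len hy' h0' hne'
  obtain ⟨-, m, a, b, hm, ha, hb, e⟩ := hb
  have hrr := L.pos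
  set ρ := form cs h r r with hρ
  have e1 : m * ρ = a * form cs h y r + b * form cs h y' r := by
    rw [hρ, ← form_smul_left, e, form_add_left, form_smul_left, form_smul_left]
  have e2 : m * form cs h y r = a * form cs h y y + b * form cs h y y' := by
    rw [form_comm cs h y r, ← form_smul_left, e, form_add_left, form_smul_left, form_smul_left,
      form_comm cs h y' y]
  have e3 : m * form cs h y' r = a * form cs h y y' + b * form cs h y' y' := by
    rw [form_comm cs h y' r, ← form_smul_left, e, form_add_left, form_smul_left, form_smul_left]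
  have f1 : 2 * m = a + b := by
    have : (2 * m) * ρ = (a + b) * ρ := by linear_combination 2 * e1 + a * h1 + b * h1'
    exact mul_right_cancel₀ hrr.ne' this
  -- enough: `a = b`
  suffices hab : a = b by
    subst hab
    have h3 : m = a := by omega
    subst h3
    rw [← smul_add] at e
    exact smul_right_injective _ hm.ne' e
  have hc := two_form_cpr cs h y' hy
  have hd := two_form_cpr cs h y hy'
  rw [form_comm cs h y' y] at hc
  set c := cpr cs h y' y
  set d := cpr cs h y y'
  set t := form cs h y y'
  have g1 : 2 * (a + b) * form cs h y r = 4 * a * form cs h y y + 4 * b * t := by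
    linear_combination 4 * e2 + (-2 * form cs h y r) * f1
  have g2 : 2 * (a + b) * form cs h y' r = 4 * a * t + 4 * b * form cs h y' y' := by
    linear_combination 4 * e3 + (-2 * form cs h y' r) * f1
  have key : ∀ {k n : ℤ}, b * k = n * a → a * k = n * b → 0 < n → k * k = n * n → a = b := by
    intro k n q1 q2 hn hk
    have hk0 : 0 < k := by
      by_contra hcon
      push Not at hcon
      have h3 := mul_nonpos_of_nonneg_of_nonpos hb.le hcon
      have h4 := mul_pos hn ha
      omega
    have hkn : k = n := by nlinarith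
    rw [hkn, mul_comm b n] at q1
    exact (mul_left_cancel₀ hn.ne' q1).symm
  have key3 : ∀ {k : ℤ} {a b : ℤ}, 0 < a → 0 < b → b * k = 3 * a → a * k = b → False := by
    intro k a b ha hb q1 q2
    have h3 : a * (k * k) = a * 3 := by rw [← mul_assoc, q2, q1]; ring
    have h4 := mul_left_cancel₀ ha.ne' h3
    have h5 : k ≤ 2 := by nlinarith
    have h6 : -2 ≤ k := by nlinarith
    interval_cases k <;> omega
  rcases h2 with h2 | h2 <;> rcases h2' with h2' | h2'
  · -- both long
    rw [h2] at hc
    have k1 : b * (1 - 2 * c) = 3 * a := by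
      have : (b * (1 - 2 * c)) * ρ = (3 * a) * ρ := by
        linear_combination g1 + (-(a + b)) * h1 + (4 * a) * h2 + (2 * b) * hc
      exact mul_right_cancel₀ hrr.ne' this
    have k2 : a * (1 - 2 * c) = 3 * b := by
      have : (a * (1 - 2 * c)) * ρ = (3 * b) * ρ := by
        linear_combination g2 + (-(a + b)) * h1' + (4 * b) * h2' + (2 * a) * hc
      exact mul_right_cancel₀ hrr.ne' this
    refine key k1 k2 (by norm_num) ?_
    have h3 : b * ((1 - 2 * c) * (1 - 2 * c)) = b * (3 * 3) := by
      rw [← mul_assoc, k1, mul_assoc, k2]; ring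
    exact mul_left_cancel₀ hb.ne' h3
  · -- `y` long, `y'` short
    exfalso
    have hκ' : 0 < form cs h y' y' := form_pos cs h hy'.ne_zero
    rw [h2] at hc
    have hdc : d = 2 * c := by
      have : d * form cs h y' y' = (2 * c) * form cs h y' y' := by linear_combination hc - hd - c * h2'
      exact mul_right_cancel₀ hκ'.ne' this
    rw [hdc] at hd
    refine key3 (k := 1 - 2 * c) ha hb ?_ ?_
    · have : (b * (1 - 2 * c)) * ρ = (3 * a) * ρ := by
        linear_combination g1 + (-(a + b)) * h1 + (4 * a) * h2 + (2 * b) * hc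
      exact mul_right_cancel₀ hrr.ne' this
    · have : (a * (1 - 2 * c)) * ρ = b * ρ := by
        linear_combination g2 + (-(a + b)) * h1' + (2 * b) * h2' + (2 * a) * hc
      exact mul_right_cancel₀ hrr.ne' this
  · -- `y` short, `y'` long
    exfalso
    have hκ : 0 < form cs h y y := form_pos cs h hy.ne_zero
    rw [h2'] at hd
    have hdc : c = 2 * d := by
      have : c * form cs h y y = (2 * d) * form cs h y y := by linear_combination hd - hc - d * h2
      exact mul_right_cancel₀ hκ.ne' this
    refine key3 (k := 1 - 2 * d) hb ha ?_ ?_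
    · have : (a * (1 - 2 * d)) * ρ = (3 * b) * ρ := by
        linear_combination g2 + (-(a + b)) * h1' + (4 * b) * h2' + (2 * a) * hd
      exact mul_right_cancel₀ hrr.ne' this
    · have : (b * (1 - 2 * d)) * ρ = a * ρ := by
        linear_combination g1 + (-(a + b)) * h1 + (2 * a) * h2 + (2 * b) * hd
      exact mul_right_cancel₀ hrr.ne' this
  · -- both short
    have hκ : 0 < form cs h y y := form_pos cs h hy.ne_zero
    have k1 : b * (1 - c) = 1 * a := by
      have : (b * (1 - c)) * (2 * form cs h y y) = (1 * a) * (2 * form cs h y y) := by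
        linear_combination g1 + (-(a + b)) * h1 + (a + b) * h2 + (2 * b) * hc
      exact mul_right_cancel₀ (by omega) this
    have k2 : a * (1 - c) = 1 * b := by
      have : (a * (1 - c)) * (2 * form cs h y y) = (1 * b) * (2 * form cs h y y) := by
        linear_combination g2 + (-(a + b)) * h1' + (a + b) * h2 + (2 * a) * hc + 2 * b * h2' - 2 * b * h2
      exact mul_right_cancel₀ (by omega) this
    refine key k1 k2 (by norm_num) ?_
    have h3 : b * ((1 - c) * (1 - c)) = b * (1 * 1) := by
      rw [← mul_assoc, k1, one_mul, k2]; ring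
    exact mul_left_cancel₀ hb.ne' h3

end

end Cfsg.Agent.Nodes.CenVV
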