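import Mathlib
import Cfsg.Agent.Nodes.CenVVRoots
import Cfsg.Agent.Nodes.ChartLoc
import Cfsg.Agent.Nodes.Unique
import Cfsg.Agent.Nodes.Slope
import Cfsg.Agent.Nodes.ZRel
import Cfsg.Agent.Nodes.ShortSum
import Cfsg.Agent.Nodes.DerVV

/-!
# The centre of `VV r` (project CIT, facts on charts)

`C : Cls cs h p T n X R Z z`, `p` odd, `r ∈ R` a long root, no `G₂`, `VV r` = the join of the root groups `X y`,
`(y, r) > 0`.

* `mem_Z_of_cent` : if `X r = Z r`, or there is a short root `y` with `(y, r) > 0`, then `C_{VV r}(VV r) = Z r`.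
-/

set_option autoImplicit false
set_option linter.unusedSectionVars false

namespace Cfsg.Agent.Nodes.CenVV

open CoxeterSystem Cfsg.Agent.ChevalleyStructure.CoxeterGeom Cfsg.Agent.Tits.Roots Cfsg.Agent.Tits.Core
  Cfsg.Agent.Tits.RootComb Cfsg.Agent.Nodes.Comb Cfsg.Agent.Nodes.SubComb Cfsg.Agent.Nodes.Reps
  Cfsg.Agent.Nodes.Coroot Cfsg.Agent.Nodes.PosPair Cfsg.Agent.Nodes.BNOf Cfsg.Agent.Nodes.RGDLib
  Cfsg.Agent.Nodes.Chart Cfsg.Agent.Nodes.StabComb Cfsg.Agent.Nodes.Bruhat Cfsg.Agent.Nodes.ClsNorm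
  Cfsg.Agent.Nodes.ChartLoc Cfsg.Agent.Nodes.OppDec Cfsg.Agent.Nodes.LeviDec
open scoped commutatorElement

variable {I W Y : Type*} [Fintype I] [DecidableEq I] [Group W] [Fintype W] [Group Y] {M : CoxeterMatrix I}
  {cs : CoxeterSystem M W} {A : I → I → ℤ} {h : IsCartan M A} {p : ℕ} {T : Subgroup Y} {n : I → Y}
  {X : (I → ℤ) → Subgroup Y} {R : Set (I → ℤ)} {Z : (I → ℤ) → Subgroup Y} {z : (I → ℤ) → Y}

/-- the functional `(·, u)` -/
noncomputable def fh (cs : CoxeterSystem M W) (h : IsCartan M A) (u : I → ℤ) : (I → ℤ) →+ ℤ where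
  toFun x := form cs h x u
  map_zero' := by
    have := form_smul_left cs h 0 0 u
    rwa [zero_smul, zero_mul] at this
  map_add' x y := form_add_left cs h x y u

theorem fh_apply (u x : I → ℤ) : fh cs h u x = form cs h x u := rfl

/-- rank one, for all roots -/
theorem exists_mu (Rd : RGD cs h p T n X) {y : I → ℤ} (hy : IsRoot cs h y) {v : Y} (hv : v ∈ X y) (h1 : v ≠ 1) :
    ∃ a ∈ X (-y), ∃ b ∈ X (-y), ∃ (w : W) (k : Y), Rp cs Rd.nsys w k ∧
      (∀ x, rep cs h w x = x - cpr cs h x y • y) ∧ v = a * k * b := by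
  obtain ⟨w, i, e⟩ := hy.neg
  obtain ⟨g, hg⟩ := exists_rp cs Rd.nsys w
  have hyr : y = rep cs h w (-sr i) := by rw [map_neg, ← e, neg_neg]
  have h2 : g⁻¹ * v * g ∈ X (-sr i) := by
    have := Rd.conj_mem' hg hy hv
    rwa [hyr, rep_inv_apply] at this
  have h3 : g⁻¹ * v * g ≠ 1 := by
    intro h0
    apply h1
    have : v = g * (g⁻¹ * v * g) * g⁻¹ := by group
    rw [this, h0]; group
  obtain ⟨a, ha, t, ht, b, hb, e1⟩ := Rd.rk1 i _ h2 h3
  have hconj : ∀ c ∈ X (sr i), g * c * g⁻¹ ∈ X (-y) := by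
    intro c hc
    have := Rd.conj_mem hg (isRoot_sr cs h i) hc
    rwa [← e] at this
  refine ⟨g * a * g⁻¹, hconj a ha, g * b * g⁻¹, hconj b hb, w * cs.simple i * w⁻¹, g * (t * n i) * g⁻¹, ?_, ?_, ?_⟩
  · have h4 : Rp cs Rd.nsys (cs.simple i) (t * n i) := by
      have := (rp_of_mem (cs := cs) (hN := Rd.nsys) ht).mul (rp_simple cs Rd.nsys i)
      rwa [one_mul] at this
    exact (hg.mul h4).mul hg.inv
  · intro x
    have h5 := rep_rfl'_eq cs h w i x
    rw [← e, cpr_neg_right cs h x hy] at h5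
    have h6 : rfl' cs w i = w * cs.simple i * w⁻¹ := rfl
    rw [h6] at h5
    rw [h5, neg_smul, smul_neg, neg_neg]
  · have : v = g * (g⁻¹ * v * g) * g⁻¹ := by group
    rw [this, e1]; group

/-! ### Roots between -/

section Btw

variable {r y : I → ℤ} (L : Lg cs h r) (hy : IsRoot cs h y) (h1 : 2 * form cs h y r = form cs h r r)

include L hy h1

/-- the roots between two vectors of the plane, type `A₂` -/
theorem btw_a (h2 : form cs h y y = form cs h r r) {p1 q1 p2 q2 : ℤ} {w : I → ℤ}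
    (hb : Btwn cs h (p1 • r + q1 • y) (p2 • r + q2 • y) w) :
    ∃ m a b i j : ℤ, 0 < m ∧ 0 < a ∧ 0 < b ∧ w = i • r + j • y ∧ m * i = a * p1 + b * p2 ∧
      m * j = a * q1 + b * q2 ∧ ((i = 1 ∧ j = 0) ∨ (i = 0 ∧ j = 1) ∨ (i = 1 ∧ j = -1) ∨ (i = -1 ∧ j = 0) ∨
        (i = 0 ∧ j = -1) ∨ (i = -1 ∧ j = 1)) := by
  obtain ⟨hw, m, a, b, hm, ha, hb, e⟩ := hb
  have e' : m • w = (a * p1 + b * p2) • r + (a * q1 + b * q2) • y := by
    rw [e]; simp only [smul_add, add_smul, mul_smul]; abel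
  have key : ∀ i j : ℤ, a * p1 + b * p2 = m * i → a * q1 + b * q2 = m * j → w = i • r + j • y := by
    intro i j h3 h4
    rw [h3, h4, mul_smul, mul_smul, ← smul_add] at e'
    exact smul_right_injective _ hm.ne' e'
  rcases L.plane_a hy h1 h2 hw hm e' with ⟨h3, h4⟩ | ⟨h3, h4⟩ | ⟨h3, h4⟩ | ⟨h3, h4⟩ | ⟨h3, h4⟩ | ⟨h3, h4⟩
  · exact ⟨m, a, b, 1, 0, hm, ha, hb, key 1 0 (by linarith) (by linarith), by linarith, by linarith, by simp⟩
  · exact ⟨m, a, b, 0, 1, hm, ha, hb, key 0 1 (by linarith) (by linarith), by linarith, by linarith, by simp⟩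
  · exact ⟨m, a, b, 1, -1, hm, ha, hb, key 1 (-1) (by linarith) (by linarith), by linarith, by linarith, by simp⟩
  · exact ⟨m, a, b, -1, 0, hm, ha, hb, key (-1) 0 (by linarith) (by linarith), by linarith, by linarith, by simp⟩
  · exact ⟨m, a, b, 0, -1, hm, ha, hb, key 0 (-1) (by linarith) (by linarith), by linarith, by linarith, by simp⟩
  · exact ⟨m, a, b, -1, 1, hm, ha, hb, key (-1) 1 (by linarith) (by linarith), by linarith, by linarith, by simp⟩

/-- the roots between two vectors of the plane, type `B₂` -/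
theorem btw_b (h2 : 2 * form cs h y y = form cs h r r) {p1 q1 p2 q2 : ℤ} {w : I → ℤ}
    (hb : Btwn cs h (p1 • r + q1 • y) (p2 • r + q2 • y) w) :
    ∃ m a b i j : ℤ, 0 < m ∧ 0 < a ∧ 0 < b ∧ w = i • r + j • y ∧ m * i = a * p1 + b * p2 ∧
      m * j = a * q1 + b * q2 ∧ ((i = 1 ∧ j = 0) ∨ (i = 0 ∧ j = 1) ∨ (i = 1 ∧ j = -1) ∨ (i = 1 ∧ j = -2) ∨
        (i = -1 ∧ j = 0) ∨ (i = 0 ∧ j = -1) ∨ (i = -1 ∧ j = 1) ∨ (i = -1 ∧ j = 2)) := by
  obtain ⟨hw, m, a, b, hm, ha, hb, e⟩ := hb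
  have e' : m • w = (a * p1 + b * p2) • r + (a * q1 + b * q2) • y := by
    rw [e]; simp only [smul_add, add_smul, mul_smul]; abel
  have key : ∀ i j : ℤ, a * p1 + b * p2 = m * i → a * q1 + b * q2 = m * j → w = i • r + j • y := by
    intro i j h3 h4
    rw [h3, h4, mul_smul, mul_smul, ← smul_add] at e'
    exact smul_right_injective _ hm.ne' e'
  rcases L.plane_b hy h1 h2 hw hm e' with ⟨h3, h4⟩ | ⟨h3, h4⟩ | ⟨h3, h4⟩ | ⟨h3, h4⟩ | ⟨h3, h4⟩ | ⟨h3, h4⟩ |
    ⟨h3, h4⟩ | ⟨h3, h4⟩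
  · exact ⟨m, a, b, 1, 0, hm, ha, hb, key 1 0 (by linarith) (by linarith), by linarith, by linarith, by simp⟩
  · exact ⟨m, a, b, 0, 1, hm, ha, hb, key 0 1 (by linarith) (by linarith), by linarith, by linarith, by simp⟩
  · exact ⟨m, a, b, 1, -1, hm, ha, hb, key 1 (-1) (by linarith) (by linarith), by linarith, by linarith, by simp⟩
  · exact ⟨m, a, b, 1, -2, hm, ha, hb, key 1 (-2) (by linarith) (by linarith), by linarith, by linarith, by simp⟩
  · exact ⟨m, a, b, -1, 0, hm, ha, hb, key (-1) 0 (by linarith) (by linarith), by linarith, by linarith, by simp⟩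
  · exact ⟨m, a, b, 0, -1, hm, ha, hb, key 0 (-1) (by linarith) (by linarith), by linarith, by linarith, by simp⟩
  · exact ⟨m, a, b, -1, 1, hm, ha, hb, key (-1) 1 (by linarith) (by linarith), by linarith, by linarith, by simp⟩
  · exact ⟨m, a, b, -1, 2, hm, ha, hb, key (-1) 2 (by linarith) (by linarith), by linarith, by linarith, by simp⟩

end Btw

/-! ### Commutators -/

section Comm

variable (Rd : RGD cs h p T n X)

include Rd

/-- two root groups with nothing in between commute -/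
theorem comm_of_btwn {x y : I → ℤ} (hx : IsRoot cs h x) (hy : IsRoot cs h y) (h1 : x ≠ y) (h2 : x ≠ -y)
    (h3 : ∀ w, ¬ Btwn cs h x y w) {a b : Y} (ha : a ∈ X x) (hb : b ∈ X y) : a * b = b * a := by
  have h4 := Rd.comm x y hx hy h1 h2 a ha b hb
  have h5 : btw cs h X x y ≤ ⊥ := by
    unfold Nodes.Reps.btw
    refine iSup_le ?_
    rintro ⟨w, hw⟩
    exact absurd hw (h3 w)
  exact commutatorElement_eq_one_iff_mul_comm.1 ((Subgroup.mem_bot).1 (h5 h4))

/-- the commutator lies in the join of the root groups in between -/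
theorem comm_mem_of_btwn {x y : I → ℤ} (hx : IsRoot cs h x) (hy : IsRoot cs h y) (h1 : x ≠ y) (h2 : x ≠ -y)
    {K : Subgroup Y} (h3 : ∀ w, Btwn cs h x y w → X w ≤ K) {a b : Y} (ha : a ∈ X x) (hb : b ∈ X y) :
    ⁅a, b⁆ ∈ K := by
  have h4 := Rd.comm x y hx hy h1 h2 a ha b hb
  have h5 : btw cs h X x y ≤ K := by
    unfold Nodes.Reps.btw
    refine iSup_le ?_
    rintro ⟨w, hw⟩
    exact h3 w hw
  exact h5 h4

/-- separation by a functional -/
theorem eq_one_of_sep {S : Set (I → ℤ)} {x : I → ℤ} (hx : IsRoot cs h x) (hS : ∀ w ∈ S, IsRoot cs h w)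
    (u : I → ℤ) (h1 : 0 < form cs h x u) (h2 : ∀ w ∈ S, form cs h w u < 0) {g : Y} (hg : g ∈ X x)
    (hg' : g ∈ RGD.Sup X S) : g = 1 := by
  refine Slope.sup_inf_sup Rd (fh cs h u) (RGD.le_Sup (S := {x | IsRoot cs h x ∧ 0 < fh cs h u x}) ⟨hx, h1⟩ hg)
    (RGD.Sup_mono (S := S) (S' := {x | IsRoot cs h x ∧ fh cs h u x < 0}) (fun w hw => ⟨hS w hw, h2 w hw⟩) hg')

end Comm

/-! ### One component -/

section One

variable (C : Cls cs h p T n X R Z z) (hp2 : p ≠ 2) [Fact p.Prime]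

include C

omit [Fact p.Prime] in
theorem refl_memR {r y : I → ℤ} (hr : r ∈ R) (hy : IsRoot cs h y) : r - cpr cs h r y • y ∈ R := by
  obtain ⟨w, i, rfl⟩ := hy
  rw [← rep_rfl'_eq]
  exact C.act r hr _

omit [Fact p.Prime] in
/-- type `A₂` : an element of `X y` commuting with `X (r - y)` is trivial -/
theorem comp_a {r y : I → ℤ} (L : Lg cs h r) (hy : IsRoot cs h y) (h1 : 2 * form cs h y r = form cs h r r)
    (h2 : form cs h y y = form cs h r r) {v : Y} (hv : v ∈ X y) (hs : ∀ x ∈ X (r - y), v * x = x * v) : v = 1 := by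
  by_contra hne
  have hrr := L.pos
  have hyr : form cs h r y = form cs h y r := form_comm cs h r y
  have hsr := L.sub_root hy h1
  obtain ⟨a, ha, b, hb, w, k, hk, hw, e⟩ := exists_mu C.rgd hy hv hne
  have hbt : ∀ w, ¬ Btwn cs h (-y) (r - y) w := by
    intro w hw
    have hw' : Btwn cs h ((0 : ℤ) • r + (-1 : ℤ) • y) ((1 : ℤ) • r + (-1 : ℤ) • y) w := by
      convert hw using 1 <;> simp [sub_eq_add_neg]
    obtain ⟨m, a, b, i, j, hm, ha, hb, -, e1, e2, hij⟩ := btw_a L hy h1 h2 hw'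
    rcases hij with ⟨rfl, rfl⟩ | ⟨rfl, rfl⟩ | ⟨rfl, rfl⟩ | ⟨rfl, rfl⟩ | ⟨rfl, rfl⟩ | ⟨rfl, rfl⟩ <;> omega
  have hne1 : -y ≠ r - y := by
    intro h0
    have h3 := congrArg (fun t => form cs h t r) h0
    simp only [form_sub_left, form_neg_left] at h3
    linarith
  have hne2 : -y ≠ -(r - y) := by
    intro h0
    have h3 := congrArg (fun t => form cs h t y) h0
    simp only [form_neg_left, form_sub_left] at h3
    linarith
  have hcm : ∀ c ∈ X (-y), ∀ d ∈ X (r - y), c * d = d * c := fun c hc d hd =>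
    comm_of_btwn C.rgd hy.neg hsr hne1 hne2 hbt hc hd
  apply StdConn.X_ne_bot C hsr
  rw [Subgroup.eq_bot_iff_forall]
  intro d hd
  have hkd : k * d * k⁻¹ = d := by
    have e1 : k = a⁻¹ * v * b⁻¹ := by rw [e]; group
    have q1 := hcm a ha d hd
    have q2 := hcm b hb d hd
    have q3 := hs d hd
    have q1' : a⁻¹ * d = d * a⁻¹ := by
      calc a⁻¹ * d = a⁻¹ * (d * a) * a⁻¹ := by group
        _ = a⁻¹ * (a * d) * a⁻¹ := by rw [q1]
        _ = d * a⁻¹ := by group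
    have q2' : b⁻¹ * d = d * b⁻¹ := by
      calc b⁻¹ * d = b⁻¹ * (d * b) * b⁻¹ := by group
        _ = b⁻¹ * (b * d) * b⁻¹ := by rw [q2]
        _ = d * b⁻¹ := by group
    have : k * d = d * k := by
      rw [e1]
      calc a⁻¹ * v * b⁻¹ * d = a⁻¹ * v * (b⁻¹ * d) := by group
        _ = a⁻¹ * v * (d * b⁻¹) := by rw [q2']
        _ = a⁻¹ * (v * d) * b⁻¹ := by group
        _ = a⁻¹ * (d * v) * b⁻¹ := by rw [q3]
        _ = (a⁻¹ * d) * v * b⁻¹ := by group
        _ = (d * a⁻¹) * v * b⁻¹ := by rw [q1']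
        _ = d * (a⁻¹ * v * b⁻¹) := by group
    rw [this]; group
  have h3 : k * d * k⁻¹ ∈ X (rep cs h w (r - y)) := C.rgd.conj_mem hk hsr hd
  have h4 : rep cs h w (r - y) = r := by
    rw [hw]
    have h5 : cpr cs h (r - y) y = -1 := by
      apply cpr_eq_of_form cs h hy
      rw [form_sub_left]
      linarith
    rw [h5]
    simp
  rw [hkd, h4] at h3
  have h5 := X_inf_X C.rgd hsr L.root (by
    intro h0
    apply hy.ne_zero
    exact sub_eq_self.1 h0)
  have h6 : d ∈ X (r - y) ⊓ X r := ⟨hd, h3⟩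
  rw [h5] at h6
  exact h6

include hp2

/-- type `B₂` : an element of `X y` commuting with `X (r - y)` is trivial -/
theorem comp_b {r y : I → ℤ} (L : Lg cs h r) (hr : r ∈ R) (hy : IsRoot cs h y)
    (h1 : 2 * form cs h y r = form cs h r r)
    (h2 : 2 * form cs h y y = form cs h r r) {v : Y} (hv : v ∈ X y) (hs : ∀ x ∈ X (r - y), v * x = x * v) :
    v = 1 := by
  by_contra hne
  have hrr := L.pos
  set κ := form cs h y y with hκ
  have hκ0 : 0 < κ := form_pos cs h hy.ne_zero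
  have hyr : form cs h y r = κ := by linarith
  have hry : form cs h r y = κ := by rw [form_comm]; exact hyr
  have hrr2 : form cs h r r = 2 * κ := h2.symm
  have hsr := L.sub_root hy h1
  have hcry : cpr cs h r y = 2 := by
    apply cpr_eq_of_form cs h hy
    rw [hry]
  have hr2 : r - (2 : ℤ) • y ∈ R := by
    have := refl_memR C hr hy
    rwa [hcry] at this
  have hr2r := C.root _ hr2
  -- forms with `r - 2 y`
  have f1 : form cs h y (r - (2 : ℤ) • y) = -κ := by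
    rw [form_comm, form_sub_left, form_smul_left, hry, ← hκ]; ring
  have f2 : form cs h r (r - (2 : ℤ) • y) = 0 := by
    rw [form_comm, form_sub_left, form_smul_left, hyr, hrr2]; ring
  have f3 : form cs h (r - y) (r - (2 : ℤ) • y) = κ := by
    rw [form_sub_left, f2, f1]; ring
  obtain ⟨x, hxZ, hx1⟩ : ∃ x ∈ Z (r - (2 : ℤ) • y), x ≠ 1 := by
    by_contra hcon
    push Not at hcon
    exact C.ne_bot _ hr2 ((Subgroup.eq_bot_iff_forall _).2 hcon)
  have hxX := C.le _ hr2 hxZ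
  -- `v⁻¹ x v = x a b`
  have hX1 : ∀ w, Btwn cs h (r - (2 : ℤ) • y) y w → w = r - y ∨ w = r := by
    intro w hw
    have hw' : Btwn cs h ((1 : ℤ) • r + (-2 : ℤ) • y) ((0 : ℤ) • r + (1 : ℤ) • y) w := by
      convert hw using 1 <;> simp [sub_eq_add_neg]
    obtain ⟨m, a, b, i, j, hm, ha, hb, e0, e1, e2, hij⟩ := btw_b L hy h1 h2 hw'
    rcases hij with ⟨rfl, rfl⟩ | ⟨rfl, rfl⟩ | ⟨rfl, rfl⟩ | ⟨rfl, rfl⟩ | ⟨rfl, rfl⟩ | ⟨rfl, rfl⟩ | ⟨rfl, rfl⟩ |
      ⟨rfl, rfl⟩
    · right; rw [e0]; simp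
    · omega
    · left; rw [e0]; simp [sub_eq_add_neg]
    all_goals omega
  have hX2 : ∀ w, ¬ Btwn cs h (r - y) r w := by
    intro w hw
    have hw' : Btwn cs h ((1 : ℤ) • r + (-1 : ℤ) • y) ((1 : ℤ) • r + (0 : ℤ) • y) w := by
      convert hw using 1 <;> simp [sub_eq_add_neg]
    obtain ⟨m, a, b, i, j, hm, ha, hb, e0, e1, e2, hij⟩ := btw_b L hy h1 h2 hw'
    rcases hij with ⟨rfl, rfl⟩ | ⟨rfl, rfl⟩ | ⟨rfl, rfl⟩ | ⟨rfl, rfl⟩ | ⟨rfl, rfl⟩ | ⟨rfl, rfl⟩ | ⟨rfl, rfl⟩ |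
      ⟨rfl, rfl⟩ <;> omega
  have hX3 : ∀ w, ¬ Btwn cs h y r w := by
    intro w hw
    have hw' : Btwn cs h ((0 : ℤ) • r + (1 : ℤ) • y) ((1 : ℤ) • r + (0 : ℤ) • y) w := by
      convert hw using 1 <;> simp
    obtain ⟨m, a, b, i, j, hm, ha, hb, e0, e1, e2, hij⟩ := btw_b L hy h1 h2 hw'
    rcases hij with ⟨rfl, rfl⟩ | ⟨rfl, rfl⟩ | ⟨rfl, rfl⟩ | ⟨rfl, rfl⟩ | ⟨rfl, rfl⟩ | ⟨rfl, rfl⟩ | ⟨rfl, rfl⟩ |
      ⟨rfl, rfl⟩ <;> omega
  have hX4 : ∀ w, ¬ Btwn cs h (-y) (r - (2 : ℤ) • y) w := by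
    intro w hw
    have hw' : Btwn cs h ((0 : ℤ) • r + (-1 : ℤ) • y) ((1 : ℤ) • r + (-2 : ℤ) • y) w := by
      convert hw using 1 <;> simp [sub_eq_add_neg]
    obtain ⟨m, a, b, i, j, hm, ha, hb, e0, e1, e2, hij⟩ := btw_b L hy h1 h2 hw'
    rcases hij with ⟨rfl, rfl⟩ | ⟨rfl, rfl⟩ | ⟨rfl, rfl⟩ | ⟨rfl, rfl⟩ | ⟨rfl, rfl⟩ | ⟨rfl, rfl⟩ | ⟨rfl, rfl⟩ |
      ⟨rfl, rfl⟩ <;> omega
  have hX5 : ∀ w, Btwn cs h (r - y) (-y) w → w = r - (2 : ℤ) • y := by
    intro w hw
    have hw' : Btwn cs h ((1 : ℤ) • r + (-1 : ℤ) • y) ((0 : ℤ) • r + (-1 : ℤ) • y) w := by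
      convert hw using 1 <;> simp [sub_eq_add_neg]
    obtain ⟨m, a, b, i, j, hm, ha, hb, e0, e1, e2, hij⟩ := btw_b L hy h1 h2 hw'
    rcases hij with ⟨rfl, rfl⟩ | ⟨rfl, rfl⟩ | ⟨rfl, rfl⟩ | ⟨rfl, rfl⟩ | ⟨rfl, rfl⟩ | ⟨rfl, rfl⟩ | ⟨rfl, rfl⟩ |
      ⟨rfl, rfl⟩
    · omega
    · omega
    · omega
    · rw [e0]; simp [sub_eq_add_neg]
    all_goals omega
  -- inequalities between the roots
  have neq : ∀ {u u' q : I → ℤ}, form cs h u q ≠ form cs h u' q → u ≠ u' := fun h0 h3 => h0 (by rw [h3])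
  have n1 : r - (2 : ℤ) • y ≠ y := neq (q := r) (by
    rw [form_comm, f2, hyr]; exact hκ0.ne)
  have n2 : r - (2 : ℤ) • y ≠ -y := neq (q := r) (by
    rw [form_comm, f2, form_neg_left, hyr]; omega)
  have n3 : r - y ≠ r := neq (q := y) (by
    rw [form_sub_left, hry, ← hκ]; omega)
  have n4 : r - y ≠ -r := neq (q := r) (by
    rw [form_sub_left, form_neg_left, hyr, hrr2]; omega)
  have n5 : y ≠ r := neq (q := r) (by rw [hyr, hrr2]; omega)
  have n6 : y ≠ -r := neq (q := r) (by rw [form_neg_left, hyr, hrr2]; omega)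
  have n7 : r - y ≠ r - (2 : ℤ) • y := neq (q := r) (by
    rw [form_comm cs h (r - (2 : ℤ) • y), f2, form_sub_left, hyr, hrr2]; omega)
  have n8 : r - y ≠ -(r - (2 : ℤ) • y) := neq (q := r) (by
    rw [form_neg_left, form_comm cs h (r - (2 : ℤ) • y), f2, form_sub_left, hyr, hrr2]; omega)
  have n9 : r - y ≠ -y := neq (q := r) (by
    rw [form_sub_left, form_neg_left, hyr, hrr2]; omega)
  have n10 : r - y ≠ - -y := neq (q := y) (by
    rw [neg_neg, form_sub_left, hry, ← hκ]; omega)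
  have n11 : y ≠ r - (2 : ℤ) • y := n1.symm
  have n12 : y ≠ -(r - (2 : ℤ) • y) := fun h0 => n2 (neg_eq_iff_eq_neg.1 h0.symm)
  have hcsr : ∀ a ∈ X (r - y), ∀ b ∈ X r, a * b = b * a := fun a ha b hb =>
    comm_of_btwn C.rgd hsr L.root n3 n4 hX2 ha hb
  have hvr : ∀ b ∈ X r, v * b = b * v := fun b hb => comm_of_btwn C.rgd hy L.root n5 n6 hX3 hv hb
  have hg : ⁅x⁻¹, v⁻¹⁆ ∈ X (r - y) ⊔ X r := by
    refine comm_mem_of_btwn C.rgd hr2r hy n1 n2 (fun w hw => ?_) (inv_mem hxX) (inv_mem hv)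
    rcases hX1 w hw with rfl | rfl
    · exact le_sup_left
    · exact le_sup_right
  obtain ⟨a, ha, b, hb, e⟩ := ShortSum.mem_sup_of_cm hcsr hg
  have e1 : v⁻¹ * x * v = x * a * b := by
    rw [mul_assoc x a b, ← e, commutatorElement_def]; group
  -- the action of `z (r - 2 y)`
  set ζ := z (r - (2 : ℤ) • y) with hζ
  have hζ2 : ζ * ζ = 1 := C.z_sq _ hr2
  have z1 : ζ * x * ζ = x := by
    rw [C.z_cent _ hr2 x hxZ, mul_assoc, hζ2, mul_one]
  have z2 : ζ * v * ζ = v⁻¹ := C.z_inv _ hr2 y hy n11 n12 (by rw [f1]; omega) v hv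
  have z3 : ζ * a * ζ = a⁻¹ := C.z_inv _ hr2 _ hsr n7 n8 (by rw [f3]; omega) a ha
  have z4 : ζ * b * ζ = b := by
    have := ZRel.z_cent_of_orth C hr2 L.root f2 hb
    rw [← this, mul_assoc, hζ2, mul_one]
  have z2' : ζ * v⁻¹ * ζ = v := by
    have h3 : (ζ * v * ζ)⁻¹ = ζ * v⁻¹ * ζ := by
      have h4 : ζ⁻¹ = ζ := inv_eq_of_mul_eq_one_left hζ2
      rw [mul_inv_rev, mul_inv_rev, h4, mul_assoc]
    rw [← h3, z2, inv_inv]
  have e2 : v * x * v⁻¹ = x * a⁻¹ * b := by
    have h3 : ζ * (v⁻¹ * x * v) * ζ = v * x * v⁻¹ := by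
      calc ζ * (v⁻¹ * x * v) * ζ = (ζ * v⁻¹ * ζ) * (ζ * ζ)⁻¹ * (ζ * x * ζ) * (ζ * ζ)⁻¹ * (ζ * v * ζ) := by group
        _ = v * x * v⁻¹ := by rw [z2', z1, z2, hζ2]; group
    have h4 : ζ * (x * a * b) * ζ = x * a⁻¹ * b := by
      calc ζ * (x * a * b) * ζ = (ζ * x * ζ) * (ζ * ζ)⁻¹ * (ζ * a * ζ) * (ζ * ζ)⁻¹ * (ζ * b * ζ) := by group
        _ = x * a⁻¹ * b := by rw [z1, z3, z4, hζ2]; group
    rw [← h3, e1, h4]
  have e3 : b * b = 1 := by
    have q1 : v * a * v⁻¹ = a := by rw [hs a ha]; group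
    have q2 : v * b * v⁻¹ = b := by rw [hvr b hb]; group
    have h3 : x = x * (b * b) := by
      calc x = v * (v⁻¹ * x * v) * v⁻¹ := by group
        _ = v * (x * a * b) * v⁻¹ := by rw [e1]
        _ = (v * x * v⁻¹) * (v * a * v⁻¹) * (v * b * v⁻¹) := by group
        _ = (x * a⁻¹ * b) * a * b := by rw [e2, q1, q2]
        _ = x * a⁻¹ * (b * a) * b := by group
        _ = x * a⁻¹ * (a * b) * b := by rw [hcsr a ha b hb]
        _ = x * (b * b) := by group
    exact left_eq_mul.1 h3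
  have e4 : b = 1 := DerVV.eq_one_of_sq' C hp2 (C.rgd.pgrp' L.root) hb e3
  rw [e4, mul_one] at e1
  -- the element over the reflection in `y`
  obtain ⟨α, hα, β, hβ, w, k, hk, hw, ev⟩ := exists_mu C.rgd hy hv hne
  have hαx : α * x = x * α := by
    refine comm_of_btwn C.rgd hy.neg hr2r ?_ ?_ hX4 hα hxX
    · exact n2.symm
    · intro h0; exact n1 (neg_injective h0).symm
  have e5 : k⁻¹ * x * k = x * (β * a * β⁻¹) := by
    have hk' : k = α⁻¹ * v * β⁻¹ := by rw [ev]; group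
    have hβx : β * x = x * β := by
      refine comm_of_btwn C.rgd hy.neg hr2r ?_ ?_ hX4 hβ hxX
      · exact n2.symm
      · intro h0; exact n1 (neg_injective h0).symm
    rw [hk']
    calc (α⁻¹ * v * β⁻¹)⁻¹ * x * (α⁻¹ * v * β⁻¹) = β * v⁻¹ * (α * x) * α⁻¹ * v * β⁻¹ := by group
      _ = β * v⁻¹ * (x * α) * α⁻¹ * v * β⁻¹ := by rw [hαx]
      _ = β * (v⁻¹ * x * v) * β⁻¹ := by group
      _ = (β * x) * a * β⁻¹ := by rw [e1]; group
      _ = x * (β * a * β⁻¹) := by rw [hβx]; group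
  have h6 : β * a * β⁻¹ ∈ X (r - y) ⊔ X (r - (2 : ℤ) • y) := by
    have h7 : β * a * β⁻¹ = a * ⁅a⁻¹, β⁆ := by rw [commutatorElement_def]; group
    rw [h7]
    refine mul_mem (Subgroup.mem_sup_left ha) ?_
    refine comm_mem_of_btwn C.rgd hsr hy.neg n9 n10 (fun w hw => ?_) (inv_mem ha) hβ
    rw [hX5 w hw]
    exact le_sup_right
  have h7 : k⁻¹ * x * k ∈ RGD.Sup X {r - y, r - (2 : ℤ) • y} := by
    rw [e5]
    have h8 : X (r - y) ⊔ X (r - (2 : ℤ) • y) ≤ RGD.Sup X {r - y, r - (2 : ℤ) • y} :=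
      sup_le (RGD.le_Sup (by simp)) (RGD.le_Sup (by simp))
    exact h8 (mul_mem (Subgroup.mem_sup_right hxX) h6)
  have h8 : k⁻¹ * x * k ∈ X r := by
    have h9 := C.rgd.conj_mem' hk hr2r hxX
    have h10 : rep cs h w⁻¹ (r - (2 : ℤ) • y) = r := by
      have h11 : rep cs h w r = r - (2 : ℤ) • y := by rw [hw, hcry]
      rw [← h11, rep_inv_apply]
    rwa [h10] at h9
  have h9 := eq_one_of_sep C.rgd L.root (S := {r - y, r - (2 : ℤ) • y}) (by
      intro w hw
      rcases hw with rfl | hw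
      · exact hsr
      · rw [Set.mem_singleton_iff.1 hw]; exact hr2r) ((3 : ℤ) • y - r) (by
      rw [form_comm, form_sub_left, form_smul_left, hyr, hrr2]; omega) (by
      intro w hw
      rw [form_comm, form_sub_left, form_smul_left]
      rcases hw with rfl | hw
      · rw [form_comm cs h y, form_sub_left, form_comm cs h r (r - y), form_sub_left, hyr, hry, hrr2, ← hκ]; omega
      · rw [Set.mem_singleton_iff.1 hw, f1, f2]; omega) h8 h7
  apply hx1
  have : x = k * (k⁻¹ * x * k) * k⁻¹ := by group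
  rw [this, h9]; group

/-! ### All components -/

omit hp2 [Fact p.Prime] in
/-- the root groups `X y`, `y ≠ ± r` not orthogonal to `r`, are abelian -/
theorem X_comm {r y : I → ℤ} (hr : r ∈ R) (hy : IsRoot cs h y) (h1 : y ≠ r) (h2 : y ≠ -r)
    (h0 : form cs h y r ≠ 0) {a b : Y} (ha : a ∈ X y) (hb : b ∈ X y) : a * b = b * a := by
  have e1 := C.z_inv r hr y hy h1 h2 h0 a ha
  have e2 := C.z_inv r hr y hy h1 h2 h0 b hb
  have e3 := C.z_inv r hr y hy h1 h2 h0 (b * a) (mul_mem hb ha)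
  have e4 := C.z_sq r hr
  have e5 : z r * (b * a) * z r = b⁻¹ * a⁻¹ := by
    calc z r * (b * a) * z r = (z r * b * z r) * (z r * z r)⁻¹ * (z r * a * z r) := by group
      _ = b⁻¹ * a⁻¹ := by rw [e1, e2, e4]; group
  rw [e5] at e3
  have := congrArg (·⁻¹) e3
  simpa using this

omit hp2 [Fact p.Prime] in
theorem nonneg_of_dom {r y : I → ℤ} (hd : Dom A r) (hy : IsRoot cs h y) (h0 : 0 < form cs h y r) : 0 ≤ y := by
  rcases hy.pos_or_neg with h1 | h1
  · exact h1
  · exfalso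
    have h2 := form_nonneg_of_dom cs h hd (neg_nonneg.2 h1)
    rw [form_neg_right, form_comm] at h2
    omega

variable [Finite Y]

/-- two root groups of `VV r` commute if `r` is not between the roots -/
theorem comm_of_not {r x y : I → ℤ} (hr : r ∈ R) (hd : Dom A r) (hx : IsRoot cs h x) (hx0 : 0 < form cs h x r)
    (hy : IsRoot cs h y) (hy0 : 0 < form cs h y r) (hxy : x ≠ y) (hb : ¬ Btwn cs h x y r) {a b : Y}
    (ha : a ∈ X x) (hb' : b ∈ X y) : a * b = b * a := by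
  have hrr := C.root r hr
  have px := nonneg_of_dom C hd hx hx0
  have py := nonneg_of_dom C hd hy hy0
  have pr : 0 ≤ r := nonneg_of_dom C hd hrr (form_pos cs h hrr.ne_zero)
  have hne : x ≠ -y := by
    rintro rfl
    rw [form_neg_left] at hx0
    omega
  have h1 : ⁅a, b⁆ ∈ RGD.Sup X {w | Btwn cs h x y w} :=
    comm_mem_of_btwn C.rgd hx hy hxy hne (fun w hw => RGD.le_Sup (S := {w | Btwn cs h x y w}) hw) ha hb'
  have haV : a ∈ VV cs h X r := RGD.le_Sup (S := {y | IsRoot cs h y ∧ 0 < form cs h y r}) ⟨hx, hx0⟩ ha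
  have hbV : b ∈ VV cs h X r := RGD.le_Sup (S := {y | IsRoot cs h y ∧ 0 < form cs h y r}) ⟨hy, hy0⟩ hb'
  have h2 : ⁅a, b⁆ ∈ RGD.Sup X {r} := by
    have h3 := commutator_VV_le C hp2 hr (Subgroup.commutator_mem_commutator haV hbV)
    exact RGD.le_Sup (S := {r}) (Set.mem_singleton r) (C.le r hr h3)
  have h3 := Unique.inf_eq C.rgd (S := {r}) (S' := {w | Btwn cs h x y w})
    (by intro w hw; rw [Set.mem_singleton_iff.1 hw]; exact ⟨hrr, pr⟩)
    (by intro w hw; exact ⟨hw.1, RGD.nonneg_of_btwn px py hw⟩)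
    (by
      intro u hu v hv w hw
      rw [Set.mem_singleton_iff.1 hu, Set.mem_singleton_iff.1 hv] at hw
      rw [Set.mem_singleton_iff]
      exact Unique.btwn_self hrr hw)
    (by
      rintro u ⟨hu, m₁, a₁, b₁, hm₁, ha₁, hb₁, e₁⟩ v ⟨hv, m₂, a₂, b₂, hm₂, ha₂, hb₂, e₂⟩ w
        ⟨hw, m, c, d, hm, hc, hd', e⟩
      refine ⟨hw, m * (m₁ * m₂), c * m₂ * a₁ + d * m₁ * a₂, c * m₂ * b₁ + d * m₁ * b₂, by positivity, by positivity,
        by positivity, ?_⟩
      calc (m * (m₁ * m₂)) • w = (m₁ * m₂) • (m • w) := by rw [smul_smul]; congr 1; ring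
        _ = (m₁ * m₂) • (c • u + d • v) := by rw [e]
        _ = (c * m₂) • (m₁ • u) + (d * m₁) • (m₂ • v) := by
          rw [smul_add, smul_smul, smul_smul, smul_smul, smul_smul]
          congr 2 <;> ring
        _ = (c * m₂ * a₁ + d * m₁ * a₂) • x + (c * m₂ * b₁ + d * m₁ * b₂) • y := by
          rw [e₁, e₂]
          simp only [smul_add, add_smul, smul_smul]
          abel)
  have h4 : ({r} : Set (I → ℤ)) ∩ {w | Btwn cs h x y w} = ∅ := by
    rw [Set.eq_empty_iff_forall_notMem]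
    rintro w ⟨hw, hw'⟩
    rw [Set.mem_singleton_iff.1 hw] at hw'
    exact hb hw'
  rw [h4] at h3
  have h5 : ⁅a, b⁆ ∈ RGD.Sup X (∅ : Set (I → ℤ)) := by
    rw [← h3]; exact ⟨h2, h1⟩
  rw [OppDec.Sup_empty, Subgroup.mem_bot] at h5
  exact commutatorElement_eq_one_iff_mul_comm.1 h5

/-- **an element of `VV r` commuting with `VV r` lies in `X r`**, `r` dominant -/
theorem mem_X_dom {r : I → ℤ} (L : Lg cs h r) (hr : r ∈ R) (hd : Dom A r) {u : Y} (hu : u ∈ VV cs h X r)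
    (hc : ∀ v ∈ VV cs h X r, u * v = v * u) : u ∈ X r := by
  set N : Set (I → ℤ) := {y | IsRoot cs h y ∧ 0 < form cs h y r} with hN
  have hrN : r ∈ N := ⟨C.root r hr, form_pos cs h (C.root r hr).ne_zero⟩
  have hXV : ∀ y ∈ N, X y ≤ VV cs h X r := fun y hy => RGD.le_Sup (S := N) hy
  obtain ⟨mu, hmu⟩ := Slope.exists_sep (cs := cs) (h := h) (S := N) (fun x hx => hx.1) (fh cs h r)
    (fun x hx => hx.2)
  have hfin : N.Finite := (RGD.finite_roots (cs := cs) (h := h)).subset fun _ hx => hx.1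
  have hnn : ∀ y ∈ N, 0 ≤ y := fun y hy => nonneg_of_dom C hd hy.1 hy.2
  have hnl : ∀ y ∈ N, y ≠ r → ¬ Btwn cs h y r r := fun y hy hyr hb =>
    Unique.btwn_ne_right hy.1 hrN.1 (hnn y hy) (hnn r hrN) hyr hb rfl
  have hNcl : Slope.Closed cs h N := by
    refine ⟨fun x hx => hx.1, fun x hx y hy w hw => ⟨hw.1, ?_⟩⟩
    exact Slope.btwn_pos' hw (fh cs h r) hx.2 (le_of_lt hy.2)
  have key : ∀ k : ℕ, ∀ S' : Set (I → ℤ), S' ⊆ N → Slope.Closed cs h S' → S'.ncard = k → ∀ u ∈ RGD.Sup X S',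
      (∀ v ∈ VV cs h X r, u * v = v * u) → u ∈ X r := by
    intro k
    induction k with
    | zero =>
      intro S' hsub hS' hk u hu _
      rw [Set.ncard_eq_zero (hfin.subset hsub)] at hk
      subst hk
      rw [OppDec.Sup_empty, Subgroup.mem_bot] at hu
      rw [hu]; exact one_mem _
    | succ k ih =>
      intro S' hsub hS' hk u hu huc
      have hfin' := hfin.subset hsub
      have hne : S'.Nonempty := by
        rw [Set.nonempty_iff_ne_empty]
        rintro rfl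
        rw [Set.ncard_empty] at hk
        exact absurd hk (by omega)
      obtain ⟨q, hq, hmax⟩ := Slope.exists_extreme hfin' hne (fh cs h r) mu mu (fun x hx => (hsub hx).2)
      have hne' : ∀ x ∈ S', ∀ y ∈ S', Btwn cs h x y q → x = q ∧ y = q := by
        intro x hx y hy hz
        obtain ⟨h1, h2⟩ := Slope.extreme_ne hz (hmax x hx) (hmax y hy)
        exact ⟨hmu x (hsub hx) q (hsub hq) h1, hmu y (hsub hy) q (hsub hq) h2⟩
      have hcl : Slope.Closed cs h (S' \ {q}) := by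
        refine ⟨fun x hx => hS'.root x hx.1, fun x hx y hy z hz => ⟨hS'.btw x hx.1 y hy.1 z hz, ?_⟩⟩
        rintro rfl
        exact hx.2 (hne' x hx.1 y hy.1 hz).1
      have hcard : (S' \ {q}).ncard = k := by
        have := Set.ncard_sdiff_singleton_add_one hq hfin'
        omega
      have hnorm : X q ≤ Subgroup.normalizer (RGD.Sup X (S' \ {q}) : Set Y) := by
        refine C.rgd.le_normalizer (hS'.root q hq) ?_
        rintro y ⟨hy, hyr⟩
        refine ⟨hS'.root y hy, Or.inr ⟨?_, fun z hz => ⟨hS'.btw q hq y hy z hz, ?_⟩⟩⟩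
        · intro he
          have h1 := (hsub hq).2
          have h2 := (hsub hy).2
          rw [he, form_neg_left] at h1
          omega
        · rintro rfl
          exact hyr (hne' _ hq y hy hz).2
      have hsup : RGD.Sup X S' = X q ⊔ RGD.Sup X (S' \ {q}) := by
        apply le_antisymm
        · refine RGD.Sup_le fun z hz => ?_
          by_cases hz0 : z = q
          · subst hz0; exact le_sup_left
          · exact le_trans (RGD.le_Sup (S := S' \ {q}) ⟨hz, hz0⟩) le_sup_right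
        · exact sup_le (RGD.le_Sup hq) (RGD.Sup_mono Set.sdiff_subset)
      have h1 : u ∈ ((X q ⊔ RGD.Sup X (S' \ {q}) : Subgroup Y) : Set Y) := by
        rw [← hsup]; exact hu
      rw [Subgroup.coe_mul_of_left_le_normalizer_right _ _ hnorm, Set.mem_mul] at h1
      obtain ⟨v, hv, u', hu', rfl⟩ := h1
      by_cases hqr : q = r
      · -- the component in `X r`
        subst hqr
        have h2 : u' ∈ X q := by
          refine ih (S' \ {q}) (fun x hx => hsub hx.1) hcl hcard u' hu' ?_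
          have h3 : VV cs h X q ≤ Subgroup.centralizer {u'} := by
            refine RGD.Sup_le fun y hy b hb => ?_
            rw [Subgroup.mem_centralizer_singleton_iff]
            by_cases hyq : y = q
            · subst hyq
              have h4 : RGD.Sup X (S' \ {y}) ≤ Subgroup.centralizer {b} := by
                refine RGD.Sup_le fun x hx c hc' => ?_
                rw [Subgroup.mem_centralizer_singleton_iff]
                exact comm_of_not C hp2 hr hd (hsub hx.1).1 (hsub hx.1).2 hrN.1 hrN.2 hx.2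
                  (hnl x (hsub hx.1) hx.2) hc' hb
              have h5 := h4 hu'
              rw [Subgroup.mem_centralizer_singleton_iff] at h5
              exact h5.symm
            · have h4 : b * v = v * b := comm_of_not C hp2 hr hd hy.1 hy.2 hrN.1 hrN.2 hyq (hnl y hy hyq) hb hv
              have h5 := huc b (hXV y hy hb)
              calc b * u' = v⁻¹ * (v * b) * u' := by group
                _ = v⁻¹ * (b * v) * u' := by rw [h4]
                _ = v⁻¹ * (b * (v * u')) := by group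
                _ = v⁻¹ * (v * u' * b) := by rw [h5]
                _ = u' * b := by group
          intro c hc'
          have h4 := h3 hc'
          rw [Subgroup.mem_centralizer_singleton_iff] at h4
          exact h4.symm
        exact mul_mem hv h2
      · -- a component in `X q`, `q ≠ r`
        have hqN := hsub hq
        obtain ⟨l1, l2⟩ := L.len hqN.1 hqN.2 hqr
        have hsr := L.sub_root hqN.1 l1
        have hrr := L.pos
        have hsN : r - q ∈ N := ⟨hsr, by rw [form_sub_left]; omega⟩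
        have hsr' : r - q ≠ r := by
          intro h0
          exact hqN.1.ne_zero (sub_eq_self.1 h0)
        have hcomm : ∀ x ∈ X (r - q), v * x = x * v := by
          intro x hx
          have h2 : RGD.Sup X (S' \ {q}) ≤ Subgroup.centralizer {x} := by
            refine RGD.Sup_le fun y hy c hc' => ?_
            rw [Subgroup.mem_centralizer_singleton_iff]
            have hyN := hsub hy.1
            by_cases hys : y = r - q
            · subst hys
              refine X_comm C hr hsr hsr' ?_ hsN.2.ne' hc' hx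
              intro h0
              have h3 := hsN.2
              rw [h0, form_neg_left] at h3
              omega
            · refine comm_of_not C hp2 hr hd hyN.1 hyN.2 hsr hsN.2 hys ?_ hc' hx
              intro hb
              by_cases hyr : y = r
              · subst hyr
                exact Unique.btwn_ne_left hyN.1 hsr (hnn _ hyN) (hnn _ hsN) hsr'.symm hb rfl
              · have h3 := L.opp hyN.1 hyN.2 hyr hsr hsN.2 hsr' hb
                apply hy.2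
                rw [Set.mem_singleton_iff]
                have h4 : y = r - (r - q) := eq_sub_of_add_eq h3.symm
                rw [h4, sub_sub_cancel]
          have h3 := h2 hu'
          rw [Subgroup.mem_centralizer_singleton_iff] at h3
          have h4 := huc x (hXV _ hsN hx)
          calc v * x = v * u' * (u'⁻¹ * x) := by group
            _ = v * u' * (x * u'⁻¹) := by
              congr 1
              calc u'⁻¹ * x = u'⁻¹ * (x * u') * u'⁻¹ := by group
                _ = u'⁻¹ * (u' * x) * u'⁻¹ := by rw [h3]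
                _ = x * u'⁻¹ := by group
            _ = (v * u' * x) * u'⁻¹ := by group
            _ = (x * (v * u')) * u'⁻¹ := by rw [h4]
            _ = x * v := by group
        have hv1 : v = 1 := by
          rcases l2 with l2 | l2
          · exact comp_a C L hqN.1 l1 l2 hv hcomm
          · exact comp_b C hp2 L hr hqN.1 l1 l2 hv hcomm
        subst hv1
        rw [one_mul] at huc ⊢
        exact ih (S' \ {q}) (fun x hx => hsub hx.1) hcl hcard u' hu' huc
  exact key _ N subset_rfl hNcl rfl u hu hc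

/-- **an element of `VV r` commuting with `VV r` lies in `X r`** -/
theorem mem_X {r : I → ℤ} (L : Lg cs h r) (hr : r ∈ R) {u : Y} (hu : u ∈ VV cs h X r)
    (hc : ∀ v ∈ VV cs h X r, u * v = v * u) : u ∈ X r := by
  obtain ⟨w, hw⟩ := exists_dominant (cs := cs) (h := h) r
  obtain ⟨k, hk⟩ := exists_rp cs C.rgd.nsys w
  have h1 := mem_X_dom C hp2 (L.act w) (C.act r hr w) hw (u := k * u * k⁻¹) (by
    rw [← cj_VV C hk]; exact conj_mem_cj.2 hu) (by
    intro v hv
    rw [← cj_VV C hk, mem_cj] at hv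
    have h2 := hc _ hv
    calc k * u * k⁻¹ * v = k * (u * (k⁻¹ * v * k)) * k⁻¹ := by group
      _ = k * (k⁻¹ * v * k * u) * k⁻¹ := by rw [h2]
      _ = v * (k * u * k⁻¹) := by group)
  rw [← C.rgd.conj_rp hk (C.root r hr)] at h1
  exact conj_mem_cj.1 h1

/-! ### From `X r` to `Z r` -/

omit hp2 [Fact p.Prime] [Finite Y] in
/-- `X y`, `(y, r) = 0`, normalises `VV r` -/
theorem X_le_normalizer_VV {r : I → ℤ} {y : I → ℤ} (hy : IsRoot cs h y)
    (h0 : form cs h y r = 0) : X y ≤ Subgroup.normalizer (VV cs h X r : Set Y) := by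
  refine C.rgd.le_normalizer hy fun x hx => ⟨hx.1, Or.inr ⟨?_, ?_⟩⟩
  · rintro rfl
    rw [form_neg_left] at h0
    have := hx.2
    omega
  · rintro m ⟨hmr, k, c, d, hk, hc, hd, e⟩
    refine ⟨hmr, ?_⟩
    have e1 : k * form cs h m r = d * form cs h x r := by
      rw [← form_smul_left, e, form_add_left, form_smul_left, form_smul_left, h0]; ring
    by_contra h5
    nlinarith [mul_pos hd hx.2]

omit hp2 [Fact p.Prime] in
/-- an element of `VV r` normalising `Z (-r)` is trivial -/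
theorem eq_one_of_normalizes {r : I → ℤ} (hr : r ∈ R) {v : Y} (hv : v ∈ VV cs h X r)
    (hn : v ∈ Subgroup.normalizer (Z (-r) : Set Y)) : v = 1 := by
  obtain ⟨w, hw⟩ := exists_dominant (cs := cs) (h := h) r
  obtain ⟨k, hk⟩ := exists_rp cs C.rgd.nsys w
  have hs := C.act r hr w
  have h1 : k * v * k⁻¹ ∈ VV cs h X (rep cs h w r) := by
    rw [← cj_VV C hk]; exact conj_mem_cj.2 hv
  have h2 : k * v * k⁻¹ ∈ Subgroup.normalizer (Z (-rep cs h w r) : Set Y) := by
    rw [← map_neg, ← conj_Z C hk (neg_mem C hr)]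
    rw [mem_normalizer_iff_cj] at hn ⊢
    rw [← cj_mul, show k * v * k⁻¹ * k = k * v by group, cj_mul, hn]
  have h3 : k * v * k⁻¹ ∈ Subgroup.normalizer (Z (rep cs h w r) : Set Y) := by
    refine centralizer_le_normalizer' _ ?_
    rw [Subgroup.mem_centralizer_iff]
    intro c hc
    exact VV_comm C hs hc h1
  have h4 := mem_LJ_of_normalizes C hs hw (VV_le_GG C _ h1) h3 h2
  rw [VV_eq_VJ hw] at h1
  have h5 := eq_one_of_mem_LJ_of_mem_VJ C.rgd h4 h1
  have h6 : v = k⁻¹ * (k * v * k⁻¹) * k := by group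
  rw [h6, h5]; group

/-- an element `c` of `VV r` commuting with `VV r` commutes with the root groups orthogonal to `r` -/
theorem comm_orth {r : I → ℤ} (L : Lg cs h r) (hr : r ∈ R) {c : Y} (hcV : c ∈ VV cs h X r)
    (hc : ∀ v ∈ VV cs h X r, c * v = v * c) {w : I → ℤ} (hw : IsRoot cs h w) (h0 : form cs h w r = 0) {g : Y}
    (hg : g ∈ X w) : c * g = g * c := by
  have hcX := mem_X C hp2 L hr hcV hc
  have hN := X_le_normalizer_VV C hw h0 hg
  have h1 : g * c * g⁻¹ ∈ VV cs h X r := (Subgroup.mem_normalizer_iff.1 hN c).1 hcV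
  have h2 : ∀ v ∈ VV cs h X r, g * c * g⁻¹ * v = v * (g * c * g⁻¹) := by
    intro v hv
    have h3 : g⁻¹ * v * g ∈ VV cs h X r := by
      have := (Subgroup.mem_normalizer_iff.1 (inv_mem hN) v).1 hv
      rwa [inv_inv] at this
    have h4 := hc _ h3
    calc g * c * g⁻¹ * v = g * (c * (g⁻¹ * v * g)) * g⁻¹ := by group
      _ = g * (g⁻¹ * v * g * c) * g⁻¹ := by rw [h4]
      _ = v * (g * c * g⁻¹) := by group
  have h3 := mem_X C hp2 L hr h1 h2
  have h4 : ⁅c, g⁆ ∈ X r := by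
    have e : ⁅c, g⁆ = c * (g * c * g⁻¹)⁻¹ := by rw [commutatorElement_def]; group
    rw [e]
    exact mul_mem hcX (inv_mem h3)
  have hne1 : r ≠ w := by
    rintro rfl
    exact (form_pos cs h hw.ne_zero).ne' h0
  have hne2 : r ≠ -w := by
    intro e
    have h5 := L.pos
    have h6 : form cs h r r = -form cs h w r := by
      nth_rewrite 1 [e]; rw [form_neg_left]
    rw [h6, h0] at h5
    omega
  have h5 : ⁅c, g⁆ ∈ RGD.Sup X {x | IsRoot cs h x ∧ 0 < fh cs h w x} := by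
    refine comm_mem_of_btwn C.rgd L.root hw hne1 hne2 (fun x hx => RGD.le_Sup
      (S := {x | IsRoot cs h x ∧ 0 < fh cs h w x}) ⟨hx.1, ?_⟩) hcX hg
    obtain ⟨-, m, a, b, hm, ha, hb, e⟩ := hx
    rw [fh_apply]
    have e1 : m * form cs h x w = b * form cs h w w := by
      rw [← form_smul_left, e, form_add_left, form_smul_left, form_smul_left, form_comm cs h r w, h0]; ring
    have h6 := mul_pos hb (form_pos cs h hw.ne_zero)
    by_contra h7
    nlinarith
  have h6 : ⁅c, g⁆ ∈ RGD.Sup X {x | IsRoot cs h x ∧ fh cs h w x ≤ 0 ∧ 0 < fh cs h r x} :=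
    RGD.le_Sup (S := {x | IsRoot cs h x ∧ fh cs h w x ≤ 0 ∧ 0 < fh cs h r x})
      ⟨L.root, by rw [fh_apply, form_comm, h0], by rw [fh_apply]; exact L.pos⟩ h4
  have h7 := Slope.sup_inf_sup' C.rgd (fh cs h w) (fh cs h r) h5 h6
  exact commutatorElement_eq_one_iff_mul_comm.1 h7

/-- the main case: `c` inverted by `z r` -/
theorem eq_one_of_inverted {r y : I → ℤ} (L : Lg cs h r) (hr : r ∈ R) (hy : IsRoot cs h y)
    (h1 : 2 * form cs h y r = form cs h r r) (h2 : 2 * form cs h y y = form cs h r r) {c : Y}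
    (hcV : c ∈ VV cs h X r) (hc : ∀ v ∈ VV cs h X r, c * v = v * c) (hz : z r * c * z r = c⁻¹) : c = 1 := by
  by_contra hne
  have hcX := mem_X C hp2 L hr hcV hc
  have hrr := L.pos
  set κ := form cs h y y with hκ
  have hκ0 : 0 < κ := form_pos cs h hy.ne_zero
  have hyr : form cs h y r = κ := by linarith
  have hry : form cs h r y = κ := by rw [form_comm]; exact hyr
  have hrr2 : form cs h r r = 2 * κ := h2.symm
  have hsr := L.sub_root hy h1
  have hcry : cpr cs h r y = 2 := by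
    apply cpr_eq_of_form cs h hy
    rw [hry]
  have hr2 : r - (2 : ℤ) • y ∈ R := by
    have := refl_memR C hr hy
    rwa [hcry] at this
  have hr2r := C.root _ hr2
  have f1 : form cs h y (r - (2 : ℤ) • y) = -κ := by
    rw [form_comm, form_sub_left, form_smul_left, hry, ← hκ]; ring
  have f2 : form cs h r (r - (2 : ℤ) • y) = 0 := by
    rw [form_comm, form_sub_left, form_smul_left, hyr, hrr2]; ring
  have f3 : form cs h (r - y) (r - (2 : ℤ) • y) = κ := by
    rw [form_sub_left, f2, f1]; ring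
  have f4 : form cs h (r - (2 : ℤ) • y) r = 0 := by rw [form_comm, f2]
  -- `c` commutes with `X (± r')`, `r' = r - 2 y`, and with `X y`, `X (r - y)`
  have hc1 : ∀ a ∈ X (r - (2 : ℤ) • y), c * a = a * c := fun a ha => comm_orth C hp2 L hr hcV hc hr2r f4 ha
  have hc2 : ∀ a ∈ X (-(r - (2 : ℤ) • y)), c * a = a * c := fun a ha =>
    comm_orth C hp2 L hr hcV hc hr2r.neg (by rw [form_neg_left, f4, neg_zero]) ha
  have hc3 : ∀ a ∈ X (r - y), c * a = a * c := fun a ha => hc a (RGD.le_Sup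
    (S := {y | IsRoot cs h y ∧ 0 < form cs h y r}) ⟨hsr, by rw [form_sub_left, hyr, hrr2]; omega⟩ ha)
  -- roots between
  have hX1 : ∀ w, Btwn cs h r (-y) w → w = r - (2 : ℤ) • y ∨ w = r - y := by
    intro w hw
    have hw' : Btwn cs h ((1 : ℤ) • r + (0 : ℤ) • y) ((0 : ℤ) • r + (-1 : ℤ) • y) w := by
      convert hw using 1 <;> simp
    obtain ⟨m, a, b, i, j, hm, ha, hb, e0, e1, e2, hij⟩ := btw_b L hy h1 h2 hw'
    rcases hij with ⟨rfl, rfl⟩ | ⟨rfl, rfl⟩ | ⟨rfl, rfl⟩ | ⟨rfl, rfl⟩ | ⟨rfl, rfl⟩ | ⟨rfl, rfl⟩ | ⟨rfl, rfl⟩ |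
      ⟨rfl, rfl⟩
    · omega
    · omega
    · right; rw [e0]; simp [sub_eq_add_neg]
    · left; rw [e0]; simp [sub_eq_add_neg]
    all_goals omega
  have hX2 : ∀ w, ¬ Btwn cs h (r - (2 : ℤ) • y) (r - y) w := by
    intro w hw
    have hw' : Btwn cs h ((1 : ℤ) • r + (-2 : ℤ) • y) ((1 : ℤ) • r + (-1 : ℤ) • y) w := by
      convert hw using 1 <;> simp [sub_eq_add_neg]
    obtain ⟨m, a, b, i, j, hm, ha, hb, e0, e1, e2, hij⟩ := btw_b L hy h1 h2 hw'
    rcases hij with ⟨rfl, rfl⟩ | ⟨rfl, rfl⟩ | ⟨rfl, rfl⟩ | ⟨rfl, rfl⟩ | ⟨rfl, rfl⟩ | ⟨rfl, rfl⟩ | ⟨rfl, rfl⟩ |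
      ⟨rfl, rfl⟩ <;> omega
  have hX3 : ∀ w, Btwn cs h (-(r - (2 : ℤ) • y)) (-y) w → w = -(r - y) ∨ w = -r := by
    intro w hw
    have hw' : Btwn cs h ((-1 : ℤ) • r + (2 : ℤ) • y) ((0 : ℤ) • r + (-1 : ℤ) • y) w := by
      convert hw using 1
      · simp only [neg_smul, one_smul, neg_sub]; abel
      · simp
    obtain ⟨m, a, b, i, j, hm, ha, hb, e0, e1, e2, hij⟩ := btw_b L hy h1 h2 hw'
    rcases hij with ⟨rfl, rfl⟩ | ⟨rfl, rfl⟩ | ⟨rfl, rfl⟩ | ⟨rfl, rfl⟩ | ⟨rfl, rfl⟩ | ⟨rfl, rfl⟩ | ⟨rfl, rfl⟩ |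
      ⟨rfl, rfl⟩
    · omega
    · omega
    · omega
    · omega
    · right; rw [e0]; simp
    · omega
    · left; rw [e0]; simp only [neg_smul, one_smul, neg_sub]; abel
    · omega
  have hX4 : ∀ w, ¬ Btwn cs h y (-(r - (2 : ℤ) • y)) w := by
    intro w hw
    have hw' : Btwn cs h ((0 : ℤ) • r + (1 : ℤ) • y) ((-1 : ℤ) • r + (2 : ℤ) • y) w := by
      convert hw using 1
      · simp
      · simp only [neg_smul, one_smul, neg_sub]; abel
    obtain ⟨m, a, b, i, j, hm, ha, hb, e0, e1, e2, hij⟩ := btw_b L hy h1 h2 hw'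
    rcases hij with ⟨rfl, rfl⟩ | ⟨rfl, rfl⟩ | ⟨rfl, rfl⟩ | ⟨rfl, rfl⟩ | ⟨rfl, rfl⟩ | ⟨rfl, rfl⟩ | ⟨rfl, rfl⟩ |
      ⟨rfl, rfl⟩ <;> omega
  -- inequalities between the roots
  have neq : ∀ {u u' q : I → ℤ}, form cs h u q ≠ form cs h u' q → u ≠ u' := fun h0 h3 => h0 (by rw [h3])
  have n1 : r ≠ -y := neq (q := r) (by rw [form_neg_left, hyr, hrr2]; omega)
  have n2 : r ≠ - -y := neq (q := r) (by rw [neg_neg, hyr, hrr2]; omega)
  have n3 : r - (2 : ℤ) • y ≠ r - y := neq (q := r) (by rw [f4, form_sub_left, hyr, hrr2]; omega)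
  have n4 : r - (2 : ℤ) • y ≠ -(r - y) := neq (q := r) (by
    rw [f4, form_neg_left, form_sub_left, hyr, hrr2]; omega)
  have n5 : -(r - (2 : ℤ) • y) ≠ -y := neq (q := r) (by rw [form_neg_left, f4, form_neg_left, hyr]; omega)
  have n6 : -(r - (2 : ℤ) • y) ≠ - -y := neq (q := r) (by rw [form_neg_left, f4, neg_neg, hyr]; omega)
  have n7 : y ≠ -(r - (2 : ℤ) • y) := neq (q := r) (by rw [form_neg_left, f4, hyr]; omega)
  have n8 : y ≠ - -(r - (2 : ℤ) • y) := neq (q := r) (by rw [neg_neg, f4, hyr]; omega)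
  have n9 : -(r - (2 : ℤ) • y) ≠ -r := neq (q := r) (by rw [form_neg_left, f4, form_neg_left, hrr2]; omega)
  have n10 : -y ≠ r - (2 : ℤ) • y := neq (q := r) (by rw [form_neg_left, hyr, f4]; omega)
  have n11 : -y ≠ -(r - (2 : ℤ) • y) := neq (q := r) (by rw [form_neg_left, hyr, form_neg_left, f4]; omega)
  have n12 : r - y ≠ r := neq (q := r) (by rw [form_sub_left, hyr, hrr2]; omega)
  have n13 : r - y ≠ -r := neq (q := r) (by rw [form_sub_left, form_neg_left, hyr, hrr2]; omega)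
  have hcab : ∀ a ∈ X (r - (2 : ℤ) • y), ∀ b ∈ X (r - y), a * b = b * a := fun a ha b hb =>
    comm_of_btwn C.rgd hr2r hsr n3 n4 hX2 ha hb
  -- the involutions
  set ζ := z r with hζ
  set ζ' := z (r - (2 : ℤ) • y) with hζ'
  have hζ2 : ζ * ζ = 1 := C.z_sq _ hr
  have hζ2' : ζ' * ζ' = 1 := C.z_sq _ hr2
  -- (b)
  have hb1 : ∀ x ∈ X (-y), ∃ a ∈ X (r - (2 : ℤ) • y), x⁻¹ * c * x = c * a := by
    intro x hx
    have hg : ⁅c⁻¹, x⁻¹⁆ ∈ X (r - (2 : ℤ) • y) ⊔ X (r - y) := by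
      refine comm_mem_of_btwn C.rgd L.root hy.neg n1 n2 (fun w hw => ?_) (inv_mem hcX) (inv_mem hx)
      rcases hX1 w hw with rfl | rfl
      · exact le_sup_left
      · exact le_sup_right
    obtain ⟨a, ha, b, hb, e⟩ := ShortSum.mem_sup_of_cm hcab hg
    have e1 : x⁻¹ * c * x = c * a * b := by
      rw [mul_assoc c a b, ← e, commutatorElement_def]; group
    have z1 : ζ * x * ζ = x⁻¹ := C.z_inv _ hr (-y) hy.neg n1.symm (fun h0 => n2 (by rw [h0, neg_neg]))
      (by rw [form_neg_left, hyr]; omega) x hx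
    have z1' : ζ' * x * ζ' = x⁻¹ := C.z_inv _ hr2 (-y) hy.neg n10 n11
      (by rw [form_neg_left, f1]; omega) x hx
    have z2 : ζ * b * ζ = b⁻¹ := C.z_inv _ hr (r - y) hsr n12 n13
      (by rw [form_sub_left, hyr, hrr2]; omega) b hb
    have z2' : ζ' * b * ζ' = b⁻¹ := C.z_inv _ hr2 (r - y) hsr n3.symm (fun h0 => n4 (by rw [h0, neg_neg]))
      (by rw [f3]; omega) b hb
    have z3 : ζ' * c * ζ' = c := by
      have := ZRel.z_cent_of_orth C hr2 L.root f2 hcX
      rw [← this, mul_assoc, hζ2', mul_one]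
    have z4 : ζ' * a * ζ' * a ∈ Z (r - (2 : ℤ) • y) := C.z_inv_self _ hr2 a ha
    obtain ⟨a', ha'⟩ : ∃ a', a' = ζ' * a * ζ' := ⟨_, rfl⟩
    have ha'X : a' ∈ X (r - (2 : ℤ) • y) := by
      have h3 : a' = (ζ' * a * ζ' * a) * a⁻¹ := by rw [ha']; group
      rw [h3]
      exact mul_mem (C.le _ hr2 z4) (inv_mem ha)
    have z5 : a' * ζ = ζ * a' := ZRel.z_cent_of_orth C hr hr2r f4 ha'X
    have hi : ζ⁻¹ = ζ := inv_eq_of_mul_eq_one_left hζ2
    have hi' : ζ'⁻¹ = ζ' := inv_eq_of_mul_eq_one_left hζ2'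
    obtain ⟨φ, hφ⟩ : ∃ φ : Y →* Y, ∀ t, φ t = ζ * (ζ' * t * ζ') * ζ :=
      ⟨(MulAut.conj (ζ * ζ')).toMonoidHom, fun t => by
        rw [MulEquiv.toMonoidHom_eq_coe, MonoidHom.coe_coe, MulAut.conj_apply, mul_inv_rev, hi, hi']
        simp only [mul_assoc]⟩
    have φx : φ x = x := by
      have h3 : (ζ * x * ζ)⁻¹ = ζ * x⁻¹ * ζ := by rw [mul_inv_rev, mul_inv_rev, hi, mul_assoc]
      rw [hφ, z1', ← h3, z1, inv_inv]
    have φb : φ b = b := by
      have h3 : (ζ * b * ζ)⁻¹ = ζ * b⁻¹ * ζ := by rw [mul_inv_rev, mul_inv_rev, hi, mul_assoc]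
      rw [hφ, z2', ← h3, z2, inv_inv]
    have φc : φ c = c⁻¹ := by rw [hφ, z3, hz]
    have φa : φ a = a' := by rw [hφ, ← ha', ← z5, mul_assoc, hζ2, mul_one]
    have e2 := congrArg φ e1
    simp only [map_mul, map_inv, φx, φc, φa, φb] at e2
    have e3 : x⁻¹ * c⁻¹ * x = b⁻¹ * a⁻¹ * c⁻¹ := by
      have := congrArg (·⁻¹) e1
      simp only [mul_inv_rev, inv_inv] at this
      rw [← mul_assoc, ← mul_assoc] at this
      exact this
    have q1 := hc1 a ha
    have q2 := hc3 b hb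
    have q3 := hcab a ha b hb
    have e4 : b⁻¹ * b⁻¹ = a * a' := by
      have h3 : b⁻¹ * a⁻¹ * c⁻¹ = c⁻¹ * a' * b := by rw [← e3, e2]
      have h4 : c * (b⁻¹ * a⁻¹) * c⁻¹ = a' * b := by
        calc c * (b⁻¹ * a⁻¹) * c⁻¹ = c * (b⁻¹ * a⁻¹ * c⁻¹) := by group
          _ = a' * b := by rw [h3]; group
      have h5 : c * (b⁻¹ * a⁻¹) * c⁻¹ = a⁻¹ * b⁻¹ := by
        calc c * (b⁻¹ * a⁻¹) * c⁻¹ = (c * (a * b) * c⁻¹)⁻¹ := by group
          _ = (a * (c * b) * c⁻¹)⁻¹ := by rw [← mul_assoc c a b, q1]; group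
          _ = (b * a)⁻¹ := by rw [q2, ← q3]; group
          _ = a⁻¹ * b⁻¹ := by group
      rw [h5] at h4
      calc b⁻¹ * b⁻¹ = a * (a⁻¹ * b⁻¹) * b⁻¹ := by group
        _ = a * a' := by rw [h4]; group
    have e5 : b⁻¹ * b⁻¹ = 1 := by
      have h3 : b⁻¹ * b⁻¹ ∈ X (r - (2 : ℤ) • y) ⊓ X (r - y) :=
        Subgroup.mem_inf.2 ⟨by rw [e4]; exact mul_mem ha ha'X, mul_mem (inv_mem hb) (inv_mem hb)⟩
      rw [X_inf_X C.rgd hr2r hsr n3] at h3
      exact h3
    have e6 : b⁻¹ = 1 := DerVV.eq_one_of_sq' C hp2 (C.rgd.pgrp' hsr) (inv_mem hb) e5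
    refine ⟨a, ha, ?_⟩
    rw [e1, inv_eq_one.1 e6, mul_one]
  -- (c) `X (-r')` and `X (-y)` commute
  have hrn := neg_mem C hr
  have hVn : ∀ {x : I → ℤ}, IsRoot cs h x → 0 < form cs h x (-r) → X x ≤ VV cs h X (-r) := fun hx h0 =>
    RGD.le_Sup (S := {y | IsRoot cs h y ∧ 0 < form cs h y (-r)}) ⟨hx, h0⟩
  have hcc : ∀ x ∈ X (-y), ∀ u ∈ X (-(r - (2 : ℤ) • y)), u * x = x * u := by
    intro x hx u hu
    obtain ⟨a, ha, e1⟩ := hb1 x hx
    obtain ⟨g', hg'⟩ : ∃ g', g' = ⁅u⁻¹, x⁻¹⁆ := ⟨_, rfl⟩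
    have hg'V : g' ∈ VV cs h X (-r) := by
      rw [hg']
      refine comm_mem_of_btwn C.rgd hr2r.neg hy.neg n5 n6 (fun w hw => ?_) (inv_mem hu) (inv_mem hx)
      rcases hX3 w hw with rfl | rfl
      · refine hVn hsr.neg ?_
        rw [form_neg_left, form_neg_right, form_sub_left, hyr, hrr2]; omega
      · refine hVn L.root.neg ?_
        rw [form_neg_left, form_neg_right]; omega
    have e2 : x⁻¹ * u * x = u * g' := by rw [hg', commutatorElement_def]; group
    have e3 : c * a * (u * g') = u * g' * (c * a) := by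
      rw [← e1, ← e2]
      calc x⁻¹ * c * x * (x⁻¹ * u * x) = x⁻¹ * (c * u) * x := by group
        _ = x⁻¹ * (u * c) * x := by rw [hc2 u hu]
        _ = x⁻¹ * u * x * (x⁻¹ * c * x) := by group
    have e4 : c⁻¹ * g' * c = u⁻¹ * a * u * g' * a⁻¹ := by
      have h3 : u⁻¹ * c = c * u⁻¹ := by
        calc u⁻¹ * c = u⁻¹ * (c * u) * u⁻¹ := by group
          _ = u⁻¹ * (u * c) * u⁻¹ := by rw [hc2 u hu]
          _ = c * u⁻¹ := by group
      calc c⁻¹ * g' * c = c⁻¹ * (u⁻¹ * (u * g' * (c * a))) * a⁻¹ := by group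
        _ = c⁻¹ * (u⁻¹ * (c * a * (u * g'))) * a⁻¹ := by rw [e3]
        _ = c⁻¹ * (u⁻¹ * c) * a * u * g' * a⁻¹ := by group
        _ = u⁻¹ * a * u * g' * a⁻¹ := by rw [h3]; group
    -- everything centralises `Z (-r)`
    have ka : a ∈ Subgroup.centralizer (Z (-r) : Set Y) :=
      X_le_centralizer C hrn hr2r (by rw [form_neg_right, f4, neg_zero]) ha
    have ku : u ∈ Subgroup.centralizer (Z (-r) : Set Y) :=
      X_le_centralizer C hrn hr2r.neg (by rw [form_neg_right, form_neg_left, f4, neg_zero, neg_zero]) hu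
    have kg : g' ∈ Subgroup.centralizer (Z (-r) : Set Y) := by
      rw [Subgroup.mem_centralizer_iff]
      intro v hv
      exact VV_comm C hrn hv hg'V
    have kc : c⁻¹ * g' * c ∈ Subgroup.centralizer (Z (-r) : Set Y) := by
      rw [e4]
      exact mul_mem (mul_mem (mul_mem (mul_mem (inv_mem ku) ka) ku) kg) (inv_mem ka)
    obtain ⟨α, hα, β, hβ, w, k, hk, hw, ev⟩ := exists_mu C.rgd L.root hcX hne
    have kβ : β ∈ Subgroup.centralizer (Z (-r) : Set Y) :=
      X_le_centralizer C hrn L.root.neg (by rw [form_neg_right, form_neg_left, neg_neg]; exact hrr.le) hβ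
    have hw1 : rep cs h w (-r) = r := by
      rw [hw, cpr_neg cs h _ L.root, cpr_self cs h L.root]
      rw [neg_smul, sub_neg_eq_add, two_smul]; abel
    have e5 : α⁻¹ * g' * α = 1 := by
      refine eq_one_of_normalizes C hrn ?_ ?_
      · have hαV := hVn L.root.neg (by rw [form_neg_left, form_neg_right, neg_neg]; exact hrr) hα
        exact mul_mem (mul_mem (inv_mem hαV) hg'V) hαV
      · rw [neg_neg]
        refine centralizer_le_normalizer' _ ?_
        rw [Subgroup.mem_centralizer_iff]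
        intro v hv
        have hv' : k⁻¹ * v * k ∈ Z (-r) := by
          have h3 := conj_Z C hk hrn
          rw [hw1] at h3
          have hv2 : v ∈ Z r := hv
          rw [← h3, mem_cj] at hv2
          exact hv2
        have h4 := Subgroup.mem_centralizer_iff.1 kc _ hv'
        have h5 := Subgroup.mem_centralizer_iff.1 kβ _ hv'
        have h6 : α * v * α⁻¹ = c * (k⁻¹ * v * k) * c⁻¹ := by
          rw [ev]
          calc α * v * α⁻¹ = α * k * (k⁻¹ * v * k * β) * β⁻¹ * k⁻¹ * α⁻¹ := by group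
            _ = α * k * (β * (k⁻¹ * v * k)) * β⁻¹ * k⁻¹ * α⁻¹ := by rw [h5]
            _ = α * k * β * (k⁻¹ * v * k) * (α * k * β)⁻¹ := by group
        calc v * (α⁻¹ * g' * α) = α⁻¹ * ((α * v * α⁻¹) * g') * α := by group
          _ = α⁻¹ * (c * (k⁻¹ * v * k * (c⁻¹ * g' * c)) * c⁻¹) * α := by rw [h6]; group
          _ = α⁻¹ * (c * (c⁻¹ * g' * c * (k⁻¹ * v * k)) * c⁻¹) * α := by rw [h4]
          _ = α⁻¹ * (g' * (c * (k⁻¹ * v * k) * c⁻¹)) * α := by group
          _ = α⁻¹ * (g' * (α * v * α⁻¹)) * α := by rw [h6]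
          _ = α⁻¹ * g' * α * v := by group
    have e6 : g' = 1 := by
      calc g' = α * (α⁻¹ * g' * α) * α⁻¹ := by group
        _ = 1 := by rw [e5]; group
    rw [e6, mul_one] at e2
    calc u * x = x * (x⁻¹ * u * x) := by group
      _ = x * u := by rw [e2]
  -- the element over the reflection in `y`
  obtain ⟨v₀, hv₀, hv1⟩ : ∃ v ∈ X y, v ≠ 1 := by
    by_contra hcon
    push Not at hcon
    exact StdConn.X_ne_bot C hy ((Subgroup.eq_bot_iff_forall _).2 hcon)
  obtain ⟨α, hα, β, hβ, w, k, hk, hw, ev⟩ := exists_mu C.rgd hy hv₀ hv1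
  apply StdConn.X_ne_bot C hr2r.neg
  rw [Subgroup.eq_bot_iff_forall]
  intro u hu
  have q1 := hcc α hα u hu
  have q2 := hcc β hβ u hu
  have q3 : v₀ * u = u * v₀ := comm_of_btwn C.rgd hy hr2r.neg n7 n8 hX4 hv₀ hu
  have hku : k * u * k⁻¹ = u := by
    have h3 : v₀⁻¹ * α * u = u * (v₀⁻¹ * α) := by
      calc v₀⁻¹ * α * u = v₀⁻¹ * (u * α) := by rw [q1]; group
        _ = v₀⁻¹ * (u * v₀) * v₀⁻¹ * α := by group
        _ = v₀⁻¹ * (v₀ * u) * v₀⁻¹ * α := by rw [q3]
        _ = u * (v₀⁻¹ * α) := by group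
    have h4 : k⁻¹ = β * (v₀⁻¹ * α) := by rw [ev]; group
    have h5 : k⁻¹ * u = u * k⁻¹ := by
      rw [h4]
      calc β * (v₀⁻¹ * α) * u = β * (v₀⁻¹ * α * u) := by group
        _ = (β * u) * (v₀⁻¹ * α) := by rw [h3]; group
        _ = u * (β * (v₀⁻¹ * α)) := by rw [← q2]; group
    calc k * u * k⁻¹ = k * (u * k⁻¹) := by group
      _ = k * (k⁻¹ * u) := by rw [h5]
      _ = u := by group
  have h3 := C.rgd.conj_mem hk hr2r.neg hu
  have h4 : rep cs h w (-(r - (2 : ℤ) • y)) = -r := by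
    rw [hw, cpr_neg cs h _ hy]
    have h5 : cpr cs h (r - (2 : ℤ) • y) y = -2 := by
      apply cpr_eq_of_form cs h hy
      rw [form_comm, f1]; ring
    rw [h5]
    simp
  rw [hku, h4] at h3
  have h5 : u ∈ X (-(r - (2 : ℤ) • y)) ⊓ X (-r) := ⟨hu, h3⟩
  rw [X_inf_X C.rgd hr2r.neg L.root.neg n9] at h5
  exact h5

/-- **`C_{VV r}(VV r) = Z r`**, if there is a short root `y` with `(y, r) > 0` -/
theorem mem_Z_of_short {r y : I → ℤ} (L : Lg cs h r) (hr : r ∈ R) (hy : IsRoot cs h y)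
    (h0 : 0 < form cs h y r) (h2 : 2 * form cs h y y = form cs h r r) {c : Y}
    (hcV : c ∈ VV cs h X r) (hc : ∀ v ∈ VV cs h X r, c * v = v * c) : c ∈ Z r := by
  have hne : y ≠ r := by
    rintro rfl
    have := L.pos
    omega
  have h1 := (L.len hy h0 hne).1
  have hN := z_mem_normalizer_VV C hr
  have hz2 := C.z_sq r hr
  have hzi : (z r)⁻¹ = z r := inv_eq_of_mul_eq_one_left hz2
  have hcon : ∀ v ∈ VV cs h X r, z r * v * z r ∈ VV cs h X r := by
    intro v hv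
    have := (Subgroup.mem_normalizer_iff.1 hN v).1 hv
    rwa [hzi] at this
  have hzc : ∀ v ∈ VV cs h X r, (z r * c * z r) * v = v * (z r * c * z r) := by
    intro v hv
    have h3 := hc _ (hcon v hv)
    calc (z r * c * z r) * v = z r * (c * (z r * v * z r)) * (z r)⁻¹ := by group
      _ = z r * (z r * v * z r * c) * (z r)⁻¹ := by rw [h3]
      _ = (z r * z r) * v * (z r * c * (z r)⁻¹) := by group
      _ = v * (z r * c * z r) := by rw [hz2, one_mul, hzi]
  have h3 : c⁻¹ * (z r * c * z r) = 1 := by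
    refine eq_one_of_inverted C hp2 L hr hy h1 h2 (mul_mem (inv_mem hcV) (hcon c hcV)) ?_ ?_
    · intro v hv
      have h4 := hc v hv
      have h5 : c⁻¹ * v = v * c⁻¹ := by
        calc c⁻¹ * v = c⁻¹ * (v * c) * c⁻¹ := by group
          _ = c⁻¹ * (c * v) * c⁻¹ := by rw [h4]
          _ = v * c⁻¹ := by group
      calc c⁻¹ * (z r * c * z r) * v = c⁻¹ * ((z r * c * z r) * v) := by group
        _ = c⁻¹ * v * (z r * c * z r) := by rw [hzc v hv]; group
        _ = v * (c⁻¹ * (z r * c * z r)) := by rw [h5]; group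
    · calc z r * (c⁻¹ * (z r * c * z r)) * z r = (z r * c⁻¹ * z r) * c * (z r * z r) := by
            simp only [mul_assoc]
        _ = (z r * c⁻¹ * z r) * c := by rw [hz2, mul_one]
        _ = (c⁻¹ * ((z r)⁻¹ * c * (z r)⁻¹))⁻¹ := by group
        _ = (c⁻¹ * (z r * c * z r))⁻¹ := by rw [hzi]
  refine mem_Z_of_commute C hp2 hr hcV ?_
  have h4 : z r * c * z r = c := by
    calc z r * c * z r = c * (c⁻¹ * (z r * c * z r)) := by group
      _ = c := by rw [h3, mul_one]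
  calc c * z r = z r * c * z r * z r := by rw [h4]
    _ = z r * c * (z r * z r) := by simp only [mul_assoc]
    _ = z r * c := by rw [hz2, mul_one]

end One

end Cfsg.Agent.Nodes.CenVV
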