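import Cfsg.Agent.Nodes.Unique
import Cfsg.Agent.Nodes.ChartLoc

/-!
The order of a join of root groups (project CIT, charts).

* `card_sup` : `|Sup X s| = ∏ |X x|` for a closed set `s` of positive roots;
* `card_X_rep` : the order of `X r` is invariant under the Weyl group;
* `X_inf_center` : a root group meets the centre trivially.
-/

set_option autoImplicit false
set_option linter.unusedSectionVars false

namespace Cfsg.Agent.Nodes.CardSup

open CoxeterSystem Cfsg.Agent.ChevalleyStructure.CoxeterGeom Cfsg.Agent.Tits.Roots Cfsg.Agent.Tits.Core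
  Cfsg.Agent.Tits.RootComb Cfsg.Agent.Nodes.Comb Cfsg.Agent.Nodes.Reps Cfsg.Agent.Nodes.BNOf
  Cfsg.Agent.Nodes.BNOf.RGD Cfsg.Agent.Nodes.Unique

theorem card_mul_of_disjoint {Y : Type*} [Group Y] {A B C : Subgroup Y} (hA : A ≤ C) (hB : B ≤ C)
    (h : ∀ g ∈ C, ∃ a ∈ A, ∃ b ∈ B, g = a * b) (hd : A ⊓ B = ⊥) :
    Nat.card C = Nat.card A * Nat.card B := by
  rw [← Nat.card_prod]
  symm
  refine Nat.card_congr (Equiv.ofBijective (fun x : A × B => (⟨x.1 * x.2, mul_mem (hA x.1.2) (hB x.2.2)⟩ : C)) ⟨?_, ?_⟩)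
  · rintro ⟨⟨a, ha⟩, ⟨b, hb⟩⟩ ⟨⟨a', ha'⟩, ⟨b', hb'⟩⟩ e
    have ha : a ∈ A := ha
    have hb : b ∈ B := hb
    have ha' : a' ∈ A := ha'
    have hb' : b' ∈ B := hb'
    have e1 : a * b = a' * b' := congrArg Subtype.val e
    have e2 : a'⁻¹ * a = b' * b⁻¹ := by
      rw [inv_mul_eq_iff_eq_mul, ← mul_assoc, ← e1, mul_inv_cancel_right]
    have e3 : a'⁻¹ * a ∈ A ⊓ B :=
      Subgroup.mem_inf.2 ⟨mul_mem (inv_mem ha') ha, by rw [e2]; exact mul_mem hb' (inv_mem hb)⟩
    rw [hd, Subgroup.mem_bot] at e3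
    have e4 : a = a' := (inv_mul_eq_one.1 e3).symm
    subst e4
    have e5 : b = b' := mul_left_cancel e1
    subst e5
    rfl
  · rintro ⟨g, hg⟩
    obtain ⟨a, ha, b, hb, e⟩ := h g hg
    exact ⟨(⟨a, ha⟩, ⟨b, hb⟩), Subtype.ext e.symm⟩

theorem card_cj {Y : Type*} [Group Y] {g : Y} (H : Subgroup Y) : Nat.card (cj g H) = Nat.card H :=
  Nat.card_congr (H.equivMapOfInjective _ (MulAut.conj g).injective).toEquiv.symm

section

variable {I W Y : Type*} [Fintype I] [DecidableEq I] [Group W] [Group Y] {M : CoxeterMatrix I}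
  {cs : CoxeterSystem M W} {A : I → I → ℤ} {h : IsCartan M A} {p : ℕ} {T : Subgroup Y} {n : I → Y}
  {X : (I → ℤ) → Subgroup Y} (Rd : RGD cs h p T n X)

include Rd

theorem card_sup_fut [Finite W] (w : W) {s : Finset (I → ℤ)} (hS : (s : Set (I → ℤ)) ⊆ Fut cs h w)
    (hc : Closed cs h (s : Set (I → ℤ))) : Nat.card (Sup X (s : Set (I → ℤ))) = ∏ x ∈ s, Nat.card (X x) := by
  classical
  induction hn : (Fut cs h w).ncard generalizing w s with
  | zero =>
    have h1 := (Set.ncard_eq_zero (finite_fut w)).1 hn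
    rw [h1, Set.subset_empty_iff, Finset.coe_eq_empty] at hS
    subst hS
    have h2 : Sup X ((∅ : Finset (I → ℤ)) : Set (I → ℤ)) = ⊥ := by
      rw [eq_bot_iff]
      refine Sup_le fun z hz => ?_
      simp at hz
    rw [h2, Subgroup.card_bot, Finset.prod_empty]
  | succ k ih =>
    have hne : (Fut cs h w).Nonempty := by
      rw [Set.nonempty_iff_ne_empty]
      intro h1
      rw [h1, Set.ncard_empty] at hn
      omega
    obtain ⟨y, hy⟩ := hne
    obtain ⟨i, hi⟩ := exists_simple hy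
    set x := rep cs h w (sr i) with hxdef
    have hcard : (Fut cs h (w * cs.simple i)).ncard = k := by
      rw [fut_mul hi, Set.ncard_sdiff_singleton_of_mem (mem_fut hi), hn]
      rfl
    have hsub : (s : Set (I → ℤ)) \ {x} ⊆ Fut cs h (w * cs.simple i) := by
      rw [fut_mul hi]
      exact Set.sdiff_subset_sdiff_left hS
    have hcl := closed_diff hi hS hc
    by_cases hx : x ∈ s
    · have e1 : ((s.erase x : Finset (I → ℤ)) : Set (I → ℤ)) = (s : Set (I → ℤ)) \ {x} := Finset.coe_erase x s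
      have key := ih (w * cs.simple i) (s := s.erase x) (by rw [e1]; exact hsub) (by rw [e1]; exact hcl) hcard
      rw [e1] at key
      rw [← Finset.mul_prod_erase s _ hx, ← key]
      have hpos : (s : Set (I → ℤ)) ⊆ Pos cs h := hS.trans (fut_subset_pos w)
      refine card_mul_of_disjoint (le_Sup (S := (s : Set (I → ℤ))) (Finset.mem_coe.2 hx)) (Sup_mono Set.sdiff_subset)
        (fun g hg => (mem_peel Rd hpos hc (Finset.mem_coe.2 hx)).1 hg) ?_
      rw [eq_bot_iff, ← tail_inf Rd (w := w) (i := i)]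
      exact inf_le_inf_left _ (Sup_mono hsub)
    · have hs : (s : Set (I → ℤ)) \ {x} = s := Set.sdiff_singleton_eq_self (fun h => hx (Finset.mem_coe.1 h))
      rw [hs] at hsub
      exact ih (w * cs.simple i) hsub hc hcard

/-- **the order of a join of root groups** -/
theorem card_sup [Finite W] {s : Finset (I → ℤ)} (hS : (s : Set (I → ℤ)) ⊆ Pos cs h)
    (hc : Closed cs h (s : Set (I → ℤ))) : Nat.card (Sup X (s : Set (I → ℤ))) = ∏ x ∈ s, Nat.card (X x) := by
  rw [← fut_one] at hS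
  exact card_sup_fut Rd 1 hS hc

theorem card_X_rep [Finite W] (w : W) {x : I → ℤ} (hx : IsRoot cs h x) :
    Nat.card (X (rep cs h w x)) = Nat.card (X x) := by
  obtain ⟨g, hg⟩ := exists_rp cs Rd.nsys w
  rw [← Rd.conj_rp hg hx]
  exact card_cj _

/-- a root group meets the centre trivially -/
theorem X_inf_center [Finite W] {x : I → ℤ} (hx : IsRoot cs h x) : X x ⊓ Subgroup.center Y = ⊥ := by
  obtain ⟨w, i, rfl⟩ := hx
  obtain ⟨g, hg⟩ := exists_rp cs Rd.nsys w
  rw [eq_bot_iff]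
  rintro u ⟨hu, hc⟩
  rw [Subgroup.mem_bot]
  have hcen : ∀ y : Y, y * u = u * y := Subgroup.mem_center_iff.1 hc
  have h1 : u ∈ X (sr i) := by
    have h2 := Rd.conj_mem' hg ((isRoot_sr cs h i).act w) hu
    rw [rep_inv_apply] at h2
    have h3 : g⁻¹ * u * g = u := by rw [hcen, mul_assoc, inv_mul_cancel, mul_one]
    rwa [h3] at h2
  have h2 : u ∈ X (-sr i) := by
    have h3 := Rd.conj_mem (rp_simple cs Rd.nsys i) (isRoot_sr cs h i) h1
    rw [rep_simple_sr] at h3
    have h4 : n i * u * (n i)⁻¹ = u := by rw [hcen, mul_assoc, mul_inv_cancel, mul_one]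
    rwa [h4] at h3
  have h3 : u ∈ X (-sr i) ⊓ B cs h T X := ⟨h2, X_le_B (isRoot_sr cs h i) (sr_nonneg i) h1⟩
  rwa [neg_inf_B Rd i, Subgroup.mem_bot] at h3

/-- the order of the image of a root group under a homomorphism with central kernel -/
theorem card_map_X [Finite W] {Y' : Type*} [Group Y'] (f : Y →* Y') (hf : f.ker ≤ Subgroup.center Y) {x : I → ℤ}
    (hx : IsRoot cs h x) : Nat.card ((X x).map f) = Nat.card (X x) := by
  symm
  refine Nat.card_congr (Equiv.ofBijective (fun u : X x => (⟨f u, Subgroup.mem_map_of_mem f u.2⟩ : (X x).map f)) ⟨?_, ?_⟩)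
  · rintro ⟨u, hu⟩ ⟨v, hv⟩ e
    have e1 : f u = f v := congrArg Subtype.val e
    have e2 : u * v⁻¹ ∈ X x ⊓ Subgroup.center Y :=
      Subgroup.mem_inf.2 ⟨mul_mem hu (inv_mem hv), hf (by rw [MonoidHom.mem_ker, map_mul, map_inv, e1, mul_inv_cancel])⟩
    rw [X_inf_center Rd hx, Subgroup.mem_bot] at e2
    exact Subtype.ext (mul_inv_eq_one.1 e2)
  · rintro ⟨_, u, hu, rfl⟩
    exact ⟨⟨u, hu⟩, rfl⟩

end

end Cfsg.Agent.Nodes.CardSup
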