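import Mathlib
import Cfsg.Agent.Nodes.ChartFrame
import Cfsg.Agent.Nodes.LeviStd

/-!
# Block charts (project CIT)

* `exists_mul_mem`, `rgd_shrink`, `cls_shrink` : the torus of classical data may be replaced by `T ⊓ G1`, the elements
  `n i` by elements `t i * n i` of `G1`;
* `om_DC` : the members of `Om` in the group `DC F s` of a component of the roots orthogonal to a frame are the
  conjugates of the `KK r`, `r ∈ R` in the component;
* `Cp_eq` : for a dominant classical root `θ` the components are the connected components of the simple roots orthogonal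
  to `θ`; `DC_eq_G1`;
* `blockChart` : the chart of `DC {θ} s` with prescribed index type and matrices.
-/

set_option autoImplicit false
set_option linter.unusedSectionVars false
set_option linter.dupNamespace false

namespace Cfsg.Agent.Nodes.Block

open CoxeterSystem Cfsg.Agent.ChevalleyStructure.CoxeterGeom Cfsg.Agent.Tits.Roots Cfsg.Agent.Tits.Core
  Cfsg.Agent.Tits.RootComb Cfsg.Agent.Nodes.Comb Cfsg.Agent.Nodes.Reps Cfsg.Agent.Nodes.BNOf
  Cfsg.Agent.Nodes.RGDLib Cfsg.Agent.Nodes.Chart Cfsg.Agent.Nodes.Bruhat Cfsg.Agent.Nodes.Coroot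
  Cfsg.Agent.Nodes.Perp Cfsg.Agent.Nodes.StabComb Cfsg.Agent.Nodes.SubComb
open Cfsg.Agent.Cit.TypeDet (cm stp chn cm_symm cm_iff_le_centralizer cm_mono)
open Relation

/-! ### Shrinking the torus -/

section Shrink

variable {I W Y : Type*} [Fintype I] [DecidableEq I] [Group W] [Group Y] {M : CoxeterMatrix I}
  {cs : CoxeterSystem M W} {A : I → I → ℤ} {h : IsCartan M A} {p : ℕ} {T : Subgroup Y} {n : I → Y}
  {X : (I → ℤ) → Subgroup Y} {R : Set (I → ℤ)} {Z : (I → ℤ) → Subgroup Y} {z : (I → ℤ) → Y}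

/-- Some `t n_i`, `t ∈ T`, lies in the group of the root groups. -/
theorem exists_mul_mem [Finite W] (D : RGD cs h p T n X) (i : I) : ∃ t ∈ T, t * n i ∈ G1 cs h X := by
  obtain ⟨u, hu, hu1⟩ : ∃ u ∈ X (-sr i), u ≠ 1 := by
    by_contra h0
    push Not at h0
    exact X_ne_bot D (isRoot_sr cs h i).neg ((Subgroup.eq_bot_iff_forall _).2 h0)
  obtain ⟨a, ha, t, ht, b, hb, e⟩ := D.rk1 i u hu hu1
  refine ⟨t, ht, ?_⟩
  have h1 : t * n i = a⁻¹ * u * b⁻¹ := by rw [e]; group
  rw [h1]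
  exact mul_mem (mul_mem (inv_mem (X_le_G1 (isRoot_sr cs h i) ha)) (X_le_G1 (isRoot_sr cs h i).neg hu))
    (inv_mem (X_le_G1 (isRoot_sr cs h i) hb))

theorem rp_mul (hN : NSys M T n) {t : I → Y} (ht : ∀ i, t i ∈ T) (i : I) :
    Rp cs hN (cs.simple i) (t i * n i) := by
  have := (rp_of_mem (cs := cs) (hN := hN) (ht i)).mul (rp_simple cs hN i)
  rwa [one_mul] at this

theorem nsys_shrink (cs : CoxeterSystem M W) (hN : NSys M T n) {t : I → Y} (ht : ∀ i, t i ∈ T) {L : Subgroup Y}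
    (hL : ∀ i, t i * n i ∈ L) : NSys M (T ⊓ L) (fun i => t i * n i) := by
  refine ⟨fun i => ?_, fun i j => ?_⟩
  · rw [mem_normalizer_iff_cj, FreeTorus.cj_inf, mem_normalizer_iff_cj.1 (rp_mul (cs := cs) hN ht i).mem_normalizer,
      cj_eq_of_mem (hL i)]
  · refine ⟨?_, pow_mem (mul_mem (hL i) (hL j)) _⟩
    have h1 : ∀ m : ℕ, Rp cs hN ((cs.simple i * cs.simple j) ^ m) ((t i * n i * (t j * n j)) ^ m) := by
      intro m
      induction m with
      | zero => rw [pow_zero, pow_zero]; exact rp_one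
      | succ m ih => rw [pow_succ, pow_succ]; exact ih.mul ((rp_mul hN ht i).mul (rp_mul hN ht j))
    have h2 := h1 (M i j)
    rw [cs.simple_mul_simple_pow] at h2
    exact h2.mem_of_one

theorem rgd_shrink (D : RGD cs h p T n X) {t : I → Y} (ht : ∀ i, t i ∈ T) (hL : ∀ i, t i * n i ∈ G1 cs h X) :
    RGD cs h p (T ⊓ G1 cs h X) (fun i => t i * n i) X where
  nsys := nsys_shrink cs D.nsys ht hL
  conj i x hx := by rw [cj_mul, D.conj i x hx, D.tor _ (hx.act _) _ (ht i)]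
  tor x hx s hs := D.tor x hx s hs.1
  comm := D.comm
  rk1 i u hu hne := by
    obtain ⟨a, ha, s, hs, b, hb, e⟩ := D.rk1 i u hu hne
    refine ⟨a, ha, s * (t i)⁻¹, Subgroup.mem_inf.2 ⟨mul_mem hs (inv_mem (ht i)), ?_⟩, b, hb, by rw [e]; group⟩
    have h1 : s * (t i)⁻¹ = a⁻¹ * u * b⁻¹ * (t i * n i)⁻¹ := by rw [e]; group
    rw [h1]
    exact mul_mem (mul_mem (mul_mem (inv_mem (X_le_G1 (isRoot_sr cs h i) ha))
      (X_le_G1 (isRoot_sr cs h i).neg hu)) (inv_mem (X_le_G1 (isRoot_sr cs h i) hb))) (inv_mem (hL i))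
  pgrp := D.pgrp
  notp := D.notp
  tcop := Nat.Coprime.coprime_dvd_left (Subgroup.card_dvd_of_le inf_le_left) D.tcop

theorem cls_shrink [Fintype W] (C : Cls cs h p T n X R Z z) {t : I → Y} (ht : ∀ i, t i ∈ T)
    (hL : ∀ i, t i * n i ∈ G1 cs h X) : Cls cs h p (T ⊓ G1 cs h X) (fun i => t i * n i) X R Z z where
  rgd := rgd_shrink C.rgd ht hL
  root := C.root
  act := C.act
  le := C.le
  ne_bot := C.ne_bot
  conj i r hr := by rw [cj_mul, C.conj i r hr, C.tor _ (C.act r hr _) _ (ht i)]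
  tor r hr s hs := C.tor r hr s hs.1
  cent := C.cent
  notp := C.notp
  z_mem := C.z_mem
  z_torus r hr := ⟨C.z_torus r hr, (KK_le_LL C hr).trans (sup_le (X_le_G1 (C.root r hr))
    (X_le_G1 (C.root r hr).neg)) (C.z_mem r hr)⟩
  z_T r hr s hs := C.z_T r hr s hs.1
  z_sq := C.z_sq
  z_conj i r hr := by
    have h1 : t i * n i * z r * (t i * n i)⁻¹ = t i * (n i * z r * (n i)⁻¹) * (t i)⁻¹ := by group
    rw [h1, C.z_conj i r hr, ← C.z_T _ (C.act r hr _) _ (ht i), mul_inv_cancel_right]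
  z_neg := C.z_neg
  z_cent := C.z_cent
  z_inv := C.z_inv
  z_inv_self := C.z_inv_self

end Shrink

/-! ### Components -/

section Comp

variable {I W Y : Type*} [Fintype I] [DecidableEq I] [Group W] [Fintype W] [Group Y] {M : CoxeterMatrix I}
  {cs : CoxeterSystem M W} {A : I → I → ℤ} {h : IsCartan M A} {p : ℕ} {T : Subgroup Y} {n : I → Y}
  {X : (I → ℤ) → Subgroup Y} {R : Set (I → ℤ)} {Z : (I → ℤ) → Subgroup Y} {z : (I → ℤ) → Y}

/-- `DD F` is the product of the group of a component and its centraliser. -/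
theorem exists_mul_of_mem_DD (C : Cls cs h p T n X R Z z) {F : Set (I → ℤ)} {s : I → ℤ} (hs : s ∈ Perp cs h F)
    {l : Y} (hl : l ∈ DD cs h X F) : ∃ a ∈ DC cs h X F s, ∃ b ∈ Subgroup.centralizer (DC cs h X F s : Set Y),
      l = a * b := by
  have hE : RGD.Sup X {x | x ∈ Perp cs h F ∧ x ∉ Cp cs h F s} ≤ Subgroup.centralizer (DC cs h X F s : Set Y) :=
    RGD.Sup_le fun x hx => cm_iff_le_centralizer.1 (X_cm_DC C hs hx.1 hx.2)
  have hle : DD cs h X F ≤ DC cs h X F s ⊔ RGD.Sup X {x | x ∈ Perp cs h F ∧ x ∉ Cp cs h F s} := by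
    refine RGD.Sup_le fun x hx => ?_
    by_cases hxs : x ∈ Cp cs h F s
    · exact (RGD.le_Sup (X := X) hxs).trans le_sup_left
    · exact (RGD.le_Sup (X := X) (S := {x | x ∈ Perp cs h F ∧ x ∉ Cp cs h F s}) ⟨hx, hxs⟩).trans le_sup_right
  have hn : DC cs h X F s ≤
      Subgroup.normalizer (RGD.Sup X {x | x ∈ Perp cs h F ∧ x ∉ Cp cs h F s} : Set Y) := by
    refine le_trans ?_ (ClsNorm.centralizer_le_normalizer' _)
    rw [← cm_iff_le_centralizer]
    exact cm_symm (cm_iff_le_centralizer.2 hE)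
  have h1 : l ∈ ((DC cs h X F s ⊔ RGD.Sup X {x | x ∈ Perp cs h F ∧ x ∉ Cp cs h F s} : Subgroup Y) : Set Y) :=
    hle hl
  rw [Subgroup.coe_mul_of_left_le_normalizer_right _ _ hn, Set.mem_mul] at h1
  obtain ⟨a, ha, b, hb, e⟩ := h1
  exact ⟨a, ha, b, hE hb, e.symm⟩

theorem KK_le_DC (C : Cls cs h p T n X R Z z) {F : Set (I → ℤ)} {s r : I → ℤ} (hs : s ∈ Perp cs h F)
    (hr : r ∈ R) (hrs : r ∈ Cp cs h F s) : KK Z r ≤ DC cs h X F s :=
  sup_le ((C.le r hr).trans (RGD.le_Sup (X := X) hrs))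
    ((C.le _ (neg_mem C hr)).trans (RGD.le_Sup (X := X) (Cp.neg hs hrs)))

/-- The members of `OmF F` in the group of a component. -/
theorem exists_of_le_DC (C : Cls cs h p T n X R Z z) (hp : p.Prime) {F : Set (I → ℤ)} {s : I → ℤ}
    (hs : s ∈ Perp cs h F) {K : Subgroup Y} (hK : K ∈ OmF cs h X R Z F) (hKs : K ≤ DC cs h X F s) :
    ∃ r ∈ R, r ∈ Cp cs h F s ∧ ∃ a ∈ DC cs h X F s, K = cj a (KK Z r) := by
  obtain ⟨r, hr, hrF, l, hl, rfl⟩ := hK
  have h1 := cj_KK_le_DC C hr hrF hl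
  have h2 : r ∈ Cp cs h F s := by
    by_contra h3
    have h4 : cm (cj l (KK Z r)) (cj l (KK Z r)) := cm_mono h1 hKs (DC_cm_DC C hs hrF h3)
    rw [cm_cj'] at h4
    exact not_cm_self C hp hr h4
  obtain ⟨a, ha, b, hb, rfl⟩ := exists_mul_of_mem_DD C hs hl
  refine ⟨r, hr, h2, a, ha, ?_⟩
  rw [cj_mul]
  congr 1
  rw [← mem_normalizer_iff_cj]
  refine ClsNorm.centralizer_le_normalizer' _ ?_
  exact Subgroup.centralizer_le (KK_le_DC C hs hr h2) hb

/-- `cj a (KK Z r)`, `r ∈ R` in the component, `a` in the group of the component. -/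
theorem cj_KK_mem_OmF {F : Set (I → ℤ)} {s r : I → ℤ} (hs : s ∈ Perp cs h F)
    (hr : r ∈ R) (hrs : r ∈ Cp cs h F s) {a : Y} (ha : a ∈ DC cs h X F s) : cj a (KK Z r) ∈ OmF cs h X R Z F :=
  ⟨r, hr, Cp.mem hs hrs, a, DC_le hs ha, rfl⟩

/-- The chain class of a member of `OmF F` consists of the members in the group of its component. -/
theorem chn_iff_le_DC (C : Cls cs h p T n X R Z z) (hp : p.Prime) (hodd : p ≠ 2) {F : Set (I → ℤ)} {s : I → ℤ}
    (hs : s ∈ R) (hsF : s ∈ Perp cs h F) {l : Y} (hl : l ∈ DD cs h X F) {K : Subgroup Y}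
    (hK : K ∈ OmF cs h X R Z F) :
    chn (OmF cs h X R Z F) (cj l (KK Z s)) K ↔ K ≤ DC cs h X F s := by
  constructor
  · intro h0
    obtain ⟨r, hr, hrF, k, hk, rfl⟩ := hK
    have h1 := (chn_iff C hp hodd hs hsF hr hrF hl hk).1 h0
    refine (cj_KK_le_DC C hr hrF hk).trans (RGD.Sup_mono fun x hx => ?_)
    exact ReflTransGen.trans h1 hx
  · intro h0
    obtain ⟨r, hr, hrs, a, ha, rfl⟩ := exists_of_le_DC C hp hsF hK h0
    exact (chn_iff C hp hodd hs hsF hr (Cp.mem hsF hrs) hl (DC_le hsF ha)).2 hrs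

end Comp

/-! ### Components of standard Levi subsystems -/

section Levi

variable {I W : Type*} [Fintype I] [DecidableEq I] [Group W] [Fintype W] {M : CoxeterMatrix I}
  {cs : CoxeterSystem M W} {A : I → I → ℤ} {h : IsCartan M A}

theorem Perp_singleton {θ : I → ℤ} (hθ : Dom A θ) : Perp cs h {θ} = RootsJ cs h (orth cs h θ) := by
  ext x
  constructor
  · rintro ⟨hx, h0⟩
    exact (ClsNorm.mem_RootsJ_orth_iff hθ hx).2 (h0 θ rfl)
  · intro hx
    refine ⟨hx.1, ?_⟩
    rintro f rfl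
    exact (ClsNorm.mem_RootsJ_orth_iff hθ hx.1).1 hx

/-- `K` is the disjoint union of `J` and a set of nodes orthogonal to `J`. -/
def Sep (M : CoxeterMatrix I) (J K : Set I) : Prop := J ⊆ K ∧ ∀ a ∈ J, ∀ b ∈ K, b ∉ J → M a b = 2

theorem A_eq_zero (h : IsCartan M A) {a b : I} (hab : M a b = 2) : A a b = 0 := by
  have hne : a ≠ b := by
    rintro rfl
    rw [M.diagonal] at hab
    omega
  rcases h.rel a b hne with h1 | h1 | h1 | h1 <;> omega

theorem pairing_eq_zero (h : IsCartan M A) {S : Set I} {a : I} (ha : ∀ b ∈ S, M a b = 2) {x : I → ℤ}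
    (hx : ∀ k, k ∉ S → x k = 0) : pairing A a x = 0 := by
  unfold pairing
  refine Finset.sum_eq_zero fun b _ => ?_
  by_cases hb : b ∈ S
  · rw [A_eq_zero h (ha b hb), zero_mul]
  · rw [hx b hb, mul_zero]

theorem Sep.symm' {J K : Set I} (hS : Sep M J K) : Sep M (K \ J) K :=
  ⟨fun _ hx => hx.1, fun a ha b hb hbJ => by
    have hb' : b ∈ J := by
      by_contra h0
      exact hbJ ⟨hb, h0⟩
    rw [M.symmetric]
    exact hS.2 b hb' a ha.1 ha.2⟩

/-- A root of `K` is a root of `J` or of `K \ J`. -/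
theorem Sep.mem_or {J K : Set I} (hS : Sep M J K) {x : I → ℤ} (hx : x ∈ RootsJ cs h K) :
    x ∈ RootsJ cs h J ∨ x ∈ RootsJ cs h (K \ J) := by
  obtain ⟨w, hw, j, hj, e⟩ := exists_of_mem_RootsJ hx
  have key : ∀ w ∈ WJ cs K, ∀ y : I → ℤ, (y ∈ RootsJ cs h J ∨ y ∈ RootsJ cs h (K \ J)) →
      rep cs h w y ∈ RootsJ cs h J ∨ rep cs h w y ∈ RootsJ cs h (K \ J) := by
    intro w hw
    obtain ⟨ω, hω, rfl⟩ := Cfsg.Agent.Tits.Exchange.exists_word_of_mem_WJ cs hw
    clear hw
    induction ω with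
    | nil =>
      intro y hy
      rwa [wordProd_nil, map_one, Module.End.one_apply]
    | cons i ω ih =>
      intro y hy
      rw [wordProd_cons, rep_mul_apply]
      have hy' := ih (fun j hj => hω j (by simp [hj])) y hy
      have hi : i ∈ K := hω i (by simp)
      by_cases hiJ : i ∈ J
      · rcases hy' with h1 | h1
        · exact Or.inl (RootsJ.act (Cfsg.Agent.Tits.Exchange.simple_mem_WJ cs hiJ) h1)
        · right
          rw [rep_simple_eq, pairing_eq_zero h (S := K \ J) (fun b hb => hS.2 i hiJ b hb.1 hb.2) h1.2, zero_smul,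
            sub_zero]
          exact h1
      · have hiK : i ∈ K \ J := ⟨hi, hiJ⟩
        rcases hy' with h1 | h1
        · left
          rw [rep_simple_eq, pairing_eq_zero h (S := J)
            (fun b hb => by rw [M.symmetric]; exact hS.2 b hb i hi hiJ) h1.2, zero_smul, sub_zero]
          exact h1
        · exact Or.inr (RootsJ.act (Cfsg.Agent.Tits.Exchange.simple_mem_WJ cs hiK) h1)
  rw [e]
  refine key w hw _ ?_
  by_cases hjJ : j ∈ J
  · exact Or.inl (PosJ_subset _ (sr_mem_PosJ hjJ))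
  · exact Or.inr (PosJ_subset _ (sr_mem_PosJ ⟨hj, hjJ⟩))

theorem form_eq_zero_of_pairing {i : I} {x : I → ℤ} (hx : pairing A i x = 0) : form cs h x (sr i) = 0 := by
  have h1 := two_form cs h i x
  rw [hx, zero_mul] at h1
  omega

/-- The roots of `J` and of `K \ J` are orthogonal. -/
theorem Sep.form_eq_zero {J K : Set I} (hS : Sep M J K) {x y : I → ℤ} (hx : x ∈ RootsJ cs h J)
    (hy : y ∈ RootsJ cs h (K \ J)) : form cs h x y = 0 := by
  rw [form_comm, form_eq_sum]
  refine Finset.sum_eq_zero fun k _ => ?_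
  by_cases hk : k ∈ J
  · rw [form_eq_zero_of_pairing (pairing_eq_zero h (S := K \ J) (fun b hb => hS.2 k hk b hb.1 hb.2) hy.2), mul_zero]
  · rw [hx.2 k hk, zero_mul]

/-- `J` is connected. -/
def Irr (M : CoxeterMatrix I) (J : Set I) : Prop :=
  ∀ J' : Set I, J' ⊆ J → J'.Nonempty → J' ≠ J → ∃ a ∈ J', ∃ b ∈ J, b ∉ J' ∧ M a b ≠ 2

/-- **The components of the roots orthogonal to a dominant root.** -/
theorem Cp_eq {θ : I → ℤ} (hθ : Dom A θ) {J : Set I} (hS : Sep M J (orth cs h θ)) (hirr : Irr M J) {s : I → ℤ}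
    (hs : s ∈ RootsJ cs h J) : Cp cs h {θ} s = RootsJ cs h J := by
  have hP := Perp_singleton (cs := cs) (h := h) hθ
  have hJP : ∀ x ∈ RootsJ cs h J, x ∈ Perp cs h {θ} := by
    intro x hx
    rw [hP]
    exact ⟨hx.1, fun k hk => hx.2 k fun h0 => hk (hS.1 h0)⟩
  apply Set.Subset.antisymm
  · intro x hx
    induction hx with
    | refl => exact hs
    | @tail x y _ h2 ih =>
      have hy : y ∈ RootsJ cs h (orth cs h θ) := by rw [← hP]; exact h2.2.1
      rcases hS.mem_or hy with h3 | h3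
      · exact h3
      · exact absurd (hS.form_eq_zero ih h3) h2.2.2
  · -- every root of `J` is not orthogonal to a simple root of `J`
    have h1 : ∀ x ∈ RootsJ cs h J, ∃ k ∈ J, form cs h x (sr k) ≠ 0 := by
      intro x hx
      by_contra h0
      push Not at h0
      have h2 := form_pos cs h hx.1.ne_zero
      rw [form_eq_sum] at h2
      refine h2.ne' (Finset.sum_eq_zero fun k _ => ?_)
      by_cases hk : k ∈ J
      · rw [h0 k hk, mul_zero]
      · rw [hx.2 k hk, zero_mul]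
    have hsr : ∀ k ∈ J, sr k ∈ RootsJ cs h J := fun k hk => PosJ_subset _ (sr_mem_PosJ hk)
    obtain ⟨k, hk, hk0⟩ := h1 s hs
    -- the simple roots joined to `s`
    have h2 : ∀ j ∈ J, sr j ∈ Cp cs h {θ} s := by
      intro j hj
      by_contra hcon
      obtain ⟨a, ha, b, hb, hb', hab⟩ := hirr {j | j ∈ J ∧ sr j ∈ Cp cs h {θ} s} (fun _ h0 => h0.1)
        ⟨k, hk, ReflTransGen.single ⟨hJP s hs, hJP _ (hsr k hk), hk0⟩⟩ (by
          intro h0
          have h4 := hj
          rw [← h0] at h4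
          exact hcon h4.2)
      apply hb'
      refine ⟨hb, ReflTransGen.tail ha.2 ⟨hJP _ (hsr a ha.1), hJP _ (hsr b hb), ?_⟩⟩
      intro h0
      have hne : b ≠ a := by rintro rfl; exact hb' ⟨hb, ha.2⟩
      have h3 := two_form cs h b (sr a)
      rw [h0, mul_zero] at h3
      have h4 : pairing A b (sr a) = A b a := OrthRoot.pairing_sr b a
      rw [h4] at h3
      have h5 := form_pos cs h (isRoot_sr cs h b).ne_zero
      have h6 : A b a ≠ 0 := by
        rcases h.rel b a hne with h7 | h7 | h7 | h7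
        · exact absurd h7.1 (by rw [M.symmetric]; exact hab)
        all_goals omega
      rcases mul_eq_zero.1 h3.symm with h7 | h7
      · exact h6 h7
      · omega
    intro x hx
    obtain ⟨j, hj, hj0⟩ := h1 x hx
    exact ReflTransGen.tail (h2 j hj) ⟨hJP _ (hsr j hj), hJP _ hx, by rw [form_comm]; exact hj0⟩

end Levi

/-! ### The block chart -/

section Chart

variable {G : Type*} [Group G] {Om : Set (Subgroup G)} {p : ℕ} {L : Subgroup G} (C : Chart.Chart Om p L)

/-- The group of a standard Levi subsystem, generated by its root groups. -/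
def GJ (J : Set C.I) : Subgroup G := RGD.Sup C.X (RootsJ C.cs C.h J)

theorem GJ_le (J : Set C.I) : GJ C J ≤ L := RGD.Sup_le fun _ hx => ChartFrame.X_le C hx.1

variable {J W' : Type} [Fintype J] [DecidableEq J] [Group W'] {M' : CoxeterMatrix J} {A' : J → J → ℤ}

theorem G1_levi (f : J ↪ C.I) (hM : ∀ i j, C.M (f i) (f j) = M' i j) (hA : ∀ i j, C.A (f i) (f j) = A' i j)
    (cs' : CoxeterSystem M' W') (h' : IsCartan M' A') :
    G1 cs' h' (fun c => C.X (iota (fun j => sr (f j)) c)) = GJ C (Set.range f) := by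
  symm
  refine ClsSub.Sup_eq_of_forall (fun x hx => ?_) (fun c hc => ?_)
  · obtain ⟨c, hc, rfl⟩ := (LeviStd.mem_RootsJ_range_iff' f hM hA cs' h').1 hx
    exact ⟨c, hc, rfl⟩
  · exact ⟨_, (LeviStd.mem_RootsJ_range_iff' f hM hA cs' h').2 ⟨c, hc, rfl⟩, rfl⟩

theorem irr_range {M : CoxeterMatrix C.I} (f : J ↪ C.I) (hM : ∀ i j, M (f i) (f j) = M' i j)
    (irr' : ∀ K : Set J, K.Nonempty → K ≠ Set.univ → ∃ a ∈ K, ∃ b, b ∉ K ∧ M' a b ≠ 2) : Irr M (Set.range f) := by
  intro J' hJ' hne hne'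
  obtain ⟨a, ha, b, hb, hab⟩ := irr' (f ⁻¹' J') (by
    obtain ⟨x, hx⟩ := hne
    obtain ⟨j, rfl⟩ := hJ' hx
    exact ⟨j, hx⟩) (by
    intro h0
    apply hne'
    refine Set.Subset.antisymm hJ' ?_
    rintro _ ⟨j, rfl⟩
    have : j ∈ f ⁻¹' J' := by rw [h0]; trivial
    exact this)
  exact ⟨f a, ha, f b, ⟨b, rfl⟩, hb, by rw [hM]; exact hab⟩

theorem DC_eq {θ : C.I → ℤ} (hθ : Dom C.A θ) {J : Set C.I} (hS : Sep C.M J (orth C.cs C.h θ)) (hirr : Irr C.M J)
    {s : C.I → ℤ} (hs : s ∈ RootsJ C.cs C.h J) : DC C.cs C.h C.X {θ} s = GJ C J := by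
  unfold DC GJ
  rw [Cp_eq hθ hS hirr hs]

/-- The members of `Om` in `L` commuting with `KK θ`. -/
theorem omF_singleton (hO : ∀ K ∈ Om, ∀ g, cj g K ∈ Om) {θ : C.I → ℤ} (hθR : θ ∈ C.R) :
    {K | K ∈ Om ∧ K ≤ L ∧ cm K (KK C.Z θ)} = OmF C.cs C.h C.X C.R C.Z {θ} := by
  have h1 := ChartFrame.omF_eq C hO (fun _ : Unit => θ) (fun _ => hθR)
    (fun i j hij => absurd (Subsingleton.elim i j) hij)
  have h2 : Set.range (fun _ : Unit => θ) = {θ} := by
    ext x
    constructor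
    · rintro ⟨-, rfl⟩; rfl
    · rintro rfl; exact ⟨(), rfl⟩
  rw [h2] at h1
  rw [← h1]
  ext K
  exact ⟨fun h0 => ⟨h0.1, h0.2.1, fun _ => h0.2.2⟩, fun h0 => ⟨h0.1, h0.2.1, h0.2.2 ()⟩⟩

/-- A root of `R` supported on `range f` comes from the subsystem. -/
theorem mem_levi_iff (f : J ↪ C.I) (hM : ∀ i j, C.M (f i) (f j) = M' i j) (hA : ∀ i j, C.A (f i) (f j) = A' i j)
    (cs' : CoxeterSystem M' W') (h' : IsCartan M' A') (c : J → ℤ) :
    iota (fun j => sr (f j)) c ∈ C.R ↔ c ∈ {c | IsRoot cs' h' c ∧ iota (fun j => sr (f j)) c ∈ C.R} := by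
  constructor
  · intro hc
    refine ⟨?_, hc⟩
    have h1 : iota (fun j => sr (f j)) c ∈ RootsJ C.cs C.h (Set.range f) :=
      ⟨C.cls.root _ hc, fun k hk => Sub.iota_levi_apply_ne f c fun j hj => hk ⟨j, hj⟩⟩
    obtain ⟨c', hc', e⟩ := (LeviStd.mem_RootsJ_range_iff' f hM hA cs' h').1 h1
    have h2 : c = c' := by
      funext j
      have := congrFun e (f j)
      rwa [Sub.iota_levi_apply, Sub.iota_levi_apply] at this
    rw [h2]; exact hc'
  · exact fun hc => hc.2

variable [Fintype W']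

/-- **The block chart**: a connected component `range f` of the simple roots orthogonal to the dominant classical root
`θ` gives a chart of the group `GJ C (range f) = DC {θ} s`. -/
noncomputable def blockChart (hO : ∀ K ∈ Om, ∀ g, cj g K ∈ Om) {θ : C.I → ℤ} (hθR : θ ∈ C.R) (hθ : Dom C.A θ)
    (f : J ↪ C.I) (hM : ∀ i j, C.M (f i) (f j) = M' i j) (hA : ∀ i j, C.A (f i) (f j) = A' i j)
    (cs' : CoxeterSystem M' W') (h' : IsCartan M' A') (neJ : Nonempty J)
    (irr' : ∀ K : Set J, K.Nonempty → K ≠ Set.univ → ∃ a ∈ K, ∃ b, b ∉ K ∧ M' a b ≠ 2)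
    (hS : Sep C.M (Set.range f) (orth C.cs C.h θ)) {R' : Set (J → ℤ)} (hR : ∀ c ∈ R', IsRoot cs' h' c)
    (hR' : ∀ c, iota (fun j => sr (f j)) c ∈ C.R ↔ c ∈ R') (Rne : R'.Nonempty)
    (trans' : ∀ r ∈ R', ∀ s ∈ R', ∃ w, s = rep cs' h' w r) : Chart.Chart Om p (GJ C (Set.range f)) :=
  have C0 := LeviStd.cls_levi_std C.cls f hM hA cs' h' hR hR'
  have hex := fun j => exists_mul_mem C0.rgd j
  { prime := C.prime
    odd := C.odd
    I := J
    W := W'
    M := M'
    cs := cs'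
    A := A'
    h := h'
    T := C.T ⊓ G1 cs' h' (fun c => C.X (iota (fun j => sr (f j)) c))
    n := fun j => Classical.choose (hex j) * C.n (f j)
    X := fun c => C.X (iota (fun j => sr (f j)) c)
    R := R'
    Z := fun c => C.Z (iota (fun j => sr (f j)) c)
    z := fun c => C.z (iota (fun j => sr (f j)) c)
    cls := cls_shrink C0 (fun j => (Classical.choose_spec (hex j)).1) (fun j => (Classical.choose_spec (hex j)).2)
    irr := irr'
    ne := neJ
    T_le := inf_le_right.trans (G1_levi C f hM hA cs' h').le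
    gen := G1_levi C f hM hA cs' h'
    trans := trans'
    Rne := Rne
    om := by
      intro c hc
      have h1 := C.om _ ((hR' c).2 hc)
      simp only [map_neg]
      exact h1
    om_conj := by
      intro K hK hKL
      obtain ⟨r₀, hr₀⟩ := Rne
      have hs : iota (fun j => sr (f j)) r₀ ∈ RootsJ C.cs C.h (Set.range f) :=
        (LeviStd.mem_RootsJ_range_iff' f hM hA cs' h').2 ⟨r₀, hR _ hr₀, rfl⟩
      have hD := DC_eq C hθ hS (irr_range C f hM irr') hs
      have hsP : iota (fun j => sr (f j)) r₀ ∈ Perp C.cs C.h {θ} := by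
        rw [Perp_singleton hθ]
        exact ⟨hs.1, fun k hk => hs.2 k fun h0 => hk (hS.1 h0)⟩
      have hKD : K ≤ DC C.cs C.h C.X {θ} (iota (fun j => sr (f j)) r₀) := by rw [hD]; exact hKL
      have hKF : K ∈ OmF C.cs C.h C.X C.R C.Z {θ} := by
        rw [← omF_singleton C hO hθR]
        refine ⟨hK, hKL.trans (GJ_le C _), ?_⟩
        exact cm_mono (hKD.trans (DC_le hsP)) le_rfl (DD_cm C.cls hθR rfl)
      obtain ⟨r, hr, hrs, a, ha, e⟩ := exists_of_le_DC C.cls C.prime hsP hKF hKD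
      rw [Cp_eq hθ hS (irr_range C f hM irr') hs] at hrs
      obtain ⟨c, hc, rfl⟩ := (LeviStd.mem_RootsJ_range_iff' f hM hA cs' h').1 hrs
      refine ⟨c, (hR' c).1 hr, a, by rw [← hD]; exact ha, ?_⟩
      rw [e, map_neg]
      rfl }

end Chart

end Cfsg.Agent.Nodes.Block
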