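import Mathlib
import Cfsg.Agent.Nodes.TyChart
import Cfsg.Agent.Nodes.KindA
import Cfsg.Agent.Nodes.KindB
import Cfsg.Agent.Nodes.KindC
import Cfsg.Agent.Nodes.KindE
import Cfsg.Agent.Nodes.KindF
import Cfsg.Agent.Nodes.RKindsBC

/-!
# The blocks of the standard types, root level (project CIT)

* `RT τ cs` : the classical roots of the standard root system of `τ`; `sr_mem_RT`, `RT_trans`;
* `Blk τ τ' θ f` : `f` embeds the diagram of `τ'` as a component of the nodes of `τ` orthogonal to the dominant root `θ`;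
* `Step τ τ'` : the types of the blocks;
* `exists_top` : for every type there is a dominant classical root `θ` such that every classical node orthogonal to `θ`
  is isolated (`Iso`) or lies in a block of type `τ'`, `Step τ τ'`.
-/

set_option autoImplicit false
set_option linter.unusedSectionVars false

namespace Cfsg.Agent.Nodes.BlockRoots

open CoxeterSystem Cfsg.Agent.ChevalleyStructure.CoxeterGeom Cfsg.Agent.Tits.Roots Cfsg.Agent.Tits.Core
  Cfsg.Agent.Nodes.Comb Cfsg.Agent.Nodes.Coroot Cfsg.Agent.Nodes.Chart Cfsg.Agent.Nodes.StabComb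

/-! ### Classical roots of a type -/

section RT

variable {W : Type*} [Group W]

/-- The classical roots of the standard root system of `τ`. -/
def RT (τ : Ty) (cs : CoxeterSystem τ.M W) : Set (Fin τ.rk → ℤ) :=
  {x | ∃ i, τ.long i ∧ ∃ w, x = rep cs τ.isCartan w (sr i)}

theorem RT_root {τ : Ty} {cs : CoxeterSystem τ.M W} : ∀ r ∈ RT τ cs, IsRoot cs τ.isCartan r := by
  rintro _ ⟨i, -, w, rfl⟩
  exact ⟨w, i, rfl⟩

theorem RT_act {τ : Ty} {cs : CoxeterSystem τ.M W} : ∀ r ∈ RT τ cs, ∀ w, rep cs τ.isCartan w r ∈ RT τ cs := by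
  rintro _ ⟨i, hi, w, rfl⟩ v
  exact ⟨i, hi, v * w, by rw [rep_mul_apply]⟩

theorem sr_mem_RT [Fintype W] {τ : Ty} (hτ : τ.Ok) {cs : CoxeterSystem τ.M W} (i : Fin τ.rk) :
    sr i ∈ RT τ cs ↔ τ.long i := by
  constructor
  · rintro ⟨j, hj, w, hw⟩
    have h1 := ChartOfCls.len_of_orbit (cs := cs) τ.isCartan (τ.irr hτ) τ.len_rel hw.symm
    rw [τ.long_iff] at hj ⊢
    rw [h1, hj]
  · intro hi
    exact ⟨i, hi, 1, by rw [map_one, Module.End.one_apply]⟩

theorem RT_trans [Fintype W] {τ : Ty} (hτ : τ.Ok) {cs : CoxeterSystem τ.M W} :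
    ∀ r ∈ RT τ cs, ∀ s ∈ RT τ cs, ∃ w, s = rep cs τ.isCartan w r := by
  rintro _ ⟨i, hi, v, rfl⟩ _ ⟨j, hj, w, rfl⟩
  rw [τ.long_iff] at hi hj
  obtain ⟨u, hu⟩ := ChartOfCls.sr_mem_orb_of_len (cs := cs) (i0 := i) (i := j) τ.isCartan (τ.irr hτ) τ.len_rel
    (by rw [hi]; exact τ.lenR_ne) (by rw [hi, hj])
  exact ⟨w * u * v⁻¹, by rw [rep_mul_apply, rep_inv_apply, rep_mul_apply, hu]⟩

theorem RT_nonempty {τ : Ty} (hτ : τ.Ok) (cs : CoxeterSystem τ.M W) : (RT τ cs).Nonempty := by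
  obtain ⟨i, hi⟩ := τ.exists_long hτ
  exact ⟨sr i, i, (τ.long_iff i).2 hi, 1, by rw [map_one, Module.End.one_apply]⟩

end RT

/-! ### Dominant vectors in an orbit -/

section Dom

variable {I W : Type*} [Fintype I] [DecidableEq I] [Group W] {M : CoxeterMatrix I} (cs : CoxeterSystem M W)
  {A : I → I → ℤ} (h : IsCartan M A)

theorem rep_le_of_dom [Finite W] {x : I → ℤ} (hx : Dom A x) : ∀ w : W, rep cs h w x ≤ x := by
  intro w
  induction hn : cs.length w using Nat.strong_induction_on generalizing w with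
  | _ n ih =>
  by_cases hw : w = 1
  · rw [hw, map_one, Module.End.one_apply]
  obtain ⟨i, hi⟩ := cs.exists_rightDescent_of_ne_one hw
  have hi' : cs.length (w * cs.simple i) < cs.length w := hi
  have h1 := ih _ (by omega) (w * cs.simple i) rfl
  have h2 : w = w * cs.simple i * cs.simple i := by rw [mul_assoc, simple_mul_simple_self, mul_one]
  have h3 : 0 ≤ rep cs h (w * cs.simple i) (sr i) := by
    have h4 := nonpos_of_lt cs h w i hi'
    rw [rep_mul_apply, rep_simple_sr, map_neg]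
    exact neg_nonneg.2 h4
  have h5 : rep cs h w x = rep cs h (w * cs.simple i) x - pairing A i x • rep cs h (w * cs.simple i) (sr i) := by
    conv_lhs => rw [h2]
    rw [map_mul, Module.End.mul_apply, rep_simple_eq, map_sub, map_smul]
  rw [h5]
  exact (sub_le_self _ (smul_nonneg (hx i) h3)).trans h1

theorem rep_inv_of_eq {cs : CoxeterSystem M W} {h : IsCartan M A} {w : W} {x y : I → ℤ}
    (e : x = rep cs h w y) : rep cs h w⁻¹ x = y := by
  rw [e, rep_inv_apply]

/-- Dominant vectors in an orbit are unique. -/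
theorem eq_of_dom [Finite W] {x : I → ℤ} (hx : Dom A x) {w : W} (hw : Dom A (rep cs h w x)) :
    rep cs h w x = x := by
  apply le_antisymm (rep_le_of_dom cs h hx w)
  have h1 := rep_le_of_dom cs h hw w⁻¹
  rwa [rep_inv_apply] at h1

end Dom

/-! ### Blocks -/

/-- `f` embeds the diagram of `τ'` as a component of the diagram of the nodes of `τ` orthogonal to `θ`. -/
structure Blk (τ τ' : Ty) (θ : Fin τ.rk → ℤ) (f : Fin τ'.rk ↪ Fin τ.rk) : Prop where
  cart : ∀ i j, τ.cartan (f i) (f j) = τ'.cartan i j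
  long : ∀ i, τ.long (f i) ↔ τ'.long i
  sub : ∀ i, pairing τ.cartan (f i) θ = 0
  sep : ∀ i k, pairing τ.cartan k θ = 0 → (∀ j, f j ≠ k) → τ.cartan (f i) k = 0

/-- The node `i` is isolated among the nodes orthogonal to `θ`, and joined to another classical node by a simple
bond. -/
structure Iso (τ : Ty) (θ : Fin τ.rk → ℤ) (i : Fin τ.rk) : Prop where
  iso : ∀ k, pairing τ.cartan k θ = 0 → k ≠ i → τ.cartan i k = 0
  link : ∃ j, τ.long j ∧ τ.cartan i j = -1 ∧ τ.cartan j i = -1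

/-- The types of the blocks. -/
inductive Step : Ty → Ty → Prop
  | A (n : ℕ) (hn : 2 ≤ n) : Step (.A (n + 2)) (.A n)
  | B (n : ℕ) (hn : 3 ≤ n) : Step (.B (n + 2)) (.B n)
  | B4 : Step (.B 4) (.C 2)
  | C (n : ℕ) (hn : 1 ≤ n) : Step (.C (n + 1)) (.C n)
  | D (n : ℕ) (hn : 4 ≤ n) : Step (.D (n + 2)) (.D n)
  | D5 : Step (.D 5) (.A 3)
  | E6 : Step .E6 (.A 5)
  | E7 : Step .E7 (.D 6)
  | E8 : Step .E8 .E7
  | F4 : Step .F4 (.C 3)

/-- The types of the blocks before normalisation (`B 2` for `C 2`). -/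
inductive Step' : Ty → Ty → Prop
  | A (n : ℕ) (hn : 2 ≤ n) : Step' (.A (n + 2)) (.A n)
  | B (n : ℕ) (hn : 2 ≤ n) : Step' (.B (n + 2)) (.B n)
  | C (n : ℕ) (hn : 1 ≤ n) : Step' (.C (n + 1)) (.C n)
  | D (n : ℕ) (hn : 3 ≤ n) : Step' (.D (n + 2)) (.D n)
  | E6 : Step' .E6 (.A 5)
  | E7 : Step' .E7 (.D 6)
  | E8 : Step' .E8 .E7
  | F4 : Step' .F4 (.C 3)

/-- A dominant classical root with its blocks. -/
structure Top (τ : Ty) (θ : Fin τ.rk → ℤ) : Prop where
  dom : Dom τ.cartan θ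
  mem : ∀ {W : Type} [Group W] [Fintype W] (cs : CoxeterSystem τ.M W), θ ∈ RT τ cs
  blk : ∀ i, τ.long i → pairing τ.cartan i θ = 0 → Iso τ θ i ∨
    ∃ τ' f, Step' τ τ' ∧ Blk τ τ' θ f ∧ ∃ j, f j = i

/-- The types of the charts in THEOREM T. -/
def KOk : Ty → Prop
  | .A n => 2 ≤ n
  | .B n => 3 ≤ n
  | .C n => 1 ≤ n
  | .D n => 4 ≤ n
  | .E6 => True
  | .E7 => True
  | .E8 => True
  | .F4 => True
  | .G2 => False

theorem KOk.ok {τ : Ty} (h : KOk τ) : τ.Ok := by
  cases τ with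
  | A n => exact le_trans (by decide) (show 2 ≤ n from h)
  | B n => exact le_trans (by decide) (show 3 ≤ n from h)
  | C n => exact h
  | D n => exact le_trans (by decide) (show 4 ≤ n from h)
  | E6 => trivial
  | E7 => trivial
  | E8 => trivial
  | F4 => trivial
  | G2 => exact h.elim

theorem Step'.ok {τ τ' : Ty} (h : Step' τ τ') : τ'.Ok := by
  cases h with
  | A n hn => exact le_trans (by decide) hn
  | B n hn => exact hn
  | C n hn => exact hn
  | D n hn => exact hn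
  | E6 => show 1 ≤ 5; decide
  | E7 => show 3 ≤ 6; decide
  | E8 => trivial
  | F4 => show 1 ≤ 3; decide

/-! ### The types -/

theorem AA_eq_neg {n : ℕ} {i j : Fin n} (h : (i : ℕ) + 1 = j ∨ (j : ℕ) + 1 = i) : RootsA.AA n i j = -1 := by
  unfold RootsA.AA
  rw [if_neg (fun e => by rw [e] at h; omega), if_pos h]

theorem A_eq_zero {n : ℕ} {i j : Fin n} (h : (i : ℕ) ≠ j) (h1 : (i : ℕ) + 1 ≠ j) (h2 : (j : ℕ) + 1 ≠ i) :
    TypeC.A n i j = 0 := by
  rw [TypeC.A_apply, if_neg (fun e => h (congrArg Fin.val e)), if_neg h1, if_neg h2]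

theorem A_eq_neg {n : ℕ} {i j : Fin n} (h : (i : ℕ) + 1 = j ∧ (j : ℕ) + 1 < n ∨ (j : ℕ) + 1 = i) :
    TypeC.A n i j = -1 := by
  rw [TypeC.A_apply, if_neg (fun e => by rw [e] at h; omega)]
  rcases h with ⟨h1, h2⟩ | h1
  · rw [if_pos h1, if_pos h2]
  · rw [if_neg (by omega), if_pos h1]

theorem topA (n : ℕ) (hn : 2 ≤ n) : Top (.A n) (KindA.theta n) where
  dom := KindA.theta_dom (RootsA.isCartan n)
  mem {W} _ _ cs := by
    obtain ⟨w, i, e⟩ := KindA.isRoot_theta cs (RootsA.isCartan n) (by omega)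
    exact ⟨i, trivial, w, e⟩
  blk i _ hi := by
    obtain ⟨m, rfl⟩ : ∃ m, n = m + 2 := ⟨n - 2, by omega⟩
    have hi' := (KindA.pairing_theta_zero_iff (RootsA.isCartan (m + 2)) i).1 hi
    have hir := KindA.range_lev (RootsA.isCartan (m + 2))
    obtain ⟨j, hj⟩ : i ∈ Set.range (KindA.lev m) := by rw [hir]; exact hi
    by_cases hm : 2 ≤ m
    · refine Or.inr ⟨.A m, KindA.lev m, .A m hm, ⟨fun i j => KindA.AA_lev i j, fun _ => Iff.rfl, fun i => ?_,
        fun i k hk hk' => ?_⟩, j, hj⟩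
      · have : KindA.lev m i ∈ Set.range (KindA.lev m) := ⟨i, rfl⟩
        rw [hir] at this
        exact this
      · exfalso
        have : k ∈ Set.range (KindA.lev m) := by rw [hir]; exact hk
        obtain ⟨j, hj⟩ := this
        exact hk' j hj
    · left
      have hi2 := i.2
      change (i : ℕ) < m + 2 at hi2
      refine ⟨fun k hk hki => ?_, ⟨0, by change 0 < m + 2; omega⟩, trivial, ?_, ?_⟩
      · exfalso
        have hk' := (KindA.pairing_theta_zero_iff (RootsA.isCartan (m + 2)) k).1 hk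
        have hk2 := k.2
        change (k : ℕ) < m + 2 at hk2
        exact hki (Fin.ext (by omega))
      · exact AA_eq_neg (n := m + 2) (Or.inr (show 0 + 1 = (i : ℕ) by omega))
      · exact AA_eq_neg (n := m + 2) (Or.inl (show 0 + 1 = (i : ℕ) by omega))

theorem topC (n : ℕ) (hn : 1 ≤ n) : Top (.C n) (KindC.fr n ⟨0, hn⟩) where
  dom := KindC.dom_fr rfl
  mem {W} _ _ cs := by
    obtain ⟨w, i, e⟩ := KindC.isRoot_fr (n := n) cs ⟨0, hn⟩
    refine ⟨i, ?_, w, e⟩
    have h1 : rep cs (TypeC.isCartan n) w⁻¹ (KindC.fr n ⟨0, hn⟩) ∈ KindBC.RC n :=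
      KindBC.act_RC cs (KindC.fr_mem _) w⁻¹
    have h2 : rep cs (TypeC.isCartan n) w⁻¹ (KindC.fr n ⟨0, hn⟩) = sr i := rep_inv_of_eq e
    rw [h2] at h1
    exact RKindsBC.sr_mem_RC.1 h1
  blk i hi h0 := by
    right
    obtain ⟨m, rfl⟩ : ∃ m, n = m + 1 := ⟨n - 1, by omega⟩
    have hir := KindC.orth_fr (n := m + 1) (CoxeterMatrix.B (m + 1)).toCoxeterSystem (k := ⟨0, hn⟩) rfl
    have hor : ∀ k : Fin (m + 1), pairing (TypeC.A (m + 1)) k (KindC.fr (m + 1) ⟨0, hn⟩) = 0 ↔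
        k ∈ Set.range (KindBC.up (m + 1) 1) := by
      intro k
      rw [← hir, mem_orth]
    obtain ⟨j, hj⟩ := (hor i).1 h0
    have hm : 1 ≤ m := by
      have := j.2
      omega
    refine ⟨.C m, KindBC.up (m + 1) 1, .C m hm, ⟨fun i j => KindBC.A_up (m + 1) 1 i j, fun i => ?_, fun i => ?_,
      fun i k hk hk' => ?_⟩, j, hj⟩
    · have hv : (KindBC.up (m + 1) 1 i : ℕ) = i + 1 := KindBC.up_val (m + 1) 1 i
      change (KindBC.up (m + 1) 1 i : ℕ) + 1 = m + 1 ↔ (i : ℕ) + 1 = m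
      omega
    · exact (hor _).2 ⟨i, rfl⟩
    · obtain ⟨j, hj⟩ := (hor k).1 hk
      exact absurd hj (hk' j)

theorem topB (n : ℕ) (hn : 3 ≤ n) : Top (.B n) (KindB.fr n ⟨0, by omega⟩) where
  dom := KindB.dom_fr rfl
  mem {W} _ _ cs := by
    obtain ⟨w, i, e⟩ := KindB.isRoot_fr (n := n) cs ⟨0, by omega⟩
    refine ⟨i, ?_, w, e⟩
    have h1 : rep cs (TypeC.isCartan n) w⁻¹ (KindB.fr n ⟨0, by omega⟩) ∈ KindBC.RB n :=
      KindBC.act_RB cs (KindB.fr_mem _) w⁻¹
    have h2 : rep cs (TypeC.isCartan n) w⁻¹ (KindB.fr n ⟨0, by omega⟩) = sr i := rep_inv_of_eq e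
    rw [h2] at h1
    exact RKindsBC.sr_mem_RB.1 h1
  blk i hi h0 := by
    have hor : ∀ k : Fin n, pairing (TypeC.A n) k (KindB.fr n ⟨0, by omega⟩) = 0 ↔ (k : ℕ) ≠ 1 := by
      intro k
      rw [← KindB.mem_orth_fr (n := n) (CoxeterMatrix.B n).toCoxeterSystem (k := ⟨0, by omega⟩) rfl, mem_orth]
    have hi1 := (hor i).1 h0
    have hi' : (i : ℕ) + 1 < n := hi
    by_cases hi0 : (i : ℕ) = 0
    · left
      refine ⟨fun k hk hki => ?_, ⟨1, by change 1 < n; omega⟩, ?_, ?_, ?_⟩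
      · have hk1 := (hor k).1 hk
        have hk0 : (k : ℕ) ≠ 0 := fun e => hki (Fin.ext (by rw [e, hi0]))
        exact A_eq_zero (n := n) (by omega) (by omega) (by omega)
      · change 1 + 1 < n
        omega
      · exact A_eq_neg (n := n) (Or.inl ⟨(show (i : ℕ) + 1 = 1 by omega), (show 1 + 1 < n by omega)⟩)
      · exact A_eq_neg (n := n) (Or.inr (show (i : ℕ) + 1 = 1 by omega))
    · right
      obtain ⟨m, rfl⟩ : ∃ m, n = m + 2 := ⟨n - 2, by omega⟩
      have hm : 2 ≤ m := by omega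
      obtain ⟨j, hj⟩ := KindBC.exists_up (n := m + 2) (c := 2) (k := i) (by omega)
      refine ⟨.B m, KindBC.up (m + 2) 2, .B m hm, ⟨fun i j => KindBC.A_up (m + 2) 2 i j, fun i => ?_, fun i => ?_,
        fun i k hk hk' => ?_⟩, j, hj.symm⟩
      · have hv : (KindBC.up (m + 2) 2 i : ℕ) = i + 2 := KindBC.up_val (m + 2) 2 i
        change (KindBC.up (m + 2) 2 i : ℕ) + 1 < m + 2 ↔ (i : ℕ) + 1 < m
        omega
      · have hv : (KindBC.up (m + 2) 2 i : ℕ) = i + 2 := KindBC.up_val (m + 2) 2 i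
        refine (hor _).2 ?_
        omega
      · have hk1 := (hor k).1 hk
        have hk0 : (k : ℕ) = 0 := by
          by_contra h1
          obtain ⟨j, hj⟩ := KindBC.exists_up (n := m + 2) (c := 2) (k := k) (by omega)
          exact hk' j hj.symm
        have hv : (KindBC.up (m + 2) 2 i : ℕ) = i + 2 := KindBC.up_val (m + 2) 2 i
        exact A_eq_zero (n := m + 2) (by omega) (by omega) (by omega)

/-! ### `D n` -/

/-- The embedding of the nodes `≥ 2` of `D_{m+4}`. -/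
def up2 (m : ℕ) : Fin (m + 2) ↪ Fin (m + 2 + 2) :=
  ⟨fun j => ⟨(j : ℕ) + 2, by have := j.2; omega⟩, fun i j h => by
    have := congrArg Fin.val h
    exact Fin.ext (by simpa using this)⟩

theorem up2_val (m : ℕ) (j : Fin (m + 2)) : (up2 m j : ℕ) = j + 2 := rfl

theorem D_up2 (m : ℕ) (i j : Fin (m + 2)) : TypeD.A (m + 2) (up2 m i) (up2 m j) = TypeD.A m i j := by
  have h1 : ∀ i j : Fin (m + 2), TypeD.Adj (up2 m i) (up2 m j) ↔ TypeD.Adj i j := by
    intro i j
    unfold TypeD.Adj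
    rw [up2_val, up2_val]
    omega
  rw [TypeD.A_apply, TypeD.A_apply]
  by_cases hij : i = j
  · rw [hij]; simp
  · rw [if_neg hij, if_neg (fun e => hij ((up2 m).injective e))]
    simp only [h1]

theorem exists_topD (m : ℕ) : ∃ θ, Top (.D (m + 4)) θ := by
  classical
  have hok : TypeD.Ok (n := m + 2) ((⟨0, by omega⟩ : Fin (m + 2 + 2)), true) (⟨1, by omega⟩, true) :=
    fun e => by have := congrArg Fin.val e; simp at this
  obtain ⟨θ, hθ, he⟩ : TypeD.Rt (n := m + 2) (TypeD.M (m + 2)).toCoxeterSystem (⟨0, by omega⟩, true)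
      (⟨1, by omega⟩, true) := TypeD.rt_of_ok hok
  have heA : ∀ k : Fin (m + 2 + 2), TypeD.ee θ k = if (k : ℕ) < 2 then 1 else 0 := by
    intro k
    rw [he, Pi.add_apply, TypeC.wt_apply, TypeC.wt_apply]
    simp only [Fin.ext_iff]
    split_ifs <;> omega
  have hp : ∀ k : Fin (m + 2 + 2), pairing (TypeD.A (m + 2)) k θ = if (k : ℕ) = 1 then 1 else 0 := by
    intro k
    rw [← TypeD.Cf_ee]
    unfold TypeD.Cf
    split_ifs with h1 h2 h2
    · rw [heA, heA]
      simp only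
      rw [if_pos (by omega), if_neg (by omega)]
      rfl
    · rw [heA, heA]
      simp only
      split_ifs <;> omega
    · omega
    · rw [heA, heA]
      have h3 : ((TypeD.pd (m + 2) : Fin (m + 2 + 2)) : ℕ) = m + 2 := rfl
      have := k.2
      rw [h3, if_neg (by omega), if_neg (by omega)]
      rfl
  have hor : ∀ k : Fin (m + 2 + 2), pairing (TypeD.A (m + 2)) k θ = 0 ↔ (k : ℕ) ≠ 1 := by
    intro k
    rw [hp]
    split_ifs with h1 <;> simp [h1]
  refine ⟨θ, ?_, ?_, ?_⟩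
  · intro (k : Fin (m + 2 + 2))
    have h1 := hp k
    change 0 ≤ pairing (TypeD.A (m + 2)) k θ
    rw [h1]
    split_ifs <;> norm_num
  · intro W _ _ cs
    have h1 : IsRoot cs (TypeD.isCartan (m + 2)) θ := by
      obtain ⟨x, hx, hx'⟩ : TypeD.Rt (n := m + 2) cs (⟨0, by omega⟩, true) (⟨1, by omega⟩, true) :=
        TypeD.rt_of_ok hok
      rw [← he] at hx'
      rwa [← TypeD.ee_injective hx']
    obtain ⟨w, i, e⟩ := h1
    exact ⟨i, trivial, w, e⟩
  · intro i _ hi
    change Fin (m + 2 + 2) at i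
    have hi1 := (hor i).1 hi
    have hi2 := i.2
    have hA : ∀ a b : Fin (m + 2 + 2), a ≠ b → ¬ TypeD.Adj a b → ¬ TypeD.Adj b a →
        TypeD.A (m + 2) a b = 0 := by
      intro a b h1 h2 h3
      rw [TypeD.A_apply, if_neg h1, if_neg (by tauto)]
    have hA1 : ∀ a b : Fin (m + 2 + 2), a ≠ b → TypeD.Adj a b ∨ TypeD.Adj b a → TypeD.A (m + 2) a b = -1 := by
      intro a b h1 h2
      rw [TypeD.A_apply, if_neg h1, if_pos h2]
    have key : (i : ℕ) = 0 ∨ m = 0 → Iso (.D (m + 4)) θ i := by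
      intro h0
      refine ⟨fun k hk hki => ?_, (⟨1, by omega⟩ : Fin (m + 2 + 2)), trivial, ?_, ?_⟩
      · change Fin (m + 2 + 2) at k
        have hk1 := (hor k).1 hk
        have hk2 := k.2
        have hki' : (k : ℕ) ≠ i := fun e => hki (Fin.ext e)
        refine hA i k (fun e => hki e.symm) ?_ ?_
        · unfold TypeD.Adj; omega
        · unfold TypeD.Adj; omega
      · refine hA1 i _ (fun e => hi1 (congrArg Fin.val e)) ?_
        unfold TypeD.Adj
        simp only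
        omega
      · refine hA1 _ i (fun e => hi1 (congrArg Fin.val e).symm) ?_
        unfold TypeD.Adj
        simp only
        omega
    by_cases h0 : (i : ℕ) = 0 ∨ m = 0
    · exact Or.inl (key h0)
    · right
      push Not at h0
      have hm : 1 ≤ m := by omega
      refine ⟨.D (m + 2), up2 m, .D (m + 2) (by omega), ⟨fun i j => D_up2 m i j, fun _ => Iff.rfl,
        fun i => ?_, fun i k hk hk' => ?_⟩, (⟨(i : ℕ) - 2, by omega⟩ : Fin (m + 2)), ?_⟩
      · have hv := up2_val m i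
        refine (hor _).2 ?_
        omega
      · change Fin (m + 2 + 2) at k
        have hk1 := (hor k).1 hk
        have hk2 := k.2
        have hk0 : (k : ℕ) = 0 := by
          by_contra h1
          exact hk' (⟨(k : ℕ) - 2, by omega⟩ : Fin (m + 2)) (Fin.ext (by
            change (k : ℕ) - 2 + 2 = k
            omega))
        have hv := up2_val m i
        refine hA _ k (fun e => by have := congrArg Fin.val e; omega) ?_ ?_
        · unfold TypeD.Adj; omega
        · unfold TypeD.Adj; omega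
      · refine Fin.ext ?_
        change (i : ℕ) - 2 + 2 = i
        omega

/-! ### Exceptional types -/

section Exc

open Cfsg.Lie Cfsg.Agent.ChevalleyStructure.CoxeterGeomTypes

theorem Blk.of_all {τ τ' : Ty} {θ : Fin τ.rk → ℤ} (f : Fin τ'.rk ↪ Fin τ.rk)
    (cart : ∀ i j, τ.cartan (f i) (f j) = τ'.cartan i j) (long : ∀ i, τ.long (f i) ↔ τ'.long i)
    (hor : ∀ k, pairing τ.cartan k θ = 0 ↔ ∃ j, f j = k) : Blk τ τ' θ f :=
  ⟨cart, long, fun i => (hor _).2 ⟨i, rfl⟩, fun _ k hk hk' => by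
    obtain ⟨j, hj⟩ := (hor k).1 hk
    exact absurd hj (hk' j)⟩

set_option backward.isDefEq.respectTransparency false in
theorem hor6 : ∀ k : Fin 6, pairing (cartanOf chevE6 6) k (KindE.fr6 0) = 0 ↔ ∃ j, KindE.lev6 j = k := by
  decide +kernel

set_option backward.isDefEq.respectTransparency false in
theorem hor7 : ∀ k : Fin 7, pairing (cartanOf chevE7 7) k (KindE.fr7 0) = 0 ↔ ∃ j, KindE.lev7 j = k := by
  decide +kernel

set_option backward.isDefEq.respectTransparency false in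
theorem hor8 : ∀ k : Fin 8, pairing (cartanOf chevE8 8) k (KindE.fr8 0) = 0 ↔ ∃ j, KindE.lev8 j = k := by
  decide +kernel

set_option backward.isDefEq.respectTransparency false in
theorem hor4 : ∀ k : Fin 4, pairing (cartanOf chevF4 4) k (KindF.fr 0) = 0 ↔ ∃ j, KindF.lev j = k := by
  decide +kernel

set_option backward.isDefEq.respectTransparency false in
theorem long4 : ∀ i : Fin 3, (2 ≤ (KindF.lev i : ℕ) ↔ (i : ℕ) + 1 = 3) := by
  decide +kernel

theorem topE6 : Top .E6 (KindE.fr6 0) where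
  dom := KindE.dom_theta6
  mem {W} _ _ cs := by
    obtain ⟨w, i, e⟩ := KindE.isRoot_fr6 cs isCartan_E6 0
    exact ⟨i, trivial, w, e⟩
  blk i _ hi := Or.inr ⟨.A 5, ⟨KindE.lev6, KindE.lev6_injective⟩, .E6,
    Blk.of_all (τ := .E6) (τ' := .A 5) _ KindE.cartan_lev6 (fun _ => Iff.rfl) hor6, (hor6 i).1 hi⟩

theorem topE7 : Top .E7 (KindE.fr7 0) where
  dom := KindE.dom_theta7
  mem {W} _ _ cs := by
    obtain ⟨w, i, e⟩ := KindE.isRoot_fr7 cs isCartan_E7 0
    exact ⟨i, trivial, w, e⟩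
  blk i _ hi := Or.inr ⟨.D 6, ⟨KindE.lev7, KindE.lev7_injective⟩, .E7,
    Blk.of_all (τ := .E7) (τ' := .D 6) _ KindE.cartan_lev7 (fun _ => Iff.rfl) hor7, (hor7 i).1 hi⟩

theorem topE8 : Top .E8 (KindE.fr8 0) where
  dom := KindE.dom_theta8
  mem {W} _ _ cs := by
    obtain ⟨w, i, e⟩ := KindE.isRoot_fr8 cs isCartan_E8 0
    exact ⟨i, trivial, w, e⟩
  blk i _ hi := Or.inr ⟨.E7, ⟨KindE.lev8, KindE.lev8_injective⟩, .E8,
    Blk.of_all (τ := .E8) (τ' := .E7) _ KindE.cartan_lev8 (fun _ => Iff.rfl) hor8, (hor8 i).1 hi⟩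

theorem topF4 : Top .F4 (KindF.fr 0) where
  dom := KindF.dom_theta
  mem {W} _ _ cs := by
    have h1 := (KindF.mem_R_iff cs isCartan_F4 (KindF.fr 0)).1 ((KindF.frameSys cs isCartan_F4).mem 0)
    obtain ⟨w, e⟩ := h1
    exact ⟨(3 : Fin 4), (by decide : 2 ≤ (3 : ℕ)), w, e⟩
  blk i _ hi := Or.inr ⟨.C 3, ⟨KindF.lev, KindF.lev_injective⟩, .F4,
    Blk.of_all (τ := .F4) (τ' := .C 3) _ KindF.cartan_lev long4 hor4, (hor4 i).1 hi⟩

end Exc

/-- **The dominant classical root of a type and its blocks.** -/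
theorem exists_top {τ : Ty} (h : KOk τ) : ∃ θ, Top τ θ := by
  cases τ with
  | A n => exact ⟨_, topA n h⟩
  | B n => exact ⟨_, topB n h⟩
  | C n => exact ⟨_, topC n h⟩
  | D n =>
    have h' : 4 ≤ n := h
    obtain ⟨m, rfl⟩ : ∃ m, n = m + 4 := ⟨n - 4, by omega⟩
    exact exists_topD m
  | E6 => exact ⟨_, topE6⟩
  | E7 => exact ⟨_, topE7⟩
  | E8 => exact ⟨_, topE8⟩
  | F4 => exact ⟨_, topF4⟩
  | G2 => exact h.elim

end Cfsg.Agent.Nodes.BlockRoots
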