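import Mathlib
import Cfsg.Agent.Nodes.Block
import Cfsg.Agent.Nodes.BlockRoots
import Cfsg.Agent.Nodes.TyStd
import Cfsg.Agent.Nodes.KindsOf
import Cfsg.Agent.Nodes.Reindex
import Cfsg.Agent.Nodes.ChartMap
import Cfsg.Agent.Nodes.Relabel

/-!
# Typed block charts (project CIT)

`C : Chart Om p L`, `K, M ∈ Om` in `L`, `M` commutes with `K`; `Q = {J ∈ Om | J ≤ L, J commutes with K}`.

* `exists_pair` : after conjugation in `L`: `K = KK θ`, `M = KK α_i`, `θ` a dominant classical root, `α_i` a simple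
  classical root orthogonal to `θ`;
* `IsBlock` : the properties of the block `D` of `M` in `Q` (`D ≤ L` commutes with `K`; the members of `Q` in `D` are
  the chain class of `M`; the other members of `Q` commute with `D`);
* `exists_block` : for a chart of type `τ` (`KOk τ`) the block is `M` itself, or it has a chart of type `τ'`,
  `Step τ τ'`.
-/

set_option autoImplicit false
set_option linter.unusedSectionVars false
set_option linter.dupNamespace false

namespace Cfsg.Agent.Nodes.BlockTy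

open CoxeterSystem Cfsg.Agent.ChevalleyStructure.CoxeterGeom Cfsg.Agent.Tits.Roots Cfsg.Agent.Tits.Core
  Cfsg.Agent.Tits.RootComb Cfsg.Agent.Nodes.Comb Cfsg.Agent.Nodes.Reps Cfsg.Agent.Nodes.BNOf
  Cfsg.Agent.Nodes.RGDLib Cfsg.Agent.Nodes.Chart Cfsg.Agent.Nodes.Bruhat Cfsg.Agent.Nodes.Coroot
  Cfsg.Agent.Nodes.Perp Cfsg.Agent.Nodes.StabComb Cfsg.Agent.Nodes.SubComb Cfsg.Agent.Nodes.Block
  Cfsg.Agent.Nodes.BlockRoots Cfsg.Agent.Nodes.Relabel
open Cfsg.Agent.Cit.TypeDet (cm stp chn cm_symm cm_iff_le_centralizer cm_mono)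
open Relation

variable {G : Type*} [Group G] {Om : Set (Subgroup G)} {p : ℕ} {L : Subgroup G}

/-! ### Change of type -/

/-- Relabelling of a chart. -/
noncomputable def relabel (C : Chart.Chart Om p L) {A' : C.I → C.I → ℤ} (h' : IsCartan C.M A') {d : C.I → ℤ}
    (S : Scal C.A A' d) : Chart.Chart Om p L :=
  { prime := C.prime
    odd := C.odd
    I := C.I
    W := C.W
    M := C.M
    cs := C.cs
    A := A'
    h := h'
    T := C.T
    n := C.n
    X := relX C.cs C.h d C.X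
    R := relR C.cs C.h h' d C.R
    Z := relX C.cs C.h d C.Z
    z := relz C.cs C.h d C.z
    cls := cls_relabel S h' C.cls
    irr := C.irr
    ne := C.ne
    T_le := C.T_le
    gen := by rw [G1_relabel S h', C.gen]
    trans := trans_relR S h' C.trans
    Rne := by
      obtain ⟨r, hr⟩ := C.Rne
      obtain ⟨r', hr', -⟩ := exists_relR S h' C.cls.root hr
      exact ⟨r', hr'⟩
    om := by
      rintro r' ⟨hr', r, hr, hrr⟩
      rw [relX_eq hrr, relX_eq hrr.neg]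
      exact C.om r hr
    om_conj := by
      intro K hK hKL
      obtain ⟨r, hr, g, hg, e⟩ := C.om_conj K hK hKL
      obtain ⟨r', hr', hrr⟩ := exists_relR S h' C.cls.root hr
      refine ⟨r', hr', g, hg, ?_⟩
      rw [relX_eq hrr, relX_eq hrr.neg]
      exact e }

theorem isCartan_transpose {I : Type*} {M : CoxeterMatrix I} {A : I → I → ℤ} (h : IsCartan M A) :
    IsCartan M (fun i j => A j i) where
  diag i := h.diag i
  rel i j hij := by
    have h1 := h.rel j i hij.symm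
    rw [M.symmetric j i] at h1
    exact h1

/-- The numbering of the nodes of `B_2 = C_2`. -/
def sw : Fin 2 ≃ Fin 2 := Equiv.swap 0 1

theorem A_sw : ∀ a b : Fin 2, TypeC.A 2 b a = TypeC.A 2 (sw a) (sw b) := by
  intro a b
  rw [TypeC.A_apply, TypeC.A_apply]
  revert a b
  decide

/-- A chart of type `B 2` gives a chart of type `C 2`. -/
theorem exists_isTy_C2 (C : Chart.Chart Om p L) (hC : C.IsTy (.B 2)) :
    ∃ C' : Chart.Chart Om p L, C'.IsTy (.C 2) := by
  obtain ⟨e, hA, hR⟩ := hC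
  have S : Scal C.A (fun i j => C.A j i) (fun i => KindB.d2 (e i)) := by
    refine ⟨fun i => KindB.scal2.pos (e i), fun i j => ?_⟩
    have h1 := KindB.scal2.rel (e i) (e j)
    change C.A i j * KindB.d2 (e j) = KindB.d2 (e i) * C.A j i
    rw [hA i j, hA j i]
    exact h1
  refine ⟨relabel C (isCartan_transpose C.h) S, e.trans sw, fun i j => ?_, fun i => ?_⟩
  · exact (hA j i).trans (A_sw (e i) (e j))
  · have h1 : sr i ∈ relR C.cs C.h (isCartan_transpose C.h) (fun i => KindB.d2 (e i)) C.R ↔ sr i ∈ C.R := by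
      have h2 := ray_sr (cs := C.cs) (h := C.h) S (isCartan_transpose C.h) i
      constructor
      · rintro ⟨-, x, hx, hxx⟩
        obtain rfl : x = sr i := ray_unique hxx h2
        exact hx
      · intro h3
        exact ⟨isRoot_sr _ _ i, _, h3, h2⟩
    refine h1.trans ((hR i).trans ?_)
    have h3 : ∀ k : Fin 2, (k : ℕ) + 1 < 2 ↔ ((sw k : Fin 2) : ℕ) + 1 = 2 := by decide
    exact h3 (e i)

/-- The numbering of the nodes of `D_3 = A_3`. -/
def pi3 : Fin 3 ≃ Fin 3 := Equiv.swap 0 1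

/-- A chart of type `D 3` is a chart of type `A 3`. -/
theorem isTy_A3 {C : Chart.Chart Om p L} (hC : C.IsTy (.D 3)) : C.IsTy (.A 3) := by
  obtain ⟨e, hA, hR⟩ := hC
  refine ⟨e.trans pi3, fun i j => ?_, fun i => ?_⟩
  · rw [hA]
    change TypeD.A 1 (e i) (e j) = RootsA.AA 3 (pi3 (e i)) (pi3 (e j))
    generalize (e i : Fin 3) = a
    generalize (e j : Fin 3) = b
    revert a b
    have : ∀ a b : Fin 3, TypeD.A 1 a b = RootsA.AA 3 (pi3 a) (pi3 b) := by
      intro a b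
      rw [TypeD.A_apply]
      unfold RootsA.AA
      revert a b
      decide
    exact this
  · exact (hR i).trans Iff.rfl

/-- The types of the blocks are normalised. -/
theorem exists_isTy_of_step' (C : Chart.Chart Om p L) {τ τ' : Ty} (h : Step' τ τ') (hC : C.IsTy τ') :
    ∃ τ'', Step τ τ'' ∧ ∃ C' : Chart.Chart Om p L, C'.IsTy τ'' := by
  cases h with
  | A n hn => exact ⟨_, .A n hn, C, hC⟩
  | B n hn =>
    by_cases h3 : 3 ≤ n
    · exact ⟨_, .B n h3, C, hC⟩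
    · obtain rfl : n = 2 := by omega
      exact ⟨_, .B4, exists_isTy_C2 C hC⟩
  | C n hn => exact ⟨_, .C n hn, C, hC⟩
  | D n hn =>
    by_cases h4 : 4 ≤ n
    · exact ⟨_, .D n h4, C, hC⟩
    · obtain rfl : n = 3 := by omega
      exact ⟨_, .D5, C, isTy_A3 hC⟩
  | E6 => exact ⟨_, .E6, C, hC⟩
  | E7 => exact ⟨_, .E7, C, hC⟩
  | E8 => exact ⟨_, .E8, C, hC⟩
  | F4 => exact ⟨_, .F4, C, hC⟩

/-! ### Pairs of commuting members -/

section Pair

variable (C : Chart.Chart Om p L)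

theorem mem_L_of_rp {w : C.W} {k : G} (hk : Rp C.cs C.cls.rgd.nsys w k) : k ∈ L := by
  have h1 : k ∈ GG C.cs C.h C.T C.X := NN_le_GG C.cls.rgd ⟨_, hk⟩
  rwa [ChartFrame.GG_eq] at h1

/-- Two commuting members of `Om` in `L` in standard form. -/
theorem exists_pair {K M : Subgroup G} (hK : K ∈ Om) (hKL : K ≤ L) (hM : M ∈ Om) (hML : M ≤ L) (hc : cm M K) :
    ∃ θ ∈ C.R, Dom C.A θ ∧ ∃ i ∈ orth C.cs C.h θ, sr i ∈ C.R ∧
      ∃ g ∈ L, K = cj g (KK C.Z θ) ∧ M = cj g (KK C.Z (sr i)) := by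
  obtain ⟨d, hd, s, hs, hds, hss⟩ := ChartFrame.frame C (κ := Bool) (fun b => if b then K else M)
    (fun b => by cases b <;> simp [hK, hM]) (fun b => by cases b <;> simp [hKL, hML])
    (fun a b hab => by
      cases a <;> cases b
      · exact absurd rfl hab
      · exact hc
      · exact cm_symm hc
      · exact absurd rfl hab)
  have e1 : cj d K = KK C.Z (s true) := hds true
  have e2 : cj d M = KK C.Z (s false) := hds false
  have e3 := hss true false (by decide)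
  -- make `s true` dominant
  obtain ⟨w, hw⟩ := exists_dom_rep C.cs C.h (s true)
  have hθR := C.cls.act _ (hs true) w
  have h1 : rep C.cs C.h w (s false) ∈ RootsJ C.cs C.h (orth C.cs C.h (rep C.cs C.h w (s true))) := by
    rw [ClsNorm.mem_RootsJ_orth_iff hw ((C.cls.root _ (hs false)).act w), form_rep, form_comm]
    exact e3
  obtain ⟨v, hv, i, hi, e4⟩ := exists_of_mem_RootsJ h1
  have e5 : rep C.cs C.h v⁻¹ (rep C.cs C.h w (s true)) = rep C.cs C.h w (s true) :=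
    rep_of_mem_WJ_orth (inv_mem hv)
  have e6 : rep C.cs C.h v⁻¹ (rep C.cs C.h w (s false)) = sr i := by rw [e4, rep_inv_apply]
  rw [← rep_mul_apply] at e5 e6
  obtain ⟨k, hk⟩ := exists_rp C.cs C.cls.rgd.nsys (v⁻¹ * w)
  refine ⟨_, hθR, hw, i, hi, ?_, (k * d)⁻¹, inv_mem (mul_mem (mem_L_of_rp C hk) hd), ?_, ?_⟩
  · rw [← e6]; exact C.cls.act _ (hs false) _
  · rw [← e5, ← conj_KK C.cls hk (hs true), ← e1, ← cj_mul k d K, cj_inv_cj]
  · rw [← e6, ← conj_KK C.cls hk (hs false), ← e2, ← cj_mul k d M, cj_inv_cj]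

end Pair

/-! ### Blocks -/

/-- The members of `Om` in `L` commuting with `K`. -/
def QQ (Om : Set (Subgroup G)) (L K : Subgroup G) : Set (Subgroup G) := {J | J ∈ Om ∧ J ≤ L ∧ cm J K}

/-- `D` is the block of `M` among the members of `Om` in `L` commuting with `K`. -/
structure IsBlock (Om : Set (Subgroup G)) (L K M D : Subgroup G) : Prop where
  le : D ≤ L
  mem : M ≤ D
  cm : cm D K
  chn : ∀ J ∈ QQ Om L K, chn (QQ Om L K) M J ↔ J ≤ D
  out : ∀ J ∈ QQ Om L K, ¬ J ≤ D → Cit.TypeDet.cm J D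

theorem cj_QQ (hO : ∀ K ∈ Om, ∀ g, cj g K ∈ Om) {g : G} (hg : g ∈ L) {K J : Subgroup G} :
    J ∈ QQ Om L K ↔ cj g J ∈ QQ Om L (cj g K) := by
  unfold QQ
  rw [Set.mem_ofPred_eq, Set.mem_ofPred_eq, ChartFrame.cj_Om_iff hO, ChartFrame.cj_le_iff hg, cm_cj']

theorem IsBlock.conj (hO : ∀ K ∈ Om, ∀ g, cj g K ∈ Om) {K M D : Subgroup G} (h : IsBlock Om L K M D) {g : G}
    (hg : g ∈ L) : IsBlock Om L (cj g K) (cj g M) (cj g D) where
  le := (ChartFrame.cj_le_iff hg).2 h.le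
  mem := cj_mono g h.mem
  cm := cm_cj'.2 h.cm
  chn J hJ := by
    have e : J = cj g (cj g⁻¹ J) := (cj_cj_inv g J).symm
    rw [e] at hJ ⊢
    rw [← cj_QQ hO hg] at hJ
    rw [← ChartFrame.chn_cj_iff (S := QQ Om L K) (S' := QQ Om L (cj g K)) (fun J => cj_QQ hO hg), h.chn _ hJ,
      cj_le_cj_iff]
  out J hJ hJD := by
    have e : J = cj g (cj g⁻¹ J) := (cj_cj_inv g J).symm
    rw [e] at hJ hJD ⊢
    rw [← cj_QQ hO hg] at hJ
    rw [cj_le_cj_iff] at hJD
    rw [cm_cj']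
    exact h.out _ hJ hJD

variable (C : Chart.Chart Om p L)

/-- The block in standard position. -/
theorem isBlock_DC (hO : ∀ K ∈ Om, ∀ g, cj g K ∈ Om) {θ s : C.I → ℤ} (hθ : θ ∈ C.R) (hs : s ∈ C.R)
    (hsP : s ∈ Perp C.cs C.h {θ}) :
    IsBlock Om L (KK C.Z θ) (KK C.Z s) (DC C.cs C.h C.X {θ} s) := by
  have hQ : QQ Om L (KK C.Z θ) = OmF C.cs C.h C.X C.R C.Z {θ} := omF_singleton C hO hθ
  refine ⟨?_, ?_, ?_, fun J hJ => ?_, fun J hJ hJD => ?_⟩
  · exact (DC_le hsP).trans (ChartFrame.DD_le C _)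
  · exact KK_le_DC C.cls hsP hs Cp.self
  · exact cm_mono (DC_le hsP) le_rfl (DD_cm C.cls hθ rfl)
  · rw [hQ] at hJ ⊢
    have h1 := chn_iff_le_DC C.cls C.prime C.odd hs hsP (l := 1) (one_mem _) hJ
    rwa [cj_one] at h1
  · rw [hQ] at hJ
    obtain ⟨r, hr, hrP, l, hl, rfl⟩ := hJ
    have h1 := cj_KK_le_DC C.cls hr hrP hl
    have h2 : r ∉ Cp C.cs C.h {θ} s := by
      intro h3
      apply hJD
      refine h1.trans (RGD.Sup_mono fun x hx => ?_)
      exact ReflTransGen.trans h3 hx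
    exact cm_mono h1 le_rfl (DC_cm_DC C.cls hsP hrP h2)

/-! ### Typed blocks -/

theorem M_eq {I J : Type*} {M : CoxeterMatrix I} {A : I → I → ℤ} (h : IsCartan M A) {M' : CoxeterMatrix J}
    {A' : J → J → ℤ} (h' : IsCartan M' A') (f : J ↪ I) (hA : ∀ i j, A (f i) (f j) = A' i j) (i j : J) :
    M (f i) (f j) = M' i j := by
  by_cases hij : i = j
  · subst hij; rw [CoxeterMatrix.diagonal, CoxeterMatrix.diagonal]
  have h3 := h.rel (f i) (f j) (fun h0 => hij (f.injective h0))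
  have h4 := h'.rel i j hij
  rw [hA i j, hA j i] at h3
  omega

theorem M_eq_two {I : Type*} {M : CoxeterMatrix I} {A : I → I → ℤ} (h : IsCartan M A) {i j : I} (hij : i ≠ j)
    (h0 : A i j = 0) : M i j = 2 := by
  have h3 := h.rel i j hij
  omega

/-- The group of an isolated node. -/
theorem DC_iso [Finite G] (hyp : Cit.Hyp Om) {θ : C.I → ℤ} (hθ : Dom C.A θ) {i : C.I}
    (hi : i ∈ orth C.cs C.h θ) (hiR : sr i ∈ C.R) (iso : ∀ k ∈ orth C.cs C.h θ, k ≠ i → C.M i k = 2)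
    {j : C.I} (hjR : sr j ∈ C.R) (h1 : C.A i j = -1) (h2 : C.A j i = -1) :
    DC C.cs C.h C.X {θ} (sr i) = KK C.Z (sr i) := by
  have hij : i ≠ j := by
    rintro rfl
    rw [C.h.diag] at h1
    omega
  have hS : Sep C.M {i} (orth C.cs C.h θ) := by
    refine ⟨Set.singleton_subset_iff.2 hi, ?_⟩
    rintro a rfl b hb hbi
    exact iso b hb fun h0 => hbi h0
  have hirr : Irr C.M {i} := by
    intro J' hJ' hne hne'
    exfalso
    apply hne'
    refine Set.Subset.antisymm hJ' ?_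
    obtain ⟨x, hx⟩ := hne
    have : x = i := hJ' hx
    rw [← this]
    exact Set.singleton_subset_iff.2 hx
  have hsi : sr i ∈ RootsJ C.cs C.h {i} := PosJ_subset _ (sr_mem_PosJ (Set.mem_singleton i))
  rw [DC_eq C hθ hS hirr hsi]
  -- `z r ≠ 1`
  have hpr : ∀ a b : C.I, cpr C.cs C.h (sr a) (sr b) = C.A b a := by
    intro a b
    rw [cpr_sr, OrthRoot.pairing_sr]
  have hne : (sr j : C.I → ℤ) ≠ sr i := by
    intro e
    have := congrFun e i
    rw [sr_self, sr_ne hij] at this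
    omega
  have hne' : (sr j : C.I → ℤ) ≠ -sr i := by
    intro e
    have := congrFun e i
    rw [Pi.neg_apply, sr_self, sr_ne hij] at this
    omega
  have hf : form C.cs C.h (sr j) (sr i) ≠ 0 := by
    intro e
    have h3 := two_form C.cs C.h i (sr j)
    rw [e, OrthRoot.pairing_sr, h1] at h3
    have := form_pos C.cs C.h (isRoot_sr C.cs C.h i).ne_zero
    omega
  have hz : ∀ r ∈ C.R, C.z r ≠ 1 := by
    intro r hr
    obtain ⟨w, rfl⟩ := C.trans _ hiR r hr
    refine StdConn.z_ne_one C.cls C.prime C.odd hr ((isRoot_sr C.cs C.h j).act w)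
      (fun e => hne (rep_injective_apply C.cs C.h w e)) (fun e => hne' ?_) (by rw [form_rep]; exact hf)
    rw [← map_neg] at e
    exact rep_injective_apply C.cs C.h w e
  have hu := KindsOf.uniq hyp C hz
  have hX1 : C.X (sr i) = C.Z (sr i) := ZRel.X_eq_Z C.cls C.prime C.odd hu hiR hjR hne hne' (by
    rw [hpr, hpr, h1, h2]; norm_num)
  have hX2 : C.X (-sr i) = C.Z (-sr i) := ZRel.X_eq_Z C.cls C.prime C.odd hu (ClsNorm.neg_mem C.cls hiR) hjR
    hne' (by rw [neg_neg]; exact hne) (by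
      rw [cpr_neg_right _ _ _ (isRoot_sr C.cs C.h i), cpr_neg _ _ _ (isRoot_sr C.cs C.h j), hpr, hpr, h1, h2]
      norm_num)
  apply le_antisymm
  · refine RGD.Sup_le fun x hx => ?_
    have hsupp : ∀ k, k ≠ i → x k = 0 := fun k hk => hx.2 k hk
    rcases hx.1.pos_or_neg with h0 | h0
    · rw [hx.1.eq_sr h0 i hsupp, hX1]
      exact le_sup_left
    · have h3 := hx.1.neg.eq_sr (neg_nonneg.2 h0) i (fun k hk => by rw [Pi.neg_apply, hsupp k hk, neg_zero])
      have h4 : x = -sr i := by rw [← h3, neg_neg]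
      rw [h4, hX2]
      exact le_sup_right
  · refine sup_le ((C.cls.le _ hiR).trans (RGD.le_Sup (X := C.X) hsi)) ?_
    exact (C.cls.le _ (ClsNorm.neg_mem C.cls hiR)).trans (RGD.le_Sup (X := C.X) (RootsJ.neg hsi))

/-- **Blocks of typed charts.** -/
theorem exists_block [Finite G] (hyp : Cit.Hyp Om) {τ : Ty} (hτ : C.IsTy τ) (hok : KOk τ) {K M : Subgroup G}
    (hK : K ∈ Om) (hKL : K ≤ L) (hM : M ∈ Om) (hML : M ≤ L) (hc : cm M K) :
    ∃ D, IsBlock Om L K M D ∧ (D = M ∨ ∃ τ', Step τ τ' ∧ ∃ C' : Chart.Chart Om p D, C'.IsTy τ') := by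
  have hO : ∀ K ∈ Om, ∀ g, cj g K ∈ Om := hyp.conj
  -- the standard chart
  obtain ⟨e0, hA0, hl0⟩ := id hτ
  obtain ⟨cs', -⟩ := Reindex.exists_reindex C.cs e0 (fun i j => C.M_apply hA0 i j)
  obtain ⟨e, hM', hA', hR', hty⟩ := TyStd.exists_chart_of_isTy C hτ cs' (R' := RT τ cs') RT_root RT_act
    (fun i => sr_mem_RT hok.ok i) (RT_trans hok.ok)
  let C₁ : Chart.Chart Om p L := TyStd.reindex C e hM' hA' cs' τ.isCartan RT_root RT_act hR' (RT_trans hok.ok)
  obtain ⟨θ, hθ⟩ := exists_top hok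
  obtain ⟨θ', hθR, hθd, i, hi, hiR, g, hg, rfl, rfl⟩ := exists_pair C₁ hK hKL hM hML hc
  obtain rfl : θ' = θ := by
    obtain ⟨w, hw⟩ := C₁.trans θ (hθ.mem cs') θ' hθR
    rw [hw]
    exact eq_of_dom cs' τ.isCartan hθ.dom (by rw [hw] at hθd; exact hθd)
  have hi0 : pairing τ.cartan i θ' = 0 := mem_orth.1 hi
  have hil : τ.long i := (sr_mem_RT hok.ok i).1 hiR
  have hor : ∀ k, k ∈ orth C₁.cs C₁.h θ' ↔ pairing τ.cartan k θ' = 0 := fun k => mem_orth
  have hsP : sr i ∈ Perp C₁.cs C₁.h {θ'} := by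
    rw [Perp_singleton hθd]
    exact PosJ_subset _ (sr_mem_PosJ hi)
  have hB := isBlock_DC C₁ hO hθR hiR hsP
  rcases hθ.blk i hil hi0 with hiso | ⟨τ', f, hst, hblk, j, rfl⟩
  · obtain ⟨j, hj, h1, h2⟩ := hiso.link
    refine ⟨_, hB.conj hO hg, Or.inl ?_⟩
    have h3 := DC_iso C₁ hyp hθd hi hiR (fun k hk hki => M_eq_two C₁.h (Ne.symm hki)
      (hiso.iso k ((hor k).1 hk) hki)) (j := j) ((sr_mem_RT hok.ok j).2 hj) h1 h2
    rw [h3]
  · have hM2 : ∀ a b, C₁.M (f a) (f b) = τ'.M a b := M_eq C₁.h τ'.isCartan f hblk.cart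
    have hS : Sep C₁.M (Set.range f) (orth C₁.cs C₁.h θ') := by
      refine ⟨?_, ?_⟩
      · rintro _ ⟨a, rfl⟩
        exact (hor _).2 (hblk.sub a)
      · rintro _ ⟨a, rfl⟩ b hb hb'
        have h1 : ∀ j, f j ≠ b := fun j hj => hb' ⟨j, hj⟩
        exact M_eq_two C₁.h (h1 a) (hblk.sep a b ((hor b).1 hb) h1)
    have hok' := hst.ok
    let cs2 : CoxeterSystem τ'.M τ'.M.Group := τ'.M.toCoxeterSystem
    have hf2 : Finite τ'.M.Group := LeviStd.finite_of C₁.cs C₁.h f hM2 cs2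
    let _ : Fintype τ'.M.Group := Fintype.ofFinite _
    have hirr2 := τ'.irr hok'
    have hsj : sr (f j) ∈ RootsJ C₁.cs C₁.h (Set.range f) := PosJ_subset _ (sr_mem_PosJ ⟨j, rfl⟩)
    have hDC := DC_eq C₁ hθd hS (irr_range C₁ f hM2 hirr2) hsj
    have hB' := (congrArg (IsBlock Om L (KK C₁.Z θ') (KK C₁.Z (sr (f j)))) hDC).mp hB
    have C0 := LeviStd.cls_levi_of C₁.cls f hM2 hblk.cart cs2 τ'.isCartan
    have hiota : ∀ k, iota (fun j => sr (f j)) (sr k) = (sr (f k) : C₁.I → ℤ) := fun k => iota_sr _ k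
    have hsrk : ∀ k, (sr (f k) : C₁.I → ℤ) ∈ C₁.R ↔ τ'.long k := fun k =>
      (sr_mem_RT hok.ok (f k)).trans (hblk.long k)
    have hik : ∀ k, iota (fun j => sr (f j)) (sr k) ∈ C₁.R ↔ τ'.long k := fun k =>
      (Iff.of_eq (congrArg (fun x : C₁.I → ℤ => x ∈ C₁.R) (hiota k))).trans (hsrk k)
    have hR2 : ∀ c, iota (fun j => sr (f j)) c ∈ C₁.R ↔ c ∈ RT τ' cs2 := by
      intro c
      refine (mem_levi_iff C₁ f hM2 hblk.cart cs2 τ'.isCartan c).trans ?_
      constructor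
      · intro hc
        obtain ⟨⟨w, k, rfl⟩, -⟩ := id hc
        have h1 := C0.act _ hc w⁻¹
        rw [rep_inv_apply] at h1
        exact ⟨k, (hik k).1 h1.2, w, rfl⟩
      · rintro ⟨k, hk, w, rfl⟩
        exact C0.act _ ⟨isRoot_sr _ _ k, (hik k).2 hk⟩ w
    obtain ⟨C₂, hC₂⟩ : ∃ C₂ : Chart.Chart Om p (cj g (GJ C₁ (Set.range f))), C₂.IsTy τ' := by
      refine ⟨ChartMap.cjChart (blockChart C₁ hO hθR hθd f hM2 hblk.cart cs2 τ'.isCartan ⟨j⟩ hirr2 hS RT_root hR2
        (RT_nonempty hok' cs2) (RT_trans hok')) hO g, Equiv.refl _, fun a b => rfl, fun a => ?_⟩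
      exact sr_mem_RT hok' a
    obtain ⟨τ'', hst', C₃, hC₃⟩ := exists_isTy_of_step' C₂ hst hC₂
    exact ⟨_, hB'.conj hO hg, Or.inr ⟨τ'', hst', C₃, hC₃⟩⟩

end Cfsg.Agent.Nodes.BlockTy
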