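import Mathlib
import Cfsg.Agent.Nodes.CenVV
import Cfsg.Agent.Nodes.KindsOf
import Cfsg.Agent.Nodes.TyChart
import Cfsg.Agent.Nodes.Relabel
import Cfsg.Agent.Nodes.BlockTy
import Cfsg.Agent.Cit.TDef

/-!
# The centre of `VV r` in typed charts (project CIT)

* `mem_Z_of_cent` : `c` a chart of type `τ`, `KindOk τ`, `τ ≠ C 1`, `r ∈ R` : `C_{VV r}(VV r) = Z r`.
-/

set_option autoImplicit false
set_option linter.unusedSectionVars false

namespace Cfsg.Agent.Nodes.CenVV

open CoxeterSystem Cfsg.Agent.ChevalleyStructure.CoxeterGeom Cfsg.Agent.Tits.Roots Cfsg.Agent.Tits.Core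
  Cfsg.Agent.Tits.RootComb Cfsg.Agent.Nodes.Comb Cfsg.Agent.Nodes.SubComb Cfsg.Agent.Nodes.Reps
  Cfsg.Agent.Nodes.Coroot Cfsg.Agent.Nodes.PosPair Cfsg.Agent.Nodes.BNOf Cfsg.Agent.Nodes.RGDLib
  Cfsg.Agent.Nodes.Chart Cfsg.Agent.Nodes.StabComb Cfsg.Agent.Nodes.Bruhat Cfsg.Agent.Nodes.ClsNorm
  Cfsg.Agent.Nodes.ChartLoc Cfsg.Agent.Nodes.Relabel
open scoped commutatorElement

/-! ### Lengths -/

section Len

variable {I W : Type*} [Fintype I] [DecidableEq I] [Group W] [Fintype W] {M : CoxeterMatrix I}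
  {cs : CoxeterSystem M W} {A : I → I → ℤ} {h : IsCartan M A}

theorem ne_zero_of_adj (h : IsCartan M A) {i j : I} (hij : i ≠ j) (hM : M i j ≠ 2) : A i j < 0 ∧ A j i < 0 := by
  rcases h.rel i j hij with ⟨h1, -⟩ | ⟨-, h1, h2⟩ | ⟨-, ⟨h1, h2⟩ | ⟨h1, h2⟩⟩ | ⟨-, ⟨h1, h2⟩ | ⟨h1, h2⟩⟩
  · exact absurd h1 hM
  all_goals omega

/-- the lengths of the simple roots are given by any solution `l` of `A i j * l i = A j i * l j` -/
theorem form_len (cs : CoxeterSystem M W) (h : IsCartan M A)
    (irr : ∀ J : Set I, J.Nonempty → J ≠ Set.univ → ∃ a ∈ J, ∃ b, b ∉ J ∧ M a b ≠ 2) {l : I → ℤ}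
    (rel : ∀ i j, A i j * l i = A j i * l j) (i j : I) :
    form cs h (sr i) (sr i) * l j = form cs h (sr j) (sr j) * l i := by
  by_contra hcon
  obtain ⟨a, ha, b, hb, hM⟩ := irr {j | form cs h (sr i) (sr i) * l j = form cs h (sr j) (sr j) * l i} ⟨i, rfl⟩
    (by
      intro h0
      exact hcon ((Set.eq_univ_iff_forall.1 h0) j))
  have hab : a ≠ b := by rintro rfl; exact hb ha
  have h1 := (ne_zero_of_adj h hab hM).2
  have ha' : form cs h (sr i) (sr i) * l a = form cs h (sr a) (sr a) * l i := ha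
  have h2 : A a b * form cs h (sr a) (sr a) = A b a * form cs h (sr b) (sr b) := by
    rw [← OrthRoot.two_form_sr cs h a b, ← OrthRoot.two_form_sr cs h b a, form_comm]
  have h3 := rel a b
  apply hb
  change form cs h (sr i) (sr i) * l b = form cs h (sr b) (sr b) * l i
  have h4 : A b a * (form cs h (sr i) (sr i) * l b) = A b a * (form cs h (sr b) (sr b) * l i) := by
    linear_combination (-form cs h (sr i) (sr i)) * h3 + (A a b) * ha' + l i * h2
  exact mul_left_cancel₀ h1.ne h4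

variable (irr : ∀ J : Set I, J.Nonempty → J ≠ Set.univ → ∃ a ∈ J, ∃ b, b ∉ J ∧ M a b ≠ 2) {l : I → ℤ}
  (rel : ∀ i j, A i j * l i = A j i * l j) (hpos : ∀ i, 0 < l i)

include irr rel hpos

theorem lg_of_len {i₀ : I} (hle : ∀ j, l j ≤ l i₀) (hge : ∀ j, l i₀ ≤ 2 * l j) (w : W) :
    Lg cs h (rep cs h w (sr i₀)) where
  root := ⟨w, i₀, rfl⟩
  le := by
    rintro y ⟨w', j, rfl⟩
    rw [form_rep, form_rep]
    have h1 := form_len cs h irr rel i₀ j
    have h2 := form_pos cs h (sr_ne_zero i₀)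
    have h3 := mul_le_mul_of_nonneg_left (hle j) h2.le
    rw [h1] at h3
    exact le_of_mul_le_mul_right h3 (hpos i₀)
  ge := by
    rintro y ⟨w', j, rfl⟩
    rw [form_rep, form_rep]
    have h1 := form_len cs h irr rel i₀ j
    have h2 := form_pos cs h (sr_ne_zero j)
    have h3 := mul_le_mul_of_nonneg_left (hge j) h2.le
    rw [← h1] at h3
    refine le_of_mul_le_mul_right (a := l j) ?_ (hpos j)
    linarith

end Len

/-! ### Charts -/

section Chart

variable {G : Type*} [Group G] [Finite G] {Om : Set (Subgroup G)} {p : ℕ} {L : Subgroup G}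

theorem aux (hyp : Cit.Hyp Om) (c : Chart.Chart Om p L) (hnt : Nontrivial c.I) {l : c.I → ℤ} {lR : ℤ}
    (rel : ∀ i j, c.A i j * l i = c.A j i * l j) (hpos : ∀ i, 0 < l i) (hl : ∀ i, l i = lR ∨ 2 * l i = lR)
    (hlong : ∀ i, sr i ∈ c.R ↔ l i = lR) {r : c.I → ℤ} (hr : r ∈ c.R) {u : G} (hu : u ∈ VV c.cs c.h c.X r)
    (hc : ∀ v ∈ VV c.cs c.h c.X r, u * v = v * u) : u ∈ c.Z r := by
  have : Fact p.Prime := ⟨c.prime⟩
  -- the simple roots joined to `i`
  have hadj : ∀ i : c.I, ∃ j, i ≠ j ∧ c.M i j ≠ 2 := by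
    intro i
    obtain ⟨a, ha, b, hb, hM⟩ := c.irr {i} ⟨i, rfl⟩ (by
      intro h0
      obtain ⟨j, hj⟩ := exists_ne i
      exact hj ((Set.eq_univ_iff_forall.1 h0) j))
    obtain rfl := Set.mem_singleton_iff.1 ha
    exact ⟨b, fun h0 => hb (h0 ▸ rfl), hM⟩
  have hneg : ∀ {i j : c.I}, i ≠ j → c.M i j ≠ 2 → form c.cs c.h (sr j) (sr i) < 0 := by
    intro i j hij hM
    have h1 := OrthRoot.two_form_sr c.cs c.h i j
    have h2 := (ne_zero_of_adj c.h hij hM).1
    have h3 := form_pos c.cs c.h (sr_ne_zero i)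
    have h4 := mul_neg_of_neg_of_pos h2 h3
    linarith
  have hz : ∀ r ∈ c.R, c.z r ≠ 1 := by
    intro r hr
    obtain ⟨w, i, rfl⟩ := c.cls.root r hr
    obtain ⟨j, hij, hM⟩ := hadj i
    have h1 := hneg hij hM
    refine StdConn.z_ne_one c.cls c.prime c.odd hr ((isRoot_sr c.cs c.h j).act w) ?_ ?_
      (by rw [form_rep]; exact h1.ne)
    · intro h0
      have h2 := rep_injective_apply c.cs c.h w h0
      rw [h2] at h1
      exact absurd (form_pos c.cs c.h (sr_ne_zero i)) (by omega)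
    · intro h0
      rw [← map_neg] at h0
      have h2 := rep_injective_apply c.cs c.h w h0
      have h3 := congrFun h2 j
      rw [sr_self, Pi.neg_apply, sr_ne (fun h => hij h.symm)] at h3
      norm_num at h3
  have huq := KindsOf.uniq hyp c hz
  obtain ⟨w, i, rfl⟩ := c.cls.root r hr
  have hi : sr i ∈ c.R := by
    have := c.cls.act _ hr w⁻¹
    rwa [rep_inv_apply] at this
  have hli := (hlong i).1 hi
  have hli0 := hpos i
  have L' : Lg c.cs c.h (rep c.cs c.h w (sr i)) := by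
    refine lg_of_len c.irr rel hpos (fun j => ?_) (fun j => ?_) w
    · rcases hl j with h1 | h1
      · omega
      · have := hpos j
        omega
    · rcases hl j with h1 | h1
      · have := hpos j
        omega
      · omega
  obtain ⟨j, hij, hM⟩ := hadj i
  have h1 := hneg hij hM
  rcases hl j with h2 | h2
  · -- linked
    have hj := (hlong j).2 h2
    have h3 : c.A i j = c.A j i := by
      have h3 := rel i j
      rw [hli, h2] at h3
      exact mul_right_cancel₀ (by omega) h3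
    have h4 : c.A i j = -1 ∧ c.A j i = -1 := by
      rcases c.h.rel i j hij with ⟨h5, -⟩ | ⟨-, h5, h6⟩ | ⟨-, ⟨h5, h6⟩ | ⟨h5, h6⟩⟩ | ⟨-, ⟨h5, h6⟩ | ⟨h5, h6⟩⟩
      · exact absurd h5 hM
      all_goals omega
    have h5 := ZRel.X_eq_Z c.cls c.prime c.odd huq hr (c.cls.act _ hj w) (by
      intro h0
      have h5 := rep_injective_apply c.cs c.h w h0
      rw [h5] at h1
      exact absurd (form_pos c.cs c.h (sr_ne_zero i)) (by omega)) (by
      intro h0
      rw [← map_neg] at h0
      have h2 := rep_injective_apply c.cs c.h w h0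
      have h3 := congrFun h2 j
      rw [sr_self, Pi.neg_apply, sr_ne (fun h => hij h.symm)] at h3
      norm_num at h3) (by
      rw [cpr_rep c.cs c.h w _ (isRoot_sr _ _ i), cpr_rep c.cs c.h w _ (isRoot_sr _ _ j)]
      have e1 : cpr c.cs c.h (sr j) (sr i) = -1 := by
        apply cpr_eq_of_form c.cs c.h (isRoot_sr _ _ i)
        rw [OrthRoot.two_form_sr, h4.1]
      have e2 : cpr c.cs c.h (sr i) (sr j) = -1 := by
        apply cpr_eq_of_form c.cs c.h (isRoot_sr _ _ j)
        rw [OrthRoot.two_form_sr, h4.2]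
      rw [e1, e2]; norm_num)
    rw [← h5]
    exact mem_X c.cls c.odd L' hr hu hc
  · -- a short root
    refine mem_Z_of_short c.cls c.odd L' hr (y := -rep c.cs c.h w (sr j)) ((isRoot_sr c.cs c.h j).act w).neg ?_ ?_
      hu hc
    · rw [form_neg_left, form_rep]; omega
    · rw [form_neg_left, form_neg_right, neg_neg, form_rep, form_rep]
      have h3 := form_len c.cs c.h c.irr rel i j
      rw [hli, ← h2] at h3
      have h4 : (2 * form c.cs c.h (sr j) (sr j)) * l j = form c.cs c.h (sr i) (sr i) * l j := by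
        rw [h3]; ring
      exact mul_right_cancel₀ (hpos j).ne' h4

theorem VV_relabel (c : Chart.Chart Om p L) {A' : c.I → c.I → ℤ} (h' : IsCartan c.M A') {d : c.I → ℤ}
    (S : Scal c.A A' d) {r r' : c.I → ℤ} (hr' : IsRoot c.cs h' r') (hrr : Ray c.cs c.h d r r') :
    VV c.cs h' (relX c.cs c.h d c.X) r' = VV c.cs c.h c.X r := by
  apply le_antisymm
  · refine RGD.Sup_le fun y' hy' => ?_
    obtain ⟨y, hy⟩ := exists_ray (cs := c.cs) (h := c.h) S hy'.1
    rw [relX_eq hy]
    exact RGD.le_Sup (S := {y | IsRoot c.cs c.h y ∧ 0 < form c.cs c.h y r})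
      ⟨hy.1, (form_pos_iff S hy hrr hr').2 hy'.2⟩
  · refine RGD.Sup_le fun y hy => ?_
    obtain ⟨y', hy', hyy⟩ := exists_ray' (cs := c.cs) (h := c.h) (h' := h') S hy.1
    rw [← relX_eq hyy (X := c.X)]
    exact RGD.le_Sup (S := {y | IsRoot c.cs h' y ∧ 0 < form c.cs h' y r'})
      ⟨hy', (form_pos_iff S hyy hrr hr').1 hy.2⟩

/-- **`C_{VV r}(VV r) = Z r`** in typed charts, `τ ≠ C 1` -/
theorem mem_Z_of_cent (hyp : Cit.Hyp Om) (c : Chart.Chart Om p L) {τ : Ty} (hτ : c.IsTy τ) (hok : Cit.KindOk τ)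
    (h1 : τ ≠ .C 1) {r : c.I → ℤ} (hr : r ∈ c.R) {u : G} (hu : u ∈ VV c.cs c.h c.X r)
    (hc : ∀ v ∈ VV c.cs c.h c.X r, u * v = v * u) : u ∈ c.Z r := by
  have hnt : Nontrivial c.I := by
    rw [← Fintype.one_lt_card_iff_nontrivial, hτ.card]
    cases τ with
    | A n => exact hok
    | B n => exact (show 3 ≤ n from hok).trans' (by norm_num)
    | C n =>
      have h2 : 1 ≤ n := hok
      have h3 : n ≠ 1 := fun h => h1 (by rw [h])
      change 1 < n
      omega
    | D n =>
      change 1 < (n - 2) + 2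
      omega
    | E6 => exact (by norm_num : 1 < 6)
    | E7 => exact (by norm_num : 1 < 7)
    | E8 => exact (by norm_num : 1 < 8)
    | F4 => exact (by norm_num : 1 < 4)
    | G2 => exact (by norm_num : 1 < 2)
  obtain ⟨e, hA, hR⟩ := hτ
  have rel : ∀ i j, c.A i j * τ.len (e i) = c.A j i * τ.len (e j) := by
    intro i j
    rw [hA, hA]
    exact Ty.len_rel τ (e i) (e j)
  have hlong : ∀ i, sr i ∈ c.R ↔ τ.len (e i) = τ.lenR := fun i => (hR i).trans (τ.long_iff _)
  by_cases hB : ∃ n, τ = .B n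
  · obtain ⟨n, rfl⟩ := hB
    have hlen : ∀ i : c.I, Ty.len (.B n) (e i) = 1 ∨ Ty.len (.B n) (e i) = 2 := by
      intro i
      simp only [Ty.len]
      split_ifs
      · right; rfl
      · left; rfl
    have rel' : ∀ i j, c.A i j * (3 - Ty.len (.B n) (e j)) = (3 - Ty.len (.B n) (e i)) * c.A j i := by
      intro i j
      have h2 := rel i j
      rcases hlen i with h3 | h3 <;> rcases hlen j with h4 | h4 <;> rw [h3, h4] at h2 ⊢ <;> linarith
    have S : Scal c.A (fun i j => c.A j i) (fun i => 3 - Ty.len (.B n) (e i)) :=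
      ⟨fun i => by rcases hlen i with h3 | h3 <;> rw [h3] <;> norm_num, rel'⟩
    have h' := BlockTy.isCartan_transpose c.h
    obtain ⟨r', hr', hrr⟩ := exists_relR S h' c.cls.root hr
    have h5 := VV_relabel c h' S hr'.1 hrr
    have h6 : u ∈ (BlockTy.relabel c h' S).Z r' := by
      refine aux hyp (BlockTy.relabel c h' S) hnt (l := fun i => 3 - Ty.len (.B n) (e i)) (lR := 2) ?_ ?_ ?_ ?_ hr'
        ?_ ?_
      · intro i j
        have h7 := rel' j i
        change c.A j i * (3 - Ty.len (.B n) (e i)) = c.A i j * (3 - Ty.len (.B n) (e j))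
        rw [h7, mul_comm]
      · intro i
        rcases hlen i with h3 | h3 <;> simp only [h3] <;> norm_num
      · intro i
        rcases hlen i with h3 | h3 <;> simp only [h3] <;> norm_num
      · intro i
        have h7 : sr i ∈ relR c.cs c.h h' (fun i => 3 - Ty.len (.B n) (e i)) c.R ↔ sr i ∈ c.R := by
          have h2 := ray_sr (cs := c.cs) (h := c.h) S h' i
          constructor
          · rintro ⟨-, x, hx, hxx⟩
            obtain rfl : x = sr i := ray_unique hxx h2
            exact hx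
          · intro h3
            exact ⟨isRoot_sr _ _ i, _, h3, h2⟩
        refine h7.trans ((hlong i).trans ?_)
        change Ty.len (.B n) (e i) = 1 ↔ 3 - Ty.len (.B n) (e i) = 2
        constructor <;> intro h8 <;> omega
      · change u ∈ VV c.cs h' (relX c.cs c.h _ c.X) r'
        rw [h5]; exact hu
      · intro v hv
        change v ∈ VV c.cs h' (relX c.cs c.h _ c.X) r' at hv
        rw [h5] at hv
        exact hc v hv
    change u ∈ relX c.cs c.h _ c.Z r' at h6
    rwa [relX_eq hrr] at h6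
  · refine aux hyp c hnt rel (fun i => ?_) (fun i => ?_) hlong hr hu hc
    · cases τ <;> simp only [Ty.len] <;> (try split_ifs) <;> norm_num
    · cases τ with
      | B n => exact absurd ⟨n, rfl⟩ hB
      | G2 => exact absurd hok (by simp [Cit.KindOk])
      | _ => simp only [Ty.len, Ty.lenR] <;> (try split_ifs) <;> norm_num

end Chart

end Cfsg.Agent.Nodes.CenVV
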