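import Mathlib
import Cfsg.Agent.Nodes.FrameCent
import Cfsg.Agent.Nodes.RKindsBC
import Cfsg.Agent.Nodes.ChartFrame
import Cfsg.Agent.Nodes.SpanFrame
import Cfsg.Agent.Cit.TypeDet.KindsEF
import Cfsg.Agent.Cit.TDef

/-!
# The centralizer of a frame in a typed chart (project CIT, [Q1], RULING 13 (2))

* `exists_max` : a maximal orthogonal family in a set of roots;
* `no_orth_of_card` : no root is orthogonal to `rank` many orthogonal roots;
* `orth_B_odd` : type `B n`, `n` odd: the only roots orthogonal to the frame `KindB.fr n` are `± sr last`;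
* `mem_T_B`, `mem_T_sup_B` : the centralizer of the frame for type `B n` (`n` even / `n` odd);
* `exists_frame` : every typed chart of a type allowed in THEOREM T except `B n`, `n` odd, has a frame to which no root
  is orthogonal;
* `exists_cm` : **(A1)** for these types there is a commuting family of members of `Om` in `L` such that every subgroup
  of `L` commuting with all of them has order prime to `p`;
* `exists_B` : the standard chart of type `B n`.
-/

set_option autoImplicit false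
set_option linter.unusedSectionVars false
set_option linter.dupNamespace false

namespace Cfsg.Agent.Nodes.FrameCentTy

open CoxeterSystem Cfsg.Agent.ChevalleyStructure.CoxeterGeom Cfsg.Agent.Tits.Roots Cfsg.Agent.Tits.Core
  Cfsg.Agent.Tits.RootComb Cfsg.Agent.Nodes.Comb Cfsg.Agent.Nodes.Reps Cfsg.Agent.Nodes.BNOf
  Cfsg.Agent.Nodes.RGDLib Cfsg.Agent.Nodes.Chart Cfsg.Agent.Nodes.Coroot Cfsg.Agent.Nodes.FreeTorus
  Cfsg.Agent.Nodes.Perp Cfsg.Agent.Nodes.KindBC Cfsg.Agent.Nodes.TyStd Cfsg.Agent.Nodes.Bruhat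
open Cfsg.Agent.Cit.TypeDet (cm cm_symm cm_iff_le_centralizer cm_mono)

section Root

variable {I W : Type*} [Fintype I] [DecidableEq I] [Group W] [Fintype W] {M : CoxeterMatrix I}
  {cs : CoxeterSystem M W} {A : I → I → ℤ} {h : IsCartan M A}

/-- No nonzero vector is orthogonal to `rank` many pairwise orthogonal vectors. -/
theorem no_orth_of_card {κ : Type*} [Fintype κ] (g : κ → I → ℤ) (h0 : ∀ k, g k ≠ 0)
    (ho : ∀ k l, k ≠ l → form cs h (g k) (g l) = 0) (hc : Fintype.card I ≤ Fintype.card κ) {x : I → ℤ}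
    (hx : x ≠ 0) : ∃ k, form cs h x (g k) ≠ 0 := by
  by_contra hcon
  push Not at hcon
  have h1 := SpanFrame.card_le_of_orth (cs := cs) (h := h) (κ := Option κ) (fun o => o.elim x g)
    (by rintro (_ | k); exacts [hx, h0 k]) (by
      rintro (_ | k) (_ | l) hkl
      · exact absurd rfl hkl
      · exact hcon l
      · exact (form_comm cs h _ _).trans (hcon k)
      · exact ho k l fun e => hkl (e ▸ rfl))
  rw [Fintype.card_option] at h1
  omega

/-- A maximal orthogonal family in a set of roots. -/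
theorem exists_max (R : Set (I → ℤ)) (hR : ∀ r ∈ R, IsRoot cs h r) : ∃ (m : ℕ) (r : Fin m → I → ℤ),
    (∀ k, r k ∈ R) ∧ (∀ i j, i ≠ j → form cs h (r i) (r j) = 0) ∧ ∀ x ∈ R, ∃ k, form cs h x (r k) ≠ 0 := by
  by_contra hcon
  push Not at hcon
  have key : ∀ m : ℕ, ∃ r : Fin m → I → ℤ, (∀ k, r k ∈ R) ∧ (∀ i j, i ≠ j → form cs h (r i) (r j) = 0) := by
    intro m
    induction m with
    | zero => exact ⟨fun k => k.elim0, fun k => k.elim0, fun i => i.elim0⟩
    | succ m ih =>
      obtain ⟨r, hr, ho⟩ := ih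
      obtain ⟨x, hx, hx'⟩ := hcon m r hr ho
      refine ⟨Fin.cons x r, fun k => ?_, fun i j hij => ?_⟩
      · refine Fin.cases ?_ (fun k => ?_) k
        · exact hx
        · exact hr k
      · revert hij
        refine Fin.cases ?_ (fun i => ?_) i
        · refine Fin.cases ?_ (fun j => ?_) j
          · exact fun hij => absurd rfl hij
          · intro _; exact hx' j
        · refine Fin.cases ?_ (fun j => ?_) j
          · intro _; exact (form_comm cs h _ _).trans (hx' i)
          · intro hij; exact ho i j fun e => hij (e ▸ rfl)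
  obtain ⟨r, hr, ho⟩ := key (Fintype.card I + 1)
  have h1 := SpanFrame.card_le_of_orth (cs := cs) (h := h) r (fun k => (hR _ (hr k)).ne_zero) ho
  rw [Fintype.card_fin] at h1
  omega

end Root

section B

variable {n : ℕ} {W : Type*} [Group W] [Fintype W] (cs : CoxeterSystem (CoxeterMatrix.B n) W)

open TypeC TypeCForm

theorem form_fr {k l : Fin (2 * (n / 2))} (hkl : k ≠ l) : form cs (TypeC.isCartan n) (KindB.fr n k) (KindB.fr n l) = 0 :=
  (RKindsBC.form_zero cs (KindB.isRoot_fr cs l)).2 (KindB.cpr_fr_fr cs hkl)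

/-- Type `B n`, `n` odd: the roots orthogonal to the frame. -/
theorem orth_B_odd (hn : Odd n) {l : Fin n} (hl : (l : ℕ) + 1 = n) {x : Fin n → ℤ}
    (hx : IsRoot cs (TypeC.isCartan n) x) (h0 : ∀ k, form cs (TypeC.isCartan n) x (KindB.fr n k) = 0) :
    x = sr l ∨ x = -sr l := by
  have hz : ∀ i : Fin n, i ≠ l → ee x i = 0 := by
    intro i hi
    have hi' : (i : ℕ) < 2 * (n / 2) := by
      obtain ⟨m, hm⟩ := hn
      have h1 := i.2
      have h2 : (i : ℕ) ≠ l := fun e => hi (Fin.ext e)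
      omega
    obtain ⟨k, -, hk⟩ := KindB.exists_index hi'
    obtain ⟨h1, h2⟩ := KindB.ee_eq_zero cs ((RKindsBC.form_zero cs (KindB.isRoot_fr cs k)).1 (h0 k))
      ((RKindsBC.form_zero cs (KindB.isRoot_fr cs _)).1 (h0 (KindB.pt k)))
    rcases hk with hk | hk <;> rw [hk] <;> assumption
  have hsl : ee (sr l) = (fun i => if i = l then 2 else 0) := by
    rw [sr_eq_rt, ee_rt]
    have : nx l = (l, true) := by
      unfold nx
      rw [dif_neg (by omega)]
    rw [this]
    funext i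
    rw [Pi.add_apply, wt_apply]
    by_cases h : i = l
    · simp [h]
    · simp [h]
  obtain ⟨a, b, hab, e⟩ := exists_rt hx
  have hne : a.1 = b.1 := by
    by_contra hne
    have h1 : ee x a.1 ≠ 0 := by
      rw [e, ee_rt, Pi.add_apply, wt_apply_self, wt_apply_ne hne, add_zero]
      rcases sn_eq_one_or a with h | h <;> rw [h] <;> norm_num
    have h2 : ee x b.1 ≠ 0 := by
      rw [e, ee_rt, Pi.add_apply, wt_apply_self, wt_apply_ne (Ne.symm hne), zero_add]
      rcases sn_eq_one_or b with h | h <;> rw [h] <;> norm_num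
    have h3 : a.1 = l := by by_contra h; exact h1 (hz _ h)
    have h4 : b.1 = l := by by_contra h; exact h2 (hz _ h)
    exact hne (h3.trans h4.symm)
  have hab' : b = a := by
    rcases hab with h | h
    · exact absurd hne h
    · exact h.symm
  subst hab'
  have h3 : b.1 = l := by
    by_contra h
    have h1 := hz _ h
    rw [e, ee_rt, Pi.add_apply, wt_apply_self] at h1
    rcases sn_eq_one_or b with h2 | h2 <;> rw [h2] at h1 <;> norm_num at h1
  have h4 : ee x = (fun i => if i = l then 2 * sn b else 0) := by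
    funext i
    by_cases hi : i = l
    · rw [if_pos hi, hi, ← h3, e, ee_rt, Pi.add_apply, wt_apply_self]; ring
    · rw [if_neg hi]; exact hz i hi
  rcases sn_eq_one_or b with h5 | h5
  · left
    apply ee_injective
    rw [h4, hsl, h5]; rfl
  · right
    apply ee_injective
    rw [h4, ee_neg, hsl, h5]
    funext i
    rw [Pi.neg_apply]
    split_ifs <;> norm_num

end B

section Grp

universe u v

variable {n : ℕ} {W : Type} {Y : Type v} [Group W] [Fintype W] [Group Y]
  {cs : CoxeterSystem (CoxeterMatrix.B n) W} {p : ℕ} {T : Subgroup Y} {ν : Fin n → Y} {X : (Fin n → ℤ) → Subgroup Y}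
  {Z : (Fin n → ℤ) → Subgroup Y} {z : (Fin n → ℤ) → Y}

open TypeC TypeCForm

/-- Type `B n`, `n` even: the centralizer of the frame. -/
theorem mem_T_B (hn : Even n) (C : Cls cs (TypeC.isCartan n) p T ν X (RB n) Z z) {g : Y}
    (hg : g ∈ GG cs (TypeC.isCartan n) T X) (hc : ∀ k, ∀ x ∈ KK Z (KindB.fr n k), g * x = x * g) : g ∈ T := by
  refine FrameCent.mem_T C (fun k => KindB.fr_mem k) (fun i j hij => form_fr cs hij) (fun x hx => ?_) hg hc
  refine no_orth_of_card _ (fun k => (KindB.isRoot_fr cs k).ne_zero) (fun i j hij => form_fr cs hij) ?_ hx.ne_zero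
  rw [Fintype.card_fin, Fintype.card_fin]
  obtain ⟨m, hm⟩ := hn
  omega

/-- Type `B n`, `n` odd: the centralizer of the frame. -/
theorem mem_T_sup_B (hn : Odd n) (C : Cls cs (TypeC.isCartan n) p T ν X (RB n) Z z) {l : Fin n} (hl : (l : ℕ) + 1 = n)
    {g : Y} (hg : g ∈ GG cs (TypeC.isCartan n) T X) (hc : ∀ k, ∀ x ∈ KK Z (KindB.fr n k), g * x = x * g) :
    g ∈ T ⊔ LL X (sr l) :=
  FrameCent.mem_T_sup C (fun k => KindB.fr_mem k) (fun _ _ hij => form_fr cs hij) (isRoot_sr cs _ l)
    (fun _ hx h0 => orth_B_odd cs hn hl hx h0) hg hc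

theorem le_T_sup_B (hn : Odd n) (C : Cls cs (TypeC.isCartan n) p T ν X (RB n) Z z) {l : Fin n} (hl : (l : ℕ) + 1 = n)
    {J : Subgroup Y} (hJ : J ≤ GG cs (TypeC.isCartan n) T X) (hc : ∀ k, cm J (KK Z (KindB.fr n k))) :
    J ≤ T ⊔ LL X (sr l) :=
  fun _ hg => mem_T_sup_B hn C hl (hJ hg) fun k x hx => hc k _ hg x hx

theorem cm_fr (C : Cls cs (TypeC.isCartan n) p T ν X (RB n) Z z) {i j : Fin (2 * (n / 2))} (hij : i ≠ j) :
    cm (KK Z (KindB.fr n i)) (KK Z (KindB.fr n j)) :=
  RelFrame.cm_KK C (KindB.fr_mem i) (KindB.fr_mem j) (form_fr cs hij)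

end Grp

section Chart

universe v

variable {G : Type v} [Group G] {Om : Set (Subgroup G)} {p : ℕ} {L : Subgroup G}

/-- A frame (an orthogonal family of classical roots) to which no root is orthogonal. -/
structure Full (c : Chart Om p L) {m : ℕ} (r : Fin m → c.I → ℤ) : Prop where
  mem : ∀ k, r k ∈ c.R
  orth : ∀ i j, i ≠ j → form c.cs c.h (r i) (r j) = 0
  full : ∀ x, IsRoot c.cs c.h x → ∃ k, form c.cs c.h x (r k) ≠ 0

/-- If all simple roots are classical, then all roots are. -/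
theorem mem_R_of_sr (c : Chart Om p L) (hs : ∀ i, sr i ∈ c.R) {x : c.I → ℤ} (hx : IsRoot c.cs c.h x) : x ∈ c.R := by
  obtain ⟨w, i, rfl⟩ := hx
  exact c.cls.act _ (hs i) w

theorem exists_full_of_sr (c : Chart Om p L) (hs : ∀ i, sr i ∈ c.R) :
    ∃ (m : ℕ) (r : Fin m → c.I → ℤ), Full c r := by
  obtain ⟨m, r, hr, ho, hm⟩ := exists_max (cs := c.cs) (h := c.h) c.R c.cls.root
  exact ⟨m, r, hr, ho, fun x hx => hm x (mem_R_of_sr c hs hx)⟩

theorem full_of_frameSys (c : Chart Om p L) {m : ℕ} {g : Fin m → c.I → ℤ}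
    (F : KindBase.FrameSys c.cs c.h c.R g) (hm : Fintype.card c.I ≤ m) : Full c g where
  mem := F.mem
  orth i j hij := (cpr_zero_iff c.cs c.h _ (F.root _ (F.mem j))).1 (F.orth i j hij)
  full x hx := no_orth_of_card _ (fun k => (F.root _ (F.mem k)).ne_zero)
    (fun i j hij => (cpr_zero_iff c.cs c.h _ (F.root _ (F.mem j))).1 (F.orth i j hij))
    (by rw [Fintype.card_fin]; exact hm) hx.ne_zero

/-- **Frames with no orthogonal root**: all types of THEOREM T except `B n`, `n` odd. -/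
theorem exists_full (c : Chart Om p L) {τ : Ty} (h : c.IsTy τ) (hk : Cit.KindOk τ) (hB : ∀ n, τ = .B n → Even n) :
    ∃ (c' : Chart Om p L) (m : ℕ) (r : Fin m → c'.I → ℤ), c'.IsTy τ ∧ Full c' r := by
  have key : (∀ i, τ.long i) → ∃ (c' : Chart Om p L) (m : ℕ) (r : Fin m → c'.I → ℤ), c'.IsTy τ ∧ Full c' r := by
    intro hl
    obtain ⟨e, -, h2⟩ := id h
    obtain ⟨m, r, hr⟩ := exists_full_of_sr c fun i => (h2 i).2 (hl _)
    exact ⟨c, m, r, h, hr⟩
  match τ, h, hk, hB, key with
  | .A n, _, _, _, key => exact key fun _ => trivial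
  | .D n, _, _, _, key => exact key fun _ => trivial
  | .E6, _, _, _, key => exact key fun _ => trivial
  | .E7, _, _, _, key => exact key fun _ => trivial
  | .E8, _, _, _, key => exact key fun _ => trivial
  | .C n, h, _, _, _ =>
    obtain ⟨c', g, h1, h2, -⟩ := RKindsBC.exists_rkinds_C c h
    exact ⟨c', n, g, h1, full_of_frameSys c' h2 h1.card.le⟩
  | .B n, h, hk, hB, _ =>
    have hk' : 3 ≤ n := hk
    obtain ⟨c', g, h1, h2, -⟩ := RKindsBC.exists_rkinds_B c (by omega) h
    refine ⟨c', 2 * (n / 2), g, h1, full_of_frameSys c' h2 ?_⟩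
    rw [h1.card]
    obtain ⟨m, hm⟩ := hB n rfl
    show n ≤ _
    omega
  | .F4, h, _, _, _ =>
    obtain ⟨c', g, h1, h2, -⟩ := Cit.TypeDet.KindsEF.exists_rkf_F4 c h
    exact ⟨c', _, g, h1, full_of_frameSys c' h2 h1.card.le⟩
  | .G2, _, hk, _, _ => exact hk.elim

/-- The centralizer in `L` of a full frame. -/
theorem Full.le_T {c : Chart Om p L} {m : ℕ} {r : Fin m → c.I → ℤ} (F : Full c r) {J : Subgroup G} (hJ : J ≤ L)
    (hc : ∀ k, cm J (KK c.Z (r k))) : J ≤ c.T := by
  intro g hg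
  refine FrameCent.mem_T c.cls F.mem F.orth F.full ?_ fun k x hx => hc k g hg x hx
  rw [ChartFrame.GG_eq]
  exact hJ hg

/-- **(A1)**: a commuting family of members of `Om` in `L`, whose centralizer in `L` has order prime to `p`. -/
theorem exists_cm [Finite G] (c : Chart Om p L) {τ : Ty} (h : c.IsTy τ) (hk : Cit.KindOk τ)
    (hB : ∀ n, τ = .B n → Even n) :
    ∃ (m : ℕ) (K : Fin m → Subgroup G), (∀ i, K i ∈ Om) ∧ (∀ i, K i ≤ L) ∧ (∀ i j, i ≠ j → cm (K i) (K j)) ∧
      ∀ J ≤ L, (∀ i, cm J (K i)) → (Nat.card J).Coprime p := by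
  obtain ⟨c', m, r, -, F⟩ := exists_full c h hk hB
  refine ⟨m, fun i => KK c'.Z (r i), fun i => ChartFrame.KK_mem_Om c' (F.mem i),
    fun i => ChartFrame.KK_le c' (F.mem i), fun i j hij => RelFrame.cm_KK c'.cls (F.mem i) (F.mem j) (F.orth i j hij),
    fun J hJ hc => ?_⟩
  exact Nat.Coprime.coprime_dvd_left (Subgroup.card_dvd_of_le (F.le_T hJ hc)) c'.cls.rgd.tcop

/-- **The standard chart of type `B n`** (`Z r = X r` is transported). -/
theorem exists_B (c : Chart Om p L) {n : ℕ} (h : c.IsTy (.B n)) :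
    ∃ (W : Type) (_ : Group W) (_ : Fintype W) (cs : CoxeterSystem (CoxeterMatrix.B n) W) (T : Subgroup G)
      (ν : Fin n → G) (X : (Fin n → ℤ) → Subgroup G) (Z : (Fin n → ℤ) → Subgroup G) (z : (Fin n → ℤ) → G),
      Cls cs (TypeC.isCartan n) p T ν X (RB n) Z z ∧ G1 cs (TypeC.isCartan n) X = L ∧
      GG cs (TypeC.isCartan n) T X = L ∧ (∀ r ∈ RB n, KK Z r ∈ Om) ∧
      (∀ K ∈ Om, K ≤ L → ∃ r ∈ RB n, ∃ g ∈ L, K = cj g (KK Z r)) ∧
      ((∀ r ∈ c.R, c.Z r = c.X r) → ∀ r ∈ RB n, Z r = X r) := by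
  let cs' : CoxeterSystem (CoxeterMatrix.B n) (CoxeterMatrix.B n).Group := (CoxeterMatrix.B n).toCoxeterSystem
  have hf : Finite (CoxeterMatrix.B n).Group := finite_of_isTy c h cs'
  let _ : Fintype (CoxeterMatrix.B n).Group := Fintype.ofFinite _
  obtain ⟨e, hM, hA, hR, h1⟩ := exists_chart_of_isTy c h (W' := (CoxeterMatrix.B n).Group) cs' (R' := RB n)
    (fun r hr => root_RB cs' hr) (fun r hr w => act_RB cs' hr w) (fun i => RKindsBC.sr_mem_RB) (trans_RB cs')
  let c' := reindex c e hM hA cs' (Ty.B n).isCartan (fun r hr => root_RB cs' hr)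
    (fun r hr w => act_RB cs' hr w) hR (trans_RB cs')
  refine ⟨_, _, _, cs', c'.T, c'.n, c'.X, c'.Z, c'.z, c'.cls, c'.gen, ChartFrame.GG_eq c', c'.om, c'.om_conj,
    fun hZ r hr => hZ _ ?_⟩
  exact (mem_R_iff (cs := c.cs) (h := c.h) e hM hA cs' (Ty.B n).isCartan c.cls.act
    (fun r hr w => act_RB cs' hr w) hR (root_RB cs' hr)).2 hr

end Chart

end Cfsg.Agent.Nodes.FrameCentTy
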