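import Cfsg.Agent.Nodes.RGDLib

/-!
helper617: `HasRGD p G` : `G` has a root group datum of characteristic `p`, with finite Weyl group, whose root groups
generate `G`; `HasRGD.of_equiv`. (Instances: `Nodes.RGDChev`, `Nodes.RGDTwAll`, `Nodes.WittU`, ...)
-/

set_option autoImplicit false

namespace Cfsg.Agent.Nodes.RGDChev

open CoxeterSystem Cfsg.Agent.ChevalleyStructure.CoxeterGeom Cfsg.Agent.Tits.Roots Cfsg.Agent.Tits.Core
  Cfsg.Agent.Tits.RootComb Cfsg.Agent.Nodes.Comb Cfsg.Agent.Nodes.Reps Cfsg.Agent.Nodes.BNOf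

/-- `G` has a root group datum of characteristic `p` with finite Weyl group, whose root groups generate `G`. -/
def HasRGD (p : ℕ) (G : Type*) [Group G] : Prop :=
  ∃ (l : ℕ) (M : CoxeterMatrix (Fin l)) (A : Fin l → Fin l → ℤ) (h : IsCartan M A) (T : Subgroup G) (n : Fin l → G)
    (X : (Fin l → ℤ) → Subgroup G), Finite M.Group ∧ RGD M.toCoxeterSystem h p T n X ∧
      RGDLib.G1 M.toCoxeterSystem h X = ⊤

theorem HasRGD.of_equiv {p : ℕ} {G H : Type*} [Group G] [Group H] (e : G ≃* H) (hG : HasRGD p G) : HasRGD p H := by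
  obtain ⟨l, M, A, h, T, n, X, hW, R, hX⟩ := hG
  refine ⟨l, M, A, h, T.map e.toMonoidHom, fun i => e (n i), fun x => (X x).map e.toMonoidHom, hW,
    RGDLib.rgd_map_of_injective R e.toMonoidHom e.injective, ?_⟩
  have h1 : (RGDLib.G1 M.toCoxeterSystem h X).map e.toMonoidHom =
      RGDLib.G1 M.toCoxeterSystem h (fun x => (X x).map e.toMonoidHom) := by
    unfold RGDLib.G1 RGD.Sup
    rw [Subgroup.map_iSup]
  rw [← h1, hX, Subgroup.map_top_of_surjective _ e.surjective]

end Cfsg.Agent.Nodes.RGDChev
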