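import Cfsg.Agent.Nodes.RGDLib
import Cfsg.Agent.Nodes.HasRGD
import Cfsg.Prelude.Def_LieTypeChar
import Cfsg.Agent.ChevalleyStructure.NPerm
import Cfsg.Agent.ChevalleyStructure.RootVec
import Cfsg.Agent.ChevalleyStructure.CoxeterGeomTypes
import Cfsg.Agent.ChevalleyStructure.HMatDiagAll
import Cfsg.Agent.S1025
import Cfsg.Agent.S1030

/-!
helper617: the root group datum (`Nodes.BNOf.RGD`) of the Chevalley groups `D.group K`,
`D` one of `chevG2, chevB2, chevD4, chevF4, chevE6, chevE7, chevE8`, `K` a finite field of characteristic `p`.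

* `typeList` : the pairs (datum, Coxeter matrix); `vec D l r` : the root with index `r` as a vector;
* `isRoot_iff` : `IsRoot cs h x ↔ ∃ r < D.nroots, vec D l r = x`;
* `XV D l K x` : the root group of the vector `x`, `XV_vec` : it is `D.rootSubgroup K r` for `x = vec D l r`;
* `rgd_GL` : the RGD inside `GL D.Idx K`; `rgd` : the RGD in `D.group K`; `G1_eq_top`, `gen`, `finite_W`;
* `HasRGD p G`, `hasRGD_group`, `hasRGD_of_exceptional : IsExceptionalChevChar p G → HasRGD p G`.
-/

set_option autoImplicit false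
set_option linter.unusedSectionVars false

namespace Cfsg.Agent.Nodes.RGDChev

open CoxeterSystem Cfsg.Agent.ChevalleyStructure.CoxeterGeom Cfsg.Agent.Tits.Roots Cfsg.Agent.Tits.Core
  Cfsg.Agent.Tits.RootComb Cfsg.Agent.Nodes.Comb Cfsg.Agent.Nodes.Reps Cfsg.Agent.Nodes.BNOf
open Cfsg.Lie Cfsg.Agent.ChevalleyStructure Cfsg.Agent.ChevalleyStructure.Elts
  Cfsg.Agent.ChevalleyStructure.RootVec Cfsg.Agent.ChevalleyStructure.RootVecTab
  Cfsg.Agent.ChevalleyStructure.NPerm Cfsg.Agent.ChevalleyStructure.CoxeterGeomTypes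
open scoped commutatorElement

universe u

/-- The seven types: datum, rank and Coxeter matrix. -/
abbrev typeList : List (ChevalleyDatum × (Σ n : ℕ, CoxeterMatrix (Fin n))) :=
  [(chevG2, ⟨2, CoxeterMatrix.G₂⟩), (chevB2, ⟨2, CoxeterMatrix.B 2⟩), (chevD4, ⟨4, coxeterD4⟩),
    (chevF4, ⟨4, CoxeterMatrix.F₄⟩), (chevE6, ⟨6, CoxeterMatrix.E₆⟩), (chevE7, ⟨7, CoxeterMatrix.E₇⟩),
    (chevE8, ⟨8, CoxeterMatrix.E₈⟩)]

/-- `D` is a tabulated datum of rank `l` and type `M`. -/
abbrev IsType (D : ChevalleyDatum) (l : ℕ) (M : CoxeterMatrix (Fin l)) : Prop :=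
  (D, (⟨l, M⟩ : Σ n : ℕ, CoxeterMatrix (Fin n))) ∈ typeList

section Basic

variable {D : ChevalleyDatum} {l : ℕ} {M : CoxeterMatrix (Fin l)}

theorem IsType.inList (hp : IsType D l M) : InList D := by
  simp only [IsType, typeList, List.mem_cons, List.not_mem_nil, or_false, Prod.mk.injEq] at hp
  simp only [InList, List.mem_cons, List.not_mem_nil, or_false]
  tauto

theorem rank_eq_of_inList {D : ChevalleyDatum} (hD : InList D) :
    (D = chevG2 → D.rank = 2) ∧ (D = chevB2 → D.rank = 2) ∧ (D = chevD4 → D.rank = 4) ∧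
    (D = chevF4 → D.rank = 4) ∧ (D = chevE6 → D.rank = 6) ∧ (D = chevE7 → D.rank = 7) ∧
    (D = chevE8 → D.rank = 8) := by
  refine ⟨?_, ?_, ?_, ?_, ?_, ?_, ?_⟩ <;> (intro h; subst h; decide +kernel)

theorem IsType.rank_eq (hp : IsType D l M) : D.rank = l := by
  have h0 := rank_eq_of_inList hp.inList
  obtain ⟨h1, h2, h3, h4, h5, h6, h7⟩ := h0
  simp only [IsType, typeList, List.mem_cons, List.not_mem_nil, or_false, Prod.mk.injEq] at hp
  rcases hp with ⟨h, e⟩ | ⟨h, e⟩ | ⟨h, e⟩ | ⟨h, e⟩ | ⟨h, e⟩ | ⟨h, e⟩ | ⟨h, e⟩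
  · rw [h1 h]; exact (congrArg Sigma.fst e).symm
  · rw [h2 h]; exact (congrArg Sigma.fst e).symm
  · rw [h3 h]; exact (congrArg Sigma.fst e).symm
  · rw [h4 h]; exact (congrArg Sigma.fst e).symm
  · rw [h5 h]; exact (congrArg Sigma.fst e).symm
  · rw [h6 h]; exact (congrArg Sigma.fst e).symm
  · rw [h7 h]; exact (congrArg Sigma.fst e).symm

theorem IsType.checked (hp : IsType D l M) : Checked D := checked_of_mem hp.inList

/-- The Cartan matrix of the datum is a Cartan matrix of type `M`. -/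
theorem IsType.isCartan (hp : IsType D l M) : IsCartan M (cartanOf D l) :=
  isCartan_of_mem (D, ⟨l, M⟩) hp

/-- The root with index `r` as a vector of coefficients on the fundamental roots. -/
def vec (D : ChevalleyDatum) (l r : ℕ) : Fin l → ℤ := fun i => rt D r i

theorem vec_apply (r : ℕ) (i : Fin l) : vec D l r i = rt D r i := rfl

variable (hp : IsType D l M)

include hp

theorem lt_rank (i : Fin l) : (i : ℕ) < D.rank := by rw [hp.rank_eq]; exact i.2

theorem vec_simple (i : Fin l) : vec D l (D.simple i) = sr i := by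
  funext j
  rw [vec_apply, rt_simple hp.checked (lt_rank hp i)]
  by_cases hj : j = i
  · subst hj; rw [if_pos rfl, sr_self]
  · rw [if_neg (fun h => hj (Fin.ext h)), sr_ne hj]

theorem vec_neg {r : ℕ} (hr : r < D.nroots) : vec D l (D.neg r) = -vec D l r := by
  funext j
  rw [vec_apply, rt_neg hp.checked hr, Pi.neg_apply, vec_apply]

theorem vec_inj {r s : ℕ} (hr : r < D.nroots) (hs : s < D.nroots) (h : vec D l r = vec D l s) : r = s := by
  refine rt_inj hp.checked hr hs ?_
  intro i hi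
  rw [hp.rank_eq] at hi
  exact congrFun h ⟨i, hi⟩

theorem pairing_vec (i : Fin l) {r : ℕ} (hr : r < D.nroots) :
    pairing (cartanOf D l) i (vec D l r) = D.cartan i r := by
  rw [cartan_eq_sum hp.checked (lt_rank hp i) hr, hp.rank_eq, ← Fin.sum_univ_eq_sum_range
    (fun j => rt D r j * D.cartan i (D.simple j))]
  unfold pairing
  refine Finset.sum_congr rfl fun j _ => ?_
  rw [cartanOf_def, vec_apply, mul_comm]

end Basic

section Roots

variable {D : ChevalleyDatum} {l : ℕ} {M : CoxeterMatrix (Fin l)} (hp : IsType D l M)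
  {W : Type*} [Group W] (cs : CoxeterSystem M W)

theorem rep_vec (i : Fin l) {r : ℕ} (hr : r < D.nroots) :
    rep cs hp.isCartan (cs.simple i) (vec D l r) = vec D l (D.reflectRoot i r) := by
  rw [rep_simple_eq, pairing_vec hp i hr]
  funext j
  rw [Pi.sub_apply, Pi.smul_apply, smul_eq_mul, vec_apply, vec_apply,
    (reflectRoot_rt hp.checked (lt_rank hp i) hr).2]
  by_cases hj : j = i
  · subst hj; rw [sr_self, if_pos rfl]
  · rw [sr_ne hj, if_neg (fun h => hj (Fin.ext h))]

theorem isRoot_iff (x : Fin l → ℤ) :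
    IsRoot cs hp.isCartan x ↔ ∃ r < D.nroots, vec D l r = x := by
  constructor
  · rintro ⟨w, i, rfl⟩
    obtain ⟨ω, rfl⟩ := cs.wordProd_surjective w
    induction ω with
    | nil =>
      rw [wordProd_nil, map_one, Module.End.one_apply]
      exact ⟨D.simple i, simple_lt hp.inList (lt_rank hp i), vec_simple hp i⟩
    | cons j ω ih =>
      obtain ⟨r, hr, e⟩ := ih
      rw [wordProd_cons, rep_mul_apply, ← e, rep_vec hp cs j hr]
      exact ⟨_, reflectRoot_lt hp.inList (lt_rank hp j) hr, rfl⟩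
  · rintro ⟨r, hr, rfl⟩
    refine Reach.reach hp.inList (fun s => IsRoot cs hp.isCartan (vec D l s)) ?_ ?_ r hr
    · intro i hi
      have hi' : i < l := by rw [← hp.rank_eq]; exact hi
      have := vec_simple hp ⟨i, hi'⟩
      rw [show D.simple i = D.simple ((⟨i, hi'⟩ : Fin l) : ℕ) from rfl, this]
      exact isRoot_sr cs hp.isCartan _
    · intro i hi s hs h
      have hi' : i < l := by rw [← hp.rank_eq]; exact hi
      have := rep_vec hp cs ⟨i, hi'⟩ hs
      show IsRoot cs hp.isCartan (vec D l (D.reflectRoot ((⟨i, hi'⟩ : Fin l) : ℕ) s))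
      rw [← this]
      exact h.act _

theorem isRoot_vec {r : ℕ} (hr : r < D.nroots) : IsRoot cs hp.isCartan (vec D l r) :=
  (isRoot_iff hp cs _).2 ⟨r, hr, rfl⟩

include hp cs in
/-- The Weyl group is finite. -/
theorem finite_W : Finite W := by
  have h1 : ∀ (w : W) (i : Fin l), ∃ r : Fin D.nroots, vec D l r = rep cs hp.isCartan w (sr i) := by
    intro w i
    obtain ⟨r, hr, e⟩ := (isRoot_iff hp cs _).1 ((isRoot_sr cs hp.isCartan i).act w)
    exact ⟨⟨r, hr⟩, e⟩
  choose f hf using h1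
  refine Finite.of_injective f ?_
  intro u v huv
  have h2 : u⁻¹ * v = 1 := by
    refine eq_one_of_fix cs hp.isCartan _ fun i => ?_
    have h3 : rep cs hp.isCartan v (sr i) = rep cs hp.isCartan u (sr i) := by
      rw [← hf, ← hf, huv]
    show rep cs hp.isCartan (u⁻¹ * v) (sr i) = sr i
    rw [rep_mul_apply, h3, rep_inv_apply]
  exact (inv_mul_eq_one.1 h2)

end Roots

section Groups

variable {D : ChevalleyDatum} {l : ℕ} {M : CoxeterMatrix (Fin l)}

/-- The root group of the vector `x` in the general linear group. -/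
def XV (D : ChevalleyDatum) (l : ℕ) (K : Type u) [Field K] (x : Fin l → ℤ) : Subgroup (GL D.Idx K) :=
  ⨆ r : {r : ℕ // r < D.nroots ∧ vec D l r = x}, D.rootSubgroup K r.1

theorem XV_vec (hp : IsType D l M) (K : Type u) [Field K] {r : ℕ} (hr : r < D.nroots) :
    XV D l K (vec D l r) = D.rootSubgroup K r := by
  apply le_antisymm
  · refine iSup_le ?_
    rintro ⟨s, hs, e⟩
    have h := vec_inj hp hs hr e
    subst h
    exact le_rfl
  · exact le_iSup (fun s : {s : ℕ // s < D.nroots ∧ vec D l s = vec D l r} => D.rootSubgroup K s.1) ⟨r, hr, rfl⟩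

variable (hp : IsType D l M) {K : Type u} [Field K]

include hp

/-- The element `n_{p_i}(1)`. -/
def nn (hp : IsType D l M) (K : Type u) [Field K] (i : Fin l) : GL D.Idx K := nG hp.inList (D.simple i) 1

theorem XV_sr (i : Fin l) : XV D l K (sr i) = D.rootSubgroup K (D.simple i) := by
  rw [← vec_simple hp i, XV_vec hp K (simple_lt hp.inList (lt_rank hp i))]

theorem XV_neg_sr (i : Fin l) : XV D l K (-sr i) = D.rootSubgroup K (D.neg (D.simple i)) := by
  have h := simple_lt hp.inList (lt_rank hp i)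
  rw [← vec_simple hp i, ← vec_neg hp h, XV_vec hp K (neg_lt hp.inList h)]

theorem cj_nn (i : Fin l) {r : ℕ} (hr : r < D.nroots) :
    cj (nn hp K i) (XV D l K (vec D l r)) = XV D l K (vec D l (D.reflectRoot i r)) := by
  rw [XV_vec hp K hr, XV_vec hp K (reflectRoot_lt hp.inList (lt_rank hp i) hr)]
  exact conjRoot_nG hp.inList (lt_rank hp i) hr

theorem cj_tor {t : GL D.Idx K} (ht : t ∈ D.diagonalSubgroup K) {r : ℕ} (hr : r < D.nroots) :
    cj t (XV D l K (vec D l r)) = XV D l K (vec D l r) := by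
  rw [XV_vec hp K hr]
  exact conjRoot_diagonal hp.inList ht hr

theorem XV_le_group (x : Fin l → ℤ) : XV D l K x ≤ D.group K := by
  refine iSup_le ?_
  rintro ⟨r, hr, _⟩ g hg
  obtain ⟨t, rfl⟩ := (mem_rootSubgroup_iff hp.inList r g).1 hg
  exact xG_mem_group hp.inList r t

theorem nn_mem_group (i : Fin l) : nn hp K i ∈ D.group K := Elts.nG_mem_group hp.inList _ _

theorem nn_mem_monomial (i : Fin l) : nn hp K i ∈ D.monomialSubgroup K :=
  nG_simple_mem hp.inList K (lt_rank hp i)

/-- `N` normalises `H`. -/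
theorem monomial_le : D.monomialSubgroup K ≤ Subgroup.normalizer (D.diagonalSubgroup K : Set (GL D.Idx K)) := by
  have hN := Cfsg.Agent.S1038.result (F := K) D hp.inList
  have key : ∀ g ∈ D.monomialSubgroup K, cj g (D.diagonalSubgroup K) ≤ D.diagonalSubgroup K := by
    intro g hg x hx
    rw [mem_cj] at hx
    have h1 := hN.conj_mem ⟨g⁻¹ * x * g, diagonal_le_monomial D K hx⟩ hx ⟨g, hg⟩
    rw [Subgroup.mem_subgroupOf] at h1
    have h2 : g * (g⁻¹ * x * g) * g⁻¹ = x := by group
    rw [← h2]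
    exact h1
  intro g hg
  rw [mem_normalizer_iff_cj]
  refine le_antisymm (key g hg) ?_
  have h1 := cj_mono g (key g⁻¹ (inv_mem hg))
  rwa [cj_cj_inv] at h1

variable {W : Type*} [Group W] (cs : CoxeterSystem M W)

/-- The permutation of the roots by a product of `n_i`s is the one of the Weyl group. -/
theorem exists_word (ω : List (Fin l)) :
    ∃ m : ↥(D.monomialSubgroup K), (m : GL D.Idx K) = (ω.map (nn hp K)).prod ∧
      ∀ r : Fin D.nroots, vec D l ((permHom hp.inList K m r : Fin D.nroots) : ℕ) =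
        rep cs hp.isCartan (cs.wordProd ω) (vec D l r) := by
  induction ω with
  | nil =>
    refine ⟨1, rfl, fun r => ?_⟩
    rw [map_one, wordProd_nil, map_one, Module.End.one_apply]
    rfl
  | cons i ω ih =>
    obtain ⟨m, hm, h⟩ := ih
    refine ⟨⟨nn hp K i, nn_mem_monomial hp i⟩ * m, ?_, fun r => ?_⟩
    · rw [List.map_cons, List.prod_cons, ← hm]; rfl
    · rw [map_mul, Equiv.Perm.mul_apply, permHom_nG hp.inList (lt_rank hp i) _ (coe_nG _ _ _), wordProd_cons,
        rep_mul_apply, ← h, ← rep_vec hp cs i (permHom hp.inList K m r).2]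

theorem nsys : NSys M (D.diagonalSubgroup K) (nn hp K) := by
  let cs : CoxeterSystem M M.Group := M.toCoxeterSystem
  refine ⟨fun i => monomial_le hp (nn_mem_monomial hp i), fun i j => ?_⟩
  obtain ⟨m, hm, h⟩ := exists_word (K := K) hp cs [i, j]
  have hm' : (m : GL D.Idx K) = nn hp K i * nn hp K j := by rw [hm]; simp
  have hw : cs.wordProd [i, j] = cs.simple i * cs.simple j := by simp [wordProd_cons, wordProd_nil]
  have key : ∀ k : ℕ, ∀ r : Fin D.nroots, vec D l ((permHom hp.inList K (m ^ k) r : Fin D.nroots) : ℕ) =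
      rep cs hp.isCartan ((cs.simple i * cs.simple j) ^ k) (vec D l r) := by
    intro k
    induction k with
    | zero => intro r; rw [pow_zero, map_one, pow_zero, map_one, Module.End.one_apply]; rfl
    | succ k ih =>
      intro r
      rw [pow_succ, map_mul, Equiv.Perm.mul_apply, ih, h, hw, ← rep_mul_apply, ← pow_succ]
  have h1 : permHom hp.inList K (m ^ M i j) = 1 := by
    apply Equiv.ext
    intro r
    have h2 := key (M i j) r
    have h3 : (cs.simple i * cs.simple j) ^ M i j = 1 := cs.simple_mul_simple_pow i j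
    rw [h3, map_one, Module.End.one_apply] at h2
    exact Fin.ext (vec_inj hp (Fin.is_lt _) r.2 h2)
  have h2 : m ^ M i j ∈ (permHom hp.inList K).ker := h1
  rw [ker_permHom, Subgroup.mem_subgroupOf, SubgroupClass.coe_pow, hm'] at h2
  exact h2

/-! ### The commutator relations -/

theorem wordG_mem (K' : Subgroup (GL D.Idx K)) (w : List (ℕ × K))
    (hw : ∀ c ∈ w, xG hp.inList c.1 c.2 ∈ K') : wordG hp.inList w ∈ K' := by
  induction w with
  | nil => exact one_mem _
  | cons c w ih =>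
    rw [wordG_cons]
    exact mul_mem (hw c List.mem_cons_self) (ih fun d hd => hw d (List.mem_cons_of_mem _ hd))

theorem comm_xG {r s : ℕ} (hr : r < D.nroots) (hs : s < D.nroots) (hrs : s ≠ r) (hneg : s ≠ D.neg r) (t u : K) :
    ⁅(xG hp.inList s u)⁻¹, (xG hp.inList r t)⁻¹⁆ = wordG hp.inList (D.commWord K r s t u) := by
  have h1 := Cfsg.Agent.S1025.result (F := K) D hp.inList r s hr hs hrs hneg t u
  have h2 : xG hp.inList s u * xG hp.inList r t =
      xG hp.inList r t * xG hp.inList s u * wordG hp.inList (D.commWord K r s t u) := by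
    apply Units.ext
    rw [Units.val_mul, Units.val_mul, Units.val_mul, coe_wordG, coe_xG, coe_xG]
    exact h1
  rw [commutatorElement_def, inv_inv, inv_inv]
  have h3 : (xG hp.inList s u)⁻¹ * (xG hp.inList r t)⁻¹ * xG hp.inList s u * xG hp.inList r t =
      (xG hp.inList r t * xG hp.inList s u)⁻¹ * (xG hp.inList s u * xG hp.inList r t) := by group
  rw [h3, h2]
  group

theorem comm_mem {x y : Fin l → ℤ} (hx : IsRoot cs hp.isCartan x) (hy : IsRoot cs hp.isCartan y) (hxy : x ≠ y)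
    (hxy' : x ≠ -y) {a b : GL D.Idx K} (ha : a ∈ XV D l K x) (hb : b ∈ XV D l K y) :
    ⁅a, b⁆ ∈ btw cs hp.isCartan (XV D l K) x y := by
  obtain ⟨s, hs, rfl⟩ := (isRoot_iff hp cs x).1 hx
  obtain ⟨r, hr, rfl⟩ := (isRoot_iff hp cs y).1 hy
  rw [XV_vec hp K hs, mem_rootSubgroup_iff hp.inList] at ha
  rw [XV_vec hp K hr, mem_rootSubgroup_iff hp.inList] at hb
  obtain ⟨u, rfl⟩ := ha
  obtain ⟨t, rfl⟩ := hb
  have hne : s ≠ r := fun h => hxy (by rw [h])
  have hne' : s ≠ D.neg r := fun h => hxy' (by rw [h, vec_neg hp hr])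
  have e : ⁅xG hp.inList s u, xG hp.inList r t⁆ = wordG hp.inList (D.commWord K r s (-t) (-u)) := by
    rw [← comm_xG hp hr hs hne hne', xG_inv, xG_inv, _root_.neg_neg, _root_.neg_neg]
  rw [e]
  refine wordG_mem hp _ _ ?_
  intro c hc
  have hc' : c ∈ (D.commTerms r s).map fun c => (c.1, (c.2.1 : K) * (- -t) ^ c.2.2.1 * (-u) ^ c.2.2.2) := hc
  rw [List.mem_map] at hc'
  obtain ⟨⟨v, C, i, j⟩, hv, rfl⟩ := hc'
  obtain ⟨hv1, -, -, hi, hj, hvec⟩ := commTerms_rt hp.checked hv
  have hbt : Btwn cs hp.isCartan (vec D l s) (vec D l r) (vec D l v) := by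
    refine Btwn.of_int (isRoot_vec hp cs hv1) (a := (j : ℤ)) (b := (i : ℤ)) (by exact_mod_cast hj)
      (by exact_mod_cast hi) ?_
    funext k
    rw [vec_apply, hvec, Pi.add_apply, Pi.smul_apply, Pi.smul_apply, smul_eq_mul, smul_eq_mul, vec_apply, vec_apply,
      add_comm]
  refine le_btw_of (X := XV D l K) hbt ?_
  rw [XV_vec hp K hv1]
  exact xG_mem_rootSubgroup hp.inList v _

/-! ### Rank one -/

theorem xG_neg_eq' (r : ℕ) (t : K) :
    xG hp.inList (D.neg r) t = xG hp.inList r t⁻¹ * nG hp.inList r (-t⁻¹) * xG hp.inList r t⁻¹ := by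
  rw [nG_def, inv_neg, inv_inv, _root_.neg_neg]
  have h1 : xG hp.inList r t⁻¹ * xG hp.inList r (-t⁻¹) = 1 := by
    rw [xG_add, add_neg_cancel, xG_zero]
  have h2 : xG hp.inList r (-t⁻¹) * xG hp.inList r t⁻¹ = 1 := by
    rw [xG_add, neg_add_cancel, xG_zero]
  calc xG hp.inList (D.neg r) t
      = 1 * xG hp.inList (D.neg r) t * 1 := by rw [one_mul, mul_one]
    _ = (xG hp.inList r t⁻¹ * xG hp.inList r (-t⁻¹)) * xG hp.inList (D.neg r) t *
          (xG hp.inList r (-t⁻¹) * xG hp.inList r t⁻¹) := by rw [h1, h2]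
    _ = _ := by group

theorem rk1 (i : Fin l) {g : GL D.Idx K} (hg : g ∈ XV D l K (-sr i)) (hne : g ≠ 1) :
    ∃ a ∈ XV D l K (sr i), ∃ t ∈ D.diagonalSubgroup K, ∃ b ∈ XV D l K (sr i), g = a * t * nn hp K i * b := by
  rw [XV_neg_sr hp i, mem_rootSubgroup_iff hp.inList] at hg
  obtain ⟨t, rfl⟩ := hg
  have ht : t ≠ 0 := by
    rintro rfl
    exact hne (xG_zero hp.inList _)
  have hr := simple_lt hp.inList (lt_rank hp i)
  refine ⟨xG hp.inList (D.simple i) t⁻¹, ?_, hG hp.inList (D.simple i) (-t⁻¹), ?_,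
    xG hp.inList (D.simple i) t⁻¹, ?_, ?_⟩
  · rw [XV_sr hp i]; exact xG_mem_rootSubgroup _ _ _
  · exact hG_mem_diagonal hp.inList hr (neg_ne_zero.2 (inv_ne_zero ht))
  · rw [XV_sr hp i]; exact xG_mem_rootSubgroup _ _ _
  · rw [xG_neg_eq' hp]
    have h1 : nG hp.inList (D.simple i) (-t⁻¹) = hG hp.inList (D.simple i) (-t⁻¹) * nn hp K i := by
      have h2 : nG hp.inList (D.simple i) (-1 : K) * nG hp.inList (D.simple i) 1 = 1 := by
        rw [nG_def, nG_def]
        have e1 : xG hp.inList (D.simple i) (-1 : K) * xG hp.inList (D.simple i) 1 = 1 := by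
          rw [xG_add, neg_add_cancel, xG_zero]
        have e2 : xG hp.inList (D.neg (D.simple i)) (-(-1 : K)⁻¹) * xG hp.inList (D.neg (D.simple i)) (-(1 : K)⁻¹) = 1 := by
          rw [xG_add, inv_neg, inv_one, _root_.neg_neg, add_neg_cancel, xG_zero]
        calc _ = xG hp.inList (D.simple i) (-1) * xG hp.inList (D.neg (D.simple i)) (-(-1 : K)⁻¹) *
              (xG hp.inList (D.simple i) (-1) * xG hp.inList (D.simple i) 1) *
              xG hp.inList (D.neg (D.simple i)) (-(1 : K)⁻¹) * xG hp.inList (D.simple i) 1 := by group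
          _ = xG hp.inList (D.simple i) (-1) * (xG hp.inList (D.neg (D.simple i)) (-(-1 : K)⁻¹) *
              xG hp.inList (D.neg (D.simple i)) (-(1 : K)⁻¹)) * xG hp.inList (D.simple i) 1 := by
            rw [e1]; group
          _ = 1 := by rw [e2, mul_one, e1]
      rw [hG_def, mul_assoc]
      show _ = nG hp.inList (D.simple i) (-t⁻¹) * (nG hp.inList (D.simple i) (-1) * nG hp.inList (D.simple i) 1)
      rw [h2, mul_one]
    rw [h1]
    group

/-! ### `p`-groups -/

omit hp in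
theorem eq_one_of_isPGroup {G : Type*} [Group G] {p k : ℕ} {P : Subgroup G} (hP : IsPGroup p ↥P) {g : G}
    (hg : g ∈ P) (hk : g ^ k = 1) (hpk : k.Coprime p) : g = 1 := by
  obtain ⟨n, hn⟩ := hP ⟨g, hg⟩
  have h1 : g ^ p ^ n = 1 := congrArg Subtype.val hn
  have h2 : orderOf g ∣ 1 := by
    have h3 : Nat.gcd k (p ^ n) = 1 := hpk.pow_right n
    rw [← h3]
    exact Nat.dvd_gcd (orderOf_dvd_of_pow_eq_one hk) (orderOf_dvd_of_pow_eq_one h1)
  exact orderOf_eq_one_iff.1 (Nat.dvd_one.1 h2)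

theorem pgrp (p : ℕ) [CharP K p] (r : ℕ) : IsPGroup p ↥(D.rootSubgroup K r) := by
  rintro ⟨g, hg⟩
  obtain ⟨t, rfl⟩ := (mem_rootSubgroup_iff hp.inList r g).1 hg
  refine ⟨1, ?_⟩
  rw [pow_one]
  apply Subtype.ext
  show (xG hp.inList r t) ^ p = 1
  have key : ∀ k : ℕ, (xG hp.inList r t) ^ k = xG hp.inList r ((k : K) * t) := by
    intro k
    induction k with
    | zero => rw [pow_zero, Nat.cast_zero, zero_mul, xG_zero]
    | succ k ih => rw [pow_succ, ih, xG_add, Nat.cast_succ, add_mul, one_mul]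
  rw [key, CharP.cast_eq_zero, zero_mul, xG_zero]

theorem conj_simple_ne (i : Fin l) : cj (nn hp K i) (D.rootSubgroup K (D.simple i)) ≠ D.rootSubgroup K (D.simple i) := by
  have h := simple_lt hp.inList (lt_rank hp i)
  intro h0
  have h1 := cj_nn (K := K) hp i h
  rw [XV_vec hp K h, h0] at h1
  let cs : CoxeterSystem M M.Group := M.toCoxeterSystem
  have h2 : vec D l (D.reflectRoot i (D.simple i)) = vec D l (D.neg (D.simple i)) := by
    rw [← rep_vec hp cs i h, vec_simple hp, vec_neg hp h, vec_simple hp, rep_simple_sr]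
  rw [h2, XV_vec hp K (neg_lt hp.inList h)] at h1
  exact neg_ne hp.inList h (rootSubgroup_injective hp.inList K (neg_lt hp.inList h) h h1.symm)

theorem notp (p : ℕ) [Fact p.Prime] [CharP K p] (i : Fin l) :
    ¬ IsPGroup p ↥(D.rootSubgroup K (D.simple i) ⊔ D.rootSubgroup K (D.neg (D.simple i))) := by
  intro hP
  have hpp : p.Prime := Fact.out
  have h := simple_lt hp.inList (lt_rank hp i)
  obtain ⟨φ, hφ, hφ'⟩ := Cfsg.Agent.S1030.result (F := K) D hp.inList (D.simple i) h
  let u : Matrix.SpecialLinearGroup (Fin 2) K := ⟨!![1, 1; 0, 1], by simp [Matrix.det_fin_two]⟩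
  let v : Matrix.SpecialLinearGroup (Fin 2) K := ⟨!![1, 0; -1, 1], by simp [Matrix.det_fin_two]⟩
  have hu : φ u = xG hp.inList (D.simple i) 1 := Units.ext ((hφ' u 1).1 rfl)
  have hv : φ v = xG hp.inList (D.neg (D.simple i)) (-1) := Units.ext ((hφ' v (-1)).2 rfl)
  have hn : nn hp K i = φ (u * v * u) := by
    unfold nn
    rw [nG_def, inv_one, map_mul, map_mul, hu, hv, mul_assoc]
  rcases hpp.eq_two_or_odd' with rfl | hodd
  · -- characteristic two
    have h3 : (u * v) ^ 3 = 1 := by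
      have h2 : (2 : K) = 0 := by exact_mod_cast CharP.cast_eq_zero K 2
      have h1 : (-1 : K) = 1 := by linear_combination -h2
      apply Subtype.ext
      rw [pow_succ, pow_two]
      show (!![1, 1; 0, 1] * !![1, 0; -1, 1] * (!![1, 1; 0, 1] * !![1, 0; -1, 1]) *
        (!![1, 1; 0, 1] * !![1, 0; -1, 1]) : Matrix (Fin 2) (Fin 2) K) = 1
      rw [Matrix.one_fin_two]
      have h4 : (1 : K) + 1 = 0 := by rw [one_add_one_eq_two, h2]
      simp [h1, h4]
    have h4 : φ (u * v) = 1 := by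
      refine eq_one_of_isPGroup (k := 3) hP ?_ (by rw [← map_pow, h3, map_one]) (by decide)
      rw [← hφ]; exact ⟨_, rfl⟩
    apply conj_simple_ne (K := K) hp i
    rw [hn, map_mul, h4, one_mul, hu]
    exact cj_eq_of_mem (xG_mem_rootSubgroup hp.inList _ _)
  · have h3 : (u * v * u) ^ 4 = 1 := by
      apply Subtype.ext
      rw [pow_succ, pow_succ, pow_two]
      show (!![1, 1; 0, 1] * !![1, 0; -1, 1] * !![1, 1; 0, 1] * (!![1, 1; 0, 1] * !![1, 0; -1, 1] * !![1, 1; 0, 1]) *
        (!![1, 1; 0, 1] * !![1, 0; -1, 1] * !![1, 1; 0, 1]) *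
        (!![1, 1; 0, 1] * !![1, 0; -1, 1] * !![1, 1; 0, 1]) : Matrix (Fin 2) (Fin 2) K) = 1
      rw [Matrix.one_fin_two]
      simp
    have h4 : φ (u * v * u) = 1 := by
      refine eq_one_of_isPGroup (k := 4) hP ?_ (by rw [← map_pow, h3, map_one]) ?_
      · rw [← hφ]; exact ⟨_, rfl⟩
      · have : Nat.Coprime 2 p := (Nat.coprime_two_left).2 hodd
        exact Nat.Coprime.pow_left 2 this
    apply conj_simple_ne (K := K) hp i
    rw [hn, h4]
    exact cj_one _

theorem tcop [Finite K] (p : ℕ) [Fact p.Prime] [CharP K p] : (Nat.card ↥(D.diagonalSubgroup K)).Coprime p := by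
  have hpp : p.Prime := Fact.out
  rw [Nat.coprime_comm, hpp.coprime_iff_not_dvd]
  intro hdvd
  have : Finite (GL D.Idx K) := inferInstance
  obtain ⟨g, hg⟩ := exists_prime_orderOf_dvd_card' p hdvd
  obtain ⟨χ, hχ⟩ := HMatDiagAll.mem_torus.1 (HMatDiagAll.diagonalSubgroup_le_torus hp.inList g.2)
  have h1 : (g : GL D.Idx K) ^ p = 1 := by
    rw [← SubgroupClass.coe_pow, ← hg, pow_orderOf_eq_one]; rfl
  have h2 : ∀ s, χ s = 1 := by
    intro s
    have h3 : ((g : GL D.Idx K) : Matrix D.Idx D.Idx K) ^ p = 1 := by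
      rw [← Units.val_pow_eq_pow_val, h1, Units.val_one]
    rw [hχ, Matrix.diagonal_pow] at h3
    have h4 := congrFun (congrFun h3 (Sum.inr s)) (Sum.inr s)
    rw [Matrix.diagonal_apply_eq, Matrix.one_apply_eq, Pi.pow_apply] at h4
    have h5 : (χ s) ^ p = 1 ^ p := by rw [one_pow]; exact h4
    exact frobenius_inj K p h5
  have h3 : (g : GL D.Idx K) = 1 := by
    apply Units.ext
    rw [hχ, Units.val_one, ← Matrix.diagonal_one]
    congr 1
    funext i
    rcases i with i | i
    · rfl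
    · exact h2 i
  have h4 : g = 1 := Subtype.ext h3
  rw [h4, orderOf_one] at hg
  exact hpp.one_lt.ne hg

/-! ### The root group datum -/

/-- **The root group datum of the Chevalley groups**, in the general linear group. -/
theorem rgd_GL [Finite K] (p : ℕ) [Fact p.Prime] [CharP K p] :
    RGD cs hp.isCartan p (D.diagonalSubgroup K) (nn hp K) (XV D l K) where
  nsys := nsys hp
  conj i x hx := by
    obtain ⟨r, hr, rfl⟩ := (isRoot_iff hp cs x).1 hx
    rw [cj_nn hp i hr, rep_vec hp cs i hr]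
  tor x hx t ht := by
    obtain ⟨r, hr, rfl⟩ := (isRoot_iff hp cs x).1 hx
    exact cj_tor hp ht hr
  comm x y hx hy hxy hxy' a ha b hb := comm_mem hp cs hx hy hxy hxy' ha hb
  rk1 i u hu hne := rk1 hp i hu hne
  pgrp i := by rw [XV_sr hp]; exact pgrp hp p _
  notp i := by rw [XV_sr hp, XV_neg_sr hp]; exact notp hp p i
  tcop := tcop hp p

/-- **The root group datum of the Chevalley groups** `D.group K`. -/
theorem rgd [Finite K] (p : ℕ) [Fact p.Prime] [CharP K p] :
    RGD cs hp.isCartan p ((D.diagonalSubgroup K).subgroupOf (D.group K))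
      (fun i => (⟨nn hp K i, nn_mem_group hp i⟩ : ↥(D.group K)))
      (fun x => (XV D l K x).subgroupOf (D.group K)) :=
  RGDLib.rgd_restrict (rgd_GL hp cs p) (D.group K) (fun x _ => XV_le_group hp x) (nn_mem_group hp)

/-- The root groups generate `D.group K`. -/
theorem G1_eq_top : RGDLib.G1 cs hp.isCartan (fun x => (XV D l K x).subgroupOf (D.group K)) = ⊤ := by
  rw [eq_top_iff]
  rintro ⟨g, hg⟩ -
  have h1 : D.group K ≤ (RGDLib.G1 cs hp.isCartan (fun x => (XV D l K x).subgroupOf (D.group K))).map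
      (D.group K).subtype := by
    rw [group_le_iff hp.inList]
    intro r hr t
    refine ⟨⟨xG hp.inList r t, xG_mem_group hp.inList r t⟩, ?_, rfl⟩
    refine RGDLib.X_le_G1 (isRoot_vec hp cs hr) ?_
    rw [Subgroup.mem_subgroupOf, XV_vec hp K hr]
    exact xG_mem_rootSubgroup hp.inList r t
  obtain ⟨g', hg', e⟩ := h1 hg
  have : g' = ⟨g, hg⟩ := Subtype.ext e
  rw [← this]
  exact hg'

theorem gen [Finite K] (p : ℕ) [Fact p.Prime] [CharP K p] :
    RGD.B cs hp.isCartan ((D.diagonalSubgroup K).subgroupOf (D.group K))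
      (fun x => (XV D l K x).subgroupOf (D.group K)) ⊔ NN cs (rgd (K := K) hp cs p).nsys = ⊤ :=
  RGDLib.rgd_gen_of_G1 (rgd hp cs p) (G1_eq_top hp cs)

theorem iSup_X_eq_top : (⨆ x : Fin l → ℤ, (XV D l K x).subgroupOf (D.group K)) = ⊤ := by
  rw [← top_le_iff, ← G1_eq_top hp (M.toCoxeterSystem) (K := K)]
  exact iSup_le fun z => le_iSup (fun x : Fin l → ℤ => (XV D l K x).subgroupOf (D.group K)) z.1

end Groups

/-! ### Abstract form -/

theorem hasRGD_group {D : ChevalleyDatum} {l : ℕ} {M : CoxeterMatrix (Fin l)} (hp : IsType D l M) (K : Type u)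
    [Field K] [Finite K] (p : ℕ) [CharP K p] : HasRGD p ↥(D.group K) := by
  have : Fact p.Prime := ⟨CharP.char_is_prime K p⟩
  exact ⟨l, M, cartanOf D l, hp.isCartan, _, _, _, finite_W hp M.toCoxeterSystem,
    rgd (K := K) hp M.toCoxeterSystem p, G1_eq_top hp _⟩

theorem hasRGD_G2 (K : Type u) [Field K] [Finite K] (p : ℕ) [CharP K p] : HasRGD p ↥(chevG2.group K) :=
  hasRGD_group (l := 2) (M := CoxeterMatrix.G₂) (by simp [IsType, typeList]) K p

theorem hasRGD_B2 (K : Type u) [Field K] [Finite K] (p : ℕ) [CharP K p] : HasRGD p ↥(chevB2.group K) :=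
  hasRGD_group (l := 2) (M := CoxeterMatrix.B 2) (by simp [IsType, typeList]) K p

theorem hasRGD_D4 (K : Type u) [Field K] [Finite K] (p : ℕ) [CharP K p] : HasRGD p ↥(chevD4.group K) :=
  hasRGD_group (l := 4) (M := coxeterD4) (by simp [IsType, typeList]) K p

theorem hasRGD_F4 (K : Type u) [Field K] [Finite K] (p : ℕ) [CharP K p] : HasRGD p ↥(chevF4.group K) :=
  hasRGD_group (l := 4) (M := CoxeterMatrix.F₄) (by simp [IsType, typeList]) K p

theorem hasRGD_E6 (K : Type u) [Field K] [Finite K] (p : ℕ) [CharP K p] : HasRGD p ↥(chevE6.group K) :=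
  hasRGD_group (l := 6) (M := CoxeterMatrix.E₆) (by simp [IsType, typeList]) K p

theorem hasRGD_E7 (K : Type u) [Field K] [Finite K] (p : ℕ) [CharP K p] : HasRGD p ↥(chevE7.group K) :=
  hasRGD_group (l := 7) (M := CoxeterMatrix.E₇) (by simp [IsType, typeList]) K p

theorem hasRGD_E8 (K : Type u) [Field K] [Finite K] (p : ℕ) [CharP K p] : HasRGD p ↥(chevE8.group K) :=
  hasRGD_group (l := 8) (M := CoxeterMatrix.E₈) (by simp [IsType, typeList]) K p

/-- Every exceptional Chevalley group of characteristic `p` has a root group datum of characteristic `p`. -/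
theorem hasRGD_of_exceptional {p : ℕ} {G : Type*} [Group G] (hG : IsExceptionalChevChar p G) : HasRGD p G := by
  obtain ⟨F, _, _, _, ⟨-, ⟨e⟩⟩ | ⟨⟨e⟩⟩ | ⟨⟨e⟩⟩ | ⟨⟨e⟩⟩ | ⟨⟨e⟩⟩⟩ := hG
  · exact (hasRGD_G2 F p).of_equiv e.symm
  · exact (hasRGD_F4 F p).of_equiv e.symm
  · exact (hasRGD_E6 F p).of_equiv e.symm
  · exact (hasRGD_E7 F p).of_equiv e.symm
  · exact (hasRGD_E8 F p).of_equiv e.symm

end Cfsg.Agent.Nodes.RGDChev
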