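import Cfsg.Agent.Nodes.RGDFold
import Cfsg.Agent.ChevalleyStructure.TwE6BN
import Cfsg.Agent.ChevalleyStructure.TwistedE6U

/-!
The root group datum of `²E₆(q)`, of type `F₄`: nodes `0, 1` = `{p₂}, {p₄}` (long roots, root groups of order `q`),
nodes `2, 3` = `{p₃, p₅}, {p₁, p₆}` (short roots, root groups of order `q²`).
-/

set_option autoImplicit false
set_option linter.unusedSectionVars false
set_option maxHeartbeats 400000
set_option Elab.async false

namespace Cfsg.Agent.Nodes.RGDTwE6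

open CoxeterSystem Cfsg.Agent.ChevalleyStructure.CoxeterGeom Cfsg.Agent.Tits.Roots Cfsg.Agent.Tits.Core
  Cfsg.Agent.Nodes.BNOf Cfsg.Agent.Nodes.RGDTwGen Cfsg.Agent.Nodes.RGDChev Cfsg.Agent.Nodes.RGDFold
open Cfsg.Lie Cfsg.Agent.ChevalleyStructure
  Cfsg.Agent.ChevalleyStructure.TwistedU Cfsg.Agent.ChevalleyStructure.TwistedFix
open Cfsg.Agent.ChevalleyStructure.GraphSymm
open Cfsg.Agent.ChevalleyStructure.TwE6Basic (posE negE sg fix n exists_frob twisted_le_fix twisted_le_iff)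
open Cfsg.Agent.ChevalleyStructure.TwE6BN (rs rs_le x_mem_rs)

universe u

/-- the blocks -/
def J : Fin 4 → List (Fin 6) := ![[1], [3], [2, 4], [0, 5]]

/-- the Cartan matrix: nodes 0, 1 long, nodes 2, 3 short -/
def A : Fin 4 → Fin 4 → ℤ := ![![2, -1, 0, 0], ![-1, 2, -1, 0], ![0, -2, 2, -1], ![0, 0, -1, 2]]

set_option backward.isDefEq.respectTransparency false in
theorem isCartan : IsCartan CoxeterMatrix.F₄ A := by constructor <;> decide +kernel

theorem foldData : FoldData chevE6 CoxeterMatrix.F₄ A J TwistedE6U.L where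
  wp_V := by decide +kernel
  base := by decide +kernel
  reach := by decide +kernel
  rel := by decide +kernel
  posL := by decide +kernel
  negL := by decide +kernel
  isPos := by decide +kernel
  clsL := by decide +kernel
  goodL := by decide +kernel

theorem hp : IsType chevE6 6 CoxeterMatrix.E₆ := by simp [IsType, typeList]

theorem cls : ∀ i : Fin 4, ∀ k < chevE6.nroots, (V chevE6 J k = sr i ↔ k ∈ posE i) := by decide +kernel
theorem cls' : ∀ i : Fin 4, ∀ k < chevE6.nroots, (V chevE6 J k = -sr i ↔ k ∈ negE i) := by decide +kernel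
theorem posE_lt : ∀ i : Fin 4, ∀ k ∈ posE i, k < chevE6.nroots := by decide +kernel
theorem negE_lt : ∀ i : Fin 4, ∀ k ∈ negE i, k < chevE6.nroots := by decide +kernel

section

variable {K : Type u} [Field K]

theorem nI_eq (i : Fin 4) : nI hp K (J i) = n (K := K) i := by
  fin_cases i <;> rfl

theorem rspan_eq (A : List ℕ) : rspan (Elts.xG (F := K) hp.inList) {k | k ∈ A} = rs K A := by
  apply le_antisymm
  · exact rspan_le _ fun s hs t => x_mem_rs hs t
  · exact rs_le fun r hr t => mem_rspan (Elts.xG (F := K) hp.inList) (S := {k | k ∈ A}) hr t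

theorem fixS_eq (φ : K →+* K) : fixS (sg φ) = fix φ := rfl

theorem R_pos (φ : K →+* K) (i : Fin 4) : R chevE6 hp K J (sg φ) (sr i) = rs K (posE i) ⊓ fix φ := by
  rw [R_eq (cls i) (posE_lt i), rspan_eq, fixS_eq]

theorem R_neg (φ : K →+* K) (i : Fin 4) : R chevE6 hp K J (sg φ) (-sr i) = rs K (negE i) ⊓ fix φ := by
  rw [R_eq (cls' i) (negE_lt i), rspan_eq, fixS_eq]

end

section Group

variable {K : Type u} [Field K] {q : ℕ} {φ : K →+* K}

theorem foldGrp [Fintype K] (hφ : ∀ x, φ x = x ^ q) (hqq : ∀ t : K, (t ^ q) ^ q = t) :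
    FoldGrp hp K J TwistedE6U.L (sg φ) TwistedE6Sigma.rho TwistedE6Sigma.rho
      (fun r t => ((TwistedE6Sigma.eps r : ℤ) : K) * φ t) (twistedE6 K q) where
  setup := TwistedE6U.setup φ
  nfix i := by
    rw [nI_eq]; exact twisted_le_fix φ hφ hqq (TwE6BN.n_mem_G φ hφ i)
  G_le := twisted_le_fix φ hφ hqq
  nG i := by
    rw [nI_eq]; exact TwE6BN.n_mem_G φ hφ i
  rk1 i u hu hu' hu1 := by
    rw [R_neg] at hu'
    rw [R_pos, nI_eq]
    obtain ⟨a, ha, haG, t, ht, htG, e⟩ := TwE6BN.rank_one φ hφ hqq i hu'.1 hu hu1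
    exact ⟨a, ⟨ha, twisted_le_fix φ hφ hqq haG⟩, t, ⟨ht, htG⟩, a, ⟨ha, twisted_le_fix φ hφ hqq haG⟩, e⟩
  XG i := by
    rw [R_pos]
    exact fun g hg => TwE6BN.X_fix_le φ hφ i hg.1 hg.2
  ne i := by
    rw [R_pos]
    intro h0
    obtain ⟨g, hg, hgG, hg1⟩ := TwE6BN.exists_ne_one (K := K) q i
    have h1 : g ∈ rs K (posE i) ⊓ fix φ := ⟨hg, twisted_le_fix φ hφ hqq hgG⟩
    rw [h0, Subgroup.mem_bot] at h1
    exact hg1 h1
  gen := by
    have hpos : ∀ i, rs K (posE i) ⊓ fix φ ≤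
        ⨆ i, (R chevE6 hp K J (sg φ) (sr i) ⊔ R chevE6 hp K J (sg φ) (-sr i)) := fun i => by
      rw [← R_pos]
      exact le_sup_left.trans (le_iSup (fun i => R chevE6 hp K J (sg φ) (sr i) ⊔ R chevE6 hp K J (sg φ) (-sr i)) i)
    have hneg : ∀ i, rs K (negE i) ⊓ fix φ ≤
        ⨆ i, (R chevE6 hp K J (sg φ) (sr i) ⊔ R chevE6 hp K J (sg φ) (-sr i)) := fun i => by
      rw [← R_neg]
      exact le_sup_right.trans (le_iSup (fun i => R chevE6 hp K J (sg φ) (sr i) ⊔ R chevE6 hp K J (sg φ) (-sr i)) i)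
    revert hpos hneg
    generalize (⨆ i, (R chevE6 hp K J (sg φ) (sr i) ⊔ R chevE6 hp K J (sg φ) (-sr i))) = S
    intro hpos hneg
    have hle := twisted_le_fix φ hφ hqq
    rw [twisted_le_iff]
    constructor
    · intro t ht r hr
      have hG := hle (TwE6Basic.single_mem (K := K) ht hr)
      simp only [List.mem_cons, List.not_mem_nil, or_false] at hr
      rcases hr with rfl | rfl | rfl | rfl
      · exact hpos 0 ⟨x_mem_rs (by decide +kernel) t, hG⟩
      · exact hneg 0 ⟨x_mem_rs (by decide +kernel) t, hG⟩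
      · exact hpos 1 ⟨x_mem_rs (by decide +kernel) t, hG⟩
      · exact hneg 1 ⟨x_mem_rs (by decide +kernel) t, hG⟩
    · intro t rs' hr
      have hG := hle (TwE6Basic.pair_mem (K := K) (q := q) t hr)
      simp only [List.mem_cons, List.not_mem_nil, or_false] at hr
      rcases hr with rfl | rfl | rfl | rfl
      · exact hpos 3 ⟨mul_mem (x_mem_rs (by decide +kernel) t) (x_mem_rs (by decide +kernel) _), hG⟩
      · exact hneg 3 ⟨mul_mem (x_mem_rs (by decide +kernel) t) (x_mem_rs (by decide +kernel) _), hG⟩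
      · exact hpos 2 ⟨mul_mem (x_mem_rs (by decide +kernel) t) (x_mem_rs (by decide +kernel) _), hG⟩
      · exact hneg 2 ⟨mul_mem (x_mem_rs (by decide +kernel) t) (x_mem_rs (by decide +kernel) _), hG⟩

/-- The root group of the relative root `z` in `²E₆(q)`. -/
noncomputable def X (φ : K →+* K) (q : ℕ) (z : Fin 4 → ℤ) : Subgroup ↥(twistedE6 K q) :=
  (R chevE6 hp K J (sg φ) z).subgroupOf (twistedE6 K q)

/-- The torus. -/
def T (K : Type u) [Field K] (q : ℕ) : Subgroup ↥(twistedE6 K q) :=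
  (chevE6.diagonalSubgroup K ⊓ twistedE6 K q).subgroupOf (twistedE6 K q)

/-- The reflections. -/
def nn (hφ : ∀ x, φ x = x ^ q) (i : Fin 4) : ↥(twistedE6 K q) :=
  ⟨nI hp K (J i), by rw [nI_eq]; exact TwE6BN.n_mem_G φ hφ i⟩

variable {W : Type*} [Group W] (cs : CoxeterSystem CoxeterMatrix.F₄ W)

/-- **The root group datum of `²E₆(q)`.** -/
theorem rgd [Fintype K] (hφ : ∀ x, φ x = x ^ q) (hqq : ∀ t : K, (t ^ q) ^ q = t) (p : ℕ) [Fact p.Prime]
    [CharP K p] : RGD cs isCartan p (T K q) (nn hφ) (X φ q) :=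
  RGDFold.rgd cs isCartan foldData (foldGrp hφ hqq) p

theorem G1_eq_top [Fintype K] (hφ : ∀ x, φ x = x ^ q) (hqq : ∀ t : K, (t ^ q) ^ q = t) :
    RGDLib.G1 cs isCartan (X φ q) = ⊤ := by
  obtain ⟨p, hp'⟩ := CharP.exists K
  have : Fact p.Prime := ⟨CharP.char_is_prime K p⟩
  exact RGDFold.G1_eq_top cs isCartan foldData (foldGrp hφ hqq) p

end Group

/-- `²E₆(q)` has a root group datum of its characteristic. -/
theorem hasRGD {K : Type u} [Field K] [Fintype K] {q : ℕ} (hq : IsPrimePow q) (hK : Fintype.card K = q ^ 2)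
    (p : ℕ) [CharP K p] : HasRGD p ↥(twistedE6 K q) := by
  obtain ⟨φ, hφ, hqq⟩ := exists_frob hq hK
  exact RGDFold.hasRGD foldData (foldGrp hφ hqq) p isCartan

end Cfsg.Agent.Nodes.RGDTwE6
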