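import Cfsg.Agent.Nodes.RGDTwGen
import Cfsg.Agent.Nodes.RGDChev

/-!
Root group data of the twisted groups obtained by folding a tabulated Chevalley group `D` of rank `l` along the
blocks `J i`, `i : Fin m`, of simple roots: the table checks are collected in `FoldData`, the properties of the
group in `FoldGrp`; result: `FoldGrp.twIn`, `FoldGrp.rgd`.
-/

set_option autoImplicit false
set_option linter.unusedSectionVars false
set_option maxHeartbeats 400000

namespace Cfsg.Agent.Nodes.RGDFold

open CoxeterSystem Cfsg.Agent.ChevalleyStructure.CoxeterGeom Cfsg.Agent.Tits.Roots Cfsg.Agent.Tits.Core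
  Cfsg.Agent.Tits.RootComb Cfsg.Agent.Nodes.Comb Cfsg.Agent.Nodes.Reps Cfsg.Agent.Nodes.BNOf
  Cfsg.Agent.Nodes.RGDTwGen Cfsg.Agent.Nodes.RGDChev
open Cfsg.Lie Cfsg.Agent.ChevalleyStructure Cfsg.Agent.ChevalleyStructure.Elts
  Cfsg.Agent.ChevalleyStructure.RootVec Cfsg.Agent.ChevalleyStructure.RootVecTab
  Cfsg.Agent.ChevalleyStructure.NPerm Cfsg.Agent.ChevalleyStructure.CoxeterGeomTypes
  Cfsg.Agent.ChevalleyStructure.TwistedU Cfsg.Agent.ChevalleyStructure.TwistedFix
open scoped commutatorElement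

universe u

section Comb

variable {l m : ℕ}

/-- The relative root of the root `r`. -/
def V (D : ChevalleyDatum) (J : Fin m → List (Fin l)) (r : ℕ) : Fin m → ℤ :=
  fun i => ((J i).map fun j : Fin l => rt D r (j : ℕ)).sum

/-- The product of the reflections of a block. -/
def wp (D : ChevalleyDatum) (o : List (Fin l)) (r : ℕ) : ℕ := o.foldr (fun j r => D.reflectRoot j r) r

/-- The roots in the commutator of `x_r` and `x_s`. -/
def CC (D : ChevalleyDatum) (r s : ℕ) : Set ℕ := {k | ∃ c ∈ D.commTerms s r, c.1 = k}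

/-- The reflection. -/
def refl (A : Fin m → Fin m → ℤ) (i : Fin m) (v : Fin m → ℤ) : Fin m → ℤ := v - pairing A i v • sr i

/-- `V r` is simple. -/
def simpleB (D : ChevalleyDatum) (J : Fin m → List (Fin l)) (r : ℕ) : Bool :=
  (List.finRange m).any fun i => decide (V D J r = sr i)

/-- `V r` can be moved to a simple root by descent. -/
def reachB (D : ChevalleyDatum) (J : Fin m → List (Fin l)) (A : Fin m → Fin m → ℤ) : ℕ → ℕ → Bool
  | 0, r => simpleB D J r
  | f + 1, r => simpleB D J r || (List.finRange m).any fun i =>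
      decide (0 < pairing A i (V D J r)) && reachB D J A f (wp D (J i) r)

/-- The list of roots is good. -/
def goodB (D : ChevalleyDatum) : List ℕ → Bool
  | [] => true
  | r :: L => (L.all fun s => (D.commTerms s r).all fun c => decide (c.1 ∈ L)) && goodB D L

/-- The table checks. -/
structure FoldData (D : ChevalleyDatum) (M : CoxeterMatrix (Fin m)) (A : Fin m → Fin m → ℤ)
    (J : Fin m → List (Fin l)) (L : List (List ℕ)) : Prop where
  wp_V : ∀ r < D.nroots, ∀ i, V D J (wp D (J i) r) = refl A i (V D J r)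
  base : ∀ i, ∃ r < D.nroots, V D J r = sr i
  reach : ∀ r ∈ L.flatten, reachB D J A 20 r = true
  rel : ∀ i j, ∀ r < D.nroots, (fun r => wp D (J i) (wp D (J j) r))^[M i j] r = r
  posL : ∀ r < D.nroots, (r ∈ L.flatten ↔ ∀ i, 0 ≤ V D J r i)
  negL : ∀ r < D.nroots, r ∈ L.flatten ∨ D.neg r ∈ L.flatten
  isPos : ∀ r ∈ L.flatten, D.IsPosRoot r
  clsL : ∀ o ∈ L, ∀ r ∈ o, ∀ s < D.nroots, (s ∈ o ↔ V D J s = V D J r)
  goodL : goodB D L.flatten = true

variable {D : ChevalleyDatum} {M : CoxeterMatrix (Fin m)} {A : Fin m → Fin m → ℤ}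
    {J : Fin m → List (Fin l)} {L : List (List ℕ)}

theorem V_apply (r : ℕ) (i : Fin m) : V D J r i = ((J i).map fun j : Fin l => rt D r (j : ℕ)).sum := rfl

theorem V_linear {u r s : ℕ} {a b : ℤ} (h : ∀ k : ℕ, rt D u k = a * rt D r k + b * rt D s k) :
    V D J u = a • V D J r + b • V D J s := by
  funext i
  rw [Pi.add_apply, Pi.smul_apply, Pi.smul_apply, V_apply, V_apply, V_apply, smul_eq_mul, smul_eq_mul]
  induction J i with
  | nil => simp
  | cons j o ih =>
    rw [List.map_cons, List.map_cons, List.map_cons, List.sum_cons, List.sum_cons, List.sum_cons, ih, h]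
    ring

theorem V_neg (hc : Checked D) {r : ℕ} (hr : r < D.nroots) : V D J (D.neg r) = -V D J r := by
  have h := V_linear (D := D) (J := J) (u := D.neg r) (r := r) (s := r) (a := -1) (b := 0) fun k => by
    rw [rt_neg hc hr]; ring
  rw [h, zero_smul, add_zero, neg_smul, one_smul]

theorem goodC_of_goodB : ∀ {l : List ℕ}, goodB D l = true → GoodC (CC D) l := by
  intro l
  induction l with
  | nil => intro _; exact trivial
  | cons r l ih =>
    intro h
    unfold goodB at h
    rw [Bool.and_eq_true] at h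
    refine ⟨fun s hs k hk => ?_, ih h.2⟩
    obtain ⟨c, hc, rfl⟩ := hk
    exact of_decide_eq_true (List.all_eq_true.1 (List.all_eq_true.1 h.1 s hs) c hc)

variable {W : Type*} [Group W] {cs : CoxeterSystem M W} {h : IsCartan M A}

theorem rep_refl (i : Fin m) (v : Fin m → ℤ) : rep cs h (cs.simple i) v = refl A i v := rep_simple_eq cs h i v

namespace FoldData

variable (F : FoldData D M A J L)

include F

theorem ltL {r : ℕ} (hr : r ∈ L.flatten) : r < D.nroots := (F.isPos r hr).1

theorem isRoot_of_reachB (hwp : ∀ i : Fin m, ∀ r < D.nroots, wp D (J i) r < D.nroots) : ∀ (f r : ℕ), r < D.nroots →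
    reachB D J A f r = true → IsRoot cs h (V D J r) := by
  have h0 : ∀ r, simpleB D J r = true → IsRoot cs h (V D J r) := by
    intro r hr
    unfold simpleB at hr
    obtain ⟨i, -, e⟩ := List.any_eq_true.1 hr
    rw [of_decide_eq_true e]
    exact isRoot_sr cs h i
  intro f
  induction f with
  | zero => intro r _ hr; exact h0 r hr
  | succ f ih =>
    intro r hr hf
    unfold reachB at hf
    rw [Bool.or_eq_true] at hf
    rcases hf with h1 | h1
    · exact h0 r h1
    · obtain ⟨i, -, e⟩ := List.any_eq_true.1 h1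
      rw [Bool.and_eq_true] at e
      have h2 := ih _ (hwp i r hr) e.2
      rw [F.wp_V r hr, ← rep_refl (cs := cs) (h := h)] at h2
      have h3 := h2.act (cs.simple i)
      rwa [← rep_mul_apply, cs.simple_mul_simple_self, map_one, Module.End.one_apply] at h3

theorem isRoot_iff (hc : Checked D) (hwp : ∀ i : Fin m, ∀ r < D.nroots, wp D (J i) r < D.nroots) (z : Fin m → ℤ) :
    IsRoot cs h z ↔ ∃ r < D.nroots, V D J r = z := by
  constructor
  · rintro ⟨w, i, rfl⟩
    obtain ⟨ω, rfl⟩ := cs.wordProd_surjective w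
    induction ω with
    | nil =>
      rw [wordProd_nil, map_one, Module.End.one_apply]
      exact F.base i
    | cons j ω ih =>
      obtain ⟨r, hr, e⟩ := ih
      refine ⟨wp D (J j) r, hwp j r hr, ?_⟩
      rw [wordProd_cons, rep_mul_apply, ← e, rep_refl, F.wp_V r hr]
  · rintro ⟨r, hr, rfl⟩
    rcases F.negL r hr with h1 | h1
    · exact F.isRoot_of_reachB hwp 20 r hr (F.reach r h1)
    · have h2 := F.isRoot_of_reachB (cs := cs) (h := h) hwp 20 _ (F.ltL h1) (F.reach _ h1)
      rw [V_neg hc hr] at h2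
      have h3 := h2.neg
      rwa [_root_.neg_neg] at h3

end FoldData

end Comb

/-! ### The monomial elements -/

section Group

variable {D : ChevalleyDatum} {l : ℕ} {M' : CoxeterMatrix (Fin l)} (hp : IsType D l M') (K : Type u) [Field K]

/-- The product of the `n_j(1)` of a block. -/
def nI (o : List (Fin l)) : GL D.Idx K := (o.map (nn hp K)).prod

theorem nI_cons (j : Fin l) (o : List (Fin l)) : nI hp K (j :: o) = nn hp K j * nI hp K o := by
  unfold nI; rw [List.map_cons, List.prod_cons]

include hp in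
theorem wp_lt (o : List (Fin l)) {r : ℕ} (hr : r < D.nroots) : wp D o r < D.nroots := by
  induction o with
  | nil => exact hr
  | cons j o ih => exact reflectRoot_lt hp.inList (lt_rank hp j) ih

theorem cj_nI (o : List (Fin l)) {r : ℕ} (hr : r < D.nroots) :
    cj (nI hp K o) (D.rootSubgroup K r) = D.rootSubgroup K (wp D o r) := by
  induction o with
  | nil => exact cj_one _
  | cons j o ih =>
    rw [nI_cons, cj_mul, ih]
    exact conjRoot_nG hp.inList (lt_rank hp j) (wp_lt hp o hr)

theorem nI_mem (o : List (Fin l)) : nI hp K o ∈ D.monomialSubgroup K := by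
  unfold nI
  refine Subgroup.list_prod_mem _ ?_
  intro g hg
  obtain ⟨j, hj, rfl⟩ := List.mem_map.1 hg
  exact nn_mem_monomial hp j

theorem permHom_nI (o : List (Fin l)) (r : Fin D.nroots) :
    ((permHom hp.inList K ⟨nI hp K o, nI_mem hp K o⟩ r : Fin D.nroots) : ℕ) = wp D o r := by
  have h1 : permHom hp.inList K ⟨nI hp K o, nI_mem hp K o⟩ r = ⟨wp D o r, wp_lt hp o r.2⟩ := by
    apply permHom_eq_of_conj
    exact cj_nI hp K o r.2
  rw [h1]

/-- A monomial element permuting the roots trivially is in the torus. -/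
theorem pow_mem {m : ℕ} {J : Fin m → List (Fin l)} {i j : Fin m} {k : ℕ}
    (hk : ∀ r < D.nroots, (fun r => wp D (J i) (wp D (J j) r))^[k] r = r) :
    (nI hp K (J i) * nI hp K (J j)) ^ k ∈ D.diagonalSubgroup K := by
  set g : ↥(D.monomialSubgroup K) := ⟨nI hp K (J i), nI_mem hp K _⟩ * ⟨nI hp K (J j), nI_mem hp K _⟩ with hg
  have key : ∀ k : ℕ, ∀ r : Fin D.nroots, ((permHom hp.inList K (g ^ k) r : Fin D.nroots) : ℕ) =
      (fun r => wp D (J i) (wp D (J j) r))^[k] r := by
    intro k
    induction k with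
    | zero => intro r; rw [pow_zero, map_one]; rfl
    | succ k ih =>
      intro r
      rw [pow_succ', map_mul, Equiv.Perm.mul_apply, Function.iterate_succ_apply', ← ih, hg, map_mul,
        Equiv.Perm.mul_apply, permHom_nI, permHom_nI]
  have h1 : permHom hp.inList K (g ^ k) = 1 := by
    apply Equiv.ext
    intro r
    exact Fin.ext ((key k r).trans (hk r r.2))
  have h2 : g ^ k ∈ (permHom hp.inList K).ker := h1
  rw [ker_permHom, Subgroup.mem_subgroupOf, SubgroupClass.coe_pow] at h2
  exact h2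

/-! ### The group -/

variable {m : ℕ} {M : CoxeterMatrix (Fin m)} {W : Type*} [Group W] (cs : CoxeterSystem M W)
  {A : Fin m → Fin m → ℤ} (h : IsCartan M A)

/-- The root group of the vector `z`. -/
abbrev R (D : ChevalleyDatum) {l : ℕ} {M' : CoxeterMatrix (Fin l)} (hp : IsType D l M') (K : Type u) [Field K]
    {m : ℕ} (J : Fin m → List (Fin l)) (σ : GL D.Idx K →* GL D.Idx K) (z : Fin m → ℤ) : Subgroup (GL D.Idx K) :=
  RX (xG hp.inList) D.nroots (V D J) σ z

omit cs h in
theorem R_eq {hp : IsType D l M'} {K : Type u} [Field K] {J : Fin m → List (Fin l)}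
    {σ : GL D.Idx K →* GL D.Idx K} {z : Fin m → ℤ} {o : List ℕ}
    (ho : ∀ k < D.nroots, (V D J k = z ↔ k ∈ o)) (ho' : ∀ k ∈ o, k < D.nroots) :
    R D hp K J σ z = rspan (xG hp.inList) {k | k ∈ o} ⊓ fixS σ := by
  have e : {k | k < D.nroots ∧ V D J k = z} = {k | k ∈ o} := by
    ext k
    exact ⟨fun hk => (ho k hk.1).1 hk.2, fun hk => ⟨ho' k hk, (ho k (ho' k hk)).2 hk⟩⟩
  show rspan _ _ ⊓ _ = _
  rw [e]

omit cs h in
theorem commute_of_nil (hp : IsType D l M') {K : Type u} [Field K] {r s : ℕ} (hr : r < D.nroots) (hs : s < D.nroots)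
    (hrs : s ≠ r) (hneg : s ≠ D.neg r) (hnil : D.commTerms r s = []) (t u : K) :
    Commute (xG hp.inList r t) (xG hp.inList s u) := by
  have h1 := Cfsg.Agent.S1025.result (F := K) D hp.inList r s hr hs hrs hneg t u
  have h2 : xG hp.inList s u * xG hp.inList r t =
      xG hp.inList r t * xG hp.inList s u * wordG hp.inList (D.commWord K r s t u) := by
    apply Units.ext
    rw [Units.val_mul, Units.val_mul, Units.val_mul, coe_wordG, coe_xG, coe_xG]
    exact h1
  have h3 : D.commWord K r s t u = [] := by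
    unfold ChevalleyDatum.commWord
    rw [hnil]
    rfl
  rw [h3, wordG_nil, mul_one] at h2
  exact h2.symm

/-- The properties of the twisted group `G`. -/
structure FoldGrp (J : Fin m → List (Fin l)) (L : List (List ℕ)) (σ : GL D.Idx K →* GL D.Idx K) (ρ ρ' : ℕ → ℕ)
    (f : ℕ → K → K) (G : Subgroup (GL D.Idx K)) : Prop where
  setup : Setup (xG (F := K) hp.inList) L σ ρ ρ' f
  nfix : ∀ i, σ (nI hp K (J i)) = nI hp K (J i)
  G_le : G ≤ fixS σ
  nG : ∀ i, nI hp K (J i) ∈ G
  rk1 : ∀ i, ∀ u ∈ G, u ∈ R D hp K J σ (-sr i) → u ≠ 1 →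
    ∃ a ∈ R D hp K J σ (sr i), ∃ t ∈ D.diagonalSubgroup K ⊓ G, ∃ b ∈ R D hp K J σ (sr i),
      u = a * t * nI hp K (J i) * b
  XG : ∀ i, R D hp K J σ (sr i) ≤ G
  ne : ∀ i, R D hp K J σ (sr i) ≠ ⊥
  gen : G ≤ ⨆ i, (R D hp K J σ (sr i) ⊔ R D hp K J σ (-sr i))

variable {hp K}
variable {J : Fin m → List (Fin l)} {L : List (List ℕ)} {σ : GL D.Idx K →* GL D.Idx K} {ρ ρ' : ℕ → ℕ}
    {f : ℕ → K → K} {G : Subgroup (GL D.Idx K)} (FD : FoldData D M A J L)
    (FG : FoldGrp hp K J L σ ρ ρ' f G)

include FD FG in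
theorem twIn [Finite K] (p : ℕ) [Fact p.Prime] [CharP K p] :
    TwIn cs h (xG (F := K) hp.inList) D.nroots (V D J) (CC D) L σ ρ ρ' f (D.diagonalSubgroup K ⊓ G)
      (fun i => nI hp K (J i)) p := by
  have hchk : Checked D := hp.checked
  have hwp : ∀ i : Fin m, ∀ r < D.nroots, wp D (J i) r < D.nroots := fun i r hr => wp_lt hp (J i) hr
  have hposP : ∀ {r : ℕ}, r < D.nroots → ∀ i : Fin m, V D J r = sr i → D.IsPosRoot r := fun {r} hr i e =>
    FD.isPos r ((FD.posL r hr).2 fun j => by rw [e]; exact sr_nonneg i j)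
  have hconj : ∀ i, ∀ s < D.nroots, ∀ t : K, ∃ s' < D.nroots, V D J s' = rep cs h (cs.simple i) (V D J s) ∧
      ∃ u, nI hp K (J i) * xG hp.inList s t * (nI hp K (J i))⁻¹ = xG hp.inList s' u := by
    intro i s hs t
    refine ⟨wp D (J i) s, hwp i s hs, ?_, ?_⟩
    · rw [rep_refl, FD.wp_V s hs]
    · have h1 : nI hp K (J i) * xG hp.inList s t * (nI hp K (J i))⁻¹ ∈ D.rootSubgroup K (wp D (J i) s) := by
        rw [← cj_nI hp K (J i) hs]
        exact conj_mem_cj.2 (xG_mem_rootSubgroup hp.inList s t)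
      exact (mem_rootSubgroup_iff hp.inList _ _).1 h1
  exact
    { root := fun z => FD.isRoot_iff hchk hwp z
      comm := by
        intro r hr s hs hrs hneg t u
        have hneg' : r ≠ D.neg s := by
          rintro rfl
          exact hneg (V_neg hchk hs)
        have e : ⁅xG hp.inList r t, xG hp.inList s u⁆ = wordG hp.inList (D.commWord K s r (-u) (-t)) := by
          rw [← comm_xG hp hs hr hrs hneg', xG_inv, xG_inv, _root_.neg_neg, _root_.neg_neg]
        rw [e]
        refine wordG_mem hp _ _ ?_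
        intro c hc
        have hc' : c ∈ (D.commTerms s r).map fun c => (c.1, (c.2.1 : K) * (- -u) ^ c.2.2.1 * (-t) ^ c.2.2.2) := hc
        rw [List.mem_map] at hc'
        obtain ⟨d, hd, rfl⟩ := hc'
        exact mem_rspan (xG (F := K) hp.inList) (S := CC D r s) ⟨d, hd, rfl⟩ _
      C_root := by
        intro r hr s hs hrs hneg k hk
        obtain ⟨⟨v, C, i, j⟩, hv, rfl⟩ := hk
        obtain ⟨hv1, -, -, hi, hj, hvec⟩ := commTerms_rt hchk hv
        refine ⟨hv1, 1, j, i, by norm_num, by exact_mod_cast hj, by exact_mod_cast hi, ?_⟩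
        rw [one_smul]
        exact V_linear fun a => by rw [hvec]; ring
      goodC := goodC_of_goodB FD.goodL
      setup := FG.setup
      posL := fun k => ⟨fun hk => ⟨FD.ltL hk, (FD.posL k (FD.ltL hk)).1 hk⟩, fun hk => (FD.posL k hk.1).2 hk.2⟩
      clsL := fun o ho r hr s => ⟨fun hs => by
          have h1 := FD.ltL (List.mem_flatten.2 ⟨o, ho, hs⟩)
          exact ⟨h1, (FD.clsL o ho r hr s h1).1 hs⟩, fun hs => (FD.clsL o ho r hr s hs.1).2 hs.2⟩
      conj := hconj
      nfix := FG.nfix
      Tfix := fun t ht => FG.G_le ht.2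
      tor := by
        intro t ht s hs c
        have h1 : t * xG hp.inList s c * t⁻¹ ∈ D.rootSubgroup K s := by
          have e : cj t (D.rootSubgroup K s) = D.rootSubgroup K s := conjRoot_diagonal hp.inList ht.1 hs
          rw [← e]
          exact conj_mem_cj.2 (xG_mem_rootSubgroup hp.inList s c)
        exact (mem_rootSubgroup_iff hp.inList _ _).1 h1
      nsys := by
        refine ⟨fun i => ?_, fun i j => ⟨pow_mem hp K (FD.rel i j), ?_⟩⟩
        · have h1 := Subgroup.mem_normalizer_iff.1 (monomial_le hp (nI_mem hp K (J i)))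
          rw [Subgroup.mem_normalizer_iff]
          intro g
          constructor
          · intro hg
            have h2 : g ∈ G := hg.2
            exact ⟨(h1 g).1 hg.1, G.mul_mem (G.mul_mem (FG.nG i) h2) (G.inv_mem (FG.nG i))⟩
          · intro hg
            refine ⟨(h1 g).2 hg.1, ?_⟩
            have h2 := mul_mem (mul_mem (inv_mem (FG.nG i)) hg.2) (FG.nG i)
            have e : (nI hp K (J i))⁻¹ * (nI hp K (J i) * g * (nI hp K (J i))⁻¹) * nI hp K (J i) = g := by group
            rwa [e] at h2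
        · exact G.pow_mem (mul_mem (FG.nG i) (FG.nG j)) _
      rk1 := by
        intro i u hu hu1
        have huG : u ∈ G := by
          -- `u` is conjugate to an element of `R (sr i)`
          have h1 : (nI hp K (J i)) * u * (nI hp K (J i))⁻¹ ∈ R D hp K J σ (sr i) := by
            refine ⟨?_, ?_⟩
            · have key : rspan (xG (F := K) hp.inList) {k | k < D.nroots ∧ V D J k = -sr i} ≤
                  (rspan (xG (F := K) hp.inList) {k | k < D.nroots ∧ V D J k = sr i}).comap
                    (MulAut.conj (nI hp K (J i))).toMonoidHom := by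
                refine rspan_le _ fun s hs t => ?_
                obtain ⟨s', hs', hV, v, e⟩ := hconj i s hs.1 t
                have h1 : (MulAut.conj (nI hp K (J i))).toMonoidHom (xG hp.inList s t) = xG hp.inList s' v := e
                rw [Subgroup.mem_comap, h1]
                refine mem_rspan _ (S := {k | k < D.nroots ∧ V D J k = sr i}) ⟨hs', ?_⟩ v
                rw [hV, hs.2, map_neg, rep_simple_sr, _root_.neg_neg]
              exact key hu.1
            · have h1 : σ u = u := hu.2
              show σ (_ * u * _⁻¹) = _ * u * _⁻¹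
              rw [map_mul, map_mul, map_inv, FG.nfix, h1]
          have h2 := mul_mem (mul_mem (inv_mem (FG.nG i)) (FG.XG i h1)) (FG.nG i)
          have e : (nI hp K (J i))⁻¹ * (nI hp K (J i) * u * (nI hp K (J i))⁻¹) * nI hp K (J i) = u := by group
          rwa [e] at h2
        exact FG.rk1 i u huG hu hu1
      ne := FG.ne
      disj := by
        intro i
        rw [eq_bot_iff]
        rintro g ⟨hg1, hg2⟩
        have h1 : rspan (xG (F := K) hp.inList) {k | k < D.nroots ∧ V D J k = sr i} ≤ D.borelSubgroup K :=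
          le_trans (rspan_le _ fun s hs t => xG_mem_posUnipotent hp.inList (hposP hs.1 i hs.2) t)
            (le_sup_left : D.posUnipotent K ≤ D.borelSubgroup K)
        have h2 : rspan (xG (F := K) hp.inList) {k | k < D.nroots ∧ V D J k = -sr i} ≤ D.negUnipotent K := by
          refine rspan_le _ fun s hs t => xG_mem_negUnipotent hp.inList ?_ t
          rw [← isPosRoot_neg_iff hchk hs.1]
          refine hposP (neg_lt hp.inList hs.1) i ?_
          rw [V_neg hchk hs.1, hs.2, _root_.neg_neg]
        have h3 := (Cfsg.Agent.S1037.result (F := K) D hp.inList).1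
        exact h3.le ⟨h1 hg1.1, h2 hg2.1⟩
      char := fun t => by rw [nsmul_eq_mul, CharP.cast_eq_zero, zero_mul]
      tcop := Nat.Coprime.coprime_dvd_left (Subgroup.card_dvd_of_le inf_le_left) (tcop hp p) }

include hp cs h FD in
theorem finite_W : Finite W := by
  have h1 : ∀ (w : W) (i : Fin m), ∃ r : Fin D.nroots, V D J r = rep cs h w (sr i) := by
    intro w i
    obtain ⟨r, hr, e⟩ := (FD.isRoot_iff (cs := cs) (h := h) hp.checked (fun i r hr => wp_lt hp (J i) hr) _).1
      ((isRoot_sr cs h i).act w)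
    exact ⟨⟨r, hr⟩, e⟩
  choose f hf using h1
  refine Finite.of_injective f ?_
  intro u v huv
  have h2 : u⁻¹ * v = 1 := by
    refine eq_one_of_fix cs h _ fun i => ?_
    have h3 : rep cs h v (sr i) = rep cs h u (sr i) := by
      rw [← hf, ← hf, huv]
    show rep cs h (u⁻¹ * v) (sr i) = sr i
    rw [rep_mul_apply, h3, rep_inv_apply]
  exact (inv_mul_eq_one.1 h2)

include FD FG in
/-- **The root group datum of the twisted group**, in the general linear group. -/
theorem rgd_GL [Finite K] (p : ℕ) [Fact p.Prime] [CharP K p] :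
    RGD cs h p (D.diagonalSubgroup K ⊓ G) (fun i => nI hp K (J i)) (R D hp K J σ) := by
  have : Finite W := finite_W (hp := hp) cs h FD
  exact (twIn cs h FD FG p).rgd

include FD FG in
theorem R_le [Finite K] (p : ℕ) [Fact p.Prime] [CharP K p] {z : Fin m → ℤ} (hz : IsRoot cs h z) :
    R D hp K J σ z ≤ G := by
  obtain ⟨w, i, rfl⟩ := hz
  obtain ⟨ω, rfl⟩ := cs.wordProd_surjective w
  induction ω with
  | nil =>
    rw [wordProd_nil, map_one, Module.End.one_apply]
    exact FG.XG i
  | cons j ω ih =>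
    rw [wordProd_cons, rep_mul_apply]
    have h1 := (twIn cs h FD FG p).cj_n j (rep cs h (cs.wordProd ω) (sr i))
    show RX _ _ _ _ _ ≤ G
    rw [← h1]
    rintro _ ⟨g, hg, rfl⟩
    exact mul_mem (mul_mem (FG.nG j) (ih hg)) (inv_mem (FG.nG j))

include FD FG in
/-- **The root group datum of the twisted group** `G`. -/
theorem rgd [Finite K] (p : ℕ) [Fact p.Prime] [CharP K p] :
    RGD cs h p ((D.diagonalSubgroup K ⊓ G).subgroupOf G) (fun i => (⟨nI hp K (J i), FG.nG i⟩ : ↥G))
      (fun z => (R D hp K J σ z).subgroupOf G) :=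
  RGDLib.rgd_restrict (rgd_GL cs h FD FG p) G (fun _ hz => R_le cs h FD FG p hz) FG.nG

include FD FG in
theorem G1_eq_top [Finite K] (p : ℕ) [Fact p.Prime] [CharP K p] :
    RGDLib.G1 cs h (fun z => (R D hp K J σ z).subgroupOf G) = ⊤ := by
  rw [eq_top_iff]
  rintro ⟨g, hg⟩ -
  have key : ∀ z, IsRoot cs h z → R D hp K J σ z ≤
      (RGDLib.G1 cs h (fun z => (R D hp K J σ z).subgroupOf G)).map G.subtype := by
    intro z hz g hgz
    have hgG := R_le cs h FD FG p hz hgz
    exact ⟨⟨g, hgG⟩, RGDLib.X_le_G1 hz (Subgroup.mem_subgroupOf.2 hgz), rfl⟩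
  have h1 : G ≤ (RGDLib.G1 cs h (fun z => (R D hp K J σ z).subgroupOf G)).map G.subtype :=
    FG.gen.trans (iSup_le fun i => sup_le (key _ (isRoot_sr cs h i)) (key _ (isRoot_sr cs h i).neg))
  obtain ⟨g', hg', e⟩ := h1 hg
  have : g' = ⟨g, hg⟩ := Subtype.ext e
  rw [← this]
  exact hg'

include FD FG in
/-- The twisted group has a root group datum. -/
theorem hasRGD [Finite K] (p : ℕ) [CharP K p] (h : IsCartan M A) : HasRGD p ↥G := by
  have : Fact p.Prime := ⟨CharP.char_is_prime K p⟩
  exact ⟨m, M, A, h, _, _, _, finite_W (hp := hp) M.toCoxeterSystem h FD,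
    rgd M.toCoxeterSystem h FD FG p, G1_eq_top M.toCoxeterSystem h FD FG p⟩

end Group

end Cfsg.Agent.Nodes.RGDFold
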