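import Mathlib
import Cfsg.Agent.Nodes.WittRGDD
import Cfsg.Agent.Nodes.RGDLib
import Cfsg.Prelude.Def_LieTypeChar
import Cfsg.Agent.TitsThree.KSideO

/-!
Root group data of the simple orthogonal groups `PΩ_{2m+1}(q)`, `PΩ⁻_{2m+2}(q)` (type `C_m`, short/long exchanged)
and `PΩ⁺_{2m}(q)` (type `D_m`), `q` odd (projects CIT, UGT).

* `amb` : the group `E Q` generated by the Siegel elements as ambient group of a Witt frame;
* `hasRGD_of_frame` : from an RGD in `GL(V)` to `HasRGD p (POmega F Q)`;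
* `hasRGD_odd`, `hasRGD_minus`, `hasRGD_plus`, and for the Prelude predicates `hasRGD_of_isPOmegaOddChar`, ...
-/

set_option autoImplicit false
set_option linter.unusedSectionVars false

namespace Cfsg.Agent.Nodes.RGDOrth

open CoxeterSystem Cfsg.Agent.ChevalleyStructure.CoxeterGeom Cfsg.Agent.Tits.Roots Cfsg.Agent.Tits.Core
  Cfsg.Agent.Tits.RootComb Cfsg.Agent.Nodes.Comb Cfsg.Agent.Nodes.Reps Cfsg.Agent.Nodes.BNOf
  Cfsg.Agent.Nodes.RGDLib
open QuadraticMap
open Cfsg.Agent.LieClassical Cfsg.Agent.LieClassical.OrthCore Cfsg.Agent.LieClassical.OrthTrans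
open Cfsg.Agent.LieClassical.OrthSimple Cfsg.Agent.LieClassical.OrthFinite Cfsg.Agent.LieClassical.OrthForms
open Cfsg.Agent.TitsThree Cfsg.Agent.TitsThree.Siegel Cfsg.Agent.TitsThree.SiegelGen
  Cfsg.Agent.TitsThree.WittFrame Cfsg.Agent.TitsThree.WBridge Cfsg.Agent.TitsThree.KSideO
open Cfsg.Agent.Nodes.WittRoot (Amb XG ZG PG)

/-- Same as `RGDChev.HasRGD` (without the heavy import): `G` has a root group datum of characteristic `p` with finite
Weyl group, whose root groups generate `G`. -/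
def HasRGD (p : ℕ) (G : Type*) [Group G] : Prop :=
  ∃ (l : ℕ) (M : CoxeterMatrix (Fin l)) (A : Fin l → Fin l → ℤ) (h : IsCartan M A) (T : Subgroup G) (n : Fin l → G)
    (X : (Fin l → ℤ) → Subgroup G), Finite M.Group ∧ RGD M.toCoxeterSystem h p T n X ∧
      G1 M.toCoxeterSystem h X = ⊤

theorem HasRGD.of_equiv {p : ℕ} {G H : Type*} [Group G] [Group H] (e : G ≃* H) (hG : HasRGD p G) : HasRGD p H := by
  obtain ⟨l, M, A, h, T, n, X, hW, R, hX⟩ := hG
  refine ⟨l, M, A, h, T.map e.toMonoidHom, fun i => e (n i), fun x => (X x).map e.toMonoidHom, hW,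
    RGDLib.rgd_map_of_injective R e.toMonoidHom e.injective, ?_⟩
  have h1 : (RGDLib.G1 M.toCoxeterSystem h X).map e.toMonoidHom =
      RGDLib.G1 M.toCoxeterSystem h (fun x => (X x).map e.toMonoidHom) := by
    unfold RGDLib.G1 RGD.Sup
    rw [Subgroup.map_iSup]
  rw [← h1, hX, Subgroup.map_top_of_surjective _ e.surjective]

/-! ### The ambient group -/

section General

variable {F V : Type*} [Field F] [AddCommGroup V] [Module F V] {Q : QuadraticForm F V} {m : ℕ}
  (W : WFrame (PO Q) m)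

theorem mem_V0 {v : V} (hv : ∀ x, (HO Q).h v ((toFrame W).b x) = 0) : v ∈ W.V0 := by
  obtain ⟨a, b, w, hw, e⟩ := W.span v
  have hsum : ∀ (s : Finset (Fin m)) (c : Fin m → F) (u : Fin m → V) (y : V),
      (HO Q).h (∑ i ∈ s, c i • u i) y = ∑ i ∈ s, c i * (HO Q).h (u i) y := by
    intro s c u y
    induction s using Finset.induction_on with
    | empty => simp [(HO Q).zero_left]
    | insert j s hj ih => rw [Finset.sum_insert hj, Finset.sum_insert hj, (HO Q).add_left, (HO Q).smul_left, ih]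
  have ha : ∀ j, a j = 0 := by
    intro j
    have h1 := hv (j, false)
    rw [toFrame_b_false, e, (HO Q).add_left, (HO Q).add_left, hsum, hsum, W.V0f w hw] at h1
    simp only [W.ef, W.ff, mul_zero, Finset.sum_const_zero, add_zero, mul_ite, mul_one,
      Finset.sum_ite_eq', Finset.mem_univ, if_true] at h1
    exact h1
  have hb : ∀ j, b j = 0 := by
    intro j
    have h1 := hv (j, true)
    rw [toFrame_b_true, e, (HO Q).add_left, (HO Q).add_left, hsum, hsum, W.V0e w hw] at h1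
    simp only [W.ee, W.fe, mul_zero, Finset.sum_const_zero, add_zero, zero_add, mul_ite,
      Finset.sum_ite_eq', Finset.mem_univ, if_true] at h1
    exact (mul_eq_zero.1 h1).resolve_right (HO Q).ε_ne
  rw [e]
  simp only [ha, hb, zero_smul, Finset.sum_const_zero, zero_add]
  exact hw

theorem amb (h2 : (2 : F) ≠ 0) : Amb (toFrame W) (E Q) where
  iso g hg v w := polar_map (E_le_O hg) v w
  ok g hg w c h hw := ⟨hw, by
    have h1 : c = -Q w := h.2
    show c = -Q (g w)
    rw [h1, mem_O.1 (E_le_O hg)]⟩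
  X_mem a b t := by
    by_cases h : a.1 = b.1
    · rw [Frame.X, dif_neg (not_not.2 h)]; exact Subgroup.one_mem _
    · rw [Frame.X_eq _ h]
      exact sie_mem _ _ (b_sing W a) ((PO Q).sing_smul (b_sing W b) _)
  Z_mem a p := sie_mem _ _ (b_sing W a) p.ok.2
  V0 v hv := mem_V0 W hv
  aniso v hv h := by
    apply W.aniso v hv
    rw [sing_iff]
    have h1 : polar Q v v = 0 := h
    rw [polar_self'] at h1
    exact (mul_eq_zero.1 h1).resolve_left h2
  ok_aniso w h := W.aniso w h.1 h.2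

/-- The Siegel elements lie in every group containing the root elements of the frame. -/
theorem E_le_of_contains {K : Subgroup (V ≃ₗ[F] V)} (hC : W.Contains K) : E Q ≤ K := by
  rw [E, Subgroup.closure_le]
  rintro _ ⟨u, w, hu, hw, rfl⟩
  have huu : (HO Q).h u u = 0 := polar_self_of_sing hu
  have := hC.all W ((sing_iff Q).2 hu) huu (w := w) (c := -Q w) hw rfl
  rwa [sie_eq Q huu hw hu hw rfl] at this

end General

/-! ### From an RGD in `GL(V)` to `POmega` -/

section Matrix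

variable {ι : Type} [Fintype ι] [DecidableEq ι] {F : Type*} [Field F] {Q : QuadraticForm F (ι → F)}

theorem hasRGD_of_frame [Finite F] (hG : Good Q) {p : ℕ} [Fact p.Prime] {l : ℕ} {M : CoxeterMatrix (Fin l)}
    {A : Fin l → Fin l → ℤ} {h : IsCartan M A} {T : Subgroup ((ι → F) ≃ₗ[F] (ι → F))}
    {n : Fin l → ((ι → F) ≃ₗ[F] (ι → F))} {X : (Fin l → ℤ) → Subgroup ((ι → F) ≃ₗ[F] (ι → F))}
    (hW : Finite M.Group) (R : RGD M.toCoxeterSystem h p T n X)
    (hX : ∀ x, IsRoot M.toCoxeterSystem h x → X x ≤ E Q) (hn : ∀ i, n i ∈ E Q)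
    (hgen : E Q ≤ G1 M.toCoxeterSystem h X) : HasRGD p (Cfsg.POmega F ⇑Q) := by
  have : Finite ((ι → F) ≃ₗ[F] (ι → F)) :=
    Finite.of_injective (fun g : (ι → F) ≃ₗ[F] (ι → F) => (g : (ι → F) → (ι → F))) DFunLike.coe_injective
  have R1 := rgd_restrict R (E Q) hX hn
  have R2 := rgd_map_of_ker_le_center R1 (toPOmega hG) fun g hg => center_of_toPOmega hG hg
  refine ⟨l, M, A, h, _, _, _, hW, R2, ?_⟩
  have e1 : G1 M.toCoxeterSystem h (fun x => (X x).subgroupOf (E Q)) = ⊤ := by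
    have e2 : (G1 M.toCoxeterSystem h X).subgroupOf (E Q) =
        G1 M.toCoxeterSystem h (fun x => (X x).subgroupOf (E Q)) := by
      unfold G1 RGD.Sup
      exact iSup_subgroupOf (fun z : {x | IsRoot M.toCoxeterSystem h x} => X z.1) fun z => hX z.1 z.2
    rw [← e2]
    exact Subgroup.subgroupOf_eq_top.2 hgen
  have e3 : (G1 M.toCoxeterSystem h (fun x => (X x).subgroupOf (E Q))).map (toPOmega hG) =
      G1 M.toCoxeterSystem h (fun x => ((X x).subgroupOf (E Q)).map (toPOmega hG)) := by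
    unfold G1 RGD.Sup
    rw [Subgroup.map_iSup]
  rw [← e3, e1, Subgroup.map_top_of_surjective _ (toPOmega_surjective hG)]

/-- Type `C_m`. -/
theorem hasRGD_C [Finite F] (hG : Good Q) {p : ℕ} [Fact p.Prime] [CharP F p] (hp2 : Odd p) {m : ℕ}
    (W : WFrame (PO Q) m) (hm : 0 < m) (hp0 : ∃ p : (toFrame W).Adm, p.c ≠ 0) : HasRGD p (Cfsg.POmega F ⇑Q) := by
  have h2 : (2 : F) ≠ 0 := by
    intro h0
    have h1 : (p : ℕ) ∣ 2 := (CharP.cast_eq_zero_iff F p 2).1 (by exact_mod_cast h0)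
    have h3 := (Nat.prime_dvd_prime_iff_eq Fact.out Nat.prime_two).1 h1
    rw [h3] at hp2
    exact absurd hp2 (by decide)
  obtain ⟨p0, hp0⟩ := hp0
  have hA := amb W h2
  have hW : Finite (CoxeterMatrix.B m).Group := TypeC.finite_W (CoxeterMatrix.B m).toCoxeterSystem
  refine hasRGD_of_frame hG hW (WittRGD.rgd hA hp2 hp0 (CoxeterMatrix.B m).toCoxeterSystem)
    (fun x _ => hA.rg_le x) (fun i => WittRGD.nn_mem hA p0 i) ?_
  set K := G1 (CoxeterMatrix.B m).toCoxeterSystem (TypeC.isCartan m) (WittRoot.rg (toFrame W)) with hK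
  have key : ∀ a b : Fin m × Bool, TypeC.Ok a b → PG (toFrame W) a b ≤ K := by
    intro a b hab
    obtain ⟨z, hz, ez⟩ := TypeC.rt_of_ok (cs := (CoxeterMatrix.B m).toCoxeterSystem) hab
    rw [← WittRoot.rg_eq (toFrame W) hab ez]
    exact X_le_G1 hz
  refine E_le_of_contains W (contains_C W ⟨0, hm⟩ ?_ ?_ ⟨p0, hp0⟩)
  · intro i j hij t
    have hne : i ≠ j := fun h => by rw [h] at hij; omega
    constructor
    · refine key (i, true) (j, false) (Or.inl hne) ?_
      rw [WittRoot.PG_ne (toFrame W) (a := (i, true)) (b := (j, false)) hne]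
      exact ⟨t, rfl⟩
    · refine key (j, true) (i, false) (Or.inl hne.symm) ?_
      rw [WittRoot.PG_ne (toFrame W) (a := (j, true)) (b := (i, false)) hne.symm]
      exact ⟨t, rfl⟩
  · intro q
    constructor
    · refine key (⟨0, hm⟩, true) (⟨0, hm⟩, true) (Or.inr rfl) ?_
      rw [WittRoot.PG_self]
      exact ⟨q, rfl⟩
    · refine key (⟨0, hm⟩, false) (⟨0, hm⟩, false) (Or.inr rfl) ?_
      rw [WittRoot.PG_self]
      exact ⟨q, rfl⟩

/-- Type `D_{m+2}`. -/
theorem hasRGD_D [Finite F] (hG : Good Q) {p : ℕ} [Fact p.Prime] [CharP F p] (hp2 : Odd p) {m : ℕ}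
    (W : WFrame (PO Q) (m + 2)) (h0 : ∀ p : (toFrame W).Adm, p = 1) : HasRGD p (Cfsg.POmega F ⇑Q) := by
  have h2 : (2 : F) ≠ 0 := by
    intro h0
    have h1 : (p : ℕ) ∣ 2 := (CharP.cast_eq_zero_iff F p 2).1 (by exact_mod_cast h0)
    have h3 := (Nat.prime_dvd_prime_iff_eq Fact.out Nat.prime_two).1 h1
    rw [h3] at hp2
    exact absurd hp2 (by decide)
  have hA := amb W h2
  have hW : Finite (TypeD.M m).Group := TypeD.finite_W (TypeD.M m).toCoxeterSystem
  have hle : ∀ x, WittRGDD.rg (toFrame W) x ≤ E Q := fun x => iSup_le fun q => by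
    rintro _ ⟨t, rfl⟩; exact hA.X_mem _ _ _
  refine hasRGD_of_frame hG hW (WittRGDD.rgd hA hp2 h0 (TypeD.M m).toCoxeterSystem)
    (fun x _ => hle x) (fun i => WittRGDD.nn_mem hA i) ?_
  set K := G1 (TypeD.M m).toCoxeterSystem (TypeD.isCartan m) (WittRGDD.rg (toFrame W)) with hK
  have key : ∀ a b : Fin (m + 2) × Bool, TypeD.Ok a b → ∀ t, (toFrame W).X a b t ∈ K := by
    intro a b hab t
    obtain ⟨z, hz, ez⟩ := TypeD.rt_of_ok (cs := (TypeD.M m).toCoxeterSystem) hab
    have h1 : XG (toFrame W) a b ≤ K := by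
      rw [← WittRGDD.rg_eq (toFrame W) hab ez]
      exact X_le_G1 hz
    exact h1 ⟨t, rfl⟩
  have hkl : (0 : Fin (m + 2)) ≠ 1 := by simp
  refine E_le_of_contains W (contains_D W 0 1 hkl ?_ ?_ h0)
  · intro i j hij t
    have hne : i ≠ j := fun h => by rw [h] at hij; omega
    exact ⟨key (i, true) (j, false) hne t, key (j, true) (i, false) hne.symm t⟩
  · intro t
    exact ⟨key (0, true) (1, true) hkl t, key (0, false) (1, false) hkl t⟩

end Matrix

/-! ### The plus form -/

section Plus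

variable (m : ℕ) (F : Type*) [Field F]

/-- The Witt frame of `quadFormPlus`. -/
def wplus : WFrame (PO (plusForm m F)) m where
  e i := Pi.single (Sum.inl i) 1
  f i := Pi.single (Sum.inr i) 1
  V0 := ⊥
  ee i j := by
    rw [HO_h, polar_plusForm]
    simp [Pi.single_apply]
  ff i j := by
    rw [HO_h, polar_plusForm]
    simp [Pi.single_apply]
  ef i j := by
    rw [HO_h, polar_plusForm]
    simp [Pi.single_apply, eq_comm]
  fe i j := by
    rw [HO_h, polar_plusForm]
    simp [Pi.single_apply, eq_comm]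
    rfl
  e_sing i := by
    rw [sing_iff, coe_plusForm, quadFormPlus_apply]
    simp [Pi.single_apply]
  f_sing i := by
    rw [sing_iff, coe_plusForm, quadFormPlus_apply]
    simp [Pi.single_apply]
  V0e w hw i := by
    rw [(Submodule.mem_bot F).1 hw, (HO _).zero_left]
  V0f w hw i := by
    rw [(Submodule.mem_bot F).1 hw, (HO _).zero_left]
  aniso w hw _ := (Submodule.mem_bot F).1 hw
  span v := by
    refine ⟨fun i => v (Sum.inl i), fun i => v (Sum.inr i), 0, Submodule.zero_mem _, ?_⟩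
    funext j
    rcases j with j | j
    · simp [Finset.sum_apply, Pi.single_apply]
    · simp [Finset.sum_apply, Pi.single_apply]

theorem wplus_adm (p : (toFrame (wplus m F)).Adm) : p = 1 := by
  have hw : p.w = 0 := (Submodule.mem_bot F).1 p.ok.1
  have hc : p.c = -(plusForm m F) p.w := p.ok.2
  apply Frame.Adm.ext
  · exact hw
  · rw [hc, hw, QuadraticMap.map_zero, neg_zero]
    rfl

end Plus

/-! ### The simple groups -/

section Main

theorem hasRGD_odd (F : Type*) [Field F] [Finite F] {p : ℕ} [CharP F p] (hp2 : Odd p) {m : ℕ} (hm : 2 ≤ m) :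
    HasRGD p (Cfsg.POmega F (Cfsg.quadFormOdd m F)) := by
  have : Fact p.Prime := ⟨CharP.char_is_prime F p⟩
  have h2 : (2 : F) ≠ 0 := by
    intro h0
    have h1 : (p : ℕ) ∣ 2 := (CharP.cast_eq_zero_iff F p 2).1 (by exact_mod_cast h0)
    have h3 := (Nat.prime_dvd_prime_iff_eq Fact.out Nat.prime_two).1 h1
    rw [h3] at hp2
    exact absurd hp2 (by decide)
  rw [← coe_oddForm]
  have hG : Good (oddForm m F) := by
    apply good_of_finite (nondeg_oddForm m F h2)
    rw [Module.finrank_fintype_fun_eq_card, Fintype.card_sum, Fintype.card_sum, Fintype.card_fin,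
      Fintype.card_unit]
    omega
  refine hasRGD_C hG hp2 (wodd m F) (by omega) ?_
  refine ⟨(embOdd m F).ngt ⟨1, -1 ^ 2, rfl⟩, ?_⟩
  change (1 : F)⁻¹ * (-1 ^ 2) ≠ 0
  simp

theorem hasRGD_minus (F : Type*) [Field F] [Finite F] {p : ℕ} [CharP F p] (hp2 : Odd p) (a b : F)
    (hab : ∀ z₁ z₂ : F, z₁ ^ 2 + a * z₁ * z₂ + b * z₂ ^ 2 = 0 → z₁ = 0 ∧ z₂ = 0) {m : ℕ} (hm : 2 ≤ m) :
    HasRGD p (Cfsg.POmega F (Cfsg.quadFormMinus m F a b)) := by
  have : Fact p.Prime := ⟨CharP.char_is_prime F p⟩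
  rw [← coe_minusForm]
  have hG : Good (minusForm m F a b) := by
    apply good_of_finite (nondeg_minusForm m F a b hab)
    rw [Module.finrank_fintype_fun_eq_card, Fintype.card_sum, Fintype.card_sum, Fintype.card_fin,
      Fintype.card_fin]
    omega
  refine hasRGD_C hG hp2 (wminus m F a b hab) (by omega) ?_
  refine ⟨(embMinus m F a b hab).ngt ⟨(1, 0), -StdData.nf a b (1, 0), rfl⟩, ?_⟩
  change (1 : F)⁻¹ * (-StdData.nf a b (1, 0)) ≠ 0
  simp [StdData.nf]

theorem hasRGD_plus (F : Type*) [Field F] [Finite F] {p : ℕ} [CharP F p] (hp2 : Odd p) {m : ℕ} (hm : 3 ≤ m) :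
    HasRGD p (Cfsg.POmega F (Cfsg.quadFormPlus m F)) := by
  have : Fact p.Prime := ⟨CharP.char_is_prime F p⟩
  rw [← coe_plusForm]
  have hG : Good (plusForm m F) := by
    apply good_of_finite (nondeg_plusForm m F)
    rw [Module.finrank_fintype_fun_eq_card, Fintype.card_sum, Fintype.card_fin]
    omega
  obtain ⟨m, rfl⟩ : ∃ k, m = k + 2 := ⟨m - 2, by omega⟩
  exact hasRGD_D hG hp2 (wplus (m + 2) F) (wplus_adm _ F)

variable {G : Type*} [Group G] {p : ℕ}

theorem hasRGD_of_isPOmegaOddChar (hp2 : Odd p) (h : Cfsg.IsPOmegaOddChar p G) : HasRGD p G := by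
  obtain ⟨F, _, _, _, m, hm, -, ⟨e⟩⟩ := h
  exact (hasRGD_odd F hp2 (by omega)).of_equiv e.symm

theorem hasRGD_of_isPOmegaPlusChar (hp2 : Odd p) (h : Cfsg.IsPOmegaPlusChar p G) : HasRGD p G := by
  obtain ⟨F, _, _, _, m, hm, ⟨e⟩⟩ := h
  exact (hasRGD_plus F hp2 (by omega)).of_equiv e.symm

theorem hasRGD_of_isPOmegaMinusChar (hp2 : Odd p) (h : Cfsg.IsPOmegaMinusChar p G) : HasRGD p G := by
  obtain ⟨F, _, _, _, m, a, b, hm, hab, ⟨e⟩⟩ := h
  exact (hasRGD_minus F hp2 a b hab (by omega)).of_equiv e.symm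

end Main

end Cfsg.Agent.Nodes.RGDOrth
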