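import Cfsg.Agent.Nodes.CardVV
import Cfsg.Agent.Nodes.WittBlock

/-!
Orders of the root groups of the charts of type `C_n` (project CIT, charts): `PSp_{2n}(F)`, `PSU_{2n}(q)`.

* `card_X_model` : the short root groups have order `|F|`;
* `ZM_eq` : the classical root groups are the long root groups if `V0 = 0`;
* `V0_eq_bot` : `V0 = 0` for the Witt frames of `SU_{2m}`.
-/

set_option autoImplicit false
set_option linter.unusedSectionVars false

namespace Cfsg.Agent.Nodes.CardWitt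

open CoxeterSystem Cfsg.Agent.ChevalleyStructure.CoxeterGeom Cfsg.Agent.Tits.Roots Cfsg.Agent.Nodes.TypeC
open Cfsg.Agent.Nodes.Comb Cfsg.Agent.Nodes.Reps Cfsg.Agent.Nodes.WittRoot Cfsg.Agent.Nodes.BNOf
open Cfsg.Agent.Nodes.WittRGD Cfsg.Agent.Nodes.RGDLib Cfsg.Agent.Nodes.TypeCForm Cfsg.Agent.Nodes.Chart
open Cfsg.Agent.TitsThree Cfsg.Agent.TitsThree.Siegel Cfsg.Agent.TitsThree.WittFrame
  Cfsg.Agent.TitsThree.WittWeyl Cfsg.Agent.TitsThree.FrameCN
open Cfsg.Agent.Nodes.ClsMap Cfsg.Agent.Nodes.ClsWitt Cfsg.Agent.Nodes.CardSup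

section General

variable {F : Type*} [Field F] {V : Type*} [AddCommGroup V] [Module F V] {H : HForm F V} {n : ℕ}
  (Fr : Frame H (Fin n))

theorem card_XG {a b : Fin n × Bool} (hab : a.1 ≠ b.1) : Nat.card (XG Fr a b) = Nat.card F := by
  symm
  refine Nat.card_congr (Equiv.ofBijective (fun t : F => (⟨Fr.X a b t, t, rfl⟩ : XG Fr a b)) ⟨?_, ?_⟩)
  · intro s t e
    have e1 : Fr.X a b s = Fr.X a b t := congrArg Subtype.val e
    have e2 := X_apply_neg Fr hab s
    rw [e1, X_apply_neg Fr hab t] at e2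
    have e3 : t • Fr.b a = s • Fr.b a := add_left_cancel e2
    by_contra hne
    have e4 : (t - s) • Fr.b a = 0 := by rw [sub_smul, e3, sub_self]
    exact b_ne_zero a ((smul_eq_zero.1 e4).resolve_left (sub_ne_zero.2 (Ne.symm hne)))
  · rintro ⟨_, t, rfl⟩
    exact ⟨t, rfl⟩

variable {Fr} {K : Type*} [Group K] (M : Model Fr K) (hA : Amb Fr M.I)

include hA in
/-- **the order of the short root groups** -/
theorem card_X_model [Finite V] {p0 : Fr.Adm} (hp0 : p0.c ≠ 0) {p : ℕ} [Fact p.Prime] [CharP F p] (hp2 : Odd p)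
    {x : Fin n → ℤ} {a b : Fin n × Bool} (hab : a.1 ≠ b.1) (e : ee x = wt a + wt b) :
    Nat.card (WittModel.X M x) = Nat.card F := by
  have : Finite (V ≃ₗ[F] V) := Finite.of_injective (fun g : V ≃ₗ[F] V => (g : V → V)) DFunLike.coe_injective
  let cs := (CoxeterMatrix.B n).toCoxeterSystem
  have : Finite (CoxeterMatrix.B n).Group := finite_W cs
  have hx : IsRoot cs (isCartan n) x := isRoot_iff.2 ⟨a, b, Or.inl hab, e⟩
  have Rd := rgd_restrict (WittRGD.rgd hA hp2 hp0 cs) M.I (fun x _ => hA.rg_le x) (fun i => nn_mem hA p0 i)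
  have h1 := card_map_X Rd M.φ (WittModel.ker_le_center M hA) hx
  refine h1.trans ?_
  rw [Nat.card_congr (Subgroup.subgroupOfEquivOfLe (hA.rg_le x)).toEquiv, rg_eq Fr (Or.inl hab) e, PG_ne Fr hab,
    card_XG Fr hab]

theorem ZL_eq (hw : ∀ q : Fr.Adm, q.w = 0) (a : Fin n × Bool) : ZL Fr a = ZG Fr a := by
  apply le_antisymm (ZL_le Fr a)
  rintro _ ⟨q, rfl⟩
  exact ⟨q, hw q, rfl⟩

/-- the classical root groups are the long root groups -/
theorem ZM_eq (hw : ∀ q : Fr.Adm, q.w = 0) {r : Fin n → ℤ} (hr : r ∈ LR n) : ZM M r = WittModel.X M r := by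
  obtain ⟨a, e⟩ := hr
  unfold ZM WittModel.X
  rw [ZV_eq Fr e, rg_eq Fr (Or.inr rfl) e, PG_self, ZL_eq hw]

end General

section Unitary

open Cfsg Cfsg.Agent.LieClassical.HermBasic Cfsg.Agent.Nodes.WittU Cfsg.Agent.Nodes.WittBlock
open Cfsg.Agent.TitsThree.SiegelGen Cfsg.Agent.TitsThree.WBridge
open Cfsg.Agent.TitsThree.KSideU Cfsg.Agent.TitsThree.KSideUDesc

variable {F : Type*} [Field F] [Fintype F] {q N : ℕ} (hF : Fintype.card F = q ^ 2) {m : ℕ}

/-- no anisotropic part in dimension `2 m` -/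
theorem w_eq_zero (W : WFrame (PU hF N) m) (hW : Blocks hF W) (hN : N = 2 * m) (a : (toFrame W).Adm) : a.w = 0 := by
  have hw : a.w ∈ W.V0 := (toFrame W).ok_mem a.ok
  funext j
  have hj := j.2
  have hi : (j : ℕ) / 2 < m := by omega
  have hr : 2 * ((j : ℕ) / 2) < N := by omega
  have hs : 2 * ((j : ℕ) / 2) + 1 < N := by omega
  have hP := plane_U hF W hW (⟨(j : ℕ) / 2, hi⟩ : Fin m) (r := ⟨2 * ((j : ℕ) / 2), hr⟩)
    (s := ⟨2 * ((j : ℕ) / 2) + 1, hs⟩) rfl rfl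
  obtain ⟨h1, h2⟩ := hP.eq_zero_of_orth (v := a.w) ((toFrame W).h0' _ hw) ((toFrame W).h0' _ hw)
  rcases Nat.even_or_odd' (j : ℕ) with ⟨k, hk | hk⟩
  · have : j = ⟨2 * ((j : ℕ) / 2), hr⟩ := Fin.ext (by simp only; omega)
    rw [this]
    exact h1
  · have : j = ⟨2 * ((j : ℕ) / 2) + 1, hs⟩ := Fin.ext (by simp only; omega)
    rw [this]
    exact h2

end Unitary

end Cfsg.Agent.Nodes.CardWitt
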