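import Cfsg.Agent.Nodes.RGDFold
import Cfsg.Agent.ChevalleyStructure.SL2Hom

/-!
The rank one groups of the twisted groups obtained by folding (`RGDFold`): for a node `i` whose class of roots is the
`ρ`-orbit `r :: o` of length `k`, a homomorphism `Φ : SL(2, F) →* G`, `F = Fix (φ^k)`, with `Φ (up a)` parametrising the
root group `X (sr i)`, `Φ (diag)` in the torus and `Φ (w) = n i`.
-/

set_option autoImplicit false
set_option linter.unusedSectionVars false
set_option maxHeartbeats 400000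

namespace Cfsg.Agent.Nodes.RGDFoldSL

open CoxeterSystem Cfsg.Agent.ChevalleyStructure.CoxeterGeom Cfsg.Agent.Tits.Roots Cfsg.Agent.Tits.Core
  Cfsg.Agent.Nodes.BNOf Cfsg.Agent.Nodes.RGDTwGen Cfsg.Agent.Nodes.RGDChev Cfsg.Agent.Nodes.RGDFold
open Cfsg.Lie Cfsg.Agent.ChevalleyStructure Cfsg.Agent.ChevalleyStructure.Elts
  Cfsg.Agent.ChevalleyStructure.TwistedU Cfsg.Agent.ChevalleyStructure.TwistedFix
  Cfsg.Agent.ChevalleyStructure.TwistedFixOrbit
open Cfsg.Agent.ChevalleyStructure.SL2Hom (up lo mem_closure_SL2)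

universe u

/-! ### Matrices -/

theorem map_up {F F' : Type*} [Field F] [Field F'] (f : F →+* F') (t : F) :
    Matrix.SpecialLinearGroup.map f (up t) = up (f t) := by
  apply Subtype.ext
  apply Matrix.ext
  intro i j
  show f ((!![1, t; 0, 1] : Matrix (Fin 2) (Fin 2) F) i j) = (!![1, f t; 0, 1] : Matrix (Fin 2) (Fin 2) F') i j
  fin_cases i <;> fin_cases j <;> simp

theorem map_lo {F F' : Type*} [Field F] [Field F'] (f : F →+* F') (t : F) :
    Matrix.SpecialLinearGroup.map f (lo t) = lo (f t) := by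
  apply Subtype.ext
  apply Matrix.ext
  intro i j
  show f ((!![1, 0; t, 1] : Matrix (Fin 2) (Fin 2) F) i j) = (!![1, 0; f t, 1] : Matrix (Fin 2) (Fin 2) F') i j
  fin_cases i <;> fin_cases j <;> simp

/-! ### Twisted products -/

section Gen

variable {Γ K : Type*} [Group Γ] [Field K]

/-- `x_{r₀}(a) x_{r₁}(φ a) x_{r₂}(φ² a) ⋯` -/
def yv (x : ℕ → K → Γ) (φ : K →+* K) : List ℕ → K → Γ
  | [], _ => 1
  | r :: o, a => x r a * yv x φ o (φ a)

/-- the same for homomorphisms on `SL₂` -/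
def hv (ψ : ℕ → Matrix.SpecialLinearGroup (Fin 2) K →* Γ) (φ : K →+* K) :
    List ℕ → Matrix.SpecialLinearGroup (Fin 2) K → Γ
  | [], _ => 1
  | r :: o, g => ψ r g * hv ψ φ o (Matrix.SpecialLinearGroup.map φ g)

variable {x : ℕ → K → Γ} {φ : K →+* K} {ψ : ℕ → Matrix.SpecialLinearGroup (Fin 2) K →* Γ}

theorem commute_hv {o : List ℕ} {z : Γ} (h : ∀ s ∈ o, ∀ g, Commute z (ψ s g)) (g : Matrix.SpecialLinearGroup (Fin 2) K) :
    Commute z (hv ψ φ o g) := by
  induction o generalizing g with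
  | nil => exact Commute.one_right z
  | cons s o ih =>
    exact (h s List.mem_cons_self g).mul_right (ih (fun s' hs' => h s' (List.mem_cons_of_mem _ hs')) _)

theorem hv_mul {o : List ℕ} (ho : o.Pairwise fun r s => ∀ g h, Commute (ψ r g) (ψ s h))
    (g h : Matrix.SpecialLinearGroup (Fin 2) K) : hv ψ φ o (g * h) = hv ψ φ o g * hv ψ φ o h := by
  induction o generalizing g h with
  | nil => exact (mul_one 1).symm
  | cons r o ih =>
    rw [List.pairwise_cons] at ho
    show ψ r (g * h) * hv ψ φ o (Matrix.SpecialLinearGroup.map φ (g * h)) =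
      (ψ r g * hv ψ φ o (Matrix.SpecialLinearGroup.map φ g)) * (ψ r h * hv ψ φ o (Matrix.SpecialLinearGroup.map φ h))
    rw [map_mul, map_mul, ih ho.2]
    have h1 : Commute (ψ r h) (hv ψ φ o (Matrix.SpecialLinearGroup.map φ g)) :=
      commute_hv (fun s hs g' => ho.1 s hs h g') _
    simp only [mul_assoc]
    rw [← mul_assoc (ψ r h) (hv ψ φ o (Matrix.SpecialLinearGroup.map φ g)), h1.eq]
    simp only [mul_assoc]

/-- The homomorphism. -/
def hvHom (ψ : ℕ → Matrix.SpecialLinearGroup (Fin 2) K →* Γ) (φ : K →+* K) (o : List ℕ)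
    (ho : o.Pairwise fun r s => ∀ g h, Commute (ψ r g) (ψ s h)) : Matrix.SpecialLinearGroup (Fin 2) K →* Γ :=
  MonoidHom.mk' (hv ψ φ o) (hv_mul ho)

theorem hv_up {o : List ℕ} (hx : ∀ r ∈ o, ∀ t, ψ r (up t) = x r t) (a : K) : hv ψ φ o (up a) = yv x φ o a := by
  induction o generalizing a with
  | nil => rfl
  | cons r o ih =>
    show ψ r (up a) * hv ψ φ o (Matrix.SpecialLinearGroup.map φ (up a)) = x r a * yv x φ o (φ a)
    have e : Matrix.SpecialLinearGroup.map φ (up a) = up (φ a) := map_up φ a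
    rw [e, hx r List.mem_cons_self, ih fun s hs => hx s (List.mem_cons_of_mem _ hs)]

theorem yv_append (o : List ℕ) (r : ℕ) (a : K) : yv x φ (o ++ [r]) a = yv x φ o a * x r (φ^[o.length] a) := by
  induction o generalizing a with
  | nil =>
    show x r a * 1 = 1 * x r a
    rw [mul_one, one_mul]
  | cons s o ih =>
    show x s a * yv x φ (o ++ [r]) (φ a) = x s a * yv x φ o (φ a) * x r _
    rw [ih, mul_assoc, List.length_cons, Function.iterate_succ_apply]

theorem sig_yv {σ : Γ →* Γ} {ρ : ℕ → ℕ} {o : List ℕ} (h : ∀ r ∈ o, ∀ t, σ (x r t) = x (ρ r) (φ t)) (a : K) :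
    σ (yv x φ o a) = yv x φ (o.map ρ) (φ a) := by
  induction o generalizing a with
  | nil => exact map_one σ
  | cons r o ih =>
    show σ (x r a * yv x φ o (φ a)) = x (ρ r) (φ a) * yv x φ (o.map ρ) (φ (φ a))
    rw [map_mul, h r List.mem_cons_self, ih fun s hs => h s (List.mem_cons_of_mem _ hs)]

theorem commute_yv {o : List ℕ} {z : Γ} (h : ∀ s ∈ o, ∀ t, Commute z (x s t)) (a : K) :
    Commute z (yv x φ o a) := by
  induction o generalizing a with
  | nil => exact Commute.one_right z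
  | cons s o ih =>
    exact (h s List.mem_cons_self a).mul_right (ih (fun s' hs' => h s' (List.mem_cons_of_mem _ hs')) _)

/-- `yv` is fixed by `σ`. -/
theorem yv_fix {σ : Γ →* Γ} {ρ : ℕ → ℕ} {r : ℕ} {o : List ℕ} (h : ∀ s ∈ r :: o, ∀ t, σ (x s t) = x (ρ s) (φ t))
    (hrot : (r :: o).map ρ = o ++ [r]) (hc : (r :: o).Pairwise fun r s => ∀ t u, Commute (x r t) (x s u))
    {a : K} (ha : φ^[o.length + 1] a = a) : σ (yv x φ (r :: o) a) = yv x φ (r :: o) a := by
  rw [sig_yv h, hrot, yv_append]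
  have h1 : φ^[o.length] (φ a) = a := by rw [← Function.iterate_succ_apply]; exact ha
  rw [h1]
  rw [List.pairwise_cons] at hc
  exact (commute_yv (fun s hs t => hc.1 s hs a t) (φ a)).symm.eq

theorem lprod_eq_yv {ρ : ℕ → ℕ} {z : ℕ} {c : ℕ → K} : ∀ {o : List ℕ} {r : ℕ}, (r :: o).map ρ = o ++ [z] →
    (∀ s ∈ r :: o, c (ρ s) = φ (c s)) → lprod x (r :: o) c = yv x φ (r :: o) (c r) ∧ c z = φ^[o.length + 1] (c r) := by
  intro o
  induction o with
  | nil =>
    intro r hrot hc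
    refine ⟨?_, ?_⟩
    · rw [lprod_cons, lprod_nil]; rfl
    · have h1 : ρ r = z := by
        have := hrot
        simpa using this
      rw [← h1, hc r List.mem_cons_self]
      rfl
  | cons s o ih =>
    intro r hrot hc
    rw [List.map_cons, List.cons_append, List.cons.injEq] at hrot
    obtain ⟨h1, h2⟩ := ih hrot.2 fun s' hs' => hc s' (List.mem_cons_of_mem _ hs')
    have h3 : c s = φ (c r) := by rw [← hrot.1]; exact hc r List.mem_cons_self
    refine ⟨?_, ?_⟩
    · rw [lprod_cons, h1, h3]; rfl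
    · rw [h2, h3, ← Function.iterate_succ_apply, List.length_cons]

theorem exists_lprod_yv {o : List ℕ} (hnd : o.Nodup) (a : K) : ∃ c : ℕ → K, yv x φ o a = lprod x o c ∧
    ∀ r o', o = r :: o' → c r = a := by
  induction o generalizing a with
  | nil => exact ⟨fun _ => 0, rfl, fun r o' h => by simp at h⟩
  | cons r o ih =>
    obtain ⟨hr, hnd'⟩ := List.nodup_cons.1 hnd
    obtain ⟨c, hc, -⟩ := ih hnd' (φ a)
    refine ⟨Function.update c r a, ?_, ?_⟩
    · show x r a * yv x φ o (φ a) = _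
      rw [hc, lprod_cons, Function.update_self]
      congr 1
      refine lprod_congr x fun s hs => ?_
      rw [Function.update_of_ne]
      rintro rfl
      exact hr hs
    · intro r' o' h
      rw [List.cons.injEq] at h
      rw [← h.1, Function.update_self]

theorem yv_add (hadd : ∀ r t u, x r (t + u) = x r t * x r u) {o : List ℕ}
    (hc : o.Pairwise fun r s => ∀ t u, Commute (x r t) (x s u)) (a b : K) :
    yv x φ o (a + b) = yv x φ o a * yv x φ o b := by
  induction o generalizing a b with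
  | nil => exact (mul_one 1).symm
  | cons r o ih =>
    rw [List.pairwise_cons] at hc
    show x r (a + b) * yv x φ o (φ (a + b)) = (x r a * yv x φ o (φ a)) * (x r b * yv x φ o (φ b))
    rw [map_add, ih hc.2, hadd]
    have h1 : Commute (x r b) (yv x φ o (φ a)) := commute_yv (fun s hs t => hc.1 s hs b t) _
    simp only [mul_assoc]
    rw [← mul_assoc (x r b) (yv x φ o (φ a)), h1.eq]
    simp only [mul_assoc]

theorem inj_orbit {L : List (List ℕ)} {σ : Γ →* Γ} {ρ ρ' : ℕ → ℕ} {f : ℕ → K → K} (S : Setup x L σ ρ ρ' f)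
    {o : List ℕ} (ho : o ∈ L) (hfil : (L.flatten.filter fun r => decide (r ∈ o)) = o) {t t' : ℕ → K}
    (h : lprod x o t = lprod x o t') : ∀ r ∈ o, t r = t' r := by
  have h3 : ∀ t' : ℕ → K, lprod x L.flatten (fun r => if r ∈ o then t' r else 0) = lprod x o t' := by
    intro t'
    rw [lprod_filter S.hadd (fun r => r ∈ o) L.flatten t']
    congr 1
  have h4 := S.inj _ _ ((h3 t).trans (h.trans (h3 t').symm))
  intro r hr
  have h5 := h4 r (List.mem_flatten.2 ⟨o, ho, hr⟩)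
  rwa [if_pos hr, if_pos hr] at h5

end Gen

/-! ### Elements of `SL₂` -/

section SL

variable {F : Type*} [Field F]

/-- `w = up 1 * lo (-1) * up 1` -/
def wS (t : F) : Matrix.SpecialLinearGroup (Fin 2) F := up t * (lo (-t⁻¹) * up t)

/-- `diag (t, t⁻¹)` -/
def hS (t : F) : Matrix.SpecialLinearGroup (Fin 2) F := wS t * wS (-1)

theorem coe_wS {t : F} (ht : t ≠ 0) : ((wS t : Matrix.SpecialLinearGroup (Fin 2) F) : Matrix (Fin 2) (Fin 2) F) =
    !![0, t; -t⁻¹, 0] := by
  show (!![1, t; 0, 1] : Matrix (Fin 2) (Fin 2) F) * (!![1, 0; -t⁻¹, 1] * !![1, t; 0, 1]) = _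
  ext i j
  fin_cases i <;> fin_cases j <;> simp [Matrix.mul_apply, Fin.sum_univ_two, ht]

theorem coe_hS {t : F} (ht : t ≠ 0) : ((hS t : Matrix.SpecialLinearGroup (Fin 2) F) : Matrix (Fin 2) (Fin 2) F) =
    !![t, 0; 0, t⁻¹] := by
  unfold hS
  rw [Matrix.SpecialLinearGroup.coe_mul, coe_wS ht, coe_wS (neg_ne_zero.2 one_ne_zero)]
  ext i j
  fin_cases i <;> fin_cases j <;> simp [Matrix.mul_apply, Fin.sum_univ_two]

theorem map_wS {F' : Type*} [Field F'] (f : F →+* F') (t : F) : Matrix.SpecialLinearGroup.map f (wS t) = wS (f t) := by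
  unfold wS
  rw [map_mul, map_mul, map_up, map_lo, map_neg, map_inv₀]

theorem map_hS {F' : Type*} [Field F'] (f : F →+* F') (t : F) : Matrix.SpecialLinearGroup.map f (hS t) = hS (f t) := by
  unfold hS
  rw [map_mul, map_wS, map_wS, map_neg, map_one]

end SL

/-- conjugation by `w` -/
theorem lo_eq {F : Type*} [Field F] (t : F) : (lo t : Matrix.SpecialLinearGroup (Fin 2) F) =
    wS 1 * up (-t) * (wS 1)⁻¹ := by
  rw [eq_mul_inv_iff_mul_eq]
  apply Subtype.ext
  rw [Matrix.SpecialLinearGroup.coe_mul, Matrix.SpecialLinearGroup.coe_mul, coe_wS one_ne_zero]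
  show (!![1, 0; t, 1] : Matrix (Fin 2) (Fin 2) F) * _ = _ * !![1, -t; 0, 1]
  ext i j
  fin_cases i <;> fin_cases j <;> simp [Matrix.mul_apply, Fin.sum_univ_two]

/-! ### The fixed field -/

/-- The fixed field of `φ ^ k`. -/
def Fx {K : Type*} [Field K] (φ : K →+* K) (k : ℕ) : Subfield K := (φ ^ k).eqLocusField (RingHom.id K)

theorem mem_Fx {K : Type*} [Field K] {φ : K →+* K} {k : ℕ} {a : K} : a ∈ Fx φ k ↔ φ^[k] a = a := by
  rw [← RingHom.coe_pow]
  exact Iff.rfl

/-! ### The homomorphisms of the root `SL₂`s -/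

section Psi

variable {D : ChevalleyDatum} (hD : InList D) (K : Type u) [Field K]

/-- The homomorphism `SL₂(K) → ⟨X_r, X_{-r}⟩`. -/
noncomputable def psi (r : ℕ) : Matrix.SpecialLinearGroup (Fin 2) K →* GL D.Idx K :=
  if h : r < D.nroots then SL2Hom.phi (SL2All.good_of_mem D hD r h) K else 1

variable {K}

theorem psi_up {r : ℕ} (hr : r < D.nroots) (t : K) : psi hD K r (up t) = xG hD r t := by
  rw [psi, dif_pos hr]
  exact Units.ext (SL2Hom.phi_upper _ _ t rfl)

theorem psi_lo {r : ℕ} (hr : r < D.nroots) (t : K) : psi hD K r (lo t) = xG hD (D.neg r) t := by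
  rw [psi, dif_pos hr]
  exact Units.ext (SL2Hom.phi_lower _ _ t rfl)

theorem psi_wS {r : ℕ} (hr : r < D.nroots) (t : K) : psi hD K r (wS t) = nG hD r t := by
  unfold wS
  rw [map_mul, map_mul, psi_up hD hr, psi_lo hD hr, nG_def]

theorem psi_hS {r : ℕ} (hr : r < D.nroots) (t : K) : psi hD K r (hS t) = hG hD r t := by
  unfold hS
  rw [map_mul, psi_wS hD hr, psi_wS hD hr, hG_def]

theorem psi_mem {r : ℕ} (hr : r < D.nroots) (g : Matrix.SpecialLinearGroup (Fin 2) K) :
    psi hD K r g ∈ D.rootSubgroup K r ⊔ D.rootSubgroup K (D.neg r) := by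
  rw [psi, dif_pos hr, ← SL2Hom.range_phi (SL2All.good_of_mem D hD r hr)]
  exact ⟨g, rfl⟩

theorem hv_wS (φ : K →+* K) {o : List ℕ} (ho : ∀ s ∈ o, s < D.nroots) :
    hv (psi hD K) φ o (wS 1) = (o.map fun s => nG hD s (1 : K)).prod := by
  induction o with
  | nil => rfl
  | cons s o ih =>
    show psi hD K s (wS 1) * hv (psi hD K) φ o (Matrix.SpecialLinearGroup.map φ (wS 1)) = _
    rw [map_wS, map_one, ih fun s' hs' => ho s' (List.mem_cons_of_mem _ hs'), psi_wS hD (ho s List.mem_cons_self),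
      List.map_cons, List.prod_cons]

theorem hv_hS (φ : K →+* K) {o : List ℕ} (ho : ∀ s ∈ o, s < D.nroots) {t : K} (ht : t ≠ 0) :
    hv (psi hD K) φ o (hS t) ∈ D.diagonalSubgroup K := by
  induction o generalizing t with
  | nil => exact one_mem _
  | cons s o ih =>
    show psi hD K s (hS t) * hv (psi hD K) φ o (Matrix.SpecialLinearGroup.map φ (hS t)) ∈ _
    rw [map_hS, psi_hS hD (ho s List.mem_cons_self)]
    exact mul_mem (hG_mem_diagonal hD (ho s List.mem_cons_self) ht)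
      (ih (fun s' hs' => ho s' (List.mem_cons_of_mem _ hs')) ((map_ne_zero φ).2 ht))

end Psi

/-! ### The nodes -/

section Node

variable {D : ChevalleyDatum} {l : ℕ} {M' : CoxeterMatrix (Fin l)}

/-- The table checks for a node `i` with class `r :: o`. -/
structure NodeOK (D : ChevalleyDatum) {l m : ℕ} (J : Fin m → List (Fin l)) (L : List (List ℕ)) (ρ : ℕ → ℕ)
    (i : Fin m) (r : ℕ) (o : List ℕ) : Prop where
  mem : r :: o ∈ L
  nodup : (r :: o).Nodup
  fil : (L.flatten.filter fun s => decide (s ∈ r :: o)) = r :: o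
  cls : ∀ k < D.nroots, (V D J k = sr i ↔ k ∈ r :: o)
  lt : ∀ k ∈ r :: o, k < D.nroots
  rot : (r :: o).map ρ = o ++ [r]
  Jn : (J i).map (fun j : Fin l => D.simple (j : ℕ)) = r :: o
  comm : (r :: o).Pairwise fun r s => ∀ r' ∈ [r, D.neg r], ∀ s' ∈ [s, D.neg s], r' < D.nroots ∧ s' < D.nroots ∧
    s' ≠ r' ∧ s' ≠ D.neg r' ∧ D.commTerms r' s' = []

variable (hp : IsType D l M') {K : Type u} [Field K] {m : ℕ}
  {J : Fin m → List (Fin l)} {L : List (List ℕ)} {σ : GL D.Idx K →* GL D.Idx K} {ρ ρ' : ℕ → ℕ}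
    {f : ℕ → K → K} {G : Subgroup (GL D.Idx K)} {i : Fin m} {r : ℕ} {o : List ℕ}

include hp in
theorem NodeOK.psi_comm (N : NodeOK D J L ρ i r o) : (r :: o).Pairwise fun r s => ∀ g h,
    Commute (psi hp.inList K r g) (psi hp.inList K s h) := by
  refine N.comm.imp_of_mem ?_
  intro r s hr hs h g g'
  have hr' := N.lt r hr
  have hs' := N.lt s hs
  have key : ∀ r' ∈ [r, D.neg r], ∀ s' ∈ [s, D.neg s],
      D.rootSubgroup K r' ≤ Subgroup.centralizer (D.rootSubgroup K s' : Set (GL D.Idx K)) := by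
    intro r' hr' s' hs' a ha
    obtain ⟨t, rfl⟩ := (mem_rootSubgroup_iff hp.inList r' a).1 ha
    rw [Subgroup.mem_centralizer_iff]
    intro b hb
    obtain ⟨u, rfl⟩ := (mem_rootSubgroup_iff hp.inList s' b).1 hb
    obtain ⟨h1, h2, h3, h4, h5⟩ := h r' hr' s' hs'
    exact (commute_of_nil hp h1 h2 h3 h4 h5 t u).symm.eq
  have key2 : ∀ r' ∈ [r, D.neg r], D.rootSubgroup K r' ≤
      Subgroup.centralizer ((D.rootSubgroup K s ⊔ D.rootSubgroup K (D.neg s) : Subgroup _) : Set (GL D.Idx K)) := by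
    intro r' hr'
    rw [Subgroup.le_centralizer_iff]
    exact sup_le (Subgroup.le_centralizer_iff.1 (key r' hr' s (by simp)))
      (Subgroup.le_centralizer_iff.1 (key r' hr' (D.neg s) (by simp)))
  have h1 := sup_le (key2 r (by simp)) (key2 (D.neg r) (by simp)) (psi_mem hp.inList hr' g)
  exact (Subgroup.mem_centralizer_iff.1 h1 _ (psi_mem hp.inList hs' g')).symm

/-- The homomorphism on `SL₂(K)`. -/
noncomputable def Ph (hp : IsType D l M') (K : Type u) [Field K] (N : NodeOK D J L ρ i r o) (φ : K →+* K) :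
    Matrix.SpecialLinearGroup (Fin 2) K →* GL D.Idx K :=
  hvHom (psi hp.inList K) φ (r :: o) (N.psi_comm hp)

variable (φ : K →+* K)

theorem Ph_up (N : NodeOK D J L ρ i r o) (t : K) : Ph hp K N φ (up t) = yv (xG hp.inList) φ (r :: o) t :=
  hv_up (fun s hs t => psi_up hp.inList (N.lt s hs) t) t

theorem Ph_wS (N : NodeOK D J L ρ i r o) : Ph hp K N φ (wS 1) = nI hp K (J i) := by
  show hv (psi hp.inList K) φ (r :: o) (wS 1) = _
  rw [hv_wS hp.inList φ N.lt, ← N.Jn, List.map_map]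
  rfl

theorem Ph_hS (N : NodeOK D J L ρ i r o) {t : K} (ht : t ≠ 0) : Ph hp K N φ (hS t) ∈ D.diagonalSubgroup K :=
  hv_hS hp.inList φ N.lt ht

variable {hp} {φ}

theorem mem_R_iff (FG : FoldGrp hp K J L σ ρ ρ' f G) (N : NodeOK D J L ρ i r o)
    (hf : ∀ s ∈ r :: o, ∀ t, f s t = φ t) (g : GL D.Idx K) :
    g ∈ R D hp K J σ (sr i) ↔ ∃ a ∈ Fx φ (o.length + 1), g = yv (xG hp.inList) φ (r :: o) a := by
  have hR : R D hp K J σ (sr i) = rspan (xG hp.inList) {k | k ∈ r :: o} ⊓ fixS σ := R_eq N.cls N.lt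
  rw [hR]
  have hL : ∀ s ∈ r :: o, s ∈ L.flatten := fun s hs => List.mem_flatten.2 ⟨_, N.mem, hs⟩
  constructor
  · intro hg
    obtain ⟨c, hc, rfl⟩ := orbit_coords FG.setup N.mem N.nodup N.fil hg
    obtain ⟨h1, h2⟩ := lprod_eq_yv (x := xG hp.inList) (φ := φ) (c := c) N.rot fun s hs => by
      rw [hc s hs, hf s hs]
    exact ⟨c r, mem_Fx.2 h2.symm, h1⟩
  · rintro ⟨a, ha, rfl⟩
    refine ⟨?_, ?_⟩
    · obtain ⟨c, hc, -⟩ := exists_lprod_yv (x := xG hp.inList) (φ := φ) N.nodup a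
      rw [hc]
      exact lprod_mem_rspan _ (fun _ h => h) c
    · exact yv_fix (fun s hs t => by rw [FG.setup.hσ s (hL s hs) t, hf s hs]) N.rot (FG.setup.comm _ N.mem)
        (mem_Fx.1 ha)

theorem yv_inj (FG : FoldGrp hp K J L σ ρ ρ' f G) (N : NodeOK D J L ρ i r o) {a b : K}
    (h : yv (xG (F := K) hp.inList) φ (r :: o) a = yv (xG hp.inList) φ (r :: o) b) : a = b := by
  obtain ⟨c, hc, hca⟩ := exists_lprod_yv (x := xG (F := K) hp.inList) (φ := φ) N.nodup a
  obtain ⟨c', hc', hcb⟩ := exists_lprod_yv (x := xG (F := K) hp.inList) (φ := φ) N.nodup b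
  rw [hc, hc'] at h
  have h1 := inj_orbit FG.setup N.mem N.fil h r List.mem_cons_self
  rwa [hca r o rfl, hcb r o rfl] at h1

theorem Ph_mem (FG : FoldGrp hp K J L σ ρ ρ' f G) (N : NodeOK D J L ρ i r o)
    (hf : ∀ s ∈ r :: o, ∀ t, f s t = φ t) (g : Matrix.SpecialLinearGroup (Fin 2) (Fx φ (o.length + 1))) :
    Ph hp K N φ (Matrix.SpecialLinearGroup.map (Fx φ (o.length + 1)).subtype g) ∈ G := by
  have hup : ∀ a : Fx φ (o.length + 1),
      Ph hp K N φ (Matrix.SpecialLinearGroup.map (Fx φ (o.length + 1)).subtype (up a)) ∈ G := by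
    intro a
    rw [map_up, Ph_up]
    exact FG.XG i ((mem_R_iff FG N hf _).2 ⟨_, a.2, rfl⟩)
  have hw : Ph hp K N φ (Matrix.SpecialLinearGroup.map (Fx φ (o.length + 1)).subtype (wS 1)) ∈ G := by
    rw [map_wS, map_one, Ph_wS]
    exact FG.nG i
  have h1 : Subgroup.closure (Set.range (up (F := Fx φ (o.length + 1))) ∪ Set.range (lo (F := Fx φ (o.length + 1)))) ≤
      G.comap ((Ph hp K N φ).comp (Matrix.SpecialLinearGroup.map (Fx φ (o.length + 1)).subtype)) := by
    rw [Subgroup.closure_le]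
    rintro _ (⟨a, rfl⟩ | ⟨a, rfl⟩)
    · exact hup a
    · show Ph hp K N φ (Matrix.SpecialLinearGroup.map _ (lo a)) ∈ G
      rw [lo_eq, map_mul, map_mul, map_inv, map_mul, map_mul, map_inv]
      exact mul_mem (mul_mem hw (hup _)) (inv_mem hw)
  exact h1 (mem_closure_SL2 g)

/-- **The homomorphism `SL₂(F) → G` of the node `i`.** -/
noncomputable def Phi (FG : FoldGrp hp K J L σ ρ ρ' f G) (N : NodeOK D J L ρ i r o)
    (hf : ∀ s ∈ r :: o, ∀ t, f s t = φ t) : Matrix.SpecialLinearGroup (Fin 2) (Fx φ (o.length + 1)) →* ↥G :=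
  ((Ph hp K N φ).comp (Matrix.SpecialLinearGroup.map (Fx φ (o.length + 1)).subtype)).codRestrict G
    (Ph_mem FG N hf)

variable (FG : FoldGrp hp K J L σ ρ ρ' f G) (N : NodeOK D J L ρ i r o) (hf : ∀ s ∈ r :: o, ∀ t, f s t = φ t)

theorem coe_Phi_up (a : Fx φ (o.length + 1)) :
    ((Phi FG N hf (up a) : ↥G) : GL D.Idx K) = yv (xG hp.inList) φ (r :: o) (a : K) := by
  show Ph hp K N φ (Matrix.SpecialLinearGroup.map _ (up a)) = _
  rw [map_up, Ph_up]
  rfl

theorem mem_X_iff (g : ↥G) : g ∈ (R D hp K J σ (sr i)).subgroupOf G ↔ ∃ a, g = Phi FG N hf (up a) := by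
  rw [Subgroup.mem_subgroupOf, mem_R_iff FG N hf]
  constructor
  · rintro ⟨a, ha, e⟩
    exact ⟨⟨a, ha⟩, Subtype.ext (e.trans (coe_Phi_up FG N hf ⟨a, ha⟩).symm)⟩
  · rintro ⟨a, rfl⟩
    exact ⟨a, a.2, coe_Phi_up FG N hf a⟩

theorem Phi_up_injective : Function.Injective fun a : Fx φ (o.length + 1) => Phi FG N hf (up a) := by
  intro a b h
  have h1 : ((Phi FG N hf (up a) : ↥G) : GL D.Idx K) = (Phi FG N hf (up b) : ↥G) := congrArg Subtype.val h
  rw [coe_Phi_up, coe_Phi_up] at h1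
  exact Subtype.ext (yv_inj FG N h1)

theorem Phi_wS : Phi FG N hf (wS 1) = ⟨nI hp K (J i), FG.nG i⟩ := by
  apply Subtype.ext
  show Ph hp K N φ (Matrix.SpecialLinearGroup.map _ (wS 1)) = _
  rw [map_wS, map_one, Ph_wS]

theorem Phi_hS {d : Fx φ (o.length + 1)} (hd : d ≠ 0) :
    Phi FG N hf (hS d) ∈ (D.diagonalSubgroup K ⊓ G).subgroupOf G := by
  rw [Subgroup.mem_subgroupOf]
  refine ⟨?_, (Phi FG N hf (hS d)).2⟩
  show Ph hp K N φ (Matrix.SpecialLinearGroup.map _ (hS d)) ∈ _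
  rw [map_hS]
  exact Ph_hS hp φ N ((map_ne_zero (Fx φ (o.length + 1)).subtype).2 hd)

end Node

end Cfsg.Agent.Nodes.RGDFoldSL
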