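import Cfsg.Agent.Nodes.RGDTwD4
import Cfsg.Agent.Nodes.RGDTwE6
import Cfsg.Agent.Nodes.RGDFoldSL

/-!
The nodes of `³D₄(q)` and `²E₆(q)`: homomorphisms `SL₂(F) → G` (`F = F_q` at the long nodes, `F = K` at the short ones)
parametrising the root groups of the fundamental roots.
-/

set_option autoImplicit false
set_option linter.unusedSectionVars false
set_option maxHeartbeats 400000
set_option Elab.async false

namespace Cfsg.Agent.Nodes.RGDTwNode

open CoxeterSystem Cfsg.Agent.ChevalleyStructure.CoxeterGeom Cfsg.Agent.Tits.Roots Cfsg.Agent.Tits.Core
  Cfsg.Agent.Nodes.BNOf Cfsg.Agent.Nodes.RGDTwGen Cfsg.Agent.Nodes.RGDChev Cfsg.Agent.Nodes.RGDFold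
  Cfsg.Agent.Nodes.RGDFoldSL
open Cfsg.Lie Cfsg.Agent.ChevalleyStructure

universe u

/-! ### `³D₄(q)` -/

namespace D4

open Cfsg.Agent.Nodes.RGDTwD4

/-- the orbits of the fundamental roots -/
def rep : Fin 2 → ℕ := ![14, 18]
/-- the rest of the orbits -/
def rest : Fin 2 → List ℕ := ![[], [13, 12]]

theorem nodeOK : ∀ i, NodeOK chevD4 J L rho i (rep i) (rest i) := by
  intro i
  fin_cases i
  · exact
    { mem := by decide +kernel
      nodup := by decide +kernel
      fil := by decide +kernel
      cls := by decide +kernel
      lt := by decide +kernel
      rot := by decide +kernel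
      Jn := by decide +kernel
      comm := by decide +kernel }
  · exact
    { mem := by decide +kernel
      nodup := by decide +kernel
      fil := by decide +kernel
      cls := by decide +kernel
      lt := by decide +kernel
      rot := by decide +kernel
      Jn := by decide +kernel
      comm := by decide +kernel }

theorem eps_one : ∀ i, ∀ s ∈ rep i :: rest i, eps s = 1 := by decide +kernel

end D4

/-! ### `²E₆(q)` -/

namespace E6

open Cfsg.Agent.Nodes.RGDTwE6

/-- the orbits of the fundamental roots -/
def rep : Fin 4 → ℕ := ![46, 39, 42, 56]
/-- the rest of the orbits -/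
def rest : Fin 4 → List ℕ := ![[], [], [37], [36]]

theorem nodeOK : ∀ i, NodeOK chevE6 J TwistedE6U.L TwistedE6Sigma.rho i (rep i) (rest i) := by
  intro i
  fin_cases i
  · exact
    { mem := by decide +kernel
      nodup := by decide +kernel
      fil := by decide +kernel
      cls := by decide +kernel
      lt := by decide +kernel
      rot := by decide +kernel
      Jn := by decide +kernel
      comm := by decide +kernel }
  · exact
    { mem := by decide +kernel
      nodup := by decide +kernel
      fil := by decide +kernel
      cls := by decide +kernel
      lt := by decide +kernel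
      rot := by decide +kernel
      Jn := by decide +kernel
      comm := by decide +kernel }
  · exact
    { mem := by decide +kernel
      nodup := by decide +kernel
      fil := by decide +kernel
      cls := by decide +kernel
      lt := by decide +kernel
      rot := by decide +kernel
      Jn := by decide +kernel
      comm := by decide +kernel }
  · exact
    { mem := by decide +kernel
      nodup := by decide +kernel
      fil := by decide +kernel
      cls := by decide +kernel
      lt := by decide +kernel
      rot := by decide +kernel
      Jn := by decide +kernel
      comm := by decide +kernel }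

theorem eps_one : ∀ i, ∀ s ∈ rep i :: rest i, TwistedE6Sigma.eps s = 1 := by decide +kernel

end E6

end Cfsg.Agent.Nodes.RGDTwNode
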