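import Mathlib
import Cfsg.Agent.Nodes.BNOf

/-!
The field `notp` of a root group datum follows from the other axioms and `X (sr i) ≠ X (-sr i)` (finite groups):
if `P = X ⊔ X'` were a `p`-group then `T ∩ P = 1`, so `P = X ∪ X m X` with `m² = 1`, and the normaliser condition
forces `m ∈ N(X)`. Use: the classical root group data in characteristic two.

* `not_isPGroup_sup` : the rank one statement;
* `rgd_mk` : a root group datum from its axioms without `notp`.
-/

set_option autoImplicit false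

namespace Cfsg.Agent.Nodes.NotP

open CoxeterSystem Cfsg.Agent.ChevalleyStructure.CoxeterGeom Cfsg.Agent.Tits.Roots Cfsg.Agent.Tits.Core
  Cfsg.Agent.Tits.RootComb Cfsg.Agent.Nodes.Comb Cfsg.Agent.Nodes.Reps Cfsg.Agent.Nodes.BNOf
open scoped commutatorElement

section RankOne

variable {Y : Type*} [Group Y]

theorem not_isPGroup_sup [Finite Y] {p : ℕ} [Fact p.Prime] {T X X' : Subgroup Y} {n : Y}
    (hT : (Nat.card T).Coprime p) (hTX : ∀ t ∈ T, cj t X = X) (hTX' : ∀ t ∈ T, cj t X' = X')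
    (hnT : n ∈ Subgroup.normalizer (T : Set Y)) (hnn : n * n ∈ T) (hn : cj n X = X') (hn' : cj n X' = X)
    (rk : ∀ u ∈ X', u ≠ 1 → ∃ a ∈ X, ∃ t ∈ T, ∃ b ∈ X, u = a * t * n * b) (hne : X ≠ X') :
    ¬ IsPGroup p ↥(X ⊔ X') := by
  intro hP
  set P : Subgroup Y := X ⊔ X' with hPdef
  have hXP : X ≤ P := le_sup_left
  have hXP' : X' ≤ P := le_sup_right
  -- `T ∩ P = 1`
  have hTP : ∀ t ∈ T, t ∈ P → t = 1 := by
    intro t ht htP
    obtain ⟨k, hk⟩ := hP ⟨t, htP⟩
    have hk' : t ^ p ^ k = 1 := congrArg Subtype.val hk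
    have h1 : orderOf t ∣ p ^ k := orderOf_dvd_of_pow_eq_one hk'
    have h2 : orderOf t ∣ Nat.card T := by
      have h3 := orderOf_dvd_natCard (⟨t, ht⟩ : T)
      rwa [Subgroup.orderOf_mk] at h3
    have h3 : orderOf t ∣ 1 := by
      have h4 := Nat.dvd_gcd h2 h1
      rwa [(Nat.Coprime.pow_right k hT).gcd_eq_one] at h4
    rw [Nat.dvd_one, orderOf_eq_one_iff] at h3
    exact h3
  -- `X'` is not trivial
  have hX' : X' ≠ ⊥ := by
    intro h0
    apply hne
    rw [← hn', h0]
    unfold cj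
    exact Subgroup.map_bot _
  obtain ⟨⟨u, hu⟩, hu0⟩ := Subgroup.ne_bot_iff_exists_ne_one.1 hX'
  have hu1 : u ≠ 1 := fun h' => hu0 (Subtype.ext h')
  obtain ⟨a, ha, t, ht, b, hb, e⟩ := rk u hu hu1
  set m : Y := t * n with hm
  have hmP : m ∈ P := by
    have : m = a⁻¹ * u * b⁻¹ := by rw [e, hm]; group
    rw [this]
    exact mul_mem (mul_mem (inv_mem (hXP ha)) (hXP' hu)) (inv_mem (hXP hb))
  have hmX : cj m X = X' := by rw [hm, cj_mul, hn, hTX' t ht]
  have hmX' : cj m X' = X := by rw [hm, cj_mul, hn', hTX t ht]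
  have hmm : m * m = 1 := by
    apply hTP _ _ (mul_mem hmP hmP)
    have h1 : m * m = t * (n * t * n⁻¹) * (n * n) := by rw [hm]; group
    rw [h1]
    exact mul_mem (mul_mem ht ((Subgroup.mem_normalizer_iff.1 hnT t).1 ht)) hnn
  have hminv : m⁻¹ = m := inv_eq_of_mul_eq_one_left hmm
  -- elements of `X'` are in `X m X`
  have key : ∀ v ∈ X', v ≠ 1 → ∃ c ∈ X, ∃ d ∈ X, v = c * m * d := by
    intro v hv hv1
    obtain ⟨c, hc, s, hs, d, hd, e'⟩ := rk v hv hv1
    refine ⟨c, hc, d, hd, ?_⟩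
    have h1 : s * t⁻¹ = 1 := by
      apply hTP _ (mul_mem hs (inv_mem ht))
      have : s * t⁻¹ = c⁻¹ * v * d⁻¹ * m⁻¹ := by rw [e', hm]; group
      rw [this]
      exact mul_mem (mul_mem (mul_mem (inv_mem (hXP hc)) (hXP' hv)) (inv_mem (hXP hd))) (inv_mem hmP)
    have h2 : s = t := mul_inv_eq_one.1 h1
    rw [e', hm, h2]; group
  -- `X ∪ X m X` is a subgroup
  let Q : Subgroup Y :=
    { carrier := {g | g ∈ X ∨ ∃ c ∈ X, ∃ d ∈ X, g = c * m * d}
      one_mem' := Or.inl (one_mem X)
      mul_mem' := by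
        rintro g k (hg | ⟨c, hc, d, hd, rfl⟩) (hk | ⟨c', hc', d', hd', rfl⟩)
        · exact Or.inl (mul_mem hg hk)
        · exact Or.inr ⟨g * c', mul_mem hg hc', d', hd', by group⟩
        · exact Or.inr ⟨c, hc, d * k, mul_mem hd hk, by group⟩
        · have hv : m * (d * c') * m ∈ X' := by
            rw [← hmX]
            have h1 := (conj_mem_cj (g := m) (x := d * c') (A := X)).2 (mul_mem hd hc')
            rwa [hminv] at h1
          by_cases h1 : m * (d * c') * m = 1
          · left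
            have : c * m * d * (c' * m * d') = c * (m * (d * c') * m) * d' := by group
            rw [this, h1, mul_one]
            exact mul_mem hc hd'
          · obtain ⟨c₁, hc₁, d₁, hd₁, e₁⟩ := key _ hv h1
            right
            refine ⟨c * c₁, mul_mem hc hc₁, d₁ * d', mul_mem hd₁ hd', ?_⟩
            have : c * m * d * (c' * m * d') = c * (m * (d * c') * m) * d' := by group
            rw [this, e₁]; group
      inv_mem' := by
        rintro g (hg | ⟨c, hc, d, hd, rfl⟩)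
        · exact Or.inl (inv_mem hg)
        · refine Or.inr ⟨d⁻¹, inv_mem hd, c⁻¹, inv_mem hc, ?_⟩
          rw [mul_inv_rev, mul_inv_rev, hminv]; group }
  have hPQ : P ≤ Q := by
    refine sup_le (fun x hx => Or.inl hx) fun x hx => ?_
    by_cases h1 : x = 1
    · exact Or.inl (h1 ▸ one_mem X)
    · exact Or.inr (key x hx h1)
  -- normaliser condition
  have hnil : Group.IsNilpotent ↥P := hP.isNilpotent
  have hXnorm : m ∈ Subgroup.normalizer (X : Set Y) := by
    by_cases hXP1 : X.subgroupOf P = ⊤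
    · have hPX : P ≤ X := Subgroup.subgroupOf_eq_top.1 hXP1
      exact Subgroup.le_normalizer (hPX hmP)
    · have h1 := Group.normalizerCondition_of_isNilpotent (G := ↥P) (X.subgroupOf P) (lt_top_iff_ne_top.2 hXP1)
      obtain ⟨g, hg, hg'⟩ := SetLike.exists_of_lt h1
      have hg1 : (g : Y) ∈ Subgroup.normalizer (X : Set Y) := by
        rw [Subgroup.mem_normalizer_iff] at hg ⊢
        intro x
        constructor
        · intro hx
          have h2 := (hg ⟨x, hXP hx⟩).1 (Subgroup.mem_subgroupOf.2 hx)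
          exact Subgroup.mem_subgroupOf.1 h2
        · intro hx
          have hxP : x ∈ P := by
            have : x = (g : Y)⁻¹ * (g * x * (g : Y)⁻¹) * g := by group
            rw [this]
            exact mul_mem (mul_mem (inv_mem g.2) (hXP hx)) g.2
          have h2 := (hg ⟨x, hxP⟩).2 (Subgroup.mem_subgroupOf.2 hx)
          exact Subgroup.mem_subgroupOf.1 h2
      rcases hPQ g.2 with h2 | ⟨c, hc, d, hd, e2⟩
      · exact absurd (Subgroup.mem_subgroupOf.2 h2) hg'
      · have : m = c⁻¹ * g * d⁻¹ := by rw [e2]; group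
        rw [this]
        exact mul_mem (mul_mem (inv_mem (Subgroup.le_normalizer hc)) hg1) (inv_mem (Subgroup.le_normalizer hd))
  exact hne ((mem_normalizer_iff_cj.1 hXnorm).symm.trans hmX)

end RankOne

variable {I W Y : Type*} [Fintype I] [DecidableEq I] [Group W] [Group Y] {M : CoxeterMatrix I}

/-- A root group datum from its axioms without `notp`. -/
theorem rgd_mk [Finite Y] {p : ℕ} [Fact p.Prime] {cs : CoxeterSystem M W} {A : I → I → ℤ} {h : IsCartan M A}
    {T : Subgroup Y} {n : I → Y} {X : (I → ℤ) → Subgroup Y} (nsys : NSys M T n)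
    (conj : ∀ i x, IsRoot cs h x → cj (n i) (X x) = X (rep cs h (cs.simple i) x))
    (tor : ∀ x, IsRoot cs h x → ∀ t ∈ T, cj t (X x) = X x)
    (comm : ∀ x y, IsRoot cs h x → IsRoot cs h y → x ≠ y → x ≠ -y → ∀ a ∈ X x, ∀ b ∈ X y, ⁅a, b⁆ ∈ btw cs h X x y)
    (rk1 : ∀ i, ∀ u ∈ X (-sr i), u ≠ 1 → ∃ a ∈ X (sr i), ∃ t ∈ T, ∃ b ∈ X (sr i), u = a * t * n i * b)
    (pgrp : ∀ i, IsPGroup p ↥(X (sr i))) (hne : ∀ i, X (sr i) ≠ X (-sr i)) (tcop : (Nat.card T).Coprime p) :
    RGD cs h p T n X where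
  nsys := nsys
  conj := conj
  tor := tor
  comm := comm
  rk1 := rk1
  pgrp := pgrp
  tcop := tcop
  notp i := by
    have hr : IsRoot cs h (sr i) := isRoot_sr cs h i
    have e1 : rep cs h (cs.simple i) (sr i) = -sr i := rep_simple_sr cs h i
    have e2 : rep cs h (cs.simple i) (-sr i) = sr i := by
      rw [map_neg, e1, neg_neg]
    refine not_isPGroup_sup tcop (tor _ hr) (tor _ hr.neg) (nsys.norm i) ?_ ?_ ?_ (rk1 i) (hne i)
    · have := nsys.rel i i
      rwa [M.diagonal, pow_one] at this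
    · rw [conj i _ hr, e1]
    · rw [conj i _ hr.neg, e2]

end Cfsg.Agent.Nodes.NotP
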