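import Mathlib
import Cfsg.Agent.Nodes.WittAll
import Cfsg.Agent.Nodes.WittU
import Cfsg.Agent.TitsThree.KSideO
import Cfsg.Agent.ClassicalGeometry.OrthDickson

/-!
Root group data of the classical groups of the Prelude, every characteristic (two included).

* `hasRGD_PSU` : `PSU N F q`, `N ≥ 3`; `hasRGD_PSp` : `PSp m F`, `m ≥ 1`;
* `hasRGD_PO_odd` : `PΩ_{2m+1}(F)`, `m ≥ 2`, `F` odd; `hasRGD_PO_minus` : `PΩ⁻_{2m+2}(F)`, `m ≥ 2`;
* `hasRGD_PO_plus` : `PΩ⁺_{2(n+3)}(F)`; the data are of type `C_n`, `D_n` (`WittAll.rgdC_model`, `rgdD_model`);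
* `ambT_O` : the ambient structure of `E Q` for a Witt frame of a quadratic form.
-/

set_option autoImplicit false

namespace Cfsg.Agent.Nodes.WittInst

open Cfsg
open Cfsg.Agent.ChevalleyStructure.CoxeterGeom Cfsg.Agent.Tits.Roots
open Cfsg.Agent.Nodes.Comb Cfsg.Agent.Nodes.Reps Cfsg.Agent.Nodes.WittRoot Cfsg.Agent.Nodes.BNOf
open Cfsg.Agent.Nodes.RGDLib Cfsg.Agent.Nodes.WittAll Cfsg.Agent.Nodes.WittU Cfsg.Agent.Nodes.RGDChev
open Cfsg.Agent.TitsThree Cfsg.Agent.TitsThree.Siegel Cfsg.Agent.TitsThree.SiegelGen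
  Cfsg.Agent.TitsThree.WittFrame Cfsg.Agent.TitsThree.WBridge Cfsg.Agent.TitsThree.WittWeyl
  Cfsg.Agent.TitsThree.FrameCN

/-! ### Unitary and symplectic groups -/

/-- **`PSU N F q` has a root group datum, every characteristic.** -/
theorem hasRGD_PSU {F : Type*} [Field F] [Fintype F] {q N : ℕ} (hF : Fintype.card F = q ^ 2) (hN : 3 ≤ N) {p : ℕ}
    [Fact p.Prime] [CharP F p] : HasRGD p (PSU N F q) := by
  obtain ⟨m, hm⟩ : ∃ m, N = 2 * m ∨ N = 2 * m + 1 := ⟨N / 2, by omega⟩
  obtain ⟨W, -⟩ := exists_wframe hF hm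
  obtain ⟨p0, hp0, -⟩ := exists_adm hF W
  exact hasRGD_C (KInstU.model hF hN W) (AmbT.of_amb (amb_U hF W) p) hp0 (by omega)

/-- **`PSp m F` has a root group datum, every characteristic.** -/
theorem hasRGD_PSp {F : Type*} [Field F] [Finite F] {m : ℕ} (hm : 1 ≤ m) {p : ℕ}
    [Fact p.Prime] [CharP F p] : HasRGD p (PSp m F) :=
  hasRGD_C (KInstSp.model m F) (AmbT.of_amb amb_Sp p) (p0 := SpIdent.adm 1) one_ne_zero hm

/-! ### Orthogonal groups -/

section Orthogonal

open QuadraticMap
open Cfsg.Agent.LieClassical Cfsg.Agent.LieClassical.OrthCore Cfsg.Agent.LieClassical.OrthTrans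
open Cfsg.Agent.LieClassical.OrthSimple Cfsg.Agent.LieClassical.OrthFinite
open Cfsg.Agent.LieClassical.OrthForms
open Cfsg.Agent.TitsThree.KSideO Cfsg.Agent.TitsThree.StdData

variable {ι : Type} [Fintype ι] [DecidableEq ι] {F : Type*} [Field F] {Q : QuadraticForm F (ι → F)} {m : ℕ}

omit [Fintype ι] [DecidableEq ι] in
theorem ambT_O (W : WFrame (PO Q) m) {p : ℕ}
    (hfix : ∀ g ∈ E Q, g ^ p = 1 → (∀ x, g ((toFrame W).b x) = (toFrame W).b x) → g = 1) :
    AmbT (toFrame W) p (E Q) where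
  iso g hg v w := polar_map (E_le_O hg) v w
  ok g hg w c h hw := by
    refine ⟨hw, ?_⟩
    have h2 : c = -Q w := h.2
    show c = -Q (g w)
    rw [h2, mem_O.1 (E_le_O hg)]
  X_mem := X_mem W
  Z_mem := Z_mem W
  V0 v h := mem_V0_of_orth W (fun i => h (i, true)) (fun i => h (i, false))
  ok_aniso w h := W.aniso w h.1 h.2
  fixp := hfix

omit [Fintype ι] [DecidableEq ι] in
theorem amb_O (W : WFrame (PO Q) m) (han : ∀ w ∈ W.V0, polar Q w w = 0 → Q w = 0) :
    Amb (toFrame W) (E Q) := by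
  refine amb_of W _ (fun g hg v w => polar_map (E_le_O hg) v w) ?_ (X_mem W) (Z_mem W) ?_
  · intro g hg w c h
    have h2 : c = -Q w := h
    show c = -Q (g w)
    rw [h2, mem_O.1 (E_le_O hg)]
  · intro w hw h
    exact (sing_iff Q).2 (han w hw h)

omit [Fintype ι] [DecidableEq ι] in
theorem amb_O_of_two (W : WFrame (PO Q) m) (h2 : (2 : F) ≠ 0) : Amb (toFrame W) (E Q) := by
  refine amb_O W fun w _ h => ?_
  rw [polar_self'] at h
  exact (mul_eq_zero.1 h).resolve_left h2

/-- **`PΩ_{2m+1}(F)`, `F` of odd characteristic.** -/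
theorem hasRGD_PO_odd [Finite F] (h2 : (2 : F) ≠ 0) (hm : 2 ≤ m) {p : ℕ} [Fact p.Prime] [CharP F p] :
    HasRGD p (Cfsg.POmega F (Cfsg.quadFormOdd m F)) := by
  rw [← coe_oddForm]
  have hG : Good (oddForm m F) := by
    apply good_of_finite (nondeg_oddForm m F h2)
    rw [Module.finrank_fintype_fun_eq_card, Fintype.card_sum, Fintype.card_sum, Fintype.card_fin,
      Fintype.card_unit]
    omega
  have hp : ((embOdd m F).ngt ⟨1, -1 ^ 2, rfl⟩).c ≠ 0 := by
    change (1 : F)⁻¹ * (-1 ^ 2) ≠ 0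
    simp
  exact hasRGD_C (model (wodd m F) hG ⟨_, hp⟩) (AmbT.of_amb (amb_O_of_two _ h2) p) hp (by omega)

/-! #### Minus type -/

section Minus

variable (a b : F) (hab : ∀ z₁ z₂ : F, z₁ ^ 2 + a * z₁ * z₂ + b * z₂ ^ 2 = 0 → z₁ = 0 ∧ z₂ = 0)

/-- In characteristic two an involution of `Ω⁻` fixing the frame is trivial. -/
theorem fixp_minus [Finite F] (h2 : (2 : F) = 0) (hm : 2 ≤ m) (hG : Good (minusForm m F a b))
    {g : ((Fin m ⊕ Fin m) ⊕ Fin 2 → F) ≃ₗ[F] ((Fin m ⊕ Fin m) ⊕ Fin 2 → F)} (hg : g ∈ E (minusForm m F a b))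
    (hg2 : g ^ 2 = 1) (hb : ∀ x, g ((toFrame (wminus m F a b hab)).b x) = (toFrame (wminus m F a b hab)).b x) :
    g = 1 := by
  classical
  set Q := minusForm m F a b with hQ
  set W := wminus m F a b hab with hW
  by_contra hne
  have hgO : g ∈ O Q := E_le_O hg
  have hiso : ∀ v w, polar Q (g v) (g w) = polar Q v w := fun v w => polar_map hgO v w
  -- `g` preserves `V0`
  have hV0 : ∀ w ∈ W.V0, g w ∈ W.V0 := by
    intro w hw
    apply mem_V0_of_orth W
    · intro i
      have h1 : g (W.e i) = W.e i := hb (i, true)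
      show polar Q (g w) (W.e i) = 0
      rw [← h1, hiso]
      exact W.V0e w hw i
    · intro i
      have h1 : g (W.f i) = W.f i := hb (i, false)
      show polar Q (g w) (W.f i) = 0
      rw [← h1, hiso]
      exact W.V0f w hw i
  -- an element of `V0` which is moved
  obtain ⟨w, hw, hgw⟩ : ∃ w ∈ W.V0, g w ≠ w := by
    by_contra hcon
    push Not at hcon
    apply hne
    ext1 v
    obtain ⟨x, y, w, hw, e⟩ := W.span v
    show g v = v
    rw [e, map_add, map_add, map_sum, map_sum, hcon w hw]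
    congr 2
    · exact Finset.sum_congr rfl fun i _ => by rw [map_smul]; congr 1; exact hb (i, true)
    · exact Finset.sum_congr rfl fun i _ => by rw [map_smul]; congr 1; exact hb (i, false)
  set u := g w - w with hu
  have huV : u ∈ W.V0 := Submodule.sub_mem _ (hV0 w hw) hw
  have hu0 : u ≠ 0 := sub_ne_zero.2 hgw
  have hQu : Q u ≠ 0 := fun h => hu0 (W.aniso u huV ((sing_iff Q).2 h))
  have htwo : ∀ v : (Fin m ⊕ Fin m) ⊕ Fin 2 → F, v + v = 0 := by
    intro v
    rw [← two_smul F v, h2, zero_smul]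
  have hgg : g (g w) = w := by
    have h1 : (g * g) w = w := by rw [← pow_two, hg2]; rfl
    exact h1
  have hneg : ∀ v : (Fin m ⊕ Fin m) ⊕ Fin 2 → F, -v = v := fun v => neg_eq_of_add_eq_zero_left (htwo v)
  have hgu : g u = u := by
    rw [hu, map_sub, hgg, ← hneg (w - g w)]
    abel
  have hgw' : g w = w + u := by rw [hu]; abel
  have hpol : polar Q u w = Q u := by
    have h1 : Q (g w) = Q w := mem_O.1 hgO w
    have h3 : Q (w + u) = Q w + Q u + polar Q w u := by
      rw [polar]; ring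
    rw [hgw', h3] at h1
    rw [polar_comm]
    have h4 : Q u + polar Q w u = 0 := by linear_combination h1
    have h5 : polar Q w u = Q u - 2 * Q u := by linear_combination h4
    rw [h5, h2]; ring
  have hself : ∀ v, polar Q v v = 0 := by
    intro v
    rw [polar_self', h2, zero_mul]
  -- the vectors `u`, `w` span `V0`
  have hform : ∀ x ∈ W.V0, ∀ y ∈ W.V0, polar Q x y = a * (x (Sum.inr 0) * y (Sum.inr 1) +
      x (Sum.inr 1) * y (Sum.inr 0)) := by
    intro x hx y hy
    have hx' : ∀ j, x (Sum.inl j) = 0 := hx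
    have hy' : ∀ j, y (Sum.inl j) = 0 := hy
    rw [hQ, polar_minusForm]
    simp only [hx', hy', h2, mul_zero, zero_mul, add_zero, Finset.sum_const_zero, zero_add]
  have hspan : ∀ x ∈ W.V0, ∃ α β : F, x = α • u + β • w := by
    intro x hx
    refine ⟨(Q u)⁻¹ * polar Q w x, (Q u)⁻¹ * polar Q u x, ?_⟩
    set y := x - ((Q u)⁻¹ * polar Q w x) • u - ((Q u)⁻¹ * polar Q u x) • w with hy
    have hyV : y ∈ W.V0 := Submodule.sub_mem _ (Submodule.sub_mem _ hx (Submodule.smul_mem _ _ huV))
      (Submodule.smul_mem _ _ hw)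
    have h1 : polar Q u y = 0 := by
      rw [hy, polar_sub_right, polar_sub_right, polar_smul_right, polar_smul_right, hself, hpol, smul_eq_mul,
        smul_eq_mul]
      field_simp
      ring
    have h3 : polar Q w y = 0 := by
      rw [hy, polar_sub_right, polar_sub_right, polar_smul_right, polar_smul_right, hself, polar_comm Q w u, hpol,
        smul_eq_mul, smul_eq_mul]
      field_simp
      ring
    have hy0 : y = 0 := by
      rw [hform u huV y hyV] at h1
      rw [hform w hw y hyV] at h3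
      have hpol' := hpol
      rw [hform u huV w hw] at hpol'
      have ha : a ≠ 0 := by
        rintro rfl
        rw [zero_mul] at hpol'
        exact hQu hpol'.symm
      have h4 := (mul_eq_zero.1 h1).resolve_left ha
      have h5 := (mul_eq_zero.1 h3).resolve_left ha
      have hD : u (Sum.inr 0) * w (Sum.inr 1) + u (Sum.inr 1) * w (Sum.inr 0) ≠ 0 := by
        intro h
        rw [h, mul_zero] at hpol'
        exact hQu hpol'.symm
      have hyV' : ∀ j, y (Sum.inl j) = 0 := hyV
      funext j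
      rcases j with j | j
      · exact hyV' j
      · fin_cases j
        · have h6 : (u (Sum.inr 0) * w (Sum.inr 1) + u (Sum.inr 1) * w (Sum.inr 0)) * y (Sum.inr 0) = 0 := by
            linear_combination u (Sum.inr 0) * h5 + w (Sum.inr 0) * h4 -
              (u (Sum.inr 0) * w (Sum.inr 0) * y (Sum.inr 1)) * h2
          exact (mul_eq_zero.1 h6).resolve_left hD
        · have h6 : (u (Sum.inr 0) * w (Sum.inr 1) + u (Sum.inr 1) * w (Sum.inr 0)) * y (Sum.inr 1) = 0 := by
            linear_combination u (Sum.inr 1) * h5 + w (Sum.inr 1) * h4 -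
              (u (Sum.inr 1) * w (Sum.inr 1) * y (Sum.inr 0)) * h2
          exact (mul_eq_zero.1 h6).resolve_left hD
    have h6 : x = y + ((Q u)⁻¹ * polar Q w x) • u + ((Q u)⁻¹ * polar Q u x) • w := by rw [hy]; abel
    rw [hy0, zero_add] at h6
    exact h6
  -- `g` is the reflection in `u`
  have hrefl : ∀ v, g v = v - ((Q u)⁻¹ * polar Q u v) • u := by
    intro v
    obtain ⟨x, y, z, hz, e⟩ := W.span v
    obtain ⟨α, β, hz'⟩ := hspan z hz
    have h3 : g z = z - ((Q u)⁻¹ * polar Q u z) • u := by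
      rw [hz', map_add, map_smul, map_smul, hgu, hgw', polar_add_right, polar_smul_right, polar_smul_right, hself,
        hpol, smul_eq_mul, smul_eq_mul, mul_zero, zero_add]
      have h4 : (Q u)⁻¹ * (β * Q u) = β := by field_simp
      have h4' : β • u = -(β • u) := (hneg (β • u)).symm
      rw [h4, smul_add]
      nth_rw 1 [h4']
      abel
    have h5 : polar Q u v = polar Q u z := by
      rw [e, polar_add_right, polar_add_right]
      have h6 : ∀ (s : Finset (Fin m)) (c : Fin m → F) (t : Fin m → ((Fin m ⊕ Fin m) ⊕ Fin 2 → F)),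
          (∀ i, polar Q u (t i) = 0) → polar Q u (∑ i ∈ s, c i • t i) = 0 := by
        intro s c t ht
        induction s using Finset.induction_on with
        | empty => simp
        | insert i s hi ih => rw [Finset.sum_insert hi, polar_add_right, ih, polar_smul_right, ht, smul_zero, add_zero]
      rw [h6 _ _ _ fun i => W.V0e u huV i, h6 _ _ _ fun i => W.V0f u huV i, zero_add, zero_add]
    rw [h5, e, map_add, map_add, map_sum, map_sum, h3]
    have h7 : ∑ i, g (x i • W.e i) = ∑ i, x i • W.e i :=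
      Finset.sum_congr rfl fun i _ => by rw [map_smul]; congr 1; exact hb (i, true)
    have h8 : ∑ i, g (y i • W.f i) = ∑ i, y i • W.f i :=
      Finset.sum_congr rfl fun i _ => by rw [map_smul]; congr 1; exact hb (i, false)
    rw [h7, h8]
    abel
  -- contradiction
  have hnd : (polarBilin Q).Nondegenerate :=
    ⟨fun x hx => nondeg_minusForm m F a b hab x fun y => by
      have := hx y; rwa [polarBilin_apply_apply] at this,
    fun x hx => nondeg_minusForm m F a b hab x fun y => by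
      have := hx y
      rw [polarBilin_apply_apply, polar_comm] at this
      exact this⟩
  obtain ⟨k, hk⟩ := (omegaEquiv Q).surjective ⟨g, by rw [hG.commutator_eq_E]; exact hg⟩
  have hkv : ∀ v, (((k : Cfsg.isometryGroup F ⇑Q) : Matrix.GeneralLinearGroup ((Fin m ⊕ Fin m) ⊕ Fin 2) F) :
      Matrix ((Fin m ⊕ Fin m) ⊕ Fin 2) ((Fin m ⊕ Fin m) ⊕ Fin 2) F).mulVec v = g v := by
    intro v
    rw [← omegaEquiv_apply, hk]
  have hk1 : (k : Cfsg.isometryGroup F ⇑Q) = ClassicalGeometry.Reflection.reflIso Q u hQu := by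
    apply ClassicalGeometry.Reflection.isometryGroup_ext
    intro v
    rw [hkv, hrefl, ClassicalGeometry.Reflection.coe_reflIso, ClassicalGeometry.Reflection.reflectionMatrix_mulVec]
  have h9 := ClassicalGeometry.OrthDickson.refl_notMem_commutator Q hnd (Or.inr (by
    rw [Fintype.card_sum, Fintype.card_sum, Fintype.card_fin, Fintype.card_fin]; omega)) u hQu
  exact h9 (hk1 ▸ k.2)

/-- **`PΩ⁻_{2m+2}(F)`, every characteristic.** -/
theorem hasRGD_PO_minus [Finite F] (hab : ∀ z₁ z₂ : F, z₁ ^ 2 + a * z₁ * z₂ + b * z₂ ^ 2 = 0 → z₁ = 0 ∧ z₂ = 0)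
    (hm : 2 ≤ m) {p : ℕ} [Fact p.Prime] [CharP F p] :
    HasRGD p (Cfsg.POmega F (Cfsg.quadFormMinus m F a b)) := by
  rw [← coe_minusForm]
  have hG : Good (minusForm m F a b) := by
    apply good_of_finite (nondeg_minusForm m F a b hab)
    rw [Module.finrank_fintype_fun_eq_card, Fintype.card_sum, Fintype.card_sum, Fintype.card_fin,
      Fintype.card_fin]
    omega
  have hp : ((embMinus m F a b hab).ngt ⟨(1, 0), -nf a b (1, 0), rfl⟩).c ≠ 0 := by
    change (1 : F)⁻¹ * (-nf a b (1, 0)) ≠ 0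
    simp [nf]
  have hA : AmbT (toFrame (wminus m F a b hab)) p (E (minusForm m F a b)) := by
    by_cases h2 : (2 : F) = 0
    · have hp2 : p = 2 := by
        have h3 : CharP F 2 := CharTwo.of_one_ne_zero_of_two_eq_zero one_ne_zero h2
        exact CharP.eq F ‹CharP F p› h3
      subst hp2
      exact ambT_O _ fun g hg hg2 hb => fixp_minus a b hab h2 hm hG hg hg2 hb
    · exact AmbT.of_amb (amb_O_of_two _ h2) p
  exact hasRGD_C (model (wminus m F a b hab) hG ⟨_, hp⟩) hA hp (by omega)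

end Minus

/-! #### Plus type -/

section Plus

open Cfsg.Agent.Nodes.TypeC (wt ng)
open Cfsg.Agent.Nodes.TypeD
open Cfsg.Agent.Nodes.WittRGD (Tor)

/-- The Witt frame of `quadFormPlus`. -/
def wplus (m : ℕ) (F : Type*) [Field F] : WFrame (PO (plusForm m F)) m where
  e i := Pi.single (Sum.inl i) 1
  f i := Pi.single (Sum.inr i) 1
  V0 := ⊥
  ee i j := by
    rw [HO_h, polar_plusForm]
    simp [Pi.single_apply]
  ff i j := by
    rw [HO_h, polar_plusForm]
    simp [Pi.single_apply]
  ef i j := by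
    rw [HO_h, polar_plusForm]
    simp [Pi.single_apply, eq_comm]
  fe i j := by
    rw [HO_h, polar_plusForm]
    simp [Pi.single_apply, eq_comm]
    rfl
  e_sing i := by
    rw [sing_iff, coe_plusForm, quadFormPlus_apply]
    simp [Pi.single_apply]
  f_sing i := by
    rw [sing_iff, coe_plusForm, quadFormPlus_apply]
    simp [Pi.single_apply]
  V0e w hw i := by
    rw [(Submodule.mem_bot F).1 hw]
    exact (HO _).zero_left _
  V0f w hw i := by
    rw [(Submodule.mem_bot F).1 hw]
    exact (HO _).zero_left _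
  aniso w hw h := (Submodule.mem_bot F).1 hw
  span v := by
    refine ⟨fun i => v (Sum.inl i), fun i => v (Sum.inr i), 0, Submodule.zero_mem _, ?_⟩
    funext j
    rcases j with j | j
    · simp [Finset.sum_apply, Pi.single_apply]
    · simp [Finset.sum_apply, Pi.single_apply]

theorem adm_plus (m : ℕ) (q : (toFrame (wplus m F)).Adm) : q = 1 := by
  have h1 : q.w = 0 := (Submodule.mem_bot F).1 q.ok.1
  have h2 : q.c = -(plusForm m F) q.w := q.ok.2
  apply Frame.Adm.ext
  · exact h1
  · rw [h2, h1, QuadraticMap.map_zero, neg_zero]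
    rfl

theorem amb_plus (m : ℕ) : Amb (toFrame (wplus m F)) (E (plusForm m F)) := by
  refine amb_O _ fun w hw _ => ?_
  rw [(Submodule.mem_bot F).1 hw, QuadraticMap.map_zero]

variable {n : ℕ} (W : WFrame (PO Q) (n + 2)) {K : Type*} [Group K] (φ : E Q →* K)

/-- The root groups of a quotient of `E Q`, type `D`. -/
def XD (x : Fin (n + 2) → ℤ) : Subgroup K := ((WittRGDD.rg (toFrame W) x).subgroupOf (E Q)).map φ

omit [Fintype ι] [DecidableEq ι] in
theorem rgD_le (hA : Amb (toFrame W) (E Q)) (x : Fin (n + 2) → ℤ) : WittRGDD.rg (toFrame W) x ≤ E Q := by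
  refine iSup_le fun q => ?_
  rintro _ ⟨t, rfl⟩
  exact hA.X_mem _ _ _

omit [Fintype ι] [DecidableEq ι] in
/-- The root groups of type `D` generate. -/
theorem G1D_eq_top (hφ : Function.Surjective φ) (h0 : ∀ p : (toFrame W).Adm, p = 1)
    {G : Type*} [Group G] (cs : CoxeterSystem (M n) G) : G1 cs (isCartan n) (XD W φ) = ⊤ := by
  set S : Subgroup K := G1 cs (isCartan n) (XD W φ) with hS
  set L : Subgroup ((ι → F) ≃ₗ[F] (ι → F)) := (S.comap φ).map (E Q).subtype with hL
  have key : ∀ a b : Fin (n + 2) × Bool, a.1 ≠ b.1 → ∀ t, (toFrame W).X a b t ∈ L := by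
    intro a b hab t
    obtain ⟨x, hx, ex⟩ := rt_of_ok (cs := cs) (a := a) (b := b) hab
    refine ⟨⟨(toFrame W).X a b t, X_mem W _ _ _⟩, ?_, rfl⟩
    refine X_le_G1 hx ?_
    refine Subgroup.mem_map_of_mem _ (Subgroup.mem_subgroupOf.2 ?_)
    show (toFrame W).X a b t ∈ WittRGDD.rg (toFrame W) x
    rw [WittRGDD.rg_eq (toFrame W) hab ex]
    exact ⟨t, rfl⟩
  have hne : pd n ≠ (⟨n + 1, by omega⟩ : Fin (n + 2)) := by simp [pd, Fin.ext_iff]
  have hC : W.Contains L := contains_D W (pd n) ⟨n + 1, by omega⟩ hne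
    (fun i j hij t => by
      have h1 : i ≠ j := by rintro rfl; omega
      exact ⟨key _ _ h1 t, key _ _ h1.symm t⟩)
    (fun t => ⟨key _ _ hne t, key _ _ hne t⟩) h0
  have htop : E Q ≤ L := by
    rw [E, Subgroup.closure_le]
    rintro _ ⟨u, w, hu, hw, rfl⟩
    have huu : (HO Q).h u u = 0 := polar_self_of_sing hu
    have := hC.all W ((sing_iff Q).2 hu) huu (w := w) (c := -Q w) hw rfl
    rwa [sie_eq Q huu hw hu hw rfl] at this
  rw [eq_top_iff]
  intro k _
  obtain ⟨g, rfl⟩ := hφ k
  obtain ⟨g', hg', he⟩ := htop g.2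
  have : g' = g := Subtype.ext he
  exact this ▸ hg'

theorem ker_toPOmega (hG : Good Q) : (toPOmega hG).ker ≤ Subgroup.center (E Q) :=
  fun _ hg => center_of_toPOmega hG hg

/-- **The root group datum of type `D_{n+2}` of `PΩ` of a hyperbolic form.** -/
theorem rgdD_model [Finite F] (hG : Good Q) (hA : Amb (toFrame W) (E Q)) (h0 : ∀ p : (toFrame W).Adm, p = 1) {p : ℕ}
    [Fact p.Prime] [CharP F p] {G : Type*} [Group G] (cs : CoxeterSystem (M n) G) :
    RGD cs (isCartan n) p (((Tor (toFrame W) (E Q)).subgroupOf (E Q)).map (toPOmega hG))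
      (fun i => toPOmega hG ⟨WittRGDD.nn (toFrame W) i, WittRGDD.nn_mem hA i⟩) (XD W (toPOmega hG)) := by
  have : Finite ((ι → F) ≃ₗ[F] (ι → F)) :=
    Finite.of_injective (fun g : (ι → F) ≃ₗ[F] (ι → F) => (g : (ι → F) → (ι → F))) DFunLike.coe_injective
  have : Finite G := finite_W cs
  exact rgd_map_of_ker_le_center (rgd_restrict (rgdD hA h0 cs) (E Q) (fun x _ => rgD_le W hA x)
    (fun i => WittRGDD.nn_mem hA i)) (toPOmega hG) (ker_toPOmega hG)

/-- **`PΩ⁺_{2(n+3)}(F)`, every characteristic.** -/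
theorem hasRGD_PO_plus [Finite F] (n : ℕ) {p : ℕ} [Fact p.Prime] [CharP F p] :
    HasRGD p (Cfsg.POmega F (Cfsg.quadFormPlus (n + 3) F)) := by
  rw [← coe_plusForm]
  have hG : Good (plusForm (n + 3) F) := by
    apply good_of_finite (nondeg_plusForm (n + 3) F)
    rw [Module.finrank_fintype_fun_eq_card, Fintype.card_sum, Fintype.card_fin]
    omega
  exact ⟨n + 3, M (n + 1), A (n + 1), isCartan (n + 1), _, _, _, finite_W (M (n + 1)).toCoxeterSystem,
    rgdD_model (wplus (n + 3) F) hG (amb_plus _) (adm_plus _) _,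
    G1D_eq_top (wplus (n + 3) F) (toPOmega hG) (toPOmega_surjective hG) (adm_plus _) _⟩

end Plus

end Orthogonal

end Cfsg.Agent.Nodes.WittInst
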