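import Mathlib
import Cfsg.Prelude.Def_LieTypeChar
import Cfsg.Agent.Nodes.WittInst
import Cfsg.Agent.Nodes.RGDTypeA

/-!
Every simple classical group of characteristic `p` (two included) has a root group datum of characteristic `p`.

* `hasRGD_PSL` : `PSL_{n+1}(F)`;
* `hasRGD_of_PSL`, `hasRGD_of_PSp`, `hasRGD_of_PSU`, `hasRGD_of_POmegaOdd`, `hasRGD_of_POmegaPlus`,
  `hasRGD_of_POmegaMinus` : from the predicates of `Def_LieTypeChar`.
(The exceptional and twisted groups: `RGDChev.hasRGD_of_exceptional`, `RGDTwAll.hasRGD_of_twisted`.)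
-/

set_option autoImplicit false

namespace Cfsg.Agent.Nodes.RGDClass

open Cfsg Cfsg.Agent.ChevalleyStructure.CoxeterGeom Cfsg.Agent.Nodes.BNOf Cfsg.Agent.Nodes.RGDLib
  Cfsg.Agent.Nodes.RGDChev Cfsg.Agent.Nodes.WittInst

/-- **`PSL_{n+1}(F)`, every characteristic.** -/
theorem hasRGD_PSL {F : Type*} [Field F] [Finite F] (n : ℕ) {p : ℕ} [Fact p.Prime] [CharP F p] :
    HasRGD p (Matrix.ProjectiveSpecialLinearGroup (Fin (n + 1)) F) :=
  have : Finite (Cfsg.Agent.LieRecognition.BNCox.cA n).Group :=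
    RootsA.finite_W (Cfsg.Agent.LieRecognition.BNCox.cA n).toCoxeterSystem (RootsA.isCartan n)
  ⟨n, Cfsg.Agent.LieRecognition.BNCox.cA n, RootsA.AA n, RootsA.isCartan n, _, _, _, this,
    RGDTypeA.rgd_psl _ _, RGDTypeA.G1_psl_eq_top _ _⟩

theorem fact_prime {F : Type*} [Field F] [Finite F] {p : ℕ} [CharP F p] : Fact p.Prime :=
  ⟨CharP.char_is_prime F p⟩

theorem hasRGD_of_PSL {p : ℕ} {G : Type*} [Group G] (hG : IsPSLChar p G) : HasRGD p G := by
  obtain ⟨F, _, _, _, n, hn, -, ⟨e⟩⟩ := hG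
  have : Fact p.Prime := fact_prime (F := F)
  obtain ⟨n, rfl⟩ : ∃ k, n = k + 1 := ⟨n - 1, by omega⟩
  exact (hasRGD_PSL n).of_equiv e.symm

theorem hasRGD_of_PSp {p : ℕ} {G : Type*} [Group G] (hG : IsPSpChar p G) : HasRGD p G := by
  obtain ⟨F, _, _, _, m, hm, -, ⟨e⟩⟩ := hG
  have : Fact p.Prime := fact_prime (F := F)
  exact (hasRGD_PSp (by omega)).of_equiv e.symm

theorem hasRGD_of_PSU {p : ℕ} {G : Type*} [Group G] (hG : IsPSUChar p G) : HasRGD p G := by
  obtain ⟨F, _, _, _, n, q, hF, hn, -, ⟨e⟩⟩ := hG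
  have : Fact p.Prime := fact_prime (F := F)
  exact (hasRGD_PSU hF hn).of_equiv e.symm

theorem hasRGD_of_POmegaOdd {p : ℕ} {G : Type*} [Group G] (hG : IsPOmegaOddChar p G) : HasRGD p G := by
  obtain ⟨F, _, _, _, m, hm, hodd, ⟨e⟩⟩ := hG
  have : Fact p.Prime := fact_prime (F := F)
  have h2 : (2 : F) ≠ 0 := by
    intro h2
    have h3 : CharP F 2 := CharTwo.of_one_ne_zero_of_two_eq_zero one_ne_zero h2
    obtain ⟨k, -, hk⟩ := FiniteField.card F 2
    rw [hk] at hodd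
    exact absurd hodd (by
      rw [Nat.not_odd_iff_even]
      exact (even_two).pow_of_ne_zero k.ne_zero)
  exact (hasRGD_PO_odd h2 (by omega)).of_equiv e.symm

theorem hasRGD_of_POmegaPlus {p : ℕ} {G : Type*} [Group G] (hG : IsPOmegaPlusChar p G) : HasRGD p G := by
  obtain ⟨F, _, _, _, m, hm, ⟨e⟩⟩ := hG
  have : Fact p.Prime := fact_prime (F := F)
  obtain ⟨n, rfl⟩ : ∃ n, m = n + 3 := ⟨m - 3, by omega⟩
  exact (hasRGD_PO_plus n).of_equiv e.symm

theorem hasRGD_of_POmegaMinus {p : ℕ} {G : Type*} [Group G] (hG : IsPOmegaMinusChar p G) : HasRGD p G := by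
  obtain ⟨F, _, _, _, m, a, b, hm, hab, ⟨e⟩⟩ := hG
  have : Fact p.Prime := fact_prime (F := F)
  exact (hasRGD_PO_minus a b hab (by omega)).of_equiv e.symm

/-- **Every simple classical group of characteristic `p` has a root group datum of characteristic `p`.** -/
theorem hasRGD_of_classical {p : ℕ} {G : Type*} [Group G]
    (hG : IsPSLChar p G ∨ IsPSpChar p G ∨ IsPSUChar p G ∨ IsPOmegaOddChar p G ∨ IsPOmegaPlusChar p G ∨
      IsPOmegaMinusChar p G) : HasRGD p G := by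
  rcases hG with h | h | h | h | h | h
  · exact hasRGD_of_PSL h
  · exact hasRGD_of_PSp h
  · exact hasRGD_of_PSU h
  · exact hasRGD_of_POmegaOdd h
  · exact hasRGD_of_POmegaPlus h
  · exact hasRGD_of_POmegaMinus h

end Cfsg.Agent.Nodes.RGDClass
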