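import Mathlib
import Cfsg.Agent.Nodes.BNOf
import Cfsg.Agent.ChevalleyStructure.TwistedFixOrbit

/-!
Root group data of twisted groups (fixed points of an endomorphism `σ` of a Chevalley group permuting the root
subgroups), abstract part: from the data `TwIn` one gets the root group datum `RGD` with root groups
`RX z = ⟨x_r(t) : V r = z⟩ ∩ Fix σ`.
-/

set_option autoImplicit false
set_option linter.unusedSectionVars false
set_option maxHeartbeats 400000

namespace Cfsg.Agent.Nodes.RGDTwGen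

open CoxeterSystem Cfsg.Agent.ChevalleyStructure.CoxeterGeom Cfsg.Agent.Tits.Roots Cfsg.Agent.Tits.Core
  Cfsg.Agent.Tits.RootComb Cfsg.Agent.Nodes.Comb Cfsg.Agent.Nodes.Reps Cfsg.Agent.Nodes.BNOf
open Cfsg.Agent.ChevalleyStructure.TwistedU Cfsg.Agent.ChevalleyStructure.TwistedFix
  Cfsg.Agent.ChevalleyStructure.TwistedFixOrbit
open scoped commutatorElement

/-! ### Combinatorics of roots -/

section Comb

variable {I W : Type*} [Fintype I] [DecidableEq I] [Group W] {M : CoxeterMatrix I}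
  {cs : CoxeterSystem M W} {A : I → I → ℤ} {h : IsCartan M A}

/-- Proportional roots are equal or opposite. -/
theorem eq_or_eq_neg_of_smul {x y : I → ℤ} (hx : IsRoot cs h x) (hy : IsRoot cs h y) {m a : ℤ} (hm : m ≠ 0)
    (he : m • y = a • x) : y = x ∨ y = -x := by
  obtain ⟨w, i, rfl⟩ := hx
  have h1 := congrArg (rep cs h w⁻¹) he
  rw [map_smul, map_smul, rep_inv_apply] at h1
  have hz := hy.act w⁻¹
  have h2 : ∀ k, k ≠ i → rep cs h w⁻¹ y k = 0 := by
    intro k hk
    have h3 := congrFun h1 k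
    rw [Pi.smul_apply, Pi.smul_apply, sr_ne hk, smul_zero, smul_eq_mul] at h3
    exact (mul_eq_zero.1 h3).resolve_left hm
  have h4 : y = rep cs h w (rep cs h w⁻¹ y) := (rep_apply_inv cs h w y).symm
  rcases hz.pos_or_neg with h0 | h0
  · left
    rw [h4, hz.eq_sr h0 i h2]
  · right
    have h5 : -rep cs h w⁻¹ y = sr i := hz.neg.eq_sr (neg_nonneg.2 h0) i fun k hk => by
      rw [Pi.neg_apply, h2 k hk, neg_zero]
    rw [h4, ← h5, map_neg, neg_neg]

theorem btwn_ne {x y z : I → ℤ} (hx : IsRoot cs h x) (hy : IsRoot cs h y) (h1 : x ≠ y) (h2 : x ≠ -y)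
    (hz : Btwn cs h x y z) : z ≠ x ∧ z ≠ -x := by
  obtain ⟨-, m, a, b, hm, ha, hb, he⟩ := hz
  have key : ∀ c : ℤ, b • y = c • x → False := by
    intro c hc
    rcases eq_or_eq_neg_of_smul hx hy hb.ne' hc with h3 | h3
    · exact h1 h3.symm
    · exact h2 (by rw [h3, neg_neg])
  constructor
  · rintro rfl
    exact key (m - a) (by rw [sub_smul, he]; abel)
  · rintro rfl
    exact key (-m - a) (by rw [sub_smul, neg_smul, ← smul_neg, he]; abel)

theorem btwn_trans {x y z w : I → ℤ} (hz : Btwn cs h x y z) (hw : Btwn cs h x z w) : Btwn cs h x y w := by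
  obtain ⟨-, m, a, b, hm, ha, hb, he⟩ := hz
  obtain ⟨hw, m', a', b', hm', ha', hb', he'⟩ := hw
  refine ⟨hw, m * m', m * a' + b' * a, b' * b, mul_pos hm hm', by positivity, mul_pos hb' hb, ?_⟩
  rw [mul_smul, he', smul_add, smul_comm m b' z, he, smul_add, smul_smul, smul_smul, smul_smul, ← add_assoc,
    ← add_smul]

theorem btwn_btwn {x y z z' w : I → ℤ} (hz : Btwn cs h x y z) (hz' : Btwn cs h x y z')
    (hw : Btwn cs h z z' w) : Btwn cs h x y w := by
  obtain ⟨-, m, a, b, hm, ha, hb, he⟩ := hz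
  obtain ⟨-, m', a', b', hm', ha', hb', he'⟩ := hz'
  obtain ⟨hw, k, c, d, hk, hc, hd, e⟩ := hw
  refine ⟨hw, m * m' * k, m' * c * a + m * d * a', m' * c * b + m * d * b', by positivity, by positivity,
    by positivity, ?_⟩
  have e1 : (m * m' * k) • w = (m' * c) • (m • z) + (m * d) • (m' • z') := by
    rw [mul_smul, e, smul_add, smul_smul, smul_smul, smul_smul, smul_smul]
    congr 2 <;> ring
  rw [e1, he, he', smul_add, smul_add, smul_smul, smul_smul, smul_smul, smul_smul, add_smul, add_smul]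
  abel

/-- Two roots which are not opposite are positive in a common positive system. -/
theorem exists_pos_pair [Finite W] {x y : I → ℤ} (hx : IsRoot cs h x) (hy : IsRoot cs h y) (hxy : x ≠ -y) :
    ∃ w : W, 0 ≤ rep cs h w x ∧ 0 ≤ rep cs h w y := by
  obtain ⟨v, i, hv⟩ := hy.neg
  have hu : rep cs h v⁻¹ y = -sr i := by
    have h1 : y = -(rep cs h v (sr i)) := by rw [← hv, neg_neg]
    rw [h1, map_neg, rep_inv_apply]
  by_cases h0 : 0 ≤ rep cs h v⁻¹ x
  · refine ⟨cs.simple i * v⁻¹, ?_, ?_⟩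
    · rw [rep_mul_apply]
      refine (hx.act v⁻¹).simple_nonneg h0 i fun h1 => hxy ?_
      rw [hv, ← h1, rep_apply_inv]
    · rw [rep_mul_apply, hu, map_neg, rep_simple_sr, neg_neg]
      exact sr_nonneg i
  · have h1 : 0 ≤ -rep cs h v⁻¹ x := (hx.act v⁻¹).not_nonneg_iff_neg.1 h0
    obtain ⟨w0, hw0⟩ := RGD.exists_inv_eq_pos (cs := cs) (h := h)
    have key : ∀ z, IsRoot cs h z → 0 ≤ z → rep cs h w0⁻¹ z ≤ 0 := by
      intro z hz hz0
      have : z ∈ RGD.Inv cs h w0 := by rw [hw0]; exact ⟨hz, hz0⟩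
      exact this.2.2
    refine ⟨w0⁻¹ * v⁻¹, ?_, ?_⟩
    · rw [rep_mul_apply]
      have h2 := key _ (hx.act v⁻¹).neg h1
      rw [map_neg] at h2
      exact neg_nonpos.1 h2
    · rw [rep_mul_apply, hu, map_neg]
      exact neg_nonneg.2 (key _ (isRoot_sr cs h i) (sr_nonneg i))

end Comb

/-! ### Group theoretic lemmas -/

section Grp

variable {Γ : Type*} [Group Γ]

/-- Commutators of the groups generated by `S` and `T` lie in `N` if those of `S` and `T` do. -/
theorem comm_closure {S T : Set Γ} {N : Subgroup Γ} (hS : ∀ s ∈ S, s ∈ Subgroup.normalizer (N : Set Γ))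
    (hT : ∀ t ∈ T, t ∈ Subgroup.normalizer (N : Set Γ)) (hc : ∀ s ∈ S, ∀ t ∈ T, ⁅s, t⁆ ∈ N) {a b : Γ}
    (ha : a ∈ Subgroup.closure S) (hb : b ∈ Subgroup.closure T) : ⁅a, b⁆ ∈ N := by
  have hSn : Subgroup.closure S ≤ Subgroup.normalizer (N : Set Γ) := (Subgroup.closure_le _).2 hS
  have hTn : Subgroup.closure T ≤ Subgroup.normalizer (N : Set Γ) := (Subgroup.closure_le _).2 hT
  have cn : ∀ {g y : Γ}, g ∈ Subgroup.normalizer (N : Set Γ) → y ∈ N → g * y * g⁻¹ ∈ N := fun hg hy =>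
    (Subgroup.mem_normalizer_iff.1 hg _).1 hy
  have step1 : ∀ b ∈ T, ∀ a ∈ Subgroup.closure S, ⁅a, b⁆ ∈ N := by
    intro b hb a ha
    induction ha using Subgroup.closure_induction with
    | mem x hx => exact hc x hx b hb
    | one => rw [commutatorElement_one_left]; exact one_mem _
    | mul x y hx hy ih1 ih2 =>
      have e : ⁅x * y, b⁆ = x * ⁅y, b⁆ * x⁻¹ * ⁅x, b⁆ := by simp only [commutatorElement_def]; group
      rw [e]
      exact mul_mem (cn (hSn hx) ih2) ih1
    | inv x hx ih =>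
      have e : ⁅x⁻¹, b⁆ = x⁻¹ * ⁅x, b⁆⁻¹ * x⁻¹⁻¹ := by simp only [commutatorElement_def]; group
      rw [e]
      exact cn (inv_mem (hSn hx)) (inv_mem ih)
  induction hb using Subgroup.closure_induction with
  | mem x hx => exact step1 x hx a ha
  | one => rw [commutatorElement_one_right]; exact one_mem _
  | mul x y hx hy ih1 ih2 =>
    have e : ⁅a, x * y⁆ = ⁅a, x⁆ * (x * ⁅a, y⁆ * x⁻¹) := by simp only [commutatorElement_def]; group
    rw [e]
    exact mul_mem ih1 (cn (hTn hx) ih2)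
  | inv x hx ih =>
    have e : ⁅a, x⁻¹⁆ = x⁻¹ * ⁅a, x⁆⁻¹ * x⁻¹⁻¹ := by simp only [commutatorElement_def]; group
    rw [e]
    exact cn (inv_mem (hTn hx)) (inv_mem ih)

/-- If `P = ⟨A, gAg⁻¹⟩` is a finite `p`-group containing `g` then `gAg⁻¹ ≤ A`. -/
theorem le_of_isPGroup [Finite Γ] {p : ℕ} [Fact p.Prime] {A : Subgroup Γ} {g : Γ}
    (hp : IsPGroup p ↥(A ⊔ cj g A)) (hg : g ∈ A ⊔ cj g A) : cj g A ≤ A := by
  set P : Subgroup Γ := A ⊔ cj g A with hP
  have hnil : Group.IsNilpotent ↥P := hp.isNilpotent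
  have hA : A ≤ P := le_sup_left
  by_cases htop : A.subgroupOf P = ⊤
  · have : P ≤ A := Subgroup.subgroupOf_eq_top.1 htop
    exact le_sup_right.trans this
  · exfalso
    obtain ⟨K, hK, hle⟩ := (eq_top_or_exists_le_coatom (A.subgroupOf P)).resolve_left htop
    have hKn : K.Normal := by
      have := (Group.isNilpotent_of_finite_tfae (G := ↥P)).out 0 2
      exact this.1 hnil K hK
    apply hK.1
    rw [eq_top_iff]
    have h1 : P ≤ K.map P.subtype := by
      refine (sup_le ?_ ?_ : A ⊔ cj g A ≤ _)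
      · intro a ha
        exact ⟨⟨a, hA ha⟩, hle (Subgroup.mem_subgroupOf.2 ha), rfl⟩
      · intro b hb
        have hb' := mem_cj.1 hb
        refine ⟨⟨g, hg⟩ * ⟨_, hA hb'⟩ * ⟨g, hg⟩⁻¹, hKn.conj_mem _ (hle (Subgroup.mem_subgroupOf.2 hb')) _, ?_⟩
        simp only [Subgroup.subtype_apply, Subgroup.coe_mul, Subgroup.coe_inv]
        group
    intro y _
    obtain ⟨z, hz, e⟩ := h1 y.2
    have : z = y := Subtype.ext e
    rwa [← this]

end Grp

/-! ### The data -/

section Main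

variable {I W Γ K : Type*} [Fintype I] [DecidableEq I] [Group W] [Group Γ] [AddGroup K] {M : CoxeterMatrix I}

/-- The condition that a list of roots is good, on the level of the sets `C r s` of roots occurring in the
commutator of `x_r` and `x_s`. -/
def GoodC (C : ℕ → ℕ → Set ℕ) : List ℕ → Prop
  | [] => True
  | r :: l => (∀ s ∈ l, ∀ k ∈ C r s, k ∈ l) ∧ GoodC C l

theorem good_of_goodC {C : ℕ → ℕ → Set ℕ} {x : ℕ → K → Γ} : ∀ {l : List ℕ}, l.Nodup →
    (∀ r ∈ l, ∀ s ∈ l, r ≠ s → ∀ t u, ⁅x r t, x s u⁆ ∈ rspan x (C r s)) → GoodC C l → Good x l := by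
  intro l
  induction l with
  | nil => intro _ _ _; exact good_nil x
  | cons r l ih =>
    intro hnd hc hg
    obtain ⟨hr, hnd'⟩ := List.nodup_cons.1 hnd
    refine (good_cons x).2 ⟨fun s hs t u => ?_, ih hnd' (fun a ha b hb => hc a (List.mem_cons_of_mem _ ha) b
      (List.mem_cons_of_mem _ hb)) hg.2⟩
    exact rspan_mono x (fun k hk => hg.1 s hs k hk) (hc r List.mem_cons_self s (List.mem_cons_of_mem _ hs)
      (by rintro rfl; exact hr hs) t u)

/-- The root group of the vector `z`. -/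
def RX (x : ℕ → K → Γ) (N : ℕ) (V : ℕ → I → ℤ) (σ : Γ →* Γ) (z : I → ℤ) : Subgroup Γ :=
  rspan x {k | k < N ∧ V k = z} ⊓ fixS σ

/-- The input: a family `x_r`, `r < N`, of root subgroups, restriction `V r` of the root `r` to the relative root
lattice, `C r s` = the roots occurring in the commutator of `x_r`, `x_s`; `L` = the list of classes of positive
roots; `σ` the endomorphism whose fixed points are taken; `T` the torus, `n i` the reflections. -/
structure TwIn (cs : CoxeterSystem M W) {A : I → I → ℤ} (h : IsCartan M A) (x : ℕ → K → Γ) (N : ℕ)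
    (V : ℕ → I → ℤ) (C : ℕ → ℕ → Set ℕ) (L : List (List ℕ)) (σ : Γ →* Γ) (ρ ρ' : ℕ → ℕ) (f : ℕ → K → K)
    (T : Subgroup Γ) (n : I → Γ) (p : ℕ) : Prop where
  root : ∀ z, IsRoot cs h z ↔ ∃ r < N, V r = z
  comm : ∀ r < N, ∀ s < N, r ≠ s → V r ≠ -V s → ∀ t u, ⁅x r t, x s u⁆ ∈ rspan x (C r s)
  C_root : ∀ r < N, ∀ s < N, r ≠ s → V r ≠ -V s → ∀ k ∈ C r s, k < N ∧
    ∃ m a b : ℤ, 0 < m ∧ 0 < a ∧ 0 < b ∧ m • V k = a • V r + b • V s
  goodC : GoodC C L.flatten
  setup : Setup x L σ ρ ρ' f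
  posL : ∀ k, k ∈ L.flatten ↔ k < N ∧ 0 ≤ V k
  clsL : ∀ o ∈ L, ∀ r ∈ o, ∀ s, s ∈ o ↔ s < N ∧ V s = V r
  conj : ∀ i, ∀ s < N, ∀ t, ∃ s' < N, V s' = rep cs h (cs.simple i) (V s) ∧ ∃ u, n i * x s t * (n i)⁻¹ = x s' u
  nfix : ∀ i, σ (n i) = n i
  Tfix : ∀ t ∈ T, σ t = t
  tor : ∀ t ∈ T, ∀ s < N, ∀ c, ∃ u, t * x s c * t⁻¹ = x s u
  nsys : NSys M T n
  rk1 : ∀ i, ∀ u ∈ RX x N V σ (-sr i), u ≠ 1 →
    ∃ a ∈ RX x N V σ (sr i), ∃ t ∈ T, ∃ b ∈ RX x N V σ (sr i), u = a * t * n i * b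
  ne : ∀ i, RX x N V σ (sr i) ≠ ⊥
  disj : ∀ i, RX x N V σ (sr i) ⊓ RX x N V σ (-sr i) = ⊥
  char : ∀ t : K, p • t = 0
  tcop : (Nat.card T).Coprime p

variable {cs : CoxeterSystem M W} {A : I → I → ℤ} {h : IsCartan M A} {x : ℕ → K → Γ} {N : ℕ}
    {V : ℕ → I → ℤ} {C : ℕ → ℕ → Set ℕ} {L : List (List ℕ)} {σ : Γ →* Γ} {ρ ρ' : ℕ → ℕ} {f : ℕ → K → K}
    {T : Subgroup Γ} {n : I → Γ} {p : ℕ}

namespace TwIn

variable (D : TwIn cs h x N V C L σ ρ ρ' f T n p)

include D

theorem isRoot {r : ℕ} (hr : r < N) : IsRoot cs h (V r) := (D.root _).2 ⟨r, hr, rfl⟩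

/-- conjugation by `n i` -/
theorem cj_le (i : I) (z : I → ℤ) : cj (n i) (RX x N V σ z) ≤ RX x N V σ (rep cs h (cs.simple i) z) := by
  rintro _ ⟨g, ⟨hg, hgσ⟩, rfl⟩
  refine ⟨?_, ?_⟩
  · have key : rspan x {k | k < N ∧ V k = z} ≤
        (rspan x {k | k < N ∧ V k = rep cs h (cs.simple i) z}).comap (MulAut.conj (n i)).toMonoidHom := by
      refine rspan_le x fun s hs t => ?_
      obtain ⟨s', hs', hV, u, e⟩ := D.conj i s hs.1 t
      have h1 : (MulAut.conj (n i)).toMonoidHom (x s t) = x s' u := e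
      rw [Subgroup.mem_comap, h1]
      exact mem_rspan x (S := {k | k < N ∧ V k = rep cs h (cs.simple i) z}) ⟨hs', by rw [hV, hs.2]⟩ u
    exact key hg
  · have h1 : σ g = g := hgσ
    show σ (n i * g * (n i)⁻¹) = n i * g * (n i)⁻¹
    rw [map_mul, map_mul, map_inv, D.nfix, h1]

theorem cj_tor_le {t : Γ} (ht : t ∈ T) (z : I → ℤ) : cj t (RX x N V σ z) ≤ RX x N V σ z := by
  rintro _ ⟨g, ⟨hg, hgσ⟩, rfl⟩
  refine ⟨?_, ?_⟩
  · have key : rspan x {k | k < N ∧ V k = z} ≤
        (rspan x {k | k < N ∧ V k = z}).comap (MulAut.conj t).toMonoidHom := by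
      refine rspan_le x fun s hs c => ?_
      obtain ⟨u, e⟩ := D.tor t ht s hs.1 c
      have h1 : (MulAut.conj t).toMonoidHom (x s c) = x s u := e
      rw [Subgroup.mem_comap, h1]
      exact mem_rspan x (S := {k | k < N ∧ V k = z}) hs u
    exact key hg
  · have h1 : σ g = g := hgσ
    show σ (t * g * t⁻¹) = t * g * t⁻¹
    rw [map_mul, map_mul, map_inv, D.Tfix t ht, h1]

theorem cj_tor {t : Γ} (ht : t ∈ T) (z : I → ℤ) : cj t (RX x N V σ z) = RX x N V σ z := by
  refine le_antisymm (D.cj_tor_le ht z) ?_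
  have h1 := cj_mono t (D.cj_tor_le (inv_mem ht) z)
  rwa [cj_cj_inv] at h1

theorem sq_mem (i : I) : n i * n i ∈ T := by
  have := D.nsys.rel i i
  rwa [M.diagonal, pow_one] at this

theorem cj_n (i : I) (z : I → ℤ) : cj (n i) (RX x N V σ z) = RX x N V σ (rep cs h (cs.simple i) z) := by
  refine le_antisymm (D.cj_le i z) ?_
  have h1 := cj_mono (n i) (D.cj_le i (rep cs h (cs.simple i) z))
  rw [← cj_mul, D.cj_tor (D.sq_mem i), ← rep_mul_apply, cs.simple_mul_simple_self, map_one,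
    Module.End.one_apply] at h1
  exact h1

theorem cj_rp {w : W} {g : Γ} (hg : Rp cs D.nsys w g) (z : I → ℤ) :
    cj g (RX x N V σ z) = RX x N V σ (rep cs h w z) := by
  have key : ∀ ω : List I, ∀ z, ∃ k, Rp cs D.nsys (cs.wordProd ω) k ∧
      cj k (RX x N V σ z) = RX x N V σ (rep cs h (cs.wordProd ω) z) := by
    intro ω
    induction ω with
    | nil =>
      intro z
      exact ⟨1, by rw [wordProd_nil]; exact rp_one, by rw [wordProd_nil, cj_one, map_one, Module.End.one_apply]⟩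
    | cons i ω ih =>
      intro z
      obtain ⟨k, hk, e⟩ := ih z
      refine ⟨n i * k, ?_, ?_⟩
      · rw [wordProd_cons]; exact (rp_simple cs D.nsys i).mul hk
      · rw [cj_mul, e, D.cj_n i, ← rep_mul_apply, wordProd_cons]
  obtain ⟨ω, rfl⟩ := cs.wordProd_surjective w
  obtain ⟨k, hk, e⟩ := key ω z
  have h1 : g = k * (k⁻¹ * g) := by group
  rw [h1, cj_mul, D.cj_tor (hk.unique hg), e]

/-- The roots between `y` and `z`. -/
theorem span_conj {y z : I → ℤ} {r : ℕ} (hr : r < N) (hy : V r = y) (hyz : y ≠ z) (hyz' : y ≠ -z)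
    (hzr : IsRoot cs h z) (t : K) :
    x r t ∈ Subgroup.normalizer (rspan x {k | k < N ∧ Btwn cs h y z (V k)} : Set Γ) := by
  subst hy
  set S : Set ℕ := {k | k < N ∧ Btwn cs h (V r) z (V k)} with hS
  have key : ∀ t : K, ∀ g ∈ rspan x S, x r t * g * (x r t)⁻¹ ∈ rspan x S := by
    intro t g hg
    have h1 : rspan x S ≤ (rspan x S).comap (MulAut.conj (x r t)).toMonoidHom := by
      refine rspan_le x fun k hk u => ?_
      obtain ⟨hkN, hkB⟩ := hk
      obtain ⟨h2, h3⟩ := btwn_ne (D.isRoot hr) hzr hyz hyz' hkB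
      have hne : r ≠ k := by rintro rfl; exact h2 rfl
      have hneg : V r ≠ -V k := fun e => h3 (by rw [e, neg_neg])
      have h4 : ⁅x r t, x k u⁆ ∈ rspan x S := by
        refine rspan_mono x (fun j hj => ?_) (D.comm r hr k hkN hne hneg t u)
        obtain ⟨hjN, m, a, b, hm, ha, hb, e⟩ := D.C_root r hr k hkN hne hneg j hj
        exact ⟨hjN, btwn_trans hkB ⟨D.isRoot hjN, m, a, b, hm, ha, hb, e⟩⟩
      have h5 := mul_mem h4 (mem_rspan x (S := S) (r := k) ⟨hkN, hkB⟩ u)
      rw [commutatorElement_def, inv_mul_cancel_right] at h5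
      exact h5
    exact h1 hg
  rw [Subgroup.mem_normalizer_iff]
  intro g
  refine ⟨key t g, fun hg => ?_⟩
  have h1 := key (-t) _ hg
  have e : x r (-t) = (x r t)⁻¹ := x_neg D.setup.hadd r t
  rw [e] at h1
  have e2 : (x r t)⁻¹ * (x r t * g * (x r t)⁻¹) * (x r t)⁻¹⁻¹ = g := by group
  rwa [e2] at h1

/-- The commutator of two full root groups. -/
theorem span_comm {y z : I → ℤ} (hy : IsRoot cs h y) (hz : IsRoot cs h z) (hyz : y ≠ z) (hyz' : y ≠ -z)
    {a b : Γ} (ha : a ∈ rspan x {k | k < N ∧ V k = y}) (hb : b ∈ rspan x {k | k < N ∧ V k = z}) :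
    ⁅a, b⁆ ∈ rspan x {k | k < N ∧ Btwn cs h y z (V k)} := by
  refine comm_closure ?_ ?_ ?_ ha hb
  · rintro _ ⟨r, hr, t, rfl⟩
    exact D.span_conj hr.1 hr.2 hyz hyz' hz t
  · rintro _ ⟨r, hr, t, rfl⟩
    have h1 := D.span_conj hr.1 hr.2 hyz.symm (fun e => hyz' (by rw [e, neg_neg])) hy t
    have h2 : {k | k < N ∧ Btwn cs h z y (V k)} = {k | k < N ∧ Btwn cs h y z (V k)} := by
      ext k
      exact and_congr_right fun _ => ⟨fun h => h.symm, fun h => h.symm⟩
    rwa [h2] at h1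
  · rintro _ ⟨r, hr, t, rfl⟩ _ ⟨s, hs, u, rfl⟩
    have hne : r ≠ s := by rintro rfl; exact hyz (hr.2.symm.trans hs.2)
    have hneg : V r ≠ -V s := by rw [hr.2, hs.2]; exact hyz'
    refine rspan_mono x (fun j hj => ?_) (D.comm r hr.1 s hs.1 hne hneg t u)
    obtain ⟨hjN, m, a, b, hm, ha, hb, e⟩ := D.C_root r hr.1 s hs.1 hne hneg j hj
    rw [hr.2, hs.2] at e
    exact ⟨hjN, D.isRoot hjN, m, a, b, hm, ha, hb, e⟩

/-- Fixed points in the group spanned by the roots between two positive roots. -/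
theorem fix_btw {y z : I → ℤ} (hy : 0 ≤ y) (hz : 0 ≤ z) :
    rspan x {k | k < N ∧ Btwn cs h y z (V k)} ⊓ fixS σ ≤ btw cs h (RX x N V σ) y z := by
  classical
  rintro g ⟨hg, hgσ⟩
  set P : ℕ → Prop := fun k => Btwn cs h y z (V k) with hP
  set l := L.flatten.filter fun k => decide (P k) with hl
  have hmem : ∀ k, k ∈ l ↔ k < N ∧ P k := by
    intro k
    rw [hl, List.mem_filter, D.posL, decide_eq_true_eq]
    exact ⟨fun h1 => ⟨h1.1.1, h1.2⟩, fun h1 => ⟨⟨h1.1, RGD.nonneg_of_btwn hy hz h1.2⟩, h1.2⟩⟩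
  have hset : {k | k < N ∧ Btwn cs h y z (V k)} = {k | k ∈ l} := by
    ext k; exact (hmem k).symm
  have hpos : ∀ r ∈ L.flatten, ∀ s ∈ L.flatten, V r ≠ -V s := by
    intro r hr s hs e
    have h1 := (D.posL r).1 hr
    have h2 := (D.posL s).1 hs
    have h3 : V s ≤ 0 := by
      have := h1.2
      rw [e] at this
      exact neg_nonneg.1 this
    exact (D.isRoot h2.1).not_pos_neg h2.2 h3
  have hnd : l.Nodup := D.setup.nodup.filter _
  have hgood : GoodC C l := by
    -- the closure property only holds for roots: filter twice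
    have key : ∀ l' : List ℕ, l'.Nodup → (∀ r ∈ l', r ∈ L.flatten) → GoodC C l' →
        GoodC C (l'.filter fun k => decide (P k)) := by
      intro l'
      induction l' with
      | nil => intro _ _ _; exact trivial
      | cons r l' ih =>
        intro hnd' hsub hg
        have hnd'' := List.nodup_cons.1 hnd'
        have hsub' : ∀ r ∈ l', r ∈ L.flatten := fun a ha => hsub a (List.mem_cons_of_mem _ ha)
        by_cases hr : P r
        · rw [List.filter_cons_of_pos (by simpa using hr)]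
          refine ⟨fun s hs k hk => ?_, ih hnd''.2 hsub' hg.2⟩
          have hs' := List.mem_filter.1 hs
          have hPs : P s := of_decide_eq_true hs'.2
          have hrL := hsub r List.mem_cons_self
          have hsL := hsub' s hs'.1
          have hne : r ≠ s := by rintro rfl; exact hnd''.1 hs'.1
          obtain ⟨hkN, m, a, b, hm, ha, hb, e⟩ := D.C_root r ((D.posL r).1 hrL).1 s ((D.posL s).1 hsL).1 hne
            (hpos r hrL s hsL) k hk
          refine List.mem_filter.2 ⟨hg.1 s hs'.1 k hk, decide_eq_true ?_⟩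
          exact btwn_btwn hr hPs ⟨D.isRoot hkN, m, a, b, hm, ha, hb, e⟩
        · rw [List.filter_cons_of_neg (by simpa using hr)]
          exact ih hnd''.2 hsub' hg.2
    exact key _ D.setup.nodup (fun r hr => hr) D.goodC
  have hgood' : Good x l := good_of_goodC hnd (fun r hr s hs hne t u =>
    D.comm r ((hmem r).1 hr).1 s ((hmem s).1 hs).1 hne
      (hpos r (List.mem_filter.1 hr).1 s (List.mem_filter.1 hs).1) t u) hgood
  rw [hset] at hg
  obtain ⟨t, ht⟩ := exists_lprod D.setup.hadd hnd hgood' hg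
  -- extend by zero
  set t' : ℕ → K := fun r => if P r then t r else 0 with ht'
  have h1 : g = lprod x L.flatten t' := by
    rw [ht, ht', lprod_filter D.setup.hadd P L.flatten t]
  have h2 : g ∈ rspan x {k | k ∈ L.flatten} ⊓ fixS σ :=
    ⟨h1 ▸ lprod_mem_rspan x (fun _ hk => hk) t', hgσ⟩
  obtain ⟨s, hs, hgs⟩ := D.setup.mem_fix_iff.1 h2
  have h3 : ∀ r ∈ L.flatten, s r = t' r := D.setup.inj _ _ (hgs.symm.trans h1)
  -- the factors
  have h4 : ∀ L' : List (List ℕ), (∀ o ∈ L', o ∈ L) → lprod x L'.flatten s ∈ btw cs h (RX x N V σ) y z := by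
    intro L'
    induction L' with
    | nil => intro _; exact Subgroup.one_mem _
    | cons o L' ih =>
      intro hL
      rw [List.flatten_cons, lprod_append]
      refine mul_mem ?_ (ih fun o' ho' => hL o' (List.mem_cons_of_mem _ ho'))
      have ho := hL o List.mem_cons_self
      have h5 := D.setup.orbit_mem_fix hs ho
      rcases o with _ | ⟨r, o⟩
      · rw [lprod_nil]; exact one_mem _
      · have hr : r ∈ r :: o := List.mem_cons_self
        have hcl := D.clsL _ ho r hr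
        have hrN : r < N := ((hcl r).1 hr).1
        by_cases hPr : P r
        · refine le_btw_of (z := V r) hPr ⟨rspan_mono x (fun k hk => (hcl k).1 hk) h5.1, h5.2⟩
        · have h6 : ∀ k ∈ r :: o, s k = 0 := by
            intro k hk
            rw [h3 k (List.mem_flatten.2 ⟨_, ho, hk⟩)]
            have h7 : ¬ P k := by
              intro h8
              apply hPr
              have h9 := ((hcl k).1 hk).2
              show Btwn cs h y z (V r)
              rw [← h9]; exact h8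
            show (if P k then t k else 0) = 0
            rw [if_neg h7]
          have h7 : lprod x (r :: o) s = 1 := by
            refine Subgroup.mem_bot.1 (lprod_mem x (H := ⊥) fun k hk => ?_)
            rw [h6 k hk, x_zero D.setup.hadd]
            exact one_mem _
          rw [h7]; exact one_mem _
  rw [hgs]
  exact h4 L fun _ ho => ho

/-- **All commutator relations.** -/
theorem comm_all [Finite W] {y z : I → ℤ} (hy : IsRoot cs h y) (hz : IsRoot cs h z) (hyz : y ≠ z) (hyz' : y ≠ -z)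
    {a b : Γ} (ha : a ∈ RX x N V σ y) (hb : b ∈ RX x N V σ z) : ⁅a, b⁆ ∈ btw cs h (RX x N V σ) y z := by
  obtain ⟨w, hwy, hwz⟩ := exists_pos_pair hy hz hyz'
  obtain ⟨g, hg⟩ := exists_rp cs D.nsys w
  have ha' : g * a * g⁻¹ ∈ RX x N V σ (rep cs h w y) := by
    rw [← D.cj_rp hg]; exact conj_mem_cj.2 ha
  have hb' : g * b * g⁻¹ ∈ RX x N V σ (rep cs h w z) := by
    rw [← D.cj_rp hg]; exact conj_mem_cj.2 hb
  have h1 : rep cs h w y ≠ rep cs h w z := fun e => hyz (rep_injective_apply cs h w e)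
  have h2 : rep cs h w y ≠ -rep cs h w z := fun e => hyz' (rep_injective_apply cs h w (by rw [e, map_neg]))
  have h3 := D.span_comm (hy.act w) (hz.act w) h1 h2 ha'.1 hb'.1
  have h4 : ⁅g * a * g⁻¹, g * b * g⁻¹⁆ ∈ fixS σ := by
    rw [commutatorElement_def]
    exact mul_mem (mul_mem (mul_mem ha'.2 hb'.2) (inv_mem ha'.2)) (inv_mem hb'.2)
  have h5 := D.fix_btw hwy hwz ⟨h3, h4⟩
  have h6 : ⁅g * a * g⁻¹, g * b * g⁻¹⁆ = g * ⁅a, b⁆ * g⁻¹ := by simp only [commutatorElement_def]; group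
  rw [h6] at h5
  have h7 : cj g⁻¹ (btw cs h (RX x N V σ) (rep cs h w y) (rep cs h w z)) ≤ btw cs h (RX x N V σ) y z := by
    unfold Reps.btw
    rw [cj_iSup]
    refine iSup_le ?_
    rintro ⟨v, hv⟩
    rw [D.cj_rp hg.inv]
    have h8 := hv.act w⁻¹
    rw [rep_inv_apply, rep_inv_apply] at h8
    exact le_btw_of h8
  apply h7
  rw [mem_cj, inv_inv]
  exact h5

theorem pow_x (r : ℕ) (t : K) : x r t ^ p = 1 := by
  have key : ∀ k : ℕ, x r (k • t) = x r t ^ k := by
    intro k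
    induction k with
    | zero => rw [zero_smul, pow_zero, x_zero D.setup.hadd]
    | succ k ih => rw [succ_nsmul, D.setup.hadd, ih, pow_succ]
  rw [← key, D.char, x_zero D.setup.hadd]

theorem isPGroup (i : I) : IsPGroup p ↥(RX x N V σ (sr i)) := by
  -- the class of `α_i`
  obtain ⟨r, hr, hVr⟩ := (D.root _).1 (isRoot_sr cs h i)
  have hrL : r ∈ L.flatten := (D.posL r).2 ⟨hr, by rw [hVr]; exact sr_nonneg i⟩
  obtain ⟨o, ho, hro⟩ := List.mem_flatten.1 hrL
  have hset : {k | k < N ∧ V k = sr i} = {k | k ∈ o} := by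
    ext k
    rw [Set.mem_setOf_eq, Set.mem_setOf_eq, D.clsL o ho r hro k, hVr]
  have hpow : ∀ l : List ℕ, (l.Pairwise fun r s => ∀ t u, Commute (x r t) (x s u)) → ∀ t : ℕ → K,
      lprod x l t ^ p = 1 := by
    intro l
    induction l with
    | nil => intro _ t; rw [lprod_nil, one_pow]
    | cons r l ih =>
      intro hc t
      rw [List.pairwise_cons] at hc
      have h1 : Commute (x r (t r)) (lprod x l t) := by
        unfold lprod
        refine Commute.list_prod_right _ _ fun y hy => ?_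
        obtain ⟨s, hs, rfl⟩ := List.mem_map.1 hy
        exact hc.1 s hs _ _
      rw [lprod_cons, h1.mul_pow, D.pow_x, ih hc.2, one_mul]
  rintro ⟨g, hg, hgσ⟩
  refine ⟨1, Subtype.ext ?_⟩
  rw [hset] at hg
  have hnd : o.Nodup := (List.nodup_flatten.1 D.setup.nodup).1 o ho
  obtain ⟨t, rfl⟩ := exists_lprod D.setup.hadd hnd (good_of_commute (D.setup.comm o ho)) hg
  rw [pow_one]
  exact hpow o (D.setup.comm o ho) t

theorem notp [Finite Γ] [Fact p.Prime] (i : I) : ¬ IsPGroup p ↥(RX x N V σ (sr i) ⊔ RX x N V σ (-sr i)) := by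
  intro hp
  have hneg : cj (n i) (RX x N V σ (sr i)) = RX x N V σ (-sr i) := by rw [D.cj_n, rep_simple_sr]
  have hne : RX x N V σ (-sr i) ≠ ⊥ := by
    intro h0
    apply D.ne i
    have h1 := congrArg (cj (n i)⁻¹) hneg
    rw [cj_inv_cj, h0] at h1
    rw [h1]
    exact Subgroup.map_bot _
  obtain ⟨u, hu⟩ := Subgroup.ne_bot_iff_exists_ne_one.1 hne
  obtain ⟨a, ha, t, ht, b, hb, e⟩ := D.rk1 i u u.2 (fun e => hu (Subtype.ext e))
  have hcj : cj (t * n i) (RX x N V σ (sr i)) = RX x N V σ (-sr i) := by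
    rw [cj_mul, hneg, D.cj_tor ht]
  have hmem : t * n i ∈ RX x N V σ (sr i) ⊔ RX x N V σ (-sr i) := by
    have e1 : t * n i = a⁻¹ * u * b⁻¹ := by rw [e]; group
    rw [e1]
    exact mul_mem (mul_mem (inv_mem (Subgroup.mem_sup_left ha)) (Subgroup.mem_sup_right u.2))
      (inv_mem (Subgroup.mem_sup_left hb))
  rw [← hcj] at hp hmem
  have h1 := le_of_isPGroup hp hmem
  rw [hcj] at h1
  apply hne
  have h2 := D.disj i
  rwa [inf_eq_right.2 h1] at h2

/-- **The root group datum.** -/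
theorem rgd [Finite W] [Finite Γ] [Fact p.Prime] : RGD cs h p T n (RX x N V σ) where
  nsys := D.nsys
  conj i y _ := D.cj_n i y
  tor y _ t ht := D.cj_tor ht y
  comm y z hy hz hyz hyz' a ha b hb := D.comm_all hy hz hyz hyz' ha hb
  rk1 i u hu hu1 := D.rk1 i u hu hu1
  pgrp i := D.isPGroup i
  notp i := D.notp i
  tcop := D.tcop

end TwIn

end Main

end Cfsg.Agent.Nodes.RGDTwGen
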