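import Cfsg.Agent.Nodes.RGDTwD4
import Cfsg.Agent.Nodes.RGDTwE6

/-! Root group data of the twisted groups `³D₄(q)`, `²E₆(q)`, in the form `HasRGD`. -/

set_option autoImplicit false

namespace Cfsg.Agent.Nodes.RGDTwAll

open Cfsg.Agent.Nodes.RGDChev

/-- Every group `²E₆(q)`, `³D₄(q)` of characteristic `p` has a root group datum of characteristic `p`. -/
theorem hasRGD_of_twisted {p : ℕ} {G : Type*} [Group G] (hG : IsTwistedE6D4Char p G) : HasRGD p G := by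
  obtain ⟨K, _, _, _, q, hq, ⟨hK, ⟨e⟩⟩ | ⟨hK, ⟨e⟩⟩⟩ := hG
  · exact (RGDTwE6.hasRGD hq hK p).of_equiv e.symm
  · exact (RGDTwD4.hasRGD hq hK p).of_equiv e.symm

end Cfsg.Agent.Nodes.RGDTwAll
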