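import Cfsg.Agent.Nodes.RGDTwComE6
import Cfsg.Agent.KFacts.RgdChevCoord
import Cfsg.Agent.KFacts.RgdNodes

/-!
The root elements `x φ q z a` of `²E₆(q)`: membership, injectivity, additivity, action of the fundamental reflections
`nn i` and of the torus elements `hh i d`.
-/

set_option autoImplicit false
set_option linter.unusedSectionVars false
set_option maxHeartbeats 400000
set_option Elab.async false

namespace Cfsg.Agent.Nodes.RGDTwActE6

open CoxeterSystem Cfsg.Agent.ChevalleyStructure.CoxeterGeom Cfsg.Agent.Tits.Roots Cfsg.Agent.Tits.Core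
  Cfsg.Agent.Nodes.BNOf Cfsg.Agent.Nodes.RGDTwGen Cfsg.Agent.Nodes.RGDChev Cfsg.Agent.Nodes.RGDFold
  Cfsg.Agent.Nodes.RGDFoldSL Cfsg.Agent.Nodes.RGDTwE6 Cfsg.Agent.Nodes.RGDTwTab Cfsg.Agent.Nodes.RGDTwCoordE6
  Cfsg.Agent.Nodes.RGDTwCoord Cfsg.Agent.Nodes.RGDTwComE6
open Cfsg.Lie Cfsg.Agent.ChevalleyStructure
  Cfsg.Agent.ChevalleyStructure.TwistedU Cfsg.Agent.ChevalleyStructure.TwistedFix
open Cfsg.Agent.ChevalleyStructure.TwE6Basic (sg)
open scoped commutatorElement

universe u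

/-- The class of a vector. -/
local notation "cl" => RGDTwCoord.cl chevE6 J O

/-! ### Tables -/

/-- the exponent of the fundamental reflections -/
theorem ex_tab : ∀ i < 48, ∀ j : Fin 4, ex chevE6 J A O j (V chevE6 J ((O.getD i []).headD 0)) =
    if (O.getD i []).length = 2 ∧ 2 ≤ (j : ℕ) then 1 else 0 := by decide +kernel

/-- the table of the scalars: long nodes -/
theorem wt_tab_long : ∀ i < 48, ∀ j : Fin 4, (j : ℕ) < 2 →
    (J j).map (fun k : Fin 6 => chevE6.cartan k ((O.getD i []).headD 0)) =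
      [pairing A j (V chevE6 J ((O.getD i []).headD 0))] := by decide +kernel

/-- the table of the scalars: short nodes -/
theorem wt_tab_short : ∀ i < 48, ∀ j : Fin 4, 2 ≤ (j : ℕ) →
    (J j).map (fun k : Fin 6 => chevE6.cartan k ((O.getD i []).headD 0)) =
      if (O.getD i []).length = 1 then [pairing A j (V chevE6 J ((O.getD i []).headD 0)) / 2,
        pairing A j (V chevE6 J ((O.getD i []).headD 0)) / 2]
      else if 0 < pairing A j (V chevE6 J ((O.getD i []).headD 0)) then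
        (if V chevE6 J ((O.getD i []).headD 0) = sr j then [2, 0] else [0, 1])
      else if pairing A j (V chevE6 J ((O.getD i []).headD 0)) = 0 then [1, -1]
      else (if V chevE6 J ((O.getD i []).headD 0) = -sr j then [0, -2] else [-1, 0]) := by decide +kernel

/-- every long root has pairing `±1` with a long fundamental root, every short root with a short one -/
theorem pair_tab : ∀ i < 48, ∃ j : Fin 4, (if (O.getD i []).length = 1 then (j : ℕ) < 2 else
      2 ≤ (j : ℕ) ∧ V chevE6 J ((O.getD i []).headD 0) ≠ sr j ∧ V chevE6 J ((O.getD i []).headD 0) ≠ -sr j) ∧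
    (pairing A j (V chevE6 J ((O.getD i []).headD 0)) = 1 ∨
      pairing A j (V chevE6 J ((O.getD i []).headD 0)) = -1) := by decide +kernel

section

variable {W : Type*} [Group W] {cs : CoxeterSystem CoxeterMatrix.F₄ W} {z w : Fin 4 → ℤ}

theorem index (hz : IsRoot cs isCartan z) : ∃ i < 48, cl z = O.getD i [] ∧
    V chevE6 J ((O.getD i []).headD 0) = z := by
  obtain ⟨i, hi, e, e'⟩ := exists_index hz
  exact ⟨i, hi, e, by rw [vec_eq hi]; exact e'.symm⟩

theorem ex_eq (hz : IsRoot cs isCartan z) (j : Fin 4) :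
    ex chevE6 J A O j z = if St z ∧ 2 ≤ (j : ℕ) then 1 else 0 := by
  obtain ⟨i, hi, e, e'⟩ := index hz
  have h1 := ex_tab i hi j
  rw [e', ← e] at h1
  rw [h1]
  have h2 : (cl z).length = 2 ↔ St z := by
    constructor
    · intro h
      rcases length_cases hz with ⟨h1, -⟩ | ⟨-, h1⟩
      · omega
      · exact h1
    · exact fun h => h.length hz
  simp only [h2]

end

section Group

variable {K : Type u} [Field K] {q : ℕ} {φ : K →+* K}

/-- The scalar of the torus element `hh j d` on the root `z`. -/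
def sc (φ : K →+* K) (j : Fin 4) (z : Fin 4 → ℤ) (d : K) : K :=
  if (j : ℕ) < 2 then d ^ pairing A j z
  else if Lg z then (d * φ d) ^ (pairing A j z / 2)
  else if 0 < pairing A j z then (if z = sr j then d ^ (2 : ℤ) else φ d)
  else if pairing A j z = 0 then d * (φ d)⁻¹
  else (if z = -sr j then (φ d) ^ (-2 : ℤ) else d⁻¹)

/-- The torus elements of the fundamental coroots: `d` with `φ d = d` for the long nodes `0, 1`, any `d` for the short
nodes `2, 3`. -/
noncomputable def hh (φ : K →+* K) (q : ℕ) (j : Fin 4) (d : K) : ↥(twistedE6 K q) :=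
  letI := Classical.dec (hI hp φ (J j) d ∈ twistedE6 K q)
  if h : hI hp φ (J j) d ∈ twistedE6 K q then ⟨hI hp φ (J j) d, h⟩ else 1

/-- `d` is a coordinate for the node `j`. -/
def OkN (φ : K →+* K) (j : Fin 4) (d : K) : Prop := 2 ≤ (j : ℕ) ∨ φ d = d

theorem wt_two (j₀ j₁ : Fin 6) (s : ℕ) (d : K) :
    wt chevE6 φ [j₀, j₁] s d = d ^ chevE6.cartan j₀ s * (φ d) ^ chevE6.cartan j₁ s := by
  show d ^ chevE6.cartan j₀ s * ((φ d) ^ chevE6.cartan j₁ s * 1) = _
  rw [mul_one]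

theorem wt_one (j₀ : Fin 6) (s : ℕ) (d : K) : wt chevE6 φ [j₀] s d = d ^ chevE6.cartan j₀ s := by
  show d ^ chevE6.cartan j₀ s * 1 = _
  rw [mul_one]

variable {W : Type*} [Group W] {cs : CoxeterSystem CoxeterMatrix.F₄ W} {z w : Fin 4 → ℤ}

theorem wt_eq (hz : IsRoot cs isCartan z) (j : Fin 4) (d : K) :
    wt chevE6 φ (J j) ((cl z).headD 0) d = sc φ j z d := by
  obtain ⟨i, hi, e, e'⟩ := index hz
  have hl : ∀ j : Fin 4, (j : ℕ) < 2 → ∃ j₀, J j = [j₀] := by decide
  have hs : ∀ j : Fin 4, 2 ≤ (j : ℕ) → ∃ j₀ j₁, J j = [j₀, j₁] := by decide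
  unfold sc
  by_cases hj : (j : ℕ) < 2
  · obtain ⟨j₀, ej⟩ := hl j hj
    have h1 := wt_tab_long i hi j hj
    rw [ej, e', ← e, List.map_cons, List.map_nil, List.cons.injEq] at h1
    rw [if_pos hj, ej, wt_one, h1.1]
  · rw [if_neg hj]
    obtain ⟨j₀, j₁, ej⟩ := hs j (by omega)
    have h1 := wt_tab_short i hi j (by omega)
    rw [ej, e', ← e, List.map_cons, List.map_cons, List.map_nil] at h1
    rw [ej, wt_two]
    rcases length_cases hz with ⟨h2, h3⟩ | ⟨h2, h3⟩
    · rw [if_pos h2, List.cons.injEq, List.cons.injEq] at h1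
      rw [if_pos h3, h1.1, h1.2.1, mul_zpow]
    · rw [if_neg (by omega)] at h1
      rw [if_neg (fun h => not_both h h3)]
      split_ifs at h1 ⊢ with h4 h5 h6 h7 <;> rw [List.cons.injEq, List.cons.injEq] at h1 <;> rw [h1.1, h1.2.1] <;>
        simp

variable [Fintype K] (hφ : ∀ x, φ x = x ^ q) (hqq : ∀ t : K, (t ^ q) ^ q = t)

include hφ hqq

/-- **The root groups.** -/
theorem mem_X (hz : IsRoot cs isCartan z) (g : ↥(twistedE6 K q)) :
    g ∈ X φ q z ↔ ∃ a, Ok chevE6 J O φ z a ∧ x φ q z a = g := by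
  obtain ⟨p, hp'⟩ := CharP.exists K
  have : Fact p.Prime := ⟨CharP.char_is_prime K p⟩
  exact (twC hφ hqq).mem_X cs isCartan p hz g

theorem mem_X_long (hz : IsRoot cs isCartan z) (lz : Lg z) (g : ↥(twistedE6 K q)) :
    g ∈ X φ q z ↔ ∃ a, φ a = a ∧ x φ q z a = g := by
  rw [mem_X hφ hqq hz]
  simp only [ok_iff_long hz lz]

theorem mem_X_short (hz : IsRoot cs isCartan z) (sz : St z) (g : ↥(twistedE6 K q)) :
    g ∈ X φ q z ↔ ∃ a, x φ q z a = g := by
  rw [mem_X hφ hqq hz]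
  exact ⟨fun ⟨a, _, h⟩ => ⟨a, h⟩, fun ⟨a, h⟩ => ⟨a, ok_short hφ hqq hz sz a, h⟩⟩

theorem x_mem (hz : IsRoot cs isCartan z) {a : K} (ha : Ok chevE6 J O φ z a) : x φ q z a ∈ X φ q z :=
  (mem_X hφ hqq hz _).2 ⟨a, ha, rfl⟩

theorem x_inj (hz : IsRoot cs isCartan z) {a b : K} (ha : Ok chevE6 J O φ z a) (hb : Ok chevE6 J O φ z b)
    (h : x φ q z a = x φ q z b) : a = b := by
  obtain ⟨p, hp'⟩ := CharP.exists K
  have : Fact p.Prime := ⟨CharP.char_is_prime K p⟩
  exact (twC hφ hqq).x_inj cs isCartan p hz ha hb h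

theorem x_add (hz : IsRoot cs isCartan z) {a b : K} (ha : Ok chevE6 J O φ z a) (hb : Ok chevE6 J O φ z b) :
    x φ q z (a + b) = x φ q z a * x φ q z b := by
  obtain ⟨p, hp'⟩ := CharP.exists K
  have : Fact p.Prime := ⟨CharP.char_is_prime K p⟩
  exact (twC hφ hqq).x_add cs isCartan p hz ha hb

omit hφ hqq [Fintype K] in
theorem ok_zero (z : Fin 4 → ℤ) : Ok chevE6 J O φ z 0 := by
  unfold Ok
  exact iterate_map_zero φ _

omit hφ hqq [Fintype K] in
theorem ok_one (z : Fin 4 → ℤ) : Ok chevE6 J O φ z 1 := by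
  unfold Ok
  exact iterate_map_one φ _

theorem x_zero (hz : IsRoot cs isCartan z) : x φ q z 0 = 1 := by
  have h := x_add hφ hqq hz (ok_zero z) (ok_zero z)
  rwa [add_zero, left_eq_mul] at h

theorem x_eq_one_iff (hz : IsRoot cs isCartan z) {a : K} (ha : Ok chevE6 J O φ z a) : x φ q z a = 1 ↔ a = 0 := by
  constructor
  · intro h
    rw [← x_zero hφ hqq hz] at h
    exact x_inj hφ hqq hz ha (ok_zero z) h
  · rintro rfl
    exact x_zero hφ hqq hz

/-- **The action of the fundamental reflections.** -/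
theorem conj_nn (hz : IsRoot cs isCartan z) (j : Fin 4) : ∃ η : K, Sg η ∧ ∀ a, Ok chevE6 J O φ z a →
    Ok chevE6 J O φ (rep cs isCartan (cs.simple j) z) (η * if St z ∧ 2 ≤ (j : ℕ) then φ a else a) ∧
    nn hφ j * x φ q z a * (nn hφ j)⁻¹ =
      x φ q (rep cs isCartan (cs.simple j) z) (η * if St z ∧ 2 ≤ (j : ℕ) then φ a else a) := by
  obtain ⟨p, hp'⟩ := CharP.exists K
  have : Fact p.Prime := ⟨CharP.char_is_prime K p⟩
  obtain ⟨η, h1, h2⟩ := (twC hφ hqq).conj_x cs isCartan p j hz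
  refine ⟨η, h1, fun a ha => ?_⟩
  obtain ⟨h3, h4⟩ := h2 a ha
  have e : φ^[ex chevE6 J A O j z] a = if St z ∧ 2 ≤ (j : ℕ) then φ a else a := by
    rw [ex_eq hz j]
    split_ifs <;> rfl
  rw [e] at h3 h4
  exact ⟨h3, h4⟩

/-- The torus elements. -/
theorem coe_hh {j : Fin 4} {d : K} (hd : d ≠ 0) (hdj : OkN φ j d) :
    ((hh φ q j d : ↥(twistedE6 K q)) : GL chevE6.Idx K) = hI hp φ (J j) d ∧ hh φ q j d ∈ T K q := by
  have h1 : φ^[(RGDTwNode.E6.rest j).length + 1] d = d := by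
    rcases hdj with h | h
    · have h2 : ∀ j : Fin 4, 2 ≤ (j : ℕ) → (RGDTwNode.E6.rest j).length = 1 := by decide
      rw [h2 j h]
      exact phi_phi hφ hqq d
    · have h2 : ∀ k : ℕ, φ^[k] d = d := by
        intro k
        induction k with
        | zero => rfl
        | succ k ih => rw [Function.iterate_succ_apply, h, ih]
      exact h2 _
  have h2 := (twC hφ hqq).hI_mem (RGDTwNode.E6.nodeOK j) (fun s hs t => by
    rw [RGDTwNode.E6.eps_one j s hs, Int.cast_one, one_mul]) hd h1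
  unfold hh
  rw [dif_pos h2.2]
  refine ⟨rfl, ?_⟩
  show _ ∈ Subgroup.subgroupOf _ _
  rw [Subgroup.mem_subgroupOf]
  exact ⟨h2.1, h2.2⟩

/-- **The action of the torus elements.** -/
theorem conj_hh (hz : IsRoot cs isCartan z) {j : Fin 4} {d : K} (hd : d ≠ 0) (hdj : OkN φ j d) {a : K}
    (ha : Ok chevE6 J O φ z a) : Ok chevE6 J O φ z (sc φ j z d) ∧
      hh φ q j d * x φ q z a * (hh φ q j d)⁻¹ = x φ q z (sc φ j z d * a) := by
  obtain ⟨h1, h2⟩ := coe_hh hφ hqq hd hdj
  have h3 : φ^[(RGDTwNode.E6.rest j).length + 1] d = d := by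
    rcases hdj with h | h
    · have h2 : ∀ j : Fin 4, 2 ≤ (j : ℕ) → (RGDTwNode.E6.rest j).length = 1 := by decide
      rw [h2 j h]
      exact phi_phi hφ hqq d
    · have h2 : ∀ k : ℕ, φ^[k] d = d := by
        intro k
        induction k with
        | zero => rfl
        | succ k ih => rw [Function.iterate_succ_apply, h, ih]
      exact h2 _
  obtain ⟨h4, h5⟩ := (twC hφ hqq).hI_Y (RGDTwNode.E6.nodeOK j) (fun s hs t => by
    rw [RGDTwNode.E6.eps_one j s hs, Int.cast_one, one_mul]) hd h3 hz ha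
  rw [wt_eq hz] at h4 h5
  refine ⟨h4, Subtype.ext ?_⟩
  rw [Subgroup.coe_mul, Subgroup.coe_mul, Subgroup.coe_inv, h1, coe_x hφ hqq hz ha,
    coe_x hφ hqq hz (Ok.mul h4 ha)]
  exact h5

/-- The scalars of the torus. -/
theorem conj_T (hz : IsRoot cs isCartan z) {t : ↥(twistedE6 K q)} (ht : t ∈ T K q) :
    ∃ χ : K, χ ≠ 0 ∧ Ok chevE6 J O φ z χ ∧ ∀ a, Ok chevE6 J O φ z a →
      t * x φ q z a * t⁻¹ = x φ q z (χ * a) := by
  obtain ⟨p, hp'⟩ := CharP.exists K
  have : Fact p.Prime := ⟨CharP.char_is_prime K p⟩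
  exact (twC hφ hqq).tor_x cs isCartan p ht hz

/-- **The torus is transitive on the nontrivial elements of a root group.** -/
theorem exists_T (hz : IsRoot cs isCartan z) {a b : K} (ha : Ok chevE6 J O φ z a) (hb : Ok chevE6 J O φ z b)
    (ha0 : a ≠ 0) (hb0 : b ≠ 0) : ∃ t ∈ T K q, ∀ c, Ok chevE6 J O φ z c →
      t * x φ q z c * t⁻¹ = x φ q z (b / a * c) := by
  have key : ∀ {c : K}, Ok chevE6 J O φ z c → c ≠ 0 → ∃ t ∈ T K q, ∀ a, Ok chevE6 J O φ z a →
      t * x φ q z a * t⁻¹ = x φ q z (c * a) := by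
    intro c hc hc0
    obtain ⟨i, hi, e, e'⟩ := index hz
    obtain ⟨j, h1, h2⟩ := pair_tab i hi
    rw [e', ← e] at h1
    rw [e'] at h2
    have main : ∃ d : K, d ≠ 0 ∧ OkN φ j d ∧ sc φ j z d = c := by
      rcases length_cases hz with ⟨h3, h4⟩ | ⟨h3, h4⟩
      · rw [if_pos h3] at h1
        have hφc := (ok_iff_long hz h4).1 hc
        rcases h2 with h2 | h2
        · refine ⟨c, hc0, Or.inr hφc, ?_⟩
          unfold sc
          rw [if_pos h1, h2, zpow_one]
        · refine ⟨c⁻¹, inv_ne_zero hc0, Or.inr (by rw [map_inv₀, hφc]), ?_⟩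
          unfold sc
          rw [if_pos h1, h2, zpow_neg_one, inv_inv]
      · rw [if_neg (by omega)] at h1
        obtain ⟨h1, h5, h6⟩ := h1
        rcases h2 with h2 | h2
        · refine ⟨φ c, (map_ne_zero φ).2 hc0, Or.inl h1, ?_⟩
          unfold sc
          rw [if_neg (by omega), if_neg (fun h => not_both h h4), if_pos (by rw [h2]; decide), if_neg h5]
          exact phi_phi hφ hqq c
        · refine ⟨c⁻¹, inv_ne_zero hc0, Or.inl h1, ?_⟩
          unfold sc
          rw [if_neg (by omega), if_neg (fun h => not_both h h4), if_neg (by rw [h2]; decide),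
            if_neg (by rw [h2]; decide), if_neg h6, inv_inv]
    obtain ⟨d, hd, hdj, e1⟩ := main
    refine ⟨hh φ q j d, (coe_hh hφ hqq hd hdj).2, fun a ha => ?_⟩
    rw [(conj_hh hφ hqq hz hd hdj ha).2, e1]
  refine key ?_ (div_ne_zero hb0 ha0)
  unfold Ok at ha hb ⊢
  rw [← RingHom.coe_pow] at ha hb ⊢
  rw [map_div₀, ha, hb]

/-! ### The coordinates of `KFacts.RgdField` -/

omit hφ hqq [Fintype K] in
open Classical in
/-- The scalar of `t` on the root group `z`. -/
noncomputable def ch (φ : K →+* K) (q : ℕ) (z : Fin 4 → ℤ) (t : ↥(twistedE6 K q)) : Fx φ (cl z).length :=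
  if h : ∃ χ : Fx φ (cl z).length, ∀ a : Fx φ (cl z).length, t * x φ q z a * t⁻¹ = x φ q z (χ * a) then h.choose
  else 1

theorem ch_spec (hz : IsRoot cs isCartan z) {t : ↥(twistedE6 K q)} (ht : t ∈ T K q) (a : Fx φ (cl z).length) :
    t * x φ q z a * t⁻¹ = x φ q z ((ch φ q z t * a : Fx φ (cl z).length) : K) := by
  have h : ∃ χ : Fx φ (cl z).length, ∀ a : Fx φ (cl z).length, t * x φ q z a * t⁻¹ = x φ q z (χ * a) := by
    obtain ⟨χ, -, h1, h2⟩ := conj_T hφ hqq hz ht
    exact ⟨⟨χ, mem_Fx.2 h1⟩, fun a => h2 a (mem_Fx.1 a.2)⟩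
  unfold ch
  rw [dif_pos h]
  exact h.choose_spec a

theorem ch_eq (hz : IsRoot cs isCartan z) {t : ↥(twistedE6 K q)} (ht : t ∈ T K q) {χ : Fx φ (cl z).length}
    (h : t * x φ q z 1 * t⁻¹ = x φ q z χ) : ch φ q z t = χ := by
  have h1 := ch_spec hφ hqq hz ht 1
  rw [mul_one] at h1
  have h2 : x φ q z ((ch φ q z t : Fx φ (cl z).length) : K) = x φ q z χ := by
    rw [← h1]; exact h
  exact Subtype.ext (x_inj hφ hqq hz (mem_Fx.1 (ch φ q z t).2) (mem_Fx.1 χ.2) h2)

/-- **The coordinates of the root groups**, with coordinate field `F_q` (long) and `K = F_{q²}` (short). -/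
theorem coord (hz : IsRoot cs isCartan z) :
    KFacts.RgdField.Coord (T K q) (X φ q z) (fun a : Fx φ (cl z).length => x φ q z a) (ch φ q z) where
  mem y := by
    rw [mem_X hφ hqq hz]
    constructor
    · rintro ⟨a, ha, rfl⟩
      exact ⟨⟨a, mem_Fx.2 ha⟩, rfl⟩
    · rintro ⟨a, rfl⟩
      exact ⟨a, mem_Fx.1 a.2, rfl⟩
  inj a b hab := Subtype.ext (x_inj hφ hqq hz (mem_Fx.1 a.2) (mem_Fx.1 b.2) hab)
  add a b := x_add hφ hqq hz (mem_Fx.1 a.2) (mem_Fx.1 b.2)
  act t ht a := ch_spec hφ hqq hz ht a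
  span := by
    rw [AddSubgroup.eq_top_iff']
    intro c
    by_cases hc : c = 0
    · rw [hc]; exact AddSubgroup.zero_mem _
    · apply AddSubgroup.subset_closure
      have hc' : (c : K) ≠ 0 := fun h => hc (Subtype.ext h)
      obtain ⟨t, ht, h1⟩ := exists_T hφ hqq hz (ok_one z) (mem_Fx.1 c.2) one_ne_zero hc'
      refine ⟨t, ht, ch_eq hφ hqq hz ht ?_⟩
      rw [h1 1 (ok_one z), div_one, mul_one]

end Group

end Cfsg.Agent.Nodes.RGDTwActE6
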