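import Cfsg.Agent.Nodes.CardSup
import Cfsg.Agent.Nodes.ChartTypeA
import Cfsg.Agent.Nodes.ChartTypeC

/-!
The order of `VV r` in type `A₃` and `C₂` (project CIT, charts).

* `card_VV_of` : `|VV r| = ∏ |X y|`, `(y, r) > 0`, for `r` dominant;
* `card_VV_A3` : `|VV r| = a ^ 5`;
* `card_VV_C2` : `|VV r| = a b ^ 2`, `r` long, `a` = the order of the long, `b` of the short root groups.
-/

set_option autoImplicit false
set_option linter.unusedSectionVars false

namespace Cfsg.Agent.Nodes.CardVV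

open CoxeterSystem Cfsg.Agent.ChevalleyStructure.CoxeterGeom Cfsg.Agent.Tits.Roots Cfsg.Agent.Tits.Core
  Cfsg.Agent.Tits.RootComb Cfsg.Agent.Nodes.Comb Cfsg.Agent.Nodes.Reps Cfsg.Agent.Nodes.BNOf
  Cfsg.Agent.Nodes.BNOf.RGD Cfsg.Agent.Nodes.Unique Cfsg.Agent.Nodes.ChartLoc Cfsg.Agent.Nodes.Chart
  Cfsg.Agent.Nodes.CardSup

section General

variable {I W Y : Type*} [Fintype I] [DecidableEq I] [Group W] [Fintype W] [Group Y] {M : CoxeterMatrix I}
  {cs : CoxeterSystem M W} {A : I → I → ℤ} {h : IsCartan M A} {p : ℕ} {T : Subgroup Y} {n : I → Y}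
  {X : (I → ℤ) → Subgroup Y}

theorem closed_form (r : I → ℤ) : Closed cs h {y | IsRoot cs h y ∧ 0 < form cs h y r} := by
  rintro x ⟨-, hx⟩ y ⟨-, hy⟩ z ⟨hz, m, a, b, hm, ha, hb, he⟩
  refine ⟨hz, ?_⟩
  have h1 : m * form cs h z r = a * form cs h x r + b * form cs h y r := by
    rw [← form_smul_left, ← form_smul_left, ← form_smul_left, ← form_add_left, he]
  have h2 : 0 < m * form cs h z r := by
    rw [h1]
    exact add_pos (mul_pos ha hx) (mul_pos hb hy)
  exact pos_of_mul_pos_right h2 hm.le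

theorem card_VV_of (Rd : RGD cs h p T n X) {r : I → ℤ} (s : Finset (I → ℤ))
    (hs : ∀ y, y ∈ s ↔ IsRoot cs h y ∧ 0 < form cs h y r) (hpos : ∀ y ∈ s, 0 ≤ y) :
    Nat.card (VV cs h X r) = ∏ x ∈ s, Nat.card (X x) := by
  have h1 : {y | IsRoot cs h y ∧ 0 < form cs h y r} = (s : Set (I → ℤ)) := by
    ext y
    rw [Finset.mem_coe, hs]
    rfl
  unfold VV
  rw [h1]
  refine card_sup Rd ?_ ?_
  · intro y hy
    exact ⟨((hs y).1 (Finset.mem_coe.1 hy)).1, hpos y (Finset.mem_coe.1 hy)⟩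
  · rw [← h1]
    exact closed_form r

theorem card_VV_rep {R : Set (I → ℤ)} {Z : (I → ℤ) → Subgroup Y} {z : (I → ℤ) → Y} (C : Cls cs h p T n X R Z z)
    (w : W) (r : I → ℤ) : Nat.card (VV cs h X (rep cs h w r)) = Nat.card (VV cs h X r) := by
  obtain ⟨k, hk⟩ := exists_rp cs C.rgd.nsys w
  rw [← cj_VV C hk r]
  exact card_cj _

end General

/-! ### Type `A₃` -/

section A3

open Cfsg.Agent.Nodes.RootsA Cfsg.Agent.Nodes.ClsTypeA
open Cfsg.Agent.LieRecognition.BNCox (cA)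

variable {W Y : Type*} [Group W] [Fintype W] [Group Y]
  {cs : CoxeterSystem (cA 3) W} {A : Fin 3 → Fin 3 → ℤ} {h : IsCartan (cA 3) A} {p : ℕ} {T : Subgroup Y}
  {n : Fin 3 → Y} {X : (Fin 3 → ℤ) → Subgroup Y}

theorem form_pos_iff {a b : Fin 4} (hab : a ≠ b) :
    0 < form cs h (rtA a b) (rtA 0 3) ↔ a = 0 ∨ b = 3 := by
  have h03 : (0 : Fin 4) ≠ 3 := by decide
  constructor
  · intro h0
    by_contra hcon
    push Not at hcon
    obtain ⟨h1, h2⟩ := ne_of_nonneg cs h h03 hab h0.le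
    rw [form_disjoint cs h hcon.1 h2 h1 hcon.2] at h0
    exact lt_irrefl _ h0
  · intro h0
    by_cases ha : a = 0
    · subst ha
      by_cases hb : b = 3
      · subst hb
        exact form_pos cs h (rtA_ne_zero hab)
      · have h1 := form_adj_neg cs h (a := b) (b := 0) (d := 3) hab.symm h03 hb
        rw [← rtA_neg 0 b, form_neg_left] at h1
        linarith
    · have hb : b = 3 := h0.resolve_left ha
      subst hb
      have h1 := form_adj_neg cs h (a := a) (b := 3) (d := 0) hab h03.symm ha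
      rw [← rtA_neg 0 3, form_neg_right] at h1
      linarith

/-- the roots `ε_a - ε_b` with positive scalar product with `ε_0 - ε_3` -/
def sA : Finset (Fin 3 → ℤ) :=
  (Finset.univ.filter fun q : Fin 4 × Fin 4 => q.1 ≠ q.2 ∧ (q.1 = 0 ∨ q.2 = 3)).image fun q => rtA q.1 q.2

theorem card_sA : sA.card = 5 := by decide

theorem mem_sA (y : Fin 3 → ℤ) : y ∈ sA ↔ IsRoot cs h y ∧ 0 < form cs h y (rtA 0 3) := by
  unfold sA
  rw [Finset.mem_image]
  constructor
  · rintro ⟨⟨a, b⟩, hq, rfl⟩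
    rw [Finset.mem_filter] at hq
    obtain ⟨-, hab, h1⟩ := hq
    exact ⟨isRoot_rtA cs h hab, (form_pos_iff hab).2 h1⟩
  · rintro ⟨hy, h1⟩
    obtain ⟨a, b, hab, rfl⟩ := exists_of_isRoot cs h hy
    exact ⟨(a, b), Finset.mem_filter.2 ⟨Finset.mem_univ _, hab, (form_pos_iff hab).1 h1⟩, rfl⟩

theorem sA_nonneg : ∀ y ∈ sA, 0 ≤ y := by
  intro y hy
  unfold sA at hy
  rw [Finset.mem_image] at hy
  obtain ⟨⟨a, b⟩, hq, rfl⟩ := hy
  rw [Finset.mem_filter] at hq
  obtain ⟨-, hab, h1⟩ := hq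
  rw [rtA_nonneg_iff]
  simp only at h1 ⊢
  rcases h1 with h1 | h1
  · rw [h1]; exact Fin.zero_le _
  · rw [h1]; exact Fin.le_last a

/-- **type `A₃`** -/
theorem card_VV_A3 {R : Set (Fin 3 → ℤ)} {Z : (Fin 3 → ℤ) → Subgroup Y} {z : (Fin 3 → ℤ) → Y}
    (C : Cls cs h p T n X R Z z) {a : ℕ} (ha : ∀ y, IsRoot cs h y → Nat.card (X y) = a) {r : Fin 3 → ℤ}
    (hr : IsRoot cs h r) : Nat.card (VV cs h X r) = a ^ 5 := by
  have h03 : (0 : Fin 4) ≠ 3 := by decide
  obtain ⟨w, rfl⟩ := Cfsg.Agent.Nodes.ChartTypeA.trans cs h (isRoot_rtA cs h h03) hr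
  rw [card_VV_rep C, card_VV_of C.rgd sA mem_sA sA_nonneg, Finset.prod_congr rfl fun y hy => ha y ((mem_sA y).1 hy).1,
    Finset.prod_const, card_sA]

end A3

/-! ### Type `C₂` -/

section C2

open Cfsg.Agent.Nodes.TypeC Cfsg.Agent.Nodes.TypeCForm Cfsg.Agent.Nodes.ClsWitt

variable {W Y : Type*} [Group W] [Fintype W] [Group Y]
  {cs : CoxeterSystem (CoxeterMatrix.B 2) W} {p : ℕ} {T : Subgroup Y}
  {n : Fin 2 → Y} {X : (Fin 2 → ℤ) → Subgroup Y}

theorem form_pos_iff' {n : ℕ} {W : Type*} [Group W] [Fintype W] (cs : CoxeterSystem (CoxeterMatrix.B n) W)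
    {x r : Fin n → ℤ} (hr : IsRoot cs (TypeC.isCartan n) r) :
    0 < form cs (TypeC.isCartan n) x r ↔ 0 < ip (ee x) (ee r) := by
  have h1 := form_nonneg_iff cs (x := x) hr
  have h2 := form_eq_zero_iff cs (x := x) hr
  constructor
  · intro h
    exact lt_of_le_of_ne (h1.1 h.le) fun e => h.ne' (h2.2 e.symm)
  · intro h
    exact lt_of_le_of_ne (h1.2 h.le) fun e => h.ne' (h2.1 e.symm)

/-- the roots `2 ε_0`, `ε_0 + ε_1`, `ε_0 - ε_1` -/
def sC : Finset (Fin 2 → ℤ) := {![2, 1], ![1, 1], ![1, 0]}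

theorem ee_two (y : Fin 2 → ℤ) : ee y = ![y 0, -y 0 + 2 * y 1] := by
  funext k
  unfold ee
  rw [Fin.sum_univ_two, Pi.add_apply, Pi.smul_apply, Pi.smul_apply, smul_eq_mul, smul_eq_mul, bt_apply, bt_apply]
  fin_cases k
  · simp
  · simp
    ring

theorem ee_long : ee ![2, 1] = wt ((0 : Fin 2), true) + wt ((0 : Fin 2), true) := by
  rw [ee_two]
  funext k
  fin_cases k <;> simp [wt_apply]

theorem mem_sC (y : Fin 2 → ℤ) : y ∈ sC ↔ IsRoot cs (TypeC.isCartan 2) y ∧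
    0 < form cs (TypeC.isCartan 2) y ![2, 1] := by
  have hr : IsRoot cs (TypeC.isCartan 2) ![2, 1] := isRoot_iff.2 ⟨_, _, Or.inr rfl, ee_long⟩
  rw [form_pos_iff' cs hr, isRoot_iff, ee_long, ip_add_right, ip_wt_right]
  have e1 : ee y 0 = y 0 := by rw [ee_two]; rfl
  have e2 : ee y 1 = -y 0 + 2 * y 1 := by rw [ee_two]; rfl
  have e3 : sn ((0 : Fin 2), true) = 1 := rfl
  rw [e1, e3]
  have key : ∀ y : Fin 2 → ℤ, ∀ u v : ℤ, y 0 = u → y 1 = v → y = ![u, v] := by
    intro y u v h1 h2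
    funext k
    fin_cases k
    · exact h1
    · exact h2
  constructor
  · intro hy
    unfold sC at hy
    rw [Finset.mem_insert, Finset.mem_insert, Finset.mem_singleton] at hy
    rcases hy with rfl | rfl | rfl
    · exact ⟨⟨_, _, Or.inr rfl, ee_long⟩, by norm_num⟩
    · refine ⟨⟨((0 : Fin 2), true), ((1 : Fin 2), true), Or.inl (by decide), ?_⟩, by norm_num⟩
      rw [ee_two]
      funext k
      fin_cases k <;> simp [wt_apply]
    · refine ⟨⟨((0 : Fin 2), true), ((1 : Fin 2), false), Or.inl (by decide), ?_⟩, by norm_num⟩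
      rw [ee_two]
      funext k
      fin_cases k <;> simp [wt_apply]
  · rintro ⟨⟨a, b, hab, e⟩, h0⟩
    have e4 := congrFun e 0
    have e5 := congrFun e 1
    rw [e1, Pi.add_apply, wt_apply, wt_apply] at e4
    rw [e2, Pi.add_apply, wt_apply, wt_apply] at e5
    unfold sC
    rw [Finset.mem_insert, Finset.mem_insert, Finset.mem_singleton]
    obtain ⟨i, s⟩ := a
    obtain ⟨j, t⟩ := b
    fin_cases i <;> fin_cases j <;> cases s <;> cases t <;> simp [TypeC.Ok] at hab e4 e5 <;> first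
      | (exfalso; omega)
      | (left; exact key y _ _ (by omega) (by omega))
      | (right; left; exact key y _ _ (by omega) (by omega))
      | (right; right; exact key y _ _ (by omega) (by omega))

theorem sC_nonneg : ∀ y ∈ sC, 0 ≤ y := by
  intro y hy
  unfold sC at hy
  rw [Finset.mem_insert, Finset.mem_insert, Finset.mem_singleton] at hy
  rcases hy with rfl | rfl | rfl <;> intro k <;> fin_cases k <;> simp

/-- **type `C₂`** -/
theorem card_VV_C2 {Z : (Fin 2 → ℤ) → Subgroup Y} {z : (Fin 2 → ℤ) → Y}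
    (C : Cls cs (TypeC.isCartan 2) p T n X (LR 2) Z z) {a b : ℕ} (ha : ∀ y ∈ LR 2, Nat.card (X y) = a)
    (hb : ∀ y (c d : Fin 2 × Bool), c.1 ≠ d.1 → ee y = wt c + wt d → Nat.card (X y) = b) {r : Fin 2 → ℤ}
    (hr : r ∈ LR 2) : Nat.card (VV cs (TypeC.isCartan 2) X r) = a * b ^ 2 := by
  have h0 : ![2, 1] ∈ LR 2 := ⟨_, ee_long⟩
  obtain ⟨w, rfl⟩ := Cfsg.Agent.Nodes.ChartTypeC.trans cs h0 hr
  rw [card_VV_rep C, card_VV_of C.rgd sC mem_sC sC_nonneg]
  unfold sC
  rw [Finset.prod_insert (by decide), Finset.prod_insert (by decide), Finset.prod_singleton, ha _ h0,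
    hb ![1, 1] ((0 : Fin 2), true) ((1 : Fin 2), true) (by decide) (by
      rw [ee_two]
      funext k
      fin_cases k <;> simp [wt_apply]),
    hb ![1, 0] ((0 : Fin 2), true) ((1 : Fin 2), false) (by decide) (by
      rw [ee_two]
      funext k
      fin_cases k <;> simp [wt_apply])]
  ring

end C2

end Cfsg.Agent.Nodes.CardVV
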