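import Cfsg.Agent.Nodes.ChevCls
import Cfsg.Agent.Nodes.ClsMap
import Cfsg.Agent.Nodes.Ty
import Cfsg.Agent.Cit.TypeDet.KindsEF
import Cfsg.Agent.S1054
import Cfsg.Agent.S1055

/-!
helper617: the charts of `⊤` for groups isomorphic to `D.group K`, `K` finite of odd characteristic, `D` one of
`chevF4, chevE6, chevE7, chevE8, chevG2`.

* `KT hp v` : the subgroup `⟨X v, X (-v)⟩`; `chartOf` : the chart, for a class `Om` of subgroups which consists of the
  conjugates of `⟨X θ, X (-θ)⟩`;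
* `chartE6`, `chartE7`, `chartE8`, `chartF4`, `chartG2` and `isTy_E6`, ...
-/

set_option autoImplicit false
set_option linter.unusedSectionVars false

namespace Cfsg.Agent.Nodes.ChevChart

open CoxeterSystem Cfsg.Agent.ChevalleyStructure.CoxeterGeom Cfsg.Agent.Tits.Roots Cfsg.Agent.Tits.Core
  Cfsg.Agent.Tits.RootComb Cfsg.Agent.Nodes.Comb Cfsg.Agent.Nodes.Reps Cfsg.Agent.Nodes.BNOf
  Cfsg.Agent.Nodes.RGDLib Cfsg.Agent.Nodes.Chart Cfsg.Agent.Nodes.Coroot Cfsg.Agent.Nodes.ClsInv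
  Cfsg.Agent.Nodes.KindBase Cfsg.Agent.Nodes.KindChev Cfsg.Agent.Nodes.ChevCls Cfsg.Agent.Nodes.ClsMap
open Cfsg.Lie Cfsg.Agent.ChevalleyStructure Cfsg.Agent.ChevalleyStructure.Elts
  Cfsg.Agent.ChevalleyStructure.NPerm Cfsg.Agent.ChevalleyStructure.CoxeterGeomTypes Cfsg.Agent.Nodes.RGDChev
  Cfsg.Agent.KFacts.RgdChevCoord

universe u

/-- Irreducibility, checked on finite sets. -/
theorem irr_of {l : ℕ} {M : CoxeterMatrix (Fin l)}
    (hM : ∀ J : Finset (Fin l), J = ∅ ∨ J = Finset.univ ∨ ∃ a ∈ J, ∃ b, b ∉ J ∧ M a b ≠ 2) (J : Set (Fin l))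
    (hJ : J.Nonempty) (hJ' : J ≠ Set.univ) : ∃ a ∈ J, ∃ b, b ∉ J ∧ M a b ≠ 2 := by
  classical
  rcases hM J.toFinset with h1 | h1 | ⟨a, ha, b, hb, hab⟩
  · rw [Set.toFinset_eq_empty] at h1
    exact absurd h1 hJ.ne_empty
  · rw [Set.toFinset_eq_univ] at h1
    exact absurd h1 hJ'
  · exact ⟨a, Set.mem_toFinset.1 ha, b, fun h => hb (Set.mem_toFinset.2 h), hab⟩

section General

variable {D : ChevalleyDatum} {l : ℕ} {M : CoxeterMatrix (Fin l)} (hp : IsType D l M) {K : Type u} [Field K]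

variable (D l K) in
/-- The subgroup `⟨X v, X (-v)⟩` of `D.group K`. -/
def KT (v : Fin l → ℤ) : Subgroup ↥(D.group K) := XX D l K v ⊔ XX D l K (-v)

/-- The Weyl group is finite. -/
@[reducible] noncomputable def fintypeW (hp : IsType D l M) : Fintype M.Group :=
  haveI : Finite M.Group := finite_W hp M.toCoxeterSystem
  Fintype.ofFinite _

variable {f : ℕ} {N : ℤ} {d : Fin l → ℤ} {fr cf : Fin f → Fin l → ℤ} {idx : Fin f → ℕ}

/-- All classical subgroups are conjugate. -/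
theorem exists_cj_KT [Finite K] (p : ℕ) [Fact p.Prime] [CharP K p] (T : KD D l f N d fr cf idx)
    {r s : Fin l → ℤ} (hr : r ∈ RN M.toCoxeterSystem (h := hp.isCartan) N d)
    (hs : s ∈ RN M.toCoxeterSystem (h := hp.isCartan) N d) : ∃ g, cj g (KT D l K r) = KT D l K s := by
  have : Finite M.Group := finite_W hp M.toCoxeterSystem
  have Rg := rgd (K := K) hp M.toCoxeterSystem p
  obtain ⟨w, hw⟩ := T.trans (cs := M.toCoxeterSystem) (h := hp.isCartan) hp hr hs
  obtain ⟨g, hg⟩ := exists_rp M.toCoxeterSystem Rg.nsys w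
  refine ⟨g, ?_⟩
  have h1 := Rg.conj_rp hg hr.1
  have h2 := Rg.conj_rp hg hr.1.neg
  rw [map_neg] at h2
  unfold KT
  rw [cj_sup, h1, h2, hw]

/-- **The chart** of a group `G` isomorphic to `D.group K`. -/
noncomputable def chartOf [Finite K] {p : ℕ} [hpr : Fact p.Prime] [CharP K p] (h2 : p ≠ 2)
    (T : KD D l f N d fr cf idx) (k₀ : Fin f) (hd : ∀ i, 0 < d i ∧ 2 * d i ≤ N)
    (hL : ∀ s < D.nroots, (∀ i, vec D l s i = fr k₀ i) ∨ (∀ i, vec D l s i = -fr k₀ i) ∨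
      |∑ i, vec D l s i * cf k₀ i| ≤ 1)
    (hM : ∀ J : Finset (Fin l), J = ∅ ∨ J = Finset.univ ∨ ∃ a ∈ J, ∃ b, b ∉ J ∧ M a b ≠ 2) (hl : 0 < l)
    (hZ : Subgroup.center ↥(D.group K) = ⊥) {G : Type*} [Group G] (e : ↥(D.group K) ≃* G) (Om : Set (Subgroup G))
    (hcj : ∀ J ∈ Om, ∀ g, cj g J ∈ Om) (hJ : (KT D l K (fr k₀)).map e.toMonoidHom ∈ Om)
    (hOm : ∀ J ∈ Om, ∃ g, J = cj g ((KT D l K (fr k₀)).map e.toMonoidHom)) : Chart Om p (⊤ : Subgroup G) :=
  letI := fintypeW hp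
  { prime := hpr.out
    odd := h2
    I := Fin l
    W := M.Group
    M := M
    cs := M.toCoxeterSystem
    A := cartanOf D l
    h := hp.isCartan
    T := (TT D K).map e.toMonoidHom
    n := fun i => e.toMonoidHom (nc hp K i)
    X := fun x => (XX D l K x).map e.toMonoidHom
    R := RN M.toCoxeterSystem (h := hp.isCartan) N d
    Z := fun x => (XX D l K x).map e.toMonoidHom
    z := fun x => e.toMonoidHom (zv M.toCoxeterSystem hp.isCartan (TT D K) (XX D l K) x)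
    cls := cls_map_of_injective (ChevCls.cls hp M.toCoxeterSystem p T k₀ hd hL hZ) _ e.injective
    irr := irr_of hM
    ne := ⟨⟨0, hl⟩⟩
    T_le := le_top
    gen := by
      have h1 : G1 M.toCoxeterSystem hp.isCartan (fun x => (XX D l K x).map e.toMonoidHom) =
          (G1 M.toCoxeterSystem hp.isCartan (XX D l K)).map e.toMonoidHom := by
        unfold G1 RGD.Sup
        rw [Subgroup.map_iSup]
      rw [h1, G1_eq_top hp, Subgroup.map_top_of_surjective _ e.surjective]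
    trans := fun r hr s hs => by
      obtain ⟨w, hw⟩ := T.trans (cs := M.toCoxeterSystem) (h := hp.isCartan) hp hr hs
      exact ⟨w, hw.symm⟩
    Rne := ⟨_, T.mem (cs := M.toCoxeterSystem) (h := hp.isCartan) hp k₀⟩
    om := by
      intro r hr
      obtain ⟨g, hg⟩ := exists_cj_KT (K := K) hp p T (T.mem hp k₀) hr
      rw [← Subgroup.map_sup]
      have h1 : (XX D l K r ⊔ XX D l K (-r)).map e.toMonoidHom =
          cj (e.toMonoidHom g) ((KT D l K (fr k₀)).map e.toMonoidHom) := by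
        rw [cj_map, hg]
        rfl
      rw [h1]
      exact hcj _ hJ _
    om_conj := by
      intro J hJ' _
      obtain ⟨g, hg⟩ := hOm J hJ'
      refine ⟨fr k₀, T.mem hp k₀, g, Subgroup.mem_top _, ?_⟩
      rw [← Subgroup.map_sup]
      exact hg }

end General

theorem center_eq_bot {D : ChevalleyDatum} {K : Type u} [Field K]
    (h : IsSimpleGroup ↥(D.group K) ∧ ¬ IsMulCommutative ↥(D.group K)) : Subgroup.center ↥(D.group K) = ⊥ := by
  have := h.1
  rcases (inferInstance : (Subgroup.center ↥(D.group K)).Normal).eq_bot_or_eq_top with h1 | h1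
  · exact h1
  · exfalso
    apply h.2
    exact ⟨⟨fun a b => by
      have h2 : a ∈ Subgroup.center ↥(D.group K) := by rw [h1]; exact Subgroup.mem_top a
      exact (Subgroup.mem_center_iff.1 h2 b).symm⟩⟩

/-! ### The types -/

section Types

variable {K : Type u} [Field K] [Finite K] {p : ℕ} [Fact p.Prime] [CharP K p] (h2 : p ≠ 2) {G : Type*} [Group G]
  (Om : Set (Subgroup G)) (hcj : ∀ J ∈ Om, ∀ g, cj g J ∈ Om)

theorem center_of_mem {D : ChevalleyDatum} (hD : D ∈ [chevD4, chevF4, chevE6, chevE7, chevE8]) :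
    Subgroup.center ↥(D.group K) = ⊥ := center_eq_bot (Cfsg.Agent.S1054.result D hD)

include h2 in
theorem center_G2 : Subgroup.center ↥(chevG2.group K) = ⊥ := by
  refine center_eq_bot (Cfsg.Agent.S1055.result ⟨-1, neg_ne_zero.2 one_ne_zero, fun h0 => ?_⟩)
  have h1 : ((2 : ℕ) : K) = 0 := by
    have h3 : (2 : K) = 1 - (-1) := by norm_num
    push_cast
    rw [h3, h0, sub_self]
  rw [CharP.cast_eq_zero_iff K p] at h1
  exact h2 ((Nat.prime_dvd_prime_iff_eq Fact.out Nat.prime_two).1 h1)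

section E6

set_option backward.isDefEq.respectTransparency false in
theorem long6 : ∀ s < chevE6.nroots, (∀ i, vec chevE6 6 s i = KindE.fr6 0 i) ∨ (∀ i, vec chevE6 6 s i = -KindE.fr6 0 i) ∨
    |∑ i, vec chevE6 6 s i * KindE.cf6 0 i| ≤ 1 := by decide +kernel

set_option backward.isDefEq.respectTransparency false in
theorem irr6 : ∀ J : Finset (Fin 6), J = ∅ ∨ J = Finset.univ ∨ ∃ a ∈ J, ∃ b, b ∉ J ∧ CoxeterMatrix.E₆ a b ≠ 2 := by
  decide +kernel

variable (e : ↥(chevE6.group K) ≃* G) (hJ : (KT chevE6 6 K (KindE.fr6 0)).map e.toMonoidHom ∈ Om)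
  (hOm : ∀ J ∈ Om, ∃ g, J = cj g ((KT chevE6 6 K (KindE.fr6 0)).map e.toMonoidHom))

/-- The chart of `E6(q)`. -/
noncomputable def chartE6 : Chart Om p (⊤ : Subgroup G) :=
  chartOf KindE.isType6 h2 KindE.kd6 0 (fun _ => ⟨by norm_num, by norm_num⟩) long6 irr6 (by norm_num)
    (center_of_mem (by simp)) e Om hcj hJ hOm

theorem isTy_E6 : (chartE6 h2 Om hcj e hJ hOm).IsTy .E6 := by
  refine ⟨Equiv.refl (Fin 6), fun i j => rfl, fun i => ⟨fun _ => trivial, fun _ => ?_⟩⟩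
  change (sr i : Fin 6 → ℤ) ∈ RN CoxeterMatrix.E₆.toCoxeterSystem (h := KindE.isType6.isCartan) 2 (fun _ => 1)
  rw [RN_const KindE.kd6.hd]
  exact isRoot_sr _ _ i

end E6

section E7

set_option backward.isDefEq.respectTransparency false in
theorem long7 : ∀ s < chevE7.nroots, (∀ i, vec chevE7 7 s i = KindE.fr7 0 i) ∨ (∀ i, vec chevE7 7 s i = -KindE.fr7 0 i) ∨
    |∑ i, vec chevE7 7 s i * KindE.cf7 0 i| ≤ 1 := by decide +kernel

set_option backward.isDefEq.respectTransparency false in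
theorem irr7 : ∀ J : Finset (Fin 7), J = ∅ ∨ J = Finset.univ ∨ ∃ a ∈ J, ∃ b, b ∉ J ∧ CoxeterMatrix.E₇ a b ≠ 2 := by
  decide +kernel

variable (e : ↥(chevE7.group K) ≃* G) (hJ : (KT chevE7 7 K (KindE.fr7 0)).map e.toMonoidHom ∈ Om)
  (hOm : ∀ J ∈ Om, ∃ g, J = cj g ((KT chevE7 7 K (KindE.fr7 0)).map e.toMonoidHom))

/-- The chart of `E7(q)`. -/
noncomputable def chartE7 : Chart Om p (⊤ : Subgroup G) :=
  chartOf KindE.isType7 h2 KindE.kd7 0 (fun _ => ⟨by norm_num, by norm_num⟩) long7 irr7 (by norm_num)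
    (center_of_mem (by simp)) e Om hcj hJ hOm

theorem isTy_E7 : (chartE7 h2 Om hcj e hJ hOm).IsTy .E7 := by
  refine ⟨Equiv.refl (Fin 7), fun i j => rfl, fun i => ⟨fun _ => trivial, fun _ => ?_⟩⟩
  change (sr i : Fin 7 → ℤ) ∈ RN CoxeterMatrix.E₇.toCoxeterSystem (h := KindE.isType7.isCartan) 2 (fun _ => 1)
  rw [RN_const KindE.kd7.hd]
  exact isRoot_sr _ _ i

end E7

section E8

set_option backward.isDefEq.respectTransparency false in
theorem long8 : ∀ s < chevE8.nroots, (∀ i, vec chevE8 8 s i = KindE.fr8 0 i) ∨ (∀ i, vec chevE8 8 s i = -KindE.fr8 0 i) ∨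
    |∑ i, vec chevE8 8 s i * KindE.cf8 0 i| ≤ 1 := by decide +kernel

set_option backward.isDefEq.respectTransparency false in
theorem irr8 : ∀ J : Finset (Fin 8), J = ∅ ∨ J = Finset.univ ∨ ∃ a ∈ J, ∃ b, b ∉ J ∧ CoxeterMatrix.E₈ a b ≠ 2 := by
  decide +kernel

variable (e : ↥(chevE8.group K) ≃* G) (hJ : (KT chevE8 8 K (KindE.fr8 0)).map e.toMonoidHom ∈ Om)
  (hOm : ∀ J ∈ Om, ∃ g, J = cj g ((KT chevE8 8 K (KindE.fr8 0)).map e.toMonoidHom))

/-- The chart of `E8(q)`. -/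
noncomputable def chartE8 : Chart Om p (⊤ : Subgroup G) :=
  chartOf KindE.isType8 h2 KindE.kd8 0 (fun _ => ⟨by norm_num, by norm_num⟩) long8 irr8 (by norm_num)
    (center_of_mem (by simp)) e Om hcj hJ hOm

theorem isTy_E8 : (chartE8 h2 Om hcj e hJ hOm).IsTy .E8 := by
  refine ⟨Equiv.refl (Fin 8), fun i j => rfl, fun i => ⟨fun _ => trivial, fun _ => ?_⟩⟩
  change (sr i : Fin 8 → ℤ) ∈ RN CoxeterMatrix.E₈.toCoxeterSystem (h := KindE.isType8.isCartan) 2 (fun _ => 1)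
  rw [RN_const KindE.kd8.hd]
  exact isRoot_sr _ _ i

end E8

section F4

set_option backward.isDefEq.respectTransparency false in
theorem longF : ∀ s < chevF4.nroots, (∀ i, vec chevF4 4 s i = KindF.fr 0 i) ∨ (∀ i, vec chevF4 4 s i = -KindF.fr 0 i) ∨
    |∑ i, vec chevF4 4 s i * KindF.cf 0 i| ≤ 1 := by decide +kernel

set_option backward.isDefEq.respectTransparency false in
theorem irrF : ∀ J : Finset (Fin 4), J = ∅ ∨ J = Finset.univ ∨ ∃ a ∈ J, ∃ b, b ∉ J ∧ CoxeterMatrix.F₄ a b ≠ 2 := by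
  decide +kernel

variable (e : ↥(chevF4.group K) ≃* G) (hJ : (KT chevF4 4 K (KindF.fr 0)).map e.toMonoidHom ∈ Om)
  (hOm : ∀ J ∈ Om, ∃ g, J = cj g ((KT chevF4 4 K (KindF.fr 0)).map e.toMonoidHom))

theorem dF : ∀ i, 0 < KindF.d i ∧ 2 * KindF.d i ≤ 4 := by decide

/-- The chart of `F4(q)`. -/
noncomputable def chartF4 : Chart Om p (⊤ : Subgroup G) :=
  chartOf KindF.isType h2 KindF.kd 0 dF longF irrF (by norm_num)
    (center_of_mem (by simp)) e Om hcj hJ hOm

theorem isTy_F4 : (chartF4 h2 Om hcj e hJ hOm).IsTy .F4 :=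
  haveI : Finite CoxeterMatrix.F₄.Group := finite_W KindF.isType CoxeterMatrix.F₄.toCoxeterSystem
  ⟨Equiv.refl (Fin 4), fun _ _ => rfl, fun i => Cit.TypeDet.KindsEF.long_F4 CoxeterMatrix.F₄.toCoxeterSystem _ i⟩

end F4

section G2

open Cit.TypeDet.KindsEF

set_option backward.isDefEq.respectTransparency false in
theorem longG : ∀ s < chevG2.nroots, (∀ i, vec chevG2 2 s i = frG 0 i) ∨ (∀ i, vec chevG2 2 s i = -frG 0 i) ∨
    |∑ i, vec chevG2 2 s i * cfG 0 i| ≤ 1 := by decide +kernel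

set_option backward.isDefEq.respectTransparency false in
theorem irrG : ∀ J : Finset (Fin 2), J = ∅ ∨ J = Finset.univ ∨ ∃ a ∈ J, ∃ b, b ∉ J ∧ CoxeterMatrix.G₂ a b ≠ 2 := by
  decide +kernel

variable (e : ↥(chevG2.group K) ≃* G) (hJ : (KT chevG2 2 K (frG 0)).map e.toMonoidHom ∈ Om)
  (hOm : ∀ J ∈ Om, ∃ g, J = cj g ((KT chevG2 2 K (frG 0)).map e.toMonoidHom))

theorem dG' : ∀ i, 0 < dG i ∧ 2 * dG i ≤ 6 := by decide

/-- The chart of `G2(q)`. -/
noncomputable def chartG2 : Chart Om p (⊤ : Subgroup G) :=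
  chartOf isTypeG h2 kdG 0 dG' longG irrG (by norm_num) (center_G2 h2) e Om hcj hJ hOm

theorem isTy_G2 : (chartG2 h2 Om hcj e hJ hOm).IsTy .G2 :=
  haveI : Finite CoxeterMatrix.G₂.Group := finite_W isTypeG CoxeterMatrix.G₂.toCoxeterSystem
  ⟨Equiv.refl (Fin 2), fun _ _ => rfl, fun i => long_G2 CoxeterMatrix.G₂.toCoxeterSystem _ i⟩

end G2

end Types

end Cfsg.Agent.Nodes.ChevChart
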