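import Cfsg.Agent.Nodes.RGDChev
import Cfsg.Agent.Nodes.KindBase
import Cfsg.Agent.Nodes.StabComb
import Cfsg.Agent.Nodes.ClsNorm

/-!
helper617: root level facts (R1)-(R4) of ruling 5 (B3) (project CIT), general part for the types E6, E7, E8, F4.

* `qf d x y` : the invariant form `∑ d i ⟨x, α_i^∨⟩ y i` of a symmetrised Cartan matrix; `qf_rep`, `cpr_mul_qf`;
* `le_one_of_comm` : `|⟨x, y^∨⟩| ≤ 1` for roots of equal length, `x ≠ ± y`;
* `Ch g x y` : `x`, `y` are roots orthogonal to the root `g`, not orthogonal to each other; `conn_of_tree` : the roots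
  orthogonal to a dominant root with connected diagram are joined by chains.
-/

set_option autoImplicit false
set_option linter.unusedSectionVars false

namespace Cfsg.Agent.Nodes.KindChev

open CoxeterSystem Cfsg.Agent.ChevalleyStructure.CoxeterGeom Cfsg.Agent.Tits.Roots Cfsg.Agent.Tits.Core
  Cfsg.Agent.Tits.RootComb Cfsg.Agent.Nodes.Comb Cfsg.Agent.Nodes.SubComb Cfsg.Agent.Nodes.PosPair
  Cfsg.Agent.Nodes.Coroot Cfsg.Agent.Nodes.KindBase Cfsg.Agent.Nodes.StabComb
open Relation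

variable {I W : Type*} [Fintype I] [DecidableEq I] [Group W] {M : CoxeterMatrix I}
  (cs : CoxeterSystem M W) {A : I → I → ℤ} (h : IsCartan M A)

/-! ### The invariant form of a symmetrised Cartan matrix -/

/-- `∑ d i ⟨x, α_i^∨⟩ y i`. -/
def qf (A : I → I → ℤ) (d : I → ℤ) (x y : I → ℤ) : ℤ := ∑ i, d i * pairing A i x * y i

section qf

variable {d : I → ℤ} (hd : ∀ i j, d i * A i j = d j * A j i)

omit [DecidableEq I] in
include hd in
theorem qf_comm (x y : I → ℤ) : qf A d x y = qf A d y x := by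
  unfold qf pairing
  simp only [Finset.mul_sum, Finset.sum_mul]
  rw [Finset.sum_comm]
  refine Finset.sum_congr rfl fun i _ => Finset.sum_congr rfl fun j _ => ?_
  have := hd i j
  linear_combination x i * y j * this * (-1)

omit [DecidableEq I] in
theorem qf_add_left (x x' y : I → ℤ) : qf A d (x + x') y = qf A d x y + qf A d x' y := by
  unfold qf
  rw [← Finset.sum_add_distrib]
  refine Finset.sum_congr rfl fun i _ => ?_
  rw [pairing_add]
  ring

omit [DecidableEq I] in
theorem qf_smul_left (c : ℤ) (x y : I → ℤ) : qf A d (c • x) y = c * qf A d x y := by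
  unfold qf
  rw [Finset.mul_sum]
  refine Finset.sum_congr rfl fun i _ => ?_
  rw [pairing_smul]
  ring

omit [DecidableEq I] in
theorem qf_sub_left (x x' y : I → ℤ) : qf A d (x - x') y = qf A d x y - qf A d x' y := by
  have h1 : x - x' = x + (-1 : ℤ) • x' := by rw [neg_one_smul, sub_eq_add_neg]
  rw [h1, qf_add_left, qf_smul_left]
  ring

theorem qf_sr_right (x : I → ℤ) (i : I) : qf A d x (sr i) = d i * pairing A i x := by
  unfold qf
  rw [Finset.sum_eq_single i]
  · rw [sr_self, mul_one]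
  · intro j _ hj
    rw [sr_ne hj, mul_zero]
  · intro hi; exact absurd (Finset.mem_univ i) hi

include hd in
theorem qf_sr_left (y : I → ℤ) (i : I) : qf A d (sr i) y = d i * pairing A i y := by
  rw [qf_comm hd, qf_sr_right]

include hd in
theorem qf_simple (i : I) (x y : I → ℤ) :
    qf A d (rep cs h (cs.simple i) x) (rep cs h (cs.simple i) y) = qf A d x y := by
  have h2 : A i i = 2 := h.diag i
  have key : ∀ u v : I → ℤ, qf A d (u - pairing A i u • sr i) v = qf A d u v - pairing A i u * (d i * pairing A i v) := by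
    intro u v
    rw [qf_sub_left, qf_smul_left, qf_sr_left hd]
  rw [rep_simple_eq, rep_simple_eq, key]
  rw [qf_comm hd x, key, qf_comm hd y x]
  have h3 : pairing A i (y - pairing A i y • sr i) = - pairing A i y := by
    have h4 : y - pairing A i y • sr i = y + (-pairing A i y) • sr i := by rw [neg_smul, sub_eq_add_neg]
    rw [h4, pairing_add, pairing_smul]
    have h5 : pairing A i (sr i) = 2 := by
      have := pairing_single A i i 1
      rw [← h2]
      unfold sr
      rw [this]; ring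
    rw [h5]; ring
  rw [h3]
  ring

include hd in
theorem qf_rep (w : W) (x y : I → ℤ) : qf A d (rep cs h w x) (rep cs h w y) = qf A d x y := by
  obtain ⟨ω, rfl⟩ := cs.wordProd_surjective w
  induction ω with
  | nil => rw [wordProd_nil, map_one, Module.End.one_apply, Module.End.one_apply]
  | cons i ω ih => rw [wordProd_cons, rep_mul_apply, rep_mul_apply, qf_simple cs h hd, ih]

include hd in
/-- `⟨x, y^∨⟩ q(y, y) = 2 q(x, y)`. -/
theorem cpr_mul_qf [Finite W] (x : I → ℤ) {y : I → ℤ} (hy : IsRoot cs h y) :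
    cpr cs h x y * qf A d y y = 2 * qf A d x y := by
  obtain ⟨w, i, rfl⟩ := hy
  have h1 : pairing A i (sr i) = 2 := by
    have := pairing_single A i i 1
    have h2 : A i i = 2 := h.diag i
    unfold sr
    rw [this, h2]; ring
  rw [cpr_rep_sr, qf_rep cs h hd, qf_sr_right, h1]
  have h2 : qf A d x (rep cs h w (sr i)) = qf A d (rep cs h w⁻¹ x) (sr i) := by
    conv_lhs => rw [← rep_apply_inv cs h w x]
    rw [qf_rep cs h hd]
  rw [h2, qf_sr_right]
  ring

include hd in
theorem qf_root (w : W) (i : I) : qf A d (rep cs h w (sr i)) (rep cs h w (sr i)) = 2 * d i := by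
  have h1 : pairing A i (sr i) = 2 := by
    have := pairing_single A i i 1
    have h2 : A i i = 2 := h.diag i
    unfold sr
    rw [this, h2]; ring
  rw [qf_rep cs h hd, qf_sr_right, h1]
  ring

include hd in
/-- The functional `⟨·, g^∨⟩` in coordinates. -/
theorem cpr_eq_sum [Finite W] {g : I → ℤ} (hg : IsRoot cs h g) {c : I → ℤ} (hN : qf A d g g ≠ 0)
    (hc : ∀ i, c i * qf A d g g = 2 * (d i * pairing A i g)) (x : I → ℤ) : cpr cs h x g = ∑ i, x i * c i := by
  apply mul_right_cancel₀ hN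
  have h1 : qf A d g x = ∑ i, d i * pairing A i g * x i := rfl
  rw [cpr_mul_qf cs h hd x hg, qf_comm hd, Finset.sum_mul, h1, Finset.mul_sum]
  refine Finset.sum_congr rfl fun i _ => ?_
  rw [mul_assoc (x i), hc i]
  ring

include hd in
theorem cpr_comm_of_qf [Finite W] {x y : I → ℤ} (hx : IsRoot cs h x) (hy : IsRoot cs h y)
    (hxy : qf A d x x = qf A d y y) (hN : qf A d y y ≠ 0) : cpr cs h x y = cpr cs h y x := by
  apply mul_right_cancel₀ hN
  rw [cpr_mul_qf cs h hd x hy, ← hxy, cpr_mul_qf cs h hd y hx, qf_comm hd]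

end qf

/-! ### Roots of equal length -/

theorem le_one_of_comm [Finite W] {x y : I → ℤ} (hx : IsRoot cs h x) (hy : IsRoot cs h y)
    (hxy : cpr cs h x y = cpr cs h y x) (h1 : x ≠ y) (h2 : x ≠ -y) : |cpr cs h x y| ≤ 1 := by
  have := Fintype.ofFinite W
  have e1 := two_form_cpr cs h x hy
  have e2 := two_form_cpr cs h y hx
  rw [← hxy, form_comm] at e2
  by_cases h0 : cpr cs h x y = 0
  · rw [h0]; norm_num
  have e3 : form cs h x x = form cs h y y := by
    apply mul_left_cancel₀ h0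
    rw [← e1, ← e2]
  have p1 : 0 < form cs h (x - y) (x - y) := form_pos cs h (sub_ne_zero.2 h1)
  have p2 : 0 < form cs h (x + y) (x + y) := form_pos cs h (fun h3 => h2 (eq_neg_of_add_eq_zero_left h3))
  have p3 : 0 < form cs h y y := form_pos cs h hy.ne_zero
  have e4 : form cs h (x - y) (x - y) = form cs h x x - 2 * form cs h x y + form cs h y y := by
    rw [form_sub_left, form_sub_right, form_sub_right, form_comm cs h y x]
    ring
  have e5 : form cs h (x + y) (x + y) = form cs h x x + 2 * form cs h x y + form cs h y y := by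
    rw [form_add_left, form_add_right, form_add_right, form_comm cs h y x]
    ring
  rw [e4, e1, e3] at p1
  rw [e5, e1, e3] at p2
  rw [abs_le]
  constructor
  · by_contra h3
    have h4 : cpr cs h x y ≤ -2 := by omega
    nlinarith
  · by_contra h3
    have h4 : 2 ≤ cpr cs h x y := by omega
    nlinarith

/-! ### Chains of roots orthogonal to a root -/

/-- Two roots orthogonal to `g`, not orthogonal to each other. -/
def Ch (g x y : I → ℤ) : Prop :=
  IsRoot cs h x ∧ IsRoot cs h y ∧ cpr cs h x g = 0 ∧ cpr cs h y g = 0 ∧ cpr cs h x y ≠ 0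

variable {cs h}

theorem Ch.symm [Finite W] {g x y : I → ℤ} (H : Ch cs h g x y) : Ch cs h g y x :=
  ⟨H.2.1, H.1, H.2.2.2.1, H.2.2.1, fun h0 => H.2.2.2.2 ((cpr_zero_comm cs h H.1 H.2.1).2 h0)⟩

theorem Ch.rtg_symm [Finite W] {g x y : I → ℤ} (H : ReflTransGen (Ch cs h g) x y) : ReflTransGen (Ch cs h g) y x := by
  induction H with
  | refl => exact .refl
  | tail _ h2 ih => exact .head h2.symm ih

theorem Ch.act [Finite W] {g x y : I → ℤ} (hg : IsRoot cs h g) (H : Ch cs h g x y) (w : W) :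
    Ch cs h (rep cs h w g) (rep cs h w x) (rep cs h w y) :=
  ⟨H.1.act w, H.2.1.act w, by rw [cpr_rep cs h w _ hg]; exact H.2.2.1, by rw [cpr_rep cs h w _ hg]; exact H.2.2.2.1,
    by rw [cpr_rep cs h w _ H.2.1]; exact H.2.2.2.2⟩

theorem Ch.rtg_act [Finite W] {g x y : I → ℤ} (hg : IsRoot cs h g) (H : ReflTransGen (Ch cs h g) x y) (w : W) :
    ReflTransGen (Ch cs h (rep cs h w g)) (rep cs h w x) (rep cs h w y) := by
  induction H with
  | refl => exact .refl
  | tail _ h2 ih => exact ih.tail (h2.act hg w)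

variable (cs h)

/-- The roots orthogonal to a dominant root `g` are joined by chains as soon as the diagram on
`J = {i | ⟨g, α_i^∨⟩ = 0}` is connected: `par` is the parent function of a spanning tree with root `i₀`. -/
theorem conn_of_tree [Finite W] {g : I → ℤ} (hg : IsRoot cs h g) (hdom : Dom A g) (i₀ : I) (par : I → I)
    (dep : I → ℕ) (hpar : ∀ i, pairing A i g = 0 → i ≠ i₀ →
      pairing A (par i) g = 0 ∧ A (par i) i ≠ 0 ∧ dep (par i) < dep i) {x y : I → ℤ} (hx : IsRoot cs h x)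
    (hy : IsRoot cs h y) (hxg : cpr cs h x g = 0) (hyg : cpr cs h y g = 0) : ReflTransGen (Ch cs h g) x y := by
  have := Fintype.ofFinite W
  have hsr : ∀ i, pairing A i g = 0 → cpr cs h (sr i) g = 0 := fun i hi => by
    rw [cpr_zero_comm cs h (isRoot_sr cs h i) hg, cpr_sr, hi]
  -- simple roots
  have key : ∀ n : ℕ, ∀ i, dep i ≤ n → pairing A i g = 0 → ReflTransGen (Ch cs h g) (sr i) (sr i₀) := by
    intro n
    induction n with
    | zero =>
      intro i hn hi
      by_cases h0 : i = i₀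
      · subst h0; exact .refl
      · have := (hpar i hi h0).2.2
        omega
    | succ n ih =>
      intro i hn hi
      by_cases h0 : i = i₀
      · subst h0; exact .refl
      · obtain ⟨h1, h2, h3⟩ := hpar i hi h0
        refine .head ⟨isRoot_sr cs h i, isRoot_sr cs h _, hsr i hi, hsr _ h1, ?_⟩ (ih (par i) (by omega) h1)
        rw [cpr_sr]
        have h4 := pairing_single A (par i) i 1
        unfold sr
        rw [h4, mul_one]
        exact h2
  -- a root orthogonal to `g` is joined to a simple root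
  have key2 : ∀ x, IsRoot cs h x → cpr cs h x g = 0 → ReflTransGen (Ch cs h g) x (sr i₀) := by
    intro x hx hxg
    have h1 : x ∈ RootsJ cs h (orth cs h g) := by
      rw [ClsNorm.mem_RootsJ_orth_iff hdom hx, ← cpr_zero_iff cs h x hg]
      exact hxg
    have h2 : form cs h x x ≠ 0 := (form_pos cs h hx.ne_zero).ne'
    rw [form_eq_sum] at h2
    obtain ⟨k, -, hk⟩ := Finset.exists_ne_zero_of_sum_ne_zero h2
    have hk1 : k ∈ orth cs h g := by
      by_contra hk1
      exact hk (by rw [h1.2 k hk1, zero_mul])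
    rw [mem_orth] at hk1
    have hk2 : form cs h x (sr k) ≠ 0 := right_ne_zero_of_mul hk
    refine .head ⟨hx, isRoot_sr cs h k, hxg, hsr k hk1, ?_⟩ (key (dep k) k le_rfl hk1)
    rw [Ne, cpr_zero_iff cs h x (isRoot_sr cs h k)]
    exact hk2
  exact (key2 x hx hxg).trans (Ch.rtg_symm (key2 y hy hyg))

/-! ### Tabulated frames -/

section Tab

open Cfsg.Lie Cfsg.Agent.ChevalleyStructure Cfsg.Agent.ChevalleyStructure.RootVec
  Cfsg.Agent.ChevalleyStructure.CoxeterGeomTypes Cfsg.Agent.Nodes.RGDChev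

/-- A frame `fr` of roots of length `N` of the tabulated root system, with the functionals `cf k = ⟨·, (fr k)^∨⟩`. -/
structure KD (D : ChevalleyDatum) (l f : ℕ) (N : ℤ) (d : Fin l → ℤ) (fr cf : Fin f → Fin l → ℤ) (idx : Fin f → ℕ) :
    Prop where
  hd : ∀ i j, d i * cartanOf D l i j = d j * cartanOf D l j i
  hN : N ≠ 0
  lt : ∀ k, idx k < D.nroots
  eq : ∀ k i, vec D l (idx k) i = fr k i
  norm : ∀ k, qf (cartanOf D l) d (fr k) (fr k) = N
  hc : ∀ k i, cf k i * N = 2 * (d i * pairing (cartanOf D l) i (fr k))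
  orth : ∀ k m, k ≠ m → ∑ i, fr k i * cf m i = 0
  max : ∀ r < D.nroots, qf (cartanOf D l) d (vec D l r) (vec D l r) = N → ∃ k, ∑ i, vec D l r i * cf k i ≠ 0
  link : ∀ k m, ∃ r < D.nroots, qf (cartanOf D l) d (vec D l r) (vec D l r) = N ∧
    (∑ i, vec D l r i * cf k i) ^ 2 = 1 ∧ (∑ i, vec D l r i * cf m i) ^ 2 = 1
  sep : ∀ k m, k ≠ m → ∃ r < D.nroots, (∑ i, vec D l r i * cf k i) % 2 = 1 ∧ (∑ i, vec D l r i * cf m i) % 2 = 0

variable {D : ChevalleyDatum} {l f : ℕ} {N : ℤ} {d : Fin l → ℤ} {fr cf : Fin f → Fin l → ℤ} {idx : Fin f → ℕ}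
  {M : CoxeterMatrix (Fin l)} (cs : CoxeterSystem M W) (hp : IsType D l M) (h : IsCartan M (cartanOf D l))

/-- The roots of length `N`. -/
def RN (N : ℤ) (d : Fin l → ℤ) : Set (Fin l → ℤ) := {x | IsRoot cs h x ∧ qf (cartanOf D l) d x x = N}

variable {cs h}

theorem KD.isRoot (T : KD D l f N d fr cf idx) (hp : IsType D l M) (k : Fin f) : IsRoot cs h (fr k) := by
  have h1 : vec D l (idx k) = fr k := funext (T.eq k)
  rw [← h1]
  exact isRoot_vec hp cs (T.lt k)

/-- The pairing with the frame roots. -/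
theorem KD.cpr [Finite W] (T : KD D l f N d fr cf idx) (hp : IsType D l M) (x : Fin l → ℤ) (k : Fin f) :
    Coroot.cpr cs h x (fr k) = ∑ i, x i * cf k i := by
  refine cpr_eq_sum cs h T.hd (T.isRoot hp k) (by rw [T.norm]; exact T.hN) (fun i => ?_) x
  rw [T.norm]
  exact T.hc k i

theorem KD.mem (T : KD D l f N d fr cf idx) (hp : IsType D l M) (k : Fin f) : fr k ∈ RN cs h N d :=
  ⟨T.isRoot hp k, T.norm k⟩

/-- **The frame** : `FrameSys` for the roots of length `N`. -/
theorem KD.frameSys [Finite W] (T : KD D l f N d fr cf idx) (hp : IsType D l M) :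
    FrameSys cs h (RN cs h N d) fr where
  root r hr := hr.1
  act r hr w := ⟨hr.1.act w, by rw [qf_rep cs h T.hd]; exact hr.2⟩
  le_one x hx y hy h1 h2 := by
    refine le_one_of_comm cs h hx.1 hy.1 ?_ h1 h2
    exact cpr_comm_of_qf cs h T.hd hx.1 hy.1 (by rw [hx.2, hy.2]) (by rw [hy.2]; exact T.hN)
  mem k := T.mem hp k
  orth k m hkm := by rw [T.cpr hp]; exact T.orth k m hkm
  max x hx h0 := by
    obtain ⟨r, hr, rfl⟩ := (isRoot_iff hp cs x).1 hx.1
    obtain ⟨k, hk⟩ := T.max r hr hx.2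
    exact hk (by rw [← T.cpr (cs := cs) (h := h) hp]; exact h0 k)

/-- Roots of length `N` with `⟨x, y^∨⟩ = ± 1` are conjugate. -/
theorem KD.conj_of_sq [Finite W] (T : KD D l f N d fr cf idx) {x y : Fin l → ℤ} (hx : x ∈ RN cs h N d)
    (hy : y ∈ RN cs h N d) (hxy : Coroot.cpr cs h x y ^ 2 = 1) : ∃ w : W, rep cs h w x = y := by
  have hc := cpr_comm_of_qf cs h T.hd hx.1 hy.1 (by rw [hx.2, hy.2]) (by rw [hy.2]; exact T.hN)
  have h12 : Coroot.cpr cs h x y = 1 ∨ Coroot.cpr cs h x y = -1 := by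
    have h3 : (Coroot.cpr cs h x y - 1) * (Coroot.cpr cs h x y + 1) = 0 := by linear_combination hxy
    rcases mul_eq_zero.1 h3 with h4 | h4
    · left; linarith
    · right; linarith
  rcases h12 with h1 | h1
  · obtain ⟨s, hs, -⟩ := exists_swap cs h hx.1 hy.1 h1 (by rw [← hc, h1])
    exact ⟨s, hs⟩
  · obtain ⟨s, hs, -⟩ := exists_swap cs h hx.1 hy.1.neg (by rw [cpr_neg_right cs h _ hy.1, h1]; norm_num)
      (by rw [cpr_neg cs h _ hx.1, ← hc, h1]; norm_num)
    obtain ⟨t, ht⟩ := exists_refl cs h hy.1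
    refine ⟨t * s, ?_⟩
    rw [rep_mul_apply, hs, ht, cpr_neg cs h _ hy.1, cpr_self cs h hy.1, neg_smul, two_smul]
    abel

/-- `W` is transitive on the roots of length `N`. -/
theorem KD.trans [Finite W] (T : KD D l f N d fr cf idx) (hp : IsType D l M) {x y : Fin l → ℤ}
    (hx : x ∈ RN cs h N d) (hy : y ∈ RN cs h N d) : ∃ w : W, rep cs h w x = y := by
  have key : ∀ k m : Fin f, ∃ w : W, rep cs h w (fr k) = fr m := by
    intro k m
    obtain ⟨r, hr, h1, h2, h3⟩ := T.link k m
    have hr' : vec D l r ∈ RN cs h N d := ⟨isRoot_vec hp cs hr, h1⟩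
    rw [← T.cpr (cs := cs) (h := h) hp] at h2 h3
    obtain ⟨v, hv⟩ := T.conj_of_sq hr' (T.mem hp k) h2
    obtain ⟨u, hu⟩ := T.conj_of_sq hr' (T.mem hp m) h3
    refine ⟨u * v⁻¹, ?_⟩
    rw [rep_mul_apply, ← hv, rep_inv_apply, hu]
  obtain ⟨v, -, k, -, hk⟩ := (T.frameSys (cs := cs) (h := h) hp).exists_move_one ∅ hx (fun k hk => absurd hk (Set.notMem_empty k))
  obtain ⟨u, -, m, -, hm⟩ := (T.frameSys (cs := cs) (h := h) hp).exists_move_one ∅ hy (fun k hk => absurd hk (Set.notMem_empty k))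
  obtain ⟨w, hw⟩ := key k m
  refine ⟨u⁻¹ * w * v, ?_⟩
  rw [rep_mul_apply, rep_mul_apply, hk, hw, ← hm, rep_inv_apply]

/-- Moving frame indices. -/
theorem KD.exists_perm [Finite W] (T : KD D l f N d fr cf idx) (hp : IsType D l M) (k m : Fin f) :
    ∃ (w : W) (σ : Equiv.Perm (Fin f)), σ k = m ∧ ∀ j, rep cs h w (fr j) = fr (σ j) :=
  (T.frameSys hp).exists_perm (T.trans hp (T.mem hp k) (T.mem hp m))

/-- **(R2)** : for every frame root `g` the roots orthogonal to `g` are joined by chains, if this holds for the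
frame root with index `k₀`. -/
theorem KD.conn [Finite W] (T : KD D l f N d fr cf idx) (hp : IsType D l M) (k₀ : Fin f)
    (h0 : ∀ x y, IsRoot cs h x → IsRoot cs h y → Coroot.cpr cs h x (fr k₀) = 0 → Coroot.cpr cs h y (fr k₀) = 0 →
      ReflTransGen (Ch cs h (fr k₀)) x y) (k : Fin f) {x y : Fin l → ℤ} (hx : IsRoot cs h x) (hy : IsRoot cs h y)
    (hxk : Coroot.cpr cs h x (fr k) = 0) (hyk : Coroot.cpr cs h y (fr k) = 0) : ReflTransGen (Ch cs h (fr k)) x y := by
  obtain ⟨w, σ, hσ, hw⟩ := T.exists_perm (cs := cs) (h := h) hp k₀ k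
  have e1 : fr k = rep cs h w (fr k₀) := by rw [hw, hσ]
  have e2 : ∀ z, Coroot.cpr cs h z (fr k) = 0 → Coroot.cpr cs h (rep cs h w⁻¹ z) (fr k₀) = 0 := by
    intro z hz
    rw [← cpr_rep cs h w _ (T.isRoot hp k₀), rep_apply_inv, ← e1]
    exact hz
  have h1 := h0 _ _ (hx.act w⁻¹) (hy.act w⁻¹) (e2 x hxk) (e2 y hyk)
  have h2 := Ch.rtg_act (T.isRoot hp k₀) h1 w
  rwa [rep_apply_inv, rep_apply_inv, ← e1] at h2

/-- **(R3)**, parity: `Σ_{k ∈ A} ⟨x, g_k^∨⟩` is even for all vectors `x`, if it is for the simple roots. -/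
theorem KD.even [Finite W] (T : KD D l f N d fr cf idx) (hp : IsType D l M) (S : Finset (Fin f))
    (hS : ∀ i, (∑ k ∈ S, cf k i) % 2 = 0) (x : Fin l → ℤ) : Even (∑ k ∈ S, Coroot.cpr cs h x (fr k)) := by
  have h1 : ∑ k ∈ S, Coroot.cpr cs h x (fr k) = ∑ i, x i * ∑ k ∈ S, cf k i := by
    rw [Finset.sum_congr rfl fun k _ => T.cpr hp x k, Finset.sum_comm]
    exact Finset.sum_congr rfl fun i _ => (Finset.mul_sum _ _ _).symm
  rw [h1]
  refine Finset.sum_induction _ (fun z : ℤ => Even z) (fun a b ha hb => ha.add hb) ⟨0, by simp⟩ fun i _ => ?_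
  exact (Int.even_iff.2 (hS i)).mul_left _

/-- The parity functionals of the frame are pairwise different. -/
theorem KD.exists_odd_even [Finite W] (T : KD D l f N d fr cf idx) (hp : IsType D l M) {k m : Fin f} (hkm : k ≠ m) :
    ∃ x, IsRoot cs h x ∧ Odd (Coroot.cpr cs h x (fr k)) ∧ Even (Coroot.cpr cs h x (fr m)) := by
  obtain ⟨r, hr, h1, h2⟩ := T.sep k m hkm
  refine ⟨vec D l r, isRoot_vec hp cs hr, ?_, ?_⟩
  · rw [T.cpr hp]; exact Int.odd_iff.2 h1
  · rw [T.cpr hp]; exact Int.even_iff.2 h2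

/-- For a constant symmetriser all roots have the same length. -/
theorem RN_const (hd : ∀ i j, (1 : ℤ) * cartanOf D l i j = 1 * cartanOf D l j i) :
    RN cs h 2 (fun _ => 1) = {x | IsRoot cs h x} := by
  ext x
  refine ⟨fun hx => hx.1, fun hx => ⟨hx, ?_⟩⟩
  obtain ⟨w, i, rfl⟩ := hx
  rw [qf_root cs h (d := fun _ => 1) hd]
  norm_num

/-- The roots of length `N` are the orbit of a simple root of this length. -/
theorem KD.mem_RN_iff [Finite W] (T : KD D l f N d fr cf idx) (hp : IsType D l M) {i : Fin l} (hi : 2 * d i = N)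
    (x : Fin l → ℤ) : x ∈ RN cs h N d ↔ ∃ w : W, x = rep cs h w (sr i) := by
  have h0 : sr i ∈ RN cs h N d := by
    refine ⟨isRoot_sr cs h i, ?_⟩
    have := qf_root cs h T.hd 1 i
    rw [map_one, Module.End.one_apply] at this
    rw [this, hi]
  constructor
  · intro hx
    obtain ⟨w, hw⟩ := T.trans hp h0 hx
    exact ⟨w, hw.symm⟩
  · rintro ⟨w, rfl⟩
    exact (T.frameSys hp).act _ h0 w

/-- Checks over all roots. -/
theorem forall_root (hp : IsType D l M) {P : (Fin l → ℤ) → Prop} (hP : ∀ r < D.nroots, P (vec D l r))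
    {x : Fin l → ℤ} (hx : IsRoot cs h x) : P x := by
  obtain ⟨r, hr, rfl⟩ := (isRoot_iff hp cs x).1 hx
  exact hP r hr

/-- **(R4)** : every root is orthogonal to a frame root or the sum of two such roots. -/
theorem KD.gen [Finite W] (T : KD D l f N d fr cf idx) (hp : IsType D l M)
    (hg : ∀ r < D.nroots, (∃ k, ∑ i, vec D l r i * cf k i = 0) ∨ ∃ s < D.nroots, ∃ t < D.nroots,
      (∀ i, vec D l r i = vec D l s i + vec D l t i) ∧ (∃ k, ∑ i, vec D l s i * cf k i = 0) ∧
        ∃ k, ∑ i, vec D l t i * cf k i = 0) {x : Fin l → ℤ} (hx : IsRoot cs h x) :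
    (∃ k, Coroot.cpr cs h x (fr k) = 0) ∨ ∃ y z, IsRoot cs h y ∧ IsRoot cs h z ∧ x = y + z ∧
      (∃ k, Coroot.cpr cs h y (fr k) = 0) ∧ ∃ k, Coroot.cpr cs h z (fr k) = 0 := by
  obtain ⟨r, hr, rfl⟩ := (isRoot_iff hp cs x).1 hx
  rcases hg r hr with ⟨k, hk⟩ | ⟨s, hs, t, ht, e, ⟨k, hk⟩, m, hm⟩
  · exact Or.inl ⟨k, by rw [T.cpr hp]; exact hk⟩
  · exact Or.inr ⟨vec D l s, vec D l t, isRoot_vec hp cs hs, isRoot_vec hp cs ht, funext e,
      ⟨k, by rw [T.cpr hp]; exact hk⟩, m, by rw [T.cpr hp]; exact hm⟩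

/-- The nodes orthogonal to a root. -/
theorem orth_eq [Finite W] {g : Fin l → ℤ} {m : ℕ} (e : Fin m → Fin l)
    (he : ∀ i, pairing (cartanOf D l) i g = 0 ↔ ∃ a, e a = i) : orth cs h g = Set.range e := by
  ext i
  rw [mem_orth, he, Set.mem_range]

/-- The number of roots. -/
theorem ncard_isRoot (hp : IsType D l M) : Set.ncard {x | IsRoot cs h x} = D.nroots := by
  have h1 : {x | IsRoot cs h x} = (fun r : Fin D.nroots => vec D l r) '' Set.univ := by
    ext x
    rw [Set.mem_ofPred_eq, Set.image_univ, Set.mem_range]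
    exact (isRoot_iff hp cs x).trans ⟨fun ⟨r, hr, e⟩ => ⟨⟨r, hr⟩, e⟩, fun ⟨r, e⟩ => ⟨r, r.2, e⟩⟩
  rw [h1, Set.ncard_image_of_injective _ fun a b hab => Fin.ext (vec_inj hp a.2 b.2 hab), Set.ncard_univ,
    Nat.card_eq_fintype_card, Fintype.card_fin]

end Tab

end Cfsg.Agent.Nodes.KindChev
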