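import Cfsg.Agent.Nodes.ClsInv
import Cfsg.Agent.Nodes.KindChev
import Cfsg.Agent.KFacts.RgdChevCoord
import Cfsg.Agent.FixBN.ChevGood

/-!
helper617: the classical (long) root groups of the Chevalley groups `D.group K` of odd characteristic.

* `exists_inv` : the involutions `h_i(-1)`;
* `comm_long` : a long root group commutes with `X y` if `(y, r) ≥ 0`;
* `cls` : the structure `Cls` for the roots of maximal length.
-/

set_option autoImplicit false
set_option linter.unusedSectionVars false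

namespace Cfsg.Agent.Nodes.ChevCls

open CoxeterSystem Cfsg.Agent.ChevalleyStructure.CoxeterGeom Cfsg.Agent.Tits.Roots Cfsg.Agent.Tits.Core
  Cfsg.Agent.Tits.RootComb Cfsg.Agent.Nodes.Comb Cfsg.Agent.Nodes.Reps Cfsg.Agent.Nodes.BNOf
  Cfsg.Agent.Nodes.RGDLib Cfsg.Agent.Nodes.Chart Cfsg.Agent.Nodes.Coroot Cfsg.Agent.Nodes.ClsInv
  Cfsg.Agent.Nodes.KindBase Cfsg.Agent.Nodes.KindChev
open Cfsg.Lie Cfsg.Agent.ChevalleyStructure Cfsg.Agent.ChevalleyStructure.Elts
  Cfsg.Agent.ChevalleyStructure.NPerm Cfsg.Agent.ChevalleyStructure.CoxeterGeomTypes Cfsg.Agent.Nodes.RGDChev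
  Cfsg.Agent.KFacts.RgdChevCoord
open scoped commutatorElement

universe u

variable {D : ChevalleyDatum} {l : ℕ} {M : CoxeterMatrix (Fin l)} (hp : IsType D l M) {K : Type u} [Field K]
  {W : Type*} [Group W] (cs : CoxeterSystem M W)

theorem mem_XX {r : ℕ} (hr : r < D.nroots) (y : ↥(D.group K)) :
    y ∈ XX D l K (vec D l r) ↔ ∃ a, y = xc hp (vec D l r) a := by
  rw [Subgroup.mem_subgroupOf, XV_vec hp K hr, mem_rootSubgroup_iff hp.inList]
  constructor
  · rintro ⟨a, ha⟩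
    exact ⟨a, Subtype.ext (by rw [coe_xc hp hr, ha])⟩
  · rintro ⟨a, rfl⟩
    exact ⟨a, coe_xc hp hr a⟩

theorem xc_neg {r : ℕ} (hr : r < D.nroots) (a : K) : (xc hp (vec D l r) a)⁻¹ = xc hp (vec D l r) (-a) := by
  apply Subtype.ext
  rw [Subgroup.coe_inv, coe_xc hp hr, coe_xc hp hr, xG_inv]

/-- `h_i(-1) ∈ ⟨X_i, X_{-i}⟩`. -/
theorem hc_mem_sup (i : Fin l) (a : K) : hc hp i a ∈ XX D l K (sr i) ⊔ XX D l K (-sr i) := by
  have hle : XV D l K (sr i) ≤ D.group K := XV_le_group hp _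
  have hle' : XV D l K (-sr i) ≤ D.group K := XV_le_group hp _
  have h1 : XX D l K (sr i) ⊔ XX D l K (-sr i) = (XV D l K (sr i) ⊔ XV D l K (-sr i)).subgroupOf (D.group K) :=
    (Subgroup.subgroupOf_sup hle hle').symm
  rw [h1, Subgroup.mem_subgroupOf]
  show hG hp.inList (D.simple i) a ∈ _
  rw [XV_sr hp, XV_neg_sr hp]
  have h2 : ∀ b : K, nG hp.inList (D.simple i) b ∈ D.rootSubgroup K (D.simple i) ⊔ D.rootSubgroup K (D.neg (D.simple i)) := by
    intro b
    rw [nG_def]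
    have hx : ∀ b : K, xG hp.inList (D.simple i) b ∈ D.rootSubgroup K (D.simple i) ⊔
        D.rootSubgroup K (D.neg (D.simple i)) := fun b => Subgroup.mem_sup_left (xG_mem_rootSubgroup hp.inList _ b)
    have hy : ∀ b : K, xG hp.inList (D.neg (D.simple i)) b ∈ D.rootSubgroup K (D.simple i) ⊔
        D.rootSubgroup K (D.neg (D.simple i)) := fun b => Subgroup.mem_sup_right (xG_mem_rootSubgroup hp.inList _ b)
    exact mul_mem (hx _) (mul_mem (hy _) (hx _))
  rw [hG_def]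
  exact mul_mem (h2 _) (h2 _)

theorem cpr_vec [Finite W] (i : Fin l) {r : ℕ} (hr : r < D.nroots) :
    cpr cs hp.isCartan (vec D l r) (sr i) = D.cartan i r := by
  rw [cpr_sr, pairing_vec hp i hr]

/-- The involution of the node `i`. -/
theorem exists_inv [Finite W] (i : Fin l) :
    Inv cs hp.isCartan (TT D K) (XX D l K) (hc hp i (-1 : K)) (sr i) := by
  have h1 : (-1 : K) ≠ 0 := neg_ne_zero.2 one_ne_zero
  have key : ∀ r, r < D.nroots → ∀ a : K, hc hp i (-1) * xc hp (vec D l r) a * (hc hp i (-1))⁻¹ =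
      xc hp (vec D l r) ((-1) ^ D.cartan i r * a) := by
    intro r hr a
    rw [(act hp hr (hc_mem hp i h1)).2, ch_hc hp i h1 hr]
  refine ⟨hc_mem hp i h1, hc_mem_sup hp i _, ?_, ?_⟩
  · intro y hy he a ha
    obtain ⟨r, hr, rfl⟩ := (isRoot_iff hp cs y).1 hy
    obtain ⟨b, rfl⟩ := (mem_XX hp hr a).1 ha
    rw [cpr_vec hp cs i hr] at he
    rw [key r hr, he.neg_one_zpow, one_mul]
  · intro y hy he a ha
    obtain ⟨r, hr, rfl⟩ := (isRoot_iff hp cs y).1 hy
    obtain ⟨b, rfl⟩ := (mem_XX hp hr a).1 ha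
    rw [cpr_vec hp cs i hr] at he
    rw [key r hr, he.neg_one_zpow, neg_one_mul, xc_neg hp hr]

/-- Torus elements centralising all root groups. -/
theorem eq_one_of_cent (hZ : Subgroup.center ↥(D.group K) = ⊥) (t : ↥(D.group K))
    (h1 : ∀ y, IsRoot cs hp.isCartan y → ∀ a ∈ XX D l K y, t * a * t⁻¹ = a) : t = 1 := by
  rw [← Subgroup.mem_bot, ← hZ, Subgroup.mem_center_iff]
  have h2 : RGDLib.G1 cs hp.isCartan (XX D l K) ≤ Subgroup.centralizer {t} := by
    unfold RGDLib.G1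
    refine iSup_le ?_
    rintro ⟨y, hy⟩ a ha
    rw [Subgroup.mem_centralizer_singleton_iff]
    have := h1 y hy a ha
    rw [mul_inv_eq_iff_eq_mul] at this
    exact this.symm
  rw [G1_eq_top hp cs] at h2
  intro g
  have h3 := h2 (Subgroup.mem_top g)
  rw [Subgroup.mem_centralizer_singleton_iff] at h3
  exact h3

variable {f : ℕ} {N : ℤ} {d : Fin l → ℤ} {fr cf : Fin f → Fin l → ℤ} {idx : Fin f → ℕ}

theorem qf_add_right' (hd : ∀ i j, d i * cartanOf D l i j = d j * cartanOf D l j i) (x y y' : Fin l → ℤ) :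
    qf (cartanOf D l) d x (y + y') = qf (cartanOf D l) d x y + qf (cartanOf D l) d x y' := by
  rw [qf_comm hd, qf_add_left, qf_comm hd y, qf_comm hd y']

theorem qf_smul_right' (hd : ∀ i j, d i * cartanOf D l i j = d j * cartanOf D l j i) (c : ℤ) (x y : Fin l → ℤ) :
    qf (cartanOf D l) d x (c • y) = c * qf (cartanOf D l) d x y := by
  rw [qf_comm hd, qf_smul_left, qf_comm hd y]

/-- A long root group commutes with `X y` if `(y, r) ≥ 0`. -/
theorem comm_long [Fintype W] (T : KD D l f N d fr cf idx) (hd : ∀ i, 0 < d i ∧ 2 * d i ≤ N) {r : Fin l → ℤ}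
    (hr : r ∈ RN cs (h := hp.isCartan) N d) {y : Fin l → ℤ} (hy : IsRoot cs hp.isCartan y) (h1 : y ≠ r)
    (h2 : y ≠ -r) (h0 : 0 ≤ form cs hp.isCartan y r) :
    ∀ a ∈ XX D l K y, ∀ b ∈ XX D l K r, a * b = b * a := by
  have hlen : ∀ x, IsRoot cs hp.isCartan x → 0 < qf (cartanOf D l) d x x ∧ qf (cartanOf D l) d x x ≤ N := by
    rintro _ ⟨w, i, rfl⟩
    rw [qf_root cs hp.isCartan T.hd]
    exact ⟨by have := (hd i).1; omega, (hd i).2⟩
  have hN0 : 0 < N := by
    have := (hlen r hr.1).1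
    rwa [hr.2] at this
  have hq : 0 ≤ qf (cartanOf D l) d y r := by
    have e1 := cpr_mul_qf cs hp.isCartan T.hd y hr.1
    rw [hr.2] at e1
    have h3 : 0 ≤ cpr cs hp.isCartan y r := by
      by_contra hc
      push Not at hc
      have h4 := two_form_cpr cs hp.isCartan y hr.1
      have h5 := form_pos cs hp.isCartan hr.1.ne_zero
      nlinarith
    nlinarith
  obtain ⟨hr0, hrN⟩ := hr
  obtain ⟨s, hs, rfl⟩ := (isRoot_iff hp cs y).1 hy
  obtain ⟨r, hr, rfl⟩ := (isRoot_iff hp cs r).1 hr0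
  rintro a ha b hb
  obtain ⟨u, rfl⟩ := (mem_XX hp hs a).1 ha
  obtain ⟨v, rfl⟩ := (mem_XX hp hr b).1 hb
  apply Subtype.ext
  rw [Subgroup.coe_mul, Subgroup.coe_mul, coe_xc hp hs, coe_xc hp hr]
  have hne : s ≠ r := fun h => h1 (by rw [h])
  have hne' : s ≠ D.neg r := fun h => h2 (by rw [h, vec_neg hp hr])
  have e := comm_xG (K := K) hp hr hs hne hne' (-v) (-u)
  have hemp : D.commWord K r s (-v) (-u) = [] := by
    have h3 : D.commTerms r s = [] := by
      rw [List.eq_nil_iff_forall_not_mem]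
      rintro ⟨w, C, i, j⟩ hw
      obtain ⟨hw1, -, -, hi, hj, hvec⟩ := RootVec.commTerms_rt hp.checked hw
      have e2 : vec D l w = (i : ℤ) • vec D l r + (j : ℤ) • vec D l s := by
        funext k
        rw [vec_apply, hvec, Pi.add_apply, Pi.smul_apply, Pi.smul_apply, smul_eq_mul, smul_eq_mul, vec_apply, vec_apply]
      have h4 := (hlen _ (isRoot_vec hp cs hw1)).2
      have h5 := (hlen _ (isRoot_vec hp cs hs)).1
      rw [e2, qf_add_left, qf_smul_left, qf_smul_left, qf_add_right' T.hd, qf_add_right' T.hd, qf_smul_right' T.hd,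
        qf_smul_right' T.hd, qf_smul_right' T.hd, qf_smul_right' T.hd, hrN,
        qf_comm T.hd (vec D l r) (vec D l s)] at h4
      have hi' : (1 : ℤ) ≤ i := by exact_mod_cast hi
      have hj' : (1 : ℤ) ≤ j := by exact_mod_cast hj
      have e3 : (i : ℤ) * ((i : ℤ) * N + j * qf (cartanOf D l) d (vec D l s) (vec D l r)) +
          j * (i * qf (cartanOf D l) d (vec D l s) (vec D l r) + j * qf (cartanOf D l) d (vec D l s) (vec D l s)) =
          N + ((i : ℤ) * i - 1) * N + 2 * (i * j) * qf (cartanOf D l) d (vec D l s) (vec D l r) +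
            j * j * qf (cartanOf D l) d (vec D l s) (vec D l s) := by ring
      rw [e3] at h4
      have p1 : 0 ≤ ((i : ℤ) * i - 1) * N := mul_nonneg (by nlinarith) hN0.le
      have p2 : 0 ≤ 2 * ((i : ℤ) * j) * qf (cartanOf D l) d (vec D l s) (vec D l r) :=
        mul_nonneg (by positivity) hq
      have p3 : 0 < (j : ℤ) * j * qf (cartanOf D l) d (vec D l s) (vec D l s) := mul_pos (by nlinarith) h5
      linarith
    show (D.commTerms r s).map _ = []
    rw [h3, List.map_nil]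
  rw [hemp] at e
  have e4 : wordG (F := K) hp.inList [] = 1 := by
    apply Units.ext
    rw [coe_wordG]
    rfl
  rw [e4, commutatorElement_eq_one_iff_mul_comm, xG_inv, xG_inv, _root_.neg_neg, _root_.neg_neg] at e
  exact e

/-- The pairings with long roots. -/
theorem le_one [Finite W] (T : KD D l f N d fr cf idx) (k₀ : Fin f)
    (hL : ∀ s < D.nroots, (∀ i, vec D l s i = fr k₀ i) ∨ (∀ i, vec D l s i = -fr k₀ i) ∨
      |∑ i, vec D l s i * cf k₀ i| ≤ 1) {r : Fin l → ℤ}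
    (hr : r ∈ RN cs (h := hp.isCartan) N d) {y : Fin l → ℤ} (hy : IsRoot cs hp.isCartan y) (h1 : y ≠ r)
    (h2 : y ≠ -r) : |cpr cs hp.isCartan y r| ≤ 1 := by
  obtain ⟨w, hw⟩ := T.trans (cs := cs) (h := hp.isCartan) hp hr (T.mem hp k₀)
  rw [← cpr_rep cs hp.isCartan w _ hr.1, hw]
  obtain ⟨s, hs, e⟩ := (isRoot_iff hp cs _).1 (hy.act w)
  rw [← e, T.cpr hp]
  rcases hL s hs with h3 | h3 | h3
  · exfalso
    apply h1
    apply rep_injective_apply cs hp.isCartan w
    rw [hw, ← e]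
    exact funext h3
  · exfalso
    apply h2
    apply rep_injective_apply cs hp.isCartan w
    rw [map_neg, hw, ← e]
    exact funext h3
  · exact h3

/-- **`Cls` for the long roots of `D.group K`.** -/
theorem cls [Fintype W] [Finite K] (p : ℕ) [Fact p.Prime] [CharP K p] (T : KD D l f N d fr cf idx)
    (k₀ : Fin f) (hd : ∀ i, 0 < d i ∧ 2 * d i ≤ N)
    (hL : ∀ s < D.nroots, (∀ i, vec D l s i = fr k₀ i) ∨ (∀ i, vec D l s i = -fr k₀ i) ∨
      |∑ i, vec D l s i * cf k₀ i| ≤ 1) (hZ : Subgroup.center ↥(D.group K) = ⊥) :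
    Cls cs hp.isCartan p (TT D K) (nc hp K) (XX D l K) (RN cs (h := hp.isCartan) N d) (XX D l K)
      (zv cs hp.isCartan (TT D K) (XX D l K)) := by
  refine cls_of_inv (rgd (K := K) hp cs p) (fun t _ => eq_one_of_cent hp cs hZ t) (fun r hr => hr.1)
    (T.frameSys (cs := cs) (h := hp.isCartan) hp).act (fun r hr y hy => le_one hp cs T k₀ hL hr hy) ?_
    (fun r hr y hy h1 h2 h0 => comm_long hp cs T hd hr hy h1 h2 h0) fun i _ => ⟨_, exists_inv hp cs i⟩
  intro r hr a ha b hb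
  obtain ⟨s, hs, rfl⟩ := (isRoot_iff hp cs r).1 hr.1
  obtain ⟨u, rfl⟩ := (mem_XX hp hs a).1 ha
  obtain ⟨v, rfl⟩ := (mem_XX hp hs b).1 hb
  apply Subtype.ext
  rw [Subgroup.coe_mul, Subgroup.coe_mul, coe_xc hp hs, coe_xc hp hs, xG_add, xG_add, add_comm]

end Cfsg.Agent.Nodes.ChevCls
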