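import Mathlib
import Cfsg.Agent.Nodes.Chart
import Cfsg.Agent.Nodes.ClsOfPairs
import Cfsg.Agent.Nodes.Bruhat
import Cfsg.Agent.Nodes.Coroot

/-!
helper617: classical root groups `Z r = X r` from a root group datum with torus involutions at the long nodes.

* `Inv t r` : `t ∈ T ∩ ⟨X r, X (-r)⟩` centralises `X y` if `⟨y, r^∨⟩` is even and inverts it if `⟨y, r^∨⟩` is odd;
* `zv` : the involutions `z r` (unique elements with `Inv`);
* `cls_of_inv` : `Cls` for a set `R` of long roots.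
-/

set_option autoImplicit false
set_option linter.unusedSectionVars false

namespace Cfsg.Agent.Nodes.ClsInv

open CoxeterSystem Cfsg.Agent.ChevalleyStructure.CoxeterGeom Cfsg.Agent.Tits.Roots Cfsg.Agent.Tits.Core
  Cfsg.Agent.Tits.RootComb Cfsg.Agent.Nodes.Comb Cfsg.Agent.Nodes.Reps Cfsg.Agent.Nodes.BNOf
  Cfsg.Agent.Nodes.RGDLib Cfsg.Agent.Nodes.Chart Cfsg.Agent.Nodes.Coroot

variable {I W Y : Type*} [Fintype I] [DecidableEq I] [Group W] [Fintype W] [Group Y] {M : CoxeterMatrix I}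
  (cs : CoxeterSystem M W) {A : I → I → ℤ} (h : IsCartan M A) {p : ℕ} (T : Subgroup Y) {n : I → Y}
  (X : (I → ℤ) → Subgroup Y)

/-- `t` is the involution of `⟨X r, X (-r)⟩`. -/
structure Inv (t : Y) (r : I → ℤ) : Prop where
  mem : t ∈ T
  mem' : t ∈ X r ⊔ X (-r)
  even : ∀ y, IsRoot cs h y → Even (cpr cs h y r) → ∀ a ∈ X y, t * a * t⁻¹ = a
  odd : ∀ y, IsRoot cs h y → Odd (cpr cs h y r) → ∀ a ∈ X y, t * a * t⁻¹ = a⁻¹

variable {cs h T X}

namespace Inv

/-- Transport along the Weyl group. -/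
theorem act (Rg : RGD cs h p T n X) {t : Y} {r : I → ℤ} (hr : IsRoot cs h r) (H : Inv cs h T X t r) {w : W} {g : Y}
    (hg : Rp cs Rg.nsys w g) : Inv cs h T X (g * t * g⁻¹) (rep cs h w r) := by
  have hg' : Rp cs Rg.nsys w⁻¹ g⁻¹ := hg.inv
  have key : ∀ y, IsRoot cs h y → ∀ a ∈ X y, g⁻¹ * a * g ∈ X (rep cs h w⁻¹ y) := by
    intro y hy a ha
    have h1 := Rg.conj_mem hg' hy ha
    rwa [inv_inv] at h1
  have hc : ∀ y, IsRoot cs h y → cpr cs h (rep cs h w⁻¹ y) r = cpr cs h y (rep cs h w r) := by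
    intro y hy
    rw [← cpr_rep cs h w _ hr, rep_apply_inv]
  refine ⟨?_, ?_, fun y hy he a ha => ?_, fun y hy he a ha => ?_⟩
  · exact (Subgroup.mem_normalizer_iff.1 hg.mem_normalizer t).1 H.mem
  · have h1 := Rg.conj_rp hg hr
    have h2 := Rg.conj_rp hg hr.neg
    rw [map_neg] at h2
    rw [← h1, ← h2, ← cj_sup]
    exact conj_mem_cj.2 H.mem'
  · have h1 := H.even _ (hy.act w⁻¹) (by rw [hc y hy]; exact he) _ (key y hy a ha)
    calc g * t * g⁻¹ * a * (g * t * g⁻¹)⁻¹ = g * (t * (g⁻¹ * a * g) * t⁻¹) * g⁻¹ := by group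
      _ = a := by rw [h1]; group
  · have h1 := H.odd _ (hy.act w⁻¹) (by rw [hc y hy]; exact he) _ (key y hy a ha)
    calc g * t * g⁻¹ * a * (g * t * g⁻¹)⁻¹ = g * (t * (g⁻¹ * a * g) * t⁻¹) * g⁻¹ := by group
      _ = a⁻¹ := by rw [h1]; group

variable (hT : ∀ t ∈ T, (∀ y, IsRoot cs h y → ∀ a ∈ X y, t * a * t⁻¹ = a) → t = 1)

include hT

theorem unique {t t' : Y} {r : I → ℤ} (H : Inv cs h T X t r) (H' : Inv cs h T X t' r) : t = t' := by
  have h1 : t⁻¹ * t' = 1 := by
    apply hT _ (mul_mem (inv_mem H.mem) H'.mem)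
    intro y hy a ha
    rcases Int.even_or_odd (cpr cs h y r) with he | he
    · have h1 := H.even y hy he a ha
      have h2 := H'.even y hy he a ha
      calc t⁻¹ * t' * a * (t⁻¹ * t')⁻¹ = t⁻¹ * (t' * a * t'⁻¹) * t := by group
        _ = t⁻¹ * (t * a * t⁻¹) * t := by rw [h2, h1]
        _ = a := by group
    · have h1 := H.odd y hy he a ha
      have h2 := H'.odd y hy he a ha
      calc t⁻¹ * t' * a * (t⁻¹ * t')⁻¹ = t⁻¹ * (t' * a * t'⁻¹) * t := by group
        _ = t⁻¹ * (t * a * t⁻¹) * t := by rw [h2, h1]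
        _ = a := by group
  calc t = t * (t⁻¹ * t') := by rw [h1, mul_one]
    _ = t' := by group

theorem sq {t : Y} {r : I → ℤ} (H : Inv cs h T X t r) : t * t = 1 := by
  apply hT _ (mul_mem H.mem H.mem)
  intro y hy a ha
  rcases Int.even_or_odd (cpr cs h y r) with he | he
  · have h1 := H.even y hy he a ha
    calc t * t * a * (t * t)⁻¹ = t * (t * a * t⁻¹) * t⁻¹ := by group
      _ = a := by rw [h1, h1]
  · have h1 := H.odd y hy he a ha
    have h2 : t * a⁻¹ * t⁻¹ = a := by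
      calc t * a⁻¹ * t⁻¹ = (t * a * t⁻¹)⁻¹ := by group
        _ = a := by rw [h1, inv_inv]
    calc t * t * a * (t * t)⁻¹ = t * (t * a * t⁻¹) * t⁻¹ := by group
      _ = a := by rw [h1, h2]

omit hT in
theorem neg {t : Y} {r : I → ℤ} (hr : IsRoot cs h r) (H : Inv cs h T X t r) : Inv cs h T X t (-r) := by
  refine ⟨H.mem, ?_, fun y hy he => H.even y hy ?_, fun y hy he => H.odd y hy ?_⟩
  · rw [neg_neg, sup_comm]; exact H.mem'
  · rwa [cpr_neg_right cs h _ hr, even_neg] at he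
  · rwa [cpr_neg_right cs h _ hr, odd_neg] at he

/-- The torus centralises `z r`. -/
theorem comm (Rg : RGD cs h p T n X) {t : Y} {r : I → ℤ} (hr : IsRoot cs h r) (H : Inv cs h T X t r) {s : Y}
    (hs : s ∈ T) : t * s = s * t := by
  have h1 : Rp cs Rg.nsys 1 s := rp_of_mem hs
  have h2 := H.act Rg hr h1
  rw [map_one, Module.End.one_apply] at h2
  have h3 := H.unique hT h2
  calc t * s = (s * t * s⁻¹) * s := by rw [← h3]
    _ = s * t := by group

end Inv

/-! ### The involutions -/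

variable (cs h T X) in
open Classical in
/-- The involution `z r`. -/
noncomputable def zv (r : I → ℤ) : Y := if H : ∃ t, Inv cs h T X t r then H.choose else 1

theorem zv_inv {r : I → ℤ} (H : ∃ t, Inv cs h T X t r) : Inv cs h T X (zv cs h T X r) r := by
  unfold zv
  rw [dif_pos H]
  exact H.choose_spec

variable {R : Set (I → ℤ)}

theorem exists_inv (Rg : RGD cs h p T n X) (root : ∀ r ∈ R, IsRoot cs h r) (act : ∀ r ∈ R, ∀ w, rep cs h w r ∈ R)
    (node : ∀ i, sr i ∈ R → ∃ t, Inv cs h T X t (sr i)) {r : I → ℤ} (hr : r ∈ R) : ∃ t, Inv cs h T X t r := by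
  obtain ⟨w, i, rfl⟩ := root r hr
  have h1 : (sr i : I → ℤ) ∈ R := by
    have := act _ hr w⁻¹
    rwa [rep_inv_apply] at this
  obtain ⟨t, ht⟩ := node i h1
  obtain ⟨g, hg⟩ := exists_rp cs Rg.nsys w
  exact ⟨_, ht.act Rg (isRoot_sr cs h i) hg⟩

/-- **`Cls` from torus involutions at the long nodes.** -/
theorem cls_of_inv (Rg : RGD cs h p T n X) (hT : ∀ t ∈ T, (∀ y, IsRoot cs h y → ∀ a ∈ X y, t * a * t⁻¹ = a) → t = 1)
    (root : ∀ r ∈ R, IsRoot cs h r) (act : ∀ r ∈ R, ∀ w, rep cs h w r ∈ R)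
    (le_one : ∀ r ∈ R, ∀ y, IsRoot cs h y → y ≠ r → y ≠ -r → |cpr cs h y r| ≤ 1)
    (ab : ∀ r ∈ R, ∀ a ∈ X r, ∀ b ∈ X r, a * b = b * a)
    (comm : ∀ r ∈ R, ∀ y, IsRoot cs h y → y ≠ r → y ≠ -r → 0 ≤ form cs h y r → ∀ a ∈ X y, ∀ b ∈ X r, a * b = b * a)
    (node : ∀ i, sr i ∈ R → ∃ t, Inv cs h T X t (sr i)) : Cls cs h p T n X R X (zv cs h T X) := by
  have hz : ∀ r ∈ R, Inv cs h T X (zv cs h T X r) r := fun r hr => zv_inv (exists_inv Rg root act node hr)
  have hneg : ∀ r ∈ R, -r ∈ R := by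
    intro r hr
    obtain ⟨w, i, rfl⟩ := root r hr
    have h1 := act _ hr (w * cs.simple i * w⁻¹)
    rw [rep_mul_apply, rep_mul_apply, rep_inv_apply, rep_simple_sr, map_neg] at h1
    exact h1
  have hinv : ∀ r ∈ R, (zv cs h T X r)⁻¹ = zv cs h T X r := fun r hr =>
    inv_eq_of_mul_eq_one_right ((hz r hr).sq hT)
  exact {
    rgd := Rg
    root := root
    act := act
    le := fun r _ => le_rfl
    ne_bot := fun r hr => Bruhat.X_ne_bot Rg (root r hr)
    conj := fun i r hr => Rg.conj i r (root r hr)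
    tor := fun r hr => Rg.tor r (root r hr)
    cent := by
      intro r hr y hy h0 a ha b hb
      by_cases h1 : y = r
      · subst h1; exact ab y hr a ha b hb
      · by_cases h2 : y = -r
        · exfalso
          rw [h2, form_neg_left] at h0
          have := form_pos cs h (root r hr).ne_zero
          linarith
        · exact comm r hr y hy h1 h2 h0 a ha b hb
    notp := by
      intro r hr
      obtain ⟨w, i, rfl⟩ := root r hr
      obtain ⟨g, hg⟩ := exists_rp cs Rg.nsys w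
      rw [← map_neg, ← Rg.conj_rp hg (isRoot_sr cs h i), ← Rg.conj_rp hg (isRoot_sr cs h i).neg, ← cj_sup]
      intro h0
      apply Rg.notp i
      have h1 := h0.map (MulAut.conj g⁻¹).toMonoidHom
      change IsPGroup p ↥(cj g⁻¹ (cj g (X (sr i) ⊔ X (-sr i)))) at h1
      rwa [cj_inv_cj] at h1
    z_mem := fun r hr => (hz r hr).mem'
    z_torus := fun r hr => (hz r hr).mem
    z_T := fun r hr t ht => (hz r hr).comm hT Rg (root r hr) ht
    z_sq := fun r hr => (hz r hr).sq hT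
    z_conj := by
      intro i r hr
      have h1 := (hz r hr).act Rg (root r hr) (rp_simple cs Rg.nsys i)
      exact h1.unique hT (hz _ (act r hr _))
    z_neg := fun r hr => (hz _ (hneg r hr)).unique hT ((hz r hr).neg (root r hr))
    z_cent := by
      intro r hr b hb
      have h1 := (hz r hr).even r (root r hr) (by rw [cpr_self cs h (root r hr)]; exact even_two) b hb
      rwa [mul_inv_eq_iff_eq_mul] at h1
    z_inv := by
      intro r hr y hy h1 h2 h0 a ha
      have h3 : cpr cs h y r ≠ 0 := fun h4 => h0 ((cpr_zero_iff cs h y (root r hr)).1 h4)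
      have h4 := le_one r hr y hy h1 h2
      have h5 : Odd (cpr cs h y r) := by
        rw [abs_le] at h4
        have h6 : cpr cs h y r = 1 ∨ cpr cs h y r = -1 := by omega
        rcases h6 with h6 | h6 <;> rw [h6] <;> decide
      have h6 := (hz r hr).odd y hy h5 a ha
      rwa [hinv r hr] at h6
    z_inv_self := by
      intro r hr a ha
      have h1 := (hz r hr).even r (root r hr) (by rw [cpr_self cs h (root r hr)]; exact even_two) a ha
      rw [hinv r hr] at h1
      rw [h1]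
      exact mul_mem ha ha }

end Cfsg.Agent.Nodes.ClsInv
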