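import Mathlib
import Cfsg.Agent.Nodes.WittU
import Cfsg.Agent.Nodes.WittRGDD

/-!
Root group data of the classical groups in EVERY characteristic, 2 included (helper827; ODD D10).

`not_isPGroup`: `A ⊔ n A n⁻¹` (containing `n`) is not a finite `p`-group unless `n A n⁻¹ ≤ A`. With it the hypothesis
`Odd p` of `WittRGD.rgd`, `WittRGDD.rgd`, `WittModel.rgd`, `WittU.hasRGD_PSU`, `WittU.hasRGD_PSp` is not needed:

* `rgdC` (= `WittRGD.rgd`), `rgdD` (= `WittRGDD.rgd`), `rgd_model` (= `WittModel.rgd`);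
* `hasRGD_PSU`, `hasRGD_PSp`: every `p`.
-/

set_option autoImplicit false
set_option linter.unusedSectionVars false

namespace Cfsg.Agent.Nodes.RGDAllP

open CoxeterSystem Cfsg.Agent.ChevalleyStructure.CoxeterGeom Cfsg.Agent.Tits.Roots
open Cfsg.Agent.Nodes.Comb Cfsg.Agent.Nodes.Reps Cfsg.Agent.Nodes.BNOf
open Cfsg.Agent.TitsThree Cfsg.Agent.TitsThree.Siegel Cfsg.Agent.TitsThree.WittFrame
  Cfsg.Agent.TitsThree.WittWeyl Cfsg.Agent.TitsThree.FrameCN
open scoped commutatorElement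

/-- Maximal subgroups of finite `p`-groups are normal, hence `A ⊔ n A n⁻¹` is a `p`-group containing `n` only if
`n A n⁻¹ ≤ A`. -/
theorem le_of_isPGroup {Y : Type*} [Group Y] {p : ℕ} [Fact p.Prime] {A A' : Subgroup Y} [Finite ↥(A ⊔ A')] {n : Y}
    (hn : n ∈ A ⊔ A') (hA : cj n A = A') (hP : IsPGroup p ↥(A ⊔ A')) : A ⊔ A' = A := by
  by_contra hne
  set P : Subgroup Y := A ⊔ A' with hPdef
  have hlt : A.subgroupOf P ≠ ⊤ := by
    intro h
    rw [Subgroup.subgroupOf_eq_top] at h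
    exact hne (le_antisymm h le_sup_left)
  obtain ⟨M, hM, hle⟩ := (eq_top_or_exists_le_coatom (A.subgroupOf P)).resolve_left hlt
  have : Group.IsNilpotent ↥P := hP.isNilpotent
  have hnorm : M.Normal := Subgroup.NormalizerCondition.normal_of_coatom M Group.normalizerCondition_of_isNilpotent hM
  have h1 : Subgroup.subgroupOf A' P ≤ M := by
    intro x hx
    rw [Subgroup.mem_subgroupOf, ← hA, mem_cj] at hx
    have h2 : (⟨n, hn⟩ : P)⁻¹ * x * ⟨n, hn⟩ ∈ M := hle (by rw [Subgroup.mem_subgroupOf]; exact hx)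
    have h3 := hnorm.conj_mem _ h2 ⟨n, hn⟩
    have h4 : (⟨n, hn⟩ : P) * ((⟨n, hn⟩ : P)⁻¹ * x * ⟨n, hn⟩) * (⟨n, hn⟩ : P)⁻¹ = x := by group
    rwa [h4] at h3
  apply hM.1
  rw [eq_top_iff]
  have h5 : A ≤ M.map P.subtype := by
    intro a ha
    have haP : a ∈ P := (le_sup_left : A ≤ A ⊔ A') ha
    exact ⟨⟨a, haP⟩, hle ha, rfl⟩
  have h6 : A' ≤ M.map P.subtype := by
    intro a ha
    have haP : a ∈ P := (le_sup_right : A' ≤ A ⊔ A') ha
    exact ⟨⟨a, haP⟩, h1 ha, rfl⟩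
  rintro ⟨x, hx⟩ -
  obtain ⟨y, hy, e⟩ := (sup_le h5 h6 : P ≤ M.map P.subtype) hx
  have : y = ⟨x, hx⟩ := Subtype.ext e
  rwa [this] at hy

section Witt

variable {F : Type*} [Field F] {V : Type*} [AddCommGroup V] [Module F V] {H : HForm F V}

theorem finite_equiv [Finite V] : Finite (V ≃ₗ[F] V) :=
  Finite.of_injective (fun g : V ≃ₗ[F] V => (g : V → V)) DFunLike.coe_injective

section C

open Cfsg.Agent.Nodes.TypeC Cfsg.Agent.Nodes.WittRoot Cfsg.Agent.Nodes.WittRGD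

variable {n : ℕ} {Fr : Frame H (Fin n)} {G0 : Subgroup (V ≃ₗ[F] V)} (hA : Amb Fr G0)

include hA

theorem fix_PG {a b : Fin n × Bool} {g : V ≃ₗ[F] V} (hab : Ok a b) (hg : g ∈ PG Fr a b) :
    g (Fr.b a) = Fr.b a := by
  have hne : a ≠ neg a := fun h => by
    have := congrArg Prod.snd h
    simp [neg] at this
  by_cases h : a = b
  · subst h
    rw [PG_self] at hg
    obtain ⟨p, rfl⟩ := hg
    exact Z_apply_of_ne Fr hne p
  · rcases eq_or_ne a.1 b.1 with h1 | h1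
    · exfalso
      rcases hab with h2 | h2
      · exact h2 h1
      · exact h h2
    · rw [PG_ne Fr h1] at hg
      obtain ⟨t, rfl⟩ := hg
      exact X_apply_of_ne Fr h1 hne (fun h2 => h1 (by rw [h2]; rfl)) t

theorem conjC {W : Type*} [Group W] (cs : CoxeterSystem (CoxeterMatrix.B n) W) {p0 : Fr.Adm} (hp0 : p0.c ≠ 0)
    (i : Fin n) (x : Fin n → ℤ) (hx : IsRoot cs (isCartan n) x) :
    cj (nn Fr p0 i) (rg Fr x) = rg Fr (rep cs (isCartan n) (cs.simple i) x) := by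
  obtain ⟨a, b, hab, e⟩ := exists_of_isRoot cs hx
  rw [rg_eq Fr hab e, rep_simple, rg_eq Fr (hab.sg i) (ee_refl_of e)]
  exact hA.cj_sg (nn_mem hA p0 i) (mono_nn hp0 i) hab

theorem notpC [Finite V] {p : ℕ} [Fact p.Prime] {p0 : Fr.Adm} (hp0 : p0.c ≠ 0) (i : Fin n) :
    ¬ IsPGroup p ↥(rg Fr (sr i) ⊔ rg Fr (-sr i)) := by
  intro hP
  have := finite_equiv (F := F) (V := V)
  have hconj : cj (nn Fr p0 i) (rg Fr (sr i)) = rg Fr (-sr i) := by
    rw [conjC hA (CoxeterMatrix.B n).toCoxeterSystem hp0 i (sr i) (isRoot_sr _ _ _), rep_simple_sr]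
  have h1 := le_of_isPGroup (nn_mem_sup p0 i) hconj hP
  have h2 : nn Fr p0 i ∈ rg Fr (sr i) := by rw [← h1]; exact nn_mem_sup p0 i
  rw [rg_sr] at h2
  have h3 := fix_PG hA (ok_nx i) h2
  obtain ⟨l, hl, e⟩ := mono_nn (Fr := Fr) hp0 i (i, true)
  rw [h3] at e
  have h1 : ((i, true) : Fin n × Bool) ≠ sg i (i, true) := by
    by_cases hi : (i : ℕ) + 1 < n
    · rw [sg_up hi]; simp [Fin.ext_iff]
    · rw [sg_last hi]; simp
  exact not_prop h1 hl e

/-- **The root group datum of a Witt frame, every characteristic.** -/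
theorem rgdC [Finite V] {p : ℕ} [Fact p.Prime] [CharP F p] {p0 : Fr.Adm} (hp0 : p0.c ≠ 0)
    {W : Type*} [Group W] (cs : CoxeterSystem (CoxeterMatrix.B n) W) :
    RGD cs (isCartan n) p (Tor Fr G0) (nn Fr p0) (rg Fr) where
  nsys := nsys hA hp0
  conj := conjC hA cs hp0
  tor x hx t ht := by
    obtain ⟨a, b, hab, e⟩ := exists_of_isRoot cs hx
    rw [rg_eq Fr hab e]
    exact hA.cj_id ht.1 ht.2 hab
  comm x y hx hy hxy hxy' a ha b hb := comm_rg cs hx hy hxy hxy' ha hb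
  rk1 i u hu hne := rk1 hA hp0 i hu hne
  pgrp i := by rw [rg_sr]; exact isPGroup_PG _ _
  notp i := notpC hA hp0 i
  tcop := tcop hA

end C

section Model

open Cfsg.Agent.Nodes.TypeC Cfsg.Agent.Nodes.WittRoot Cfsg.Agent.Nodes.WittRGD Cfsg.Agent.Nodes.RGDLib

variable {n : ℕ} {Fr : Frame H (Fin n)} {K : Type*} [Group K] (M : Model Fr K)

/-- **The root group datum of a model, every characteristic.** -/
theorem rgd_model (hA : Amb Fr M.I) [Finite V] {p : ℕ} [Fact p.Prime] [CharP F p] {p0 : Fr.Adm} (hp0 : p0.c ≠ 0)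
    {W : Type*} [Group W] (cs : CoxeterSystem (CoxeterMatrix.B n) W) :
    RGD cs (isCartan n) p (WittModel.T M) (WittModel.nw M hA p0) (WittModel.X M) := by
  have := finite_equiv (F := F) (V := V)
  have : Finite W := finite_W cs
  exact rgd_map_of_ker_le_center (rgd_restrict (rgdC hA hp0 cs) M.I (fun x _ => hA.rg_le x)
    (fun i => nn_mem hA p0 i)) M.φ (WittModel.ker_le_center M hA)

end Model

section D

open Cfsg.Agent.Nodes.TypeC (wt wt_apply ng ng_ng ng_fst ng_snd wt_ng)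
open Cfsg.Agent.Nodes.TypeD Cfsg.Agent.Nodes.WittRGDD
open Cfsg.Agent.Nodes.WittRoot (Amb Mono XG mem_XG XG_swap)
open Cfsg.Agent.Nodes.WittRGD (Tor mem_Tor not_prop b_ne_zero eq_or_ng)

variable {n : ℕ} {Fr : Frame H (Fin (n + 2))} {G0 : Subgroup (V ≃ₗ[F] V)} (hA : Amb Fr G0)

include hA

theorem conjD {W : Type*} [Group W] (cs : CoxeterSystem (TypeD.M n) W) (i : Fin (n + 2)) (x : Fin (n + 2) → ℤ)
    (hx : IsRoot cs (isCartan n) x) :
    cj (nn Fr i) (rg Fr x) = rg Fr (rep cs (isCartan n) (cs.simple i) x) := by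
  obtain ⟨a, b, hab, e⟩ := exists_of_isRoot cs hx
  rw [rg_eq Fr hab e, rep_simple, rg_eq Fr (hab.sg i) (ee_refl_of e)]
  exact cj_sg hA (nn_mem hA i) (mono_nn i) hab

theorem notpD [Finite V] {p : ℕ} [Fact p.Prime] (i : Fin (n + 2)) :
    ¬ IsPGroup p ↥(rg Fr (sr i) ⊔ rg Fr (-sr i)) := by
  intro hP
  have := finite_equiv (F := F) (V := V)
  have hconj : cj (nn Fr i) (rg Fr (sr i)) = rg Fr (-sr i) := by
    rw [conjD hA (TypeD.M n).toCoxeterSystem i (sr i) (isRoot_sr _ _ _), rep_simple_sr]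
  have h1 := le_of_isPGroup (nn_mem_sup i) hconj hP
  have h2 : nn Fr i ∈ rg Fr (sr i) := by rw [← h1]; exact nn_mem_sup i
  rw [rg_sr] at h2
  obtain ⟨t, h2⟩ := h2
  have hne : ((i, true) : Fin (n + 2) × Bool) ≠ neg (i, true) := by simp [neg]
  have hok : ((i, true) : Fin (n + 2) × Bool).1 ≠ (nx i).1 := ok_nx i
  have h3 : nn Fr i (Fr.b (i, true)) = Fr.b (i, true) := by
    rw [h2]
    exact X_apply_of_ne Fr hok hne (fun h2 => hok (by rw [h2]; rfl)) t
  obtain ⟨l, hl, e⟩ := mono_nn (Fr := Fr) i (i, true)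
  rw [h3] at e
  exact not_prop (sg_ne i) hl e

/-- **The root group datum of type `D_{n+2}`, every characteristic.** -/
theorem rgdD [Finite V] {p : ℕ} [Fact p.Prime] [CharP F p] (h0 : ∀ p : Fr.Adm, p = 1)
    {W : Type*} [Group W] (cs : CoxeterSystem (TypeD.M n) W) :
    RGD cs (isCartan n) p (Tor Fr G0) (nn Fr) (rg Fr) where
  nsys := WittRGDD.nsys hA
  conj := conjD hA cs
  tor x hx t ht := by
    obtain ⟨a, b, hab, e⟩ := exists_of_isRoot cs hx
    rw [rg_eq Fr hab e]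
    exact cj_id hA ht.1 ht.2 hab
  comm x y hx hy _ hxy' a ha b hb := comm_rg cs h0 hx hy hxy' ha hb
  rk1 i u hu hne := WittRGDD.rk1 hA i hu hne
  pgrp i := by rw [rg_sr]; exact isPGroup_XG _ _
  notp i := notpD hA i
  tcop := WittRGD.tcop hA

end D

end Witt

section Main

open Cfsg.Agent.Nodes.TypeC Cfsg.Agent.Nodes.WittU

/-- **`PSU N F q` has a root group datum**, every characteristic. -/
theorem hasRGD_PSU {F : Type*} [Field F] [Fintype F] {q N : ℕ} (hF : Fintype.card F = q ^ 2) (hN : 3 ≤ N) {p : ℕ}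
    [Fact p.Prime] [CharP F p] :
    ∃ (l : ℕ) (M : CoxeterMatrix (Fin l)) (A : Fin l → Fin l → ℤ) (h : IsCartan M A) (T : Subgroup (PSU N F q))
      (n : Fin l → PSU N F q) (X : (Fin l → ℤ) → Subgroup (PSU N F q)), Finite M.Group ∧
      RGD M.toCoxeterSystem h p T n X ∧ RGDLib.G1 M.toCoxeterSystem h X = ⊤ := by
  obtain ⟨m, hm⟩ : ∃ m, N = 2 * m ∨ N = 2 * m + 1 := ⟨N / 2, by omega⟩
  obtain ⟨W, -⟩ := exists_wframe hF hm
  obtain ⟨p0, hp0, -⟩ := exists_adm hF W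
  exact ⟨m, CoxeterMatrix.B m, A m, isCartan m, _, _, _, finite_W (CoxeterMatrix.B m).toCoxeterSystem,
    rgd_model (KInstU.model hF hN W) (amb_U hF W) hp0 _, WittModel.G1_eq_top _ (by omega) _⟩

/-- **`PSp m F` has a root group datum**, every characteristic. -/
theorem hasRGD_PSp {F : Type*} [Field F] [Finite F] {m : ℕ} (hm : 1 ≤ m) {p : ℕ}
    [Fact p.Prime] [CharP F p] :
    ∃ (l : ℕ) (M : CoxeterMatrix (Fin l)) (A : Fin l → Fin l → ℤ) (h : IsCartan M A) (T : Subgroup (PSp m F))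
      (n : Fin l → PSp m F) (X : (Fin l → ℤ) → Subgroup (PSp m F)), Finite M.Group ∧
      RGD M.toCoxeterSystem h p T n X ∧ RGDLib.G1 M.toCoxeterSystem h X = ⊤ :=
  ⟨m, CoxeterMatrix.B m, A m, isCartan m, _, _, _, finite_W (CoxeterMatrix.B m).toCoxeterSystem,
    rgd_model (KInstSp.model m F) amb_Sp (p0 := SpIdent.adm 1) one_ne_zero _,
    WittModel.G1_eq_top _ (by omega) _⟩

end Main

end Cfsg.Agent.Nodes.RGDAllP
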