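import Mathlib
import Cfsg.Agent.Nodes.RGDLib
import Cfsg.Agent.Nodes.BN

/-!
Root group data: the node system (project CIT, charts; helper601's section, split off by helper744).
-/

set_option autoImplicit false
set_option linter.unusedSectionVars false

namespace Cfsg.Agent.Nodes.RGDSys

open CoxeterSystem Cfsg.Agent.ChevalleyStructure.CoxeterGeom Cfsg.Agent.Tits.Roots Cfsg.Agent.Tits.Core
  Cfsg.Agent.Tits.RootComb Cfsg.Agent.Nodes.Comb Cfsg.Agent.Nodes.Reps Cfsg.Agent.Nodes.BNOf Cfsg.Agent.Nodes.RGDLib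
open scoped commutatorElement

variable {I W Y Y' : Type*} [Fintype I] [DecidableEq I] [Group W] [Group Y] [Group Y'] {M : CoxeterMatrix I}
  {cs : CoxeterSystem M W} {A : I → I → ℤ} {h : IsCartan M A} {p : ℕ} {T : Subgroup Y} {n : I → Y}
  {X : (I → ℤ) → Subgroup Y}

/-! ### The node system -/

theorem onto_of_cj_eq {g : Y} {P Q : Subgroup Y} (he : cj g P = Q) (a : Y) : g * a * g⁻¹ ∈ Q ↔ a ∈ P := by
  rw [← he, conj_mem_cj]

/-- The node system (`helper98`) of a root group datum. -/
def toSys [Finite W] (R : RGD cs h p T n X) : Nodes.Sys cs h Y where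
  U i := X (sr i)
  n := n
  H := T
  nH i t := onto_of_cj_eq (mem_normalizer_iff_cj.1 (R.nsys.norm i)) t
  braid := R.nsys.rel
  HU i t ht u := onto_of_cj_eq (R.tor _ (isRoot_sr cs h i) t ht) u
  X _ _ := X
  X_left _ _ _ := rfl
  X_right _ _ _ := rfl
  X_conj k l _ x hx j _ a := onto_of_cj_eq (R.conj j x (hx.isRoot cs h)) a
  X_comm k l hkl j hj x hx h0 hne a ha b hb := by
    have hxr := hx.isRoot cs h
    have h1 := R.comm (sr j) x (isRoot_sr cs h j) hxr hne.symm (by
      intro he
      have h2 := h0 j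
      have h3 := congrFun he j
      rw [sr_self, Pi.neg_apply] at h3
      simp only [Pi.zero_apply] at h2
      omega) a ha b hb
    refine (?_ : btw cs h X (sr j) x ≤ _) h1
    unfold Reps.btw
    refine iSup_le ?_
    rintro ⟨z, hz, m, c, d, hm, hc, hd, e⟩
    have hs : Supp k l z := by
      intro r hrk hrl
      have h3 := congrFun e r
      rw [Pi.add_apply, Pi.smul_apply, Pi.smul_apply, Pi.smul_apply, hx.apply cs h r hrk hrl] at h3
      have : sr j r = (0 : ℤ) := by
        rcases hj with rfl | rfl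
        · exact sr_ne hrk
        · exact sr_ne hrl
      rw [this, smul_zero, smul_zero, add_zero, smul_eq_mul] at h3
      exact (mul_eq_zero.1 h3).resolve_left hm.ne'
    obtain ⟨v, hv, i, hi, ez⟩ := exists_of_supp cs h hz hs
    exact le_iSup₂_of_le z ⟨⟨v, hv, i, hi, ez⟩, m, c, d, hm, hc, hd, e⟩ le_rfl

theorem rgd_toSys_lift [Finite W] (R : RGD cs h p T n X) {w : W} {g : Y} :
    (toSys R).Lift w g ↔ Rp cs R.nsys w g := Iff.rfl

theorem rgd_toSys_XX [Finite W] (R : RGD cs h p T n X) {x : I → ℤ} (hx : IsRoot cs h x) :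
    (toSys R).XX x = X x := by
  obtain ⟨w, i, rfl⟩ := hx
  obtain ⟨g, hg⟩ := exists_rp cs R.nsys w
  ext a
  rw [(toSys R).mem_XX ((rgd_toSys_lift R).2 hg), ← R.conj_rp hg (isRoot_sr cs h i), mem_cj]
  rfl

end Cfsg.Agent.Nodes.RGDSys
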