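import Cfsg.Agent.Nodes.RGDTwCoordE6

/-!
The commutator formulas of `²E₆(q)`, for the root elements `x φ q z a` (`RGDTwCoordE6`).

`φ a = a` for `z` long (`Lg z`), `a : K` arbitrary for `z` short (`St z`).
-/

set_option autoImplicit false
set_option linter.unusedSectionVars false
set_option maxHeartbeats 400000
set_option Elab.async false

namespace Cfsg.Agent.Nodes.RGDTwComE6

open CoxeterSystem Cfsg.Agent.ChevalleyStructure.CoxeterGeom Cfsg.Agent.Tits.Roots Cfsg.Agent.Tits.Core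
  Cfsg.Agent.Nodes.BNOf Cfsg.Agent.Nodes.RGDTwGen Cfsg.Agent.Nodes.RGDChev Cfsg.Agent.Nodes.RGDFold
  Cfsg.Agent.Nodes.RGDFoldSL Cfsg.Agent.Nodes.RGDTwE6 Cfsg.Agent.Nodes.RGDTwTab Cfsg.Agent.Nodes.RGDTwCoordE6
  Cfsg.Agent.Nodes.RGDTwCoord
open Cfsg.Lie Cfsg.Agent.ChevalleyStructure
  Cfsg.Agent.ChevalleyStructure.TwistedU Cfsg.Agent.ChevalleyStructure.TwistedFix
open Cfsg.Agent.ChevalleyStructure.TwE6Basic (sg)
open scoped commutatorElement

universe u

/-- The class of a vector. -/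
local notation "cl" => RGDTwCoord.cl chevE6 J O

/-! ### Roots -/

section Roots

variable {W : Type*} [Group W] {cs : CoxeterSystem CoxeterMatrix.F₄ W} {z w : Fin 4 → ℤ}

theorem nroots_eq : chevE6.nroots = 72 := by decide +kernel


theorem root (hz : IsRoot cs isCartan z) : cl z ∈ O ∧ V chevE6 J ((cl z).headD 0) = z ∧
    ∀ s < chevE6.nroots, (V chevE6 J s = z ↔ s ∈ cl z) :=
  clData.root foldData hp.checked (fun i _ hr => wp_lt hp (J i) hr) hz

theorem vec_eq {i : ℕ} (hi : i < 48) : V chevE6 J ((O.getD i []).headD 0) =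
    ![(vtab.getD i (0, 0, 0, 0)).1, (vtab.getD i (0, 0, 0, 0)).2.1, (vtab.getD i (0, 0, 0, 0)).2.2.1,
      (vtab.getD i (0, 0, 0, 0)).2.2.2] := funext (vtab_eq i hi)

/-- A root with its table entry. -/
theorem exists_index (hz : IsRoot cs isCartan z) : ∃ i < 48, cl z = O.getD i [] ∧
    z = ![(vtab.getD i (0, 0, 0, 0)).1, (vtab.getD i (0, 0, 0, 0)).2.1, (vtab.getD i (0, 0, 0, 0)).2.2.1,
      (vtab.getD i (0, 0, 0, 0)).2.2.2] := by
  obtain ⟨ho, hV, -⟩ := root hz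
  obtain ⟨i, hi, e⟩ := List.mem_iff_getElem.1 ho
  have h1 : cl z = O.getD i [] := by
    rw [List.getD_eq_getElem _ _ hi]; exact e.symm
  rw [O_length] at hi
  refine ⟨i, hi, h1, ?_⟩
  rw [← vec_eq hi, ← h1]
  exact hV.symm

/-- `z` is a long root: its root group has order `q`. -/
def Lg (z : Fin 4 → ℤ) : Prop := Qv z = 4

/-- `z` is a short root: its root group has order `q²`. -/
def St (z : Fin 4 → ℤ) : Prop := Qv z = 2

instance : DecidablePred Lg := fun _ => inferInstanceAs (Decidable (_ = _))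
instance : DecidablePred St := fun _ => inferInstanceAs (Decidable (_ = _))

theorem length_cases (hz : IsRoot cs isCartan z) :
    ((cl z).length = 1 ∧ Lg z) ∨ ((cl z).length = 2 ∧ St z) := by
  obtain ⟨i, hi, e, e'⟩ := exists_index hz
  rcases Q_tab i hi with ⟨h1, h2⟩ | ⟨h1, h2⟩
  · left
    refine ⟨by rw [e, h1], ?_⟩
    unfold Lg
    rw [← h2, e']
    rfl
  · right
    refine ⟨by rw [e, h1], ?_⟩
    unfold St
    rw [← h2, e']
    rfl

theorem Lg.length (hz : IsRoot cs isCartan z) (h : Lg z) : (cl z).length = 1 := by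
  rcases length_cases hz with ⟨h1, h2⟩ | ⟨h1, h2⟩
  · exact h1
  · unfold Lg at h; unfold St at h2; omega

theorem St.length (hz : IsRoot cs isCartan z) (h : St z) : (cl z).length = 2 := by
  rcases length_cases hz with ⟨h1, h2⟩ | ⟨h1, h2⟩
  · unfold Lg at h2; unfold St at h; omega
  · exact h1

theorem long_or_short (hz : IsRoot cs isCartan z) : Lg z ∨ St z := by
  rcases length_cases hz with ⟨-, h⟩ | ⟨-, h⟩
  · exact Or.inl h
  · exact Or.inr h

theorem not_both (h : Lg z) (h' : St z) : False := by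
  unfold Lg at h; unfold St at h'; omega

theorem V_of_mem (hz : IsRoot cs isCartan z) {s : ℕ} (hs : s ∈ cl z) : s < chevE6.nroots ∧ V chevE6 J s = z := by
  obtain ⟨ho, -, h⟩ := root hz
  have h1 := clData.lt _ ho s hs
  exact ⟨h1, (h s h1).2 hs⟩

theorem head_mem (hz : IsRoot cs isCartan z) : (cl z).headD 0 ∈ cl z := by
  obtain ⟨r, o', e⟩ := List.exists_cons_of_ne_nil (clData.ne _ (root hz).1)
  rw [e]; exact List.mem_cons_self

theorem last_mem (hz : IsRoot cs isCartan z) : (cl z).getLastD 0 ∈ cl z := by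
  have h := clData.ne _ (root hz).1
  rw [List.getLastD_eq_getLast?, List.getLast?_eq_getLast_of_ne_nil h, Option.getD_some]
  exact List.getLast_mem h

/-- The class of a root of `E₆`. -/
theorem cl_V {o : List ℕ} (ho : o ∈ O) {k : ℕ} (hk : k ∈ o) : cl (V chevE6 J k) = o := by
  have h1 := (clData.cls o ho k (clData.lt o ho k hk)).2 hk
  rw [h1]
  exact clData.cl_eq o ho

/-- The check for two roots. -/
theorem exists_chk (hz : IsRoot cs isCartan z) (hw : IsRoot cs isCartan w) : ∃ v v' : ℤ × ℤ × ℤ × ℤ,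
    chk (cl z) (cl w) v v' = true ∧ Q4 (ad v v') = Qv (z + w) := by
  obtain ⟨i, hi, e, e'⟩ := exists_index hz
  obtain ⟨j, hj, f, f'⟩ := exists_index hw
  refine ⟨vtab.getD i (0, 0, 0, 0), vtab.getD j (0, 0, 0, 0), ?_, ?_⟩
  · rw [e, f]
    exact chk_all i hi j hj
  · rw [e', f']
    rfl

theorem eq_neg_of_kd (hz : IsRoot cs isCartan z) (hw : IsRoot cs isCartan w) (h : kd (cl z) (cl w) = 0) :
    w = -z := by
  have h1 : dgE6 ((cl z).headD 0) ((cl w).headD 0) = 1 ∨ dgE6 ((cl z).headD 0) ((cl w).getLastD 0) = 1 := by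
    by_contra hne
    unfold kd at h
    rw [if_neg hne] at h
    split_ifs at h
  have hz' := V_of_mem hz (head_mem hz)
  rcases h1 with h1 | h1
  · have hw' := V_of_mem hw (head_mem hw)
    have h2 := V_opp clData.dgOK hp J hz'.1 hw'.1 h1
    rw [hz'.2, hw'.2] at h2
    exact h2
  · have hw' := V_of_mem hw (last_mem hw)
    have h2 := V_opp clData.dgOK hp J hz'.1 hw'.1 h1
    rw [hz'.2, hw'.2] at h2
    exact h2

theorem kd_le (o o' : List ℕ) : kd o o' ≤ 6 := by
  unfold kd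
  split_ifs <;> omega

/-- Two roots whose sum is a root. -/
theorem kd_ne (hz : IsRoot cs isCartan z) (hw : IsRoot cs isCartan w) (hzw : IsRoot cs isCartan (z + w)) :
    kd (cl z) (cl w) ≠ 0 ∧ kd (cl z) (cl w) ≠ 1 := by
  constructor
  · intro h
    have h1 := eq_neg_of_kd hz hw h
    rw [h1, add_neg_cancel] at hzw
    exact hzw.ne_zero rfl
  · intro h
    obtain ⟨v, v', h1, h2⟩ := exists_chk hz hw
    unfold chk at h1
    rw [h] at h1
    simp only [Bool.and_eq_true, decide_eq_true_eq] at h1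
    rcases long_or_short hzw with h3 | h3
    · exact h1.2 (h2.trans h3)
    · exact h1.1.2 (h2.trans h3)

theorem isRoot_V {k : ℕ} (hk : k < chevE6.nroots) : IsRoot cs isCartan (V chevE6 J k) :=
  (foldData.isRoot_iff hp.checked (fun i _ hr => wp_lt hp (J i) hr) _).2 ⟨k, hk, rfl⟩

/-- A pair of roots of `E₆` with sum. -/
theorem sum_facts (hz : IsRoot cs isCartan z) (hw : IsRoot cs isCartan w) {r s : ℕ} (hr : r ∈ cl z) (hs : s ∈ cl w)
    (h : 2 ≤ dgE6 r s) : dk (dgE6 r s) < chevE6.nroots ∧ V chevE6 J (dk (dgE6 r s)) = z + w ∧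
      IsRoot cs isCartan (z + w) := by
  obtain ⟨h1, h2⟩ := V_of_mem hz hr
  obtain ⟨h3, h4⟩ := V_of_mem hw hs
  obtain ⟨h5, h6⟩ := V_sum clData.dgOK hp J h1 h3 h
  rw [h2, h4] at h6
  exact ⟨h5, h6, by rw [← h6]; exact isRoot_V h5⟩

/-- Two nonopposite roots whose sum is not a root. -/
theorem kd_eq_one (hz : IsRoot cs isCartan z) (hw : IsRoot cs isCartan w) (hzw : ¬ IsRoot cs isCartan (z + w))
    (hne : w ≠ -z) : kd (cl z) (cl w) = 1 := by
  have h0 : kd (cl z) (cl w) ≠ 0 := fun h => hne (eq_neg_of_kd hz hw h)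
  have h1 : ¬ 2 ≤ dgE6 ((cl z).headD 0) ((cl w).headD 0) := fun h =>
    hzw (sum_facts hz hw (head_mem hz) (head_mem hw) h).2.2
  have h2 : ¬ 2 ≤ dgE6 ((cl z).headD 0) ((cl w).getLastD 0) := fun h =>
    hzw (sum_facts hz hw (head_mem hz) (last_mem hw) h).2.2
  unfold kd at h0 ⊢
  split_ifs at h0 ⊢ <;> omega

/-- `z` long, `w` long. -/
theorem kd_long (hz : IsRoot cs isCartan z) (hw : IsRoot cs isCartan w) (hzw : IsRoot cs isCartan (z + w))
    (lz : Lg z) (lw : Lg w) : kd (cl z) (cl w) = 2 := by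
  obtain ⟨h0, h1⟩ := kd_ne hz hw hzw
  have h2 := lz.length hz
  have h3 := lw.length hw
  unfold kd at h0 h1 ⊢
  split_ifs at h0 h1 ⊢ <;> omega

/-- `z` long, `w` short. -/
theorem kd_quad (hz : IsRoot cs isCartan z) (hw : IsRoot cs isCartan w) (hzw : IsRoot cs isCartan (z + w))
    (lz : Lg z) (sw : St w) : kd (cl z) (cl w) = 5 := by
  obtain ⟨h0, h1⟩ := kd_ne hz hw hzw
  have h2 := lz.length hz
  have h3 := sw.length hw
  unfold kd at h0 h1 ⊢
  split_ifs at h0 h1 ⊢ <;> omega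

theorem kd_ss (hz : IsRoot cs isCartan z) (hw : IsRoot cs isCartan w) (hzw : IsRoot cs isCartan (z + w))
    (sz : St z) (sw : St w) : kd (cl z) (cl w) = 3 ∨ kd (cl z) (cl w) = 4 := by
  obtain ⟨h0, h1⟩ := kd_ne hz hw hzw
  have h2 := sz.length hz
  have h3 := sw.length hw
  unfold kd at h0 h1 ⊢
  split_ifs at h0 h1 ⊢ <;> omega

/-- The structure constant of two roots with sum a root. -/
def N (z w : Fin 4 → ℤ) : ℤ :=
  if kd (cl z) (cl w) = 3 then NN dgE6 dl ((cl z).headD 0) ((cl w).getLastD 0)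
  else if kd (cl z) (cl w) = 4 then NN dgE6 dl ((cl z).getLastD 0) ((cl w).getLastD 0)
  else NN dgE6 dl ((cl z).headD 0) ((cl w).headD 0)

/-- The second structure constant of a long and a short root. -/
def N2 (z w : Fin 4 → ℤ) : ℤ := NN dgE6 dl ((cl z).headD 0) ((cl w).headD 0) *
  NN dgE6 dl ((cl w).headD 0) (dk (dgE6 ((cl z).headD 0) ((cl w).getLastD 0)))

theorem facts_long (hz : IsRoot cs isCartan z) (hw : IsRoot cs isCartan w) (hk : kd (cl z) (cl w) = 2) :
    ∃ k, cl (z + w) = [k] ∧ okP 72 dgE6 [k] (cl z) (cl w) = true ∧ tm dgE6 dl (cl z) (cl w) k = [(N z w, 0, 0)] := by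
  obtain ⟨v, v', h1, -⟩ := exists_chk hz hw
  have h2 : 2 ≤ dgE6 ((cl z).headD 0) ((cl w).headD 0) := by
    unfold kd at hk
    split_ifs at hk <;> omega
  obtain ⟨-, h4, -⟩ := sum_facts hz hw (head_mem hz) (head_mem hw) h2
  unfold chk at h1
  rw [hk] at h1
  simp only [Bool.and_eq_true, decide_eq_true_eq] at h1
  refine ⟨dk (dgE6 ((cl z).headD 0) ((cl w).headD 0)), ?_, h1.1.2, ?_⟩
  · rw [← h4]
    exact cl_V h1.1.1 List.mem_cons_self
  · unfold N
    rw [if_neg (by rw [hk]; decide), if_neg (by rw [hk]; decide)]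
    exact h1.2

theorem facts_trace (hz : IsRoot cs isCartan z) (hw : IsRoot cs isCartan w) (hk : kd (cl z) (cl w) = 3) :
    ∃ k, cl (z + w) = [k] ∧ okP 72 dgE6 [k] (cl z) (cl w) = true ∧
      tm dgE6 dl (cl z) (cl w) k = [(N z w, 0, 1), (N z w, 1, 0)] := by
  obtain ⟨v, v', h1, -⟩ := exists_chk hz hw
  have h2 : 2 ≤ dgE6 ((cl z).headD 0) ((cl w).getLastD 0) := by
    unfold kd at hk
    split_ifs at hk <;> omega
  obtain ⟨-, h4, -⟩ := sum_facts hz hw (head_mem hz) (last_mem hw) h2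
  unfold chk at h1
  rw [hk] at h1
  simp only [Bool.and_eq_true, decide_eq_true_eq] at h1
  refine ⟨dk (dgE6 ((cl z).headD 0) ((cl w).getLastD 0)), ?_, h1.1.2, ?_⟩
  · rw [← h4]
    exact cl_V h1.1.1 List.mem_cons_self
  · unfold N
    rw [if_pos hk]
    exact h1.2

theorem facts_short (hz : IsRoot cs isCartan z) (hw : IsRoot cs isCartan w) (hk : kd (cl z) (cl w) = 4) :
    ∃ u₀ u₁, cl (z + w) = [u₀, u₁] ∧ okP 72 dgE6 [u₀, u₁] (cl z) (cl w) = true ∧
      tm dgE6 dl (cl z) (cl w) u₀ = [(N z w, 1, 1)] := by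
  obtain ⟨v, v', h1, -⟩ := exists_chk hz hw
  have h2 : 2 ≤ dgE6 ((cl z).headD 0) ((cl w).headD 0) := by
    unfold kd at hk
    split_ifs at hk <;> omega
  obtain ⟨-, h4, -⟩ := sum_facts hz hw (head_mem hz) (head_mem hw) h2
  unfold chk at h1
  rw [hk] at h1
  simp only [Bool.and_eq_true, decide_eq_true_eq] at h1
  refine ⟨_, _, ?_, h1.1.2, ?_⟩
  · rw [← h4]
    exact cl_V h1.1.1 (List.mem_cons_of_mem _ List.mem_cons_self)
  · unfold N
    rw [if_neg (by rw [hk]; decide), if_pos hk]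
    exact h1.2

theorem facts_quad (hz : IsRoot cs isCartan z) (hw : IsRoot cs isCartan w) (hk : kd (cl z) (cl w) = 5) :
    ∃ r s₀ s₁ u₀ u₁ v, cl z = [r] ∧ cl w = [s₀, s₁] ∧ cl (z + w) = [u₀, u₁] ∧ cl (z + (2 : ℤ) • w) = [v] ∧
      IsRoot cs isCartan (z + w) ∧ IsRoot cs isCartan (z + (2 : ℤ) • w) ∧
      okQ 72 dgE6 dl r s₀ s₁ u₀ u₁ v = true ∧ N z w = NN dgE6 dl r s₀ ∧
      N2 z w = NN dgE6 dl r s₀ * NN dgE6 dl s₀ u₁ := by
  obtain ⟨v, v', h1, -⟩ := exists_chk hz hw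
  have h2 : 2 ≤ dgE6 ((cl z).headD 0) ((cl w).headD 0) ∧ (cl z).length = 1 ∧ (cl w).length ≠ 1 := by
    unfold kd at hk
    split_ifs at hk <;> omega
  have h3 : (cl w).length = 2 := by
    rcases length_cases hw with ⟨h, -⟩ | ⟨h, -⟩
    · exact absurd h h2.2.2
    · exact h
  obtain ⟨r, er⟩ := List.length_eq_one_iff.1 h2.2.1
  obtain ⟨s₀, s₁, es⟩ := List.length_eq_two.1 h3
  obtain ⟨-, h4, h4'⟩ := sum_facts hz hw (head_mem hz) (head_mem hw) h2.1
  unfold chk at h1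
  rw [hk] at h1
  simp only [Bool.and_eq_true, decide_eq_true_eq] at h1
  obtain ⟨⟨h5, h6⟩, h7⟩ := h1
  have e1 : (cl z).headD 0 = r := by rw [er]; rfl
  have e2 : (cl w).headD 0 = s₀ := by rw [es]; rfl
  have e3 : (cl w).getLastD 0 = s₁ := by rw [es]; rfl
  have hN : N z w = NN dgE6 dl r s₀ := by
    unfold N
    rw [if_neg (by rw [hk]; decide), if_neg (by rw [hk]; decide), e1, e2]
  have hN2 : N2 z w = NN dgE6 dl r s₀ * NN dgE6 dl s₀ (dk (dgE6 r s₁)) := by
    unfold N2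
    rw [e1, e2, e3]
  rw [e1, e2] at h4
  rw [e1, e2, e3] at h5 h6 h7
  have h8 : cl (z + w) = [dk (dgE6 r s₀), dk (dgE6 r s₁)] := by
    rw [← h4]
    exact cl_V h5 List.mem_cons_self
  -- the third root
  have hu : dk (dgE6 r s₁) ∈ cl (z + w) := by
    rw [h8]; exact List.mem_cons_of_mem _ List.mem_cons_self
  have hs₀ : s₀ ∈ cl w := by rw [es]; exact List.mem_cons_self
  have h9 : 2 ≤ dgE6 s₀ (dk (dgE6 r s₁)) := by
    unfold okQ sumB at h7
    simp only [Bool.and_eq_true, decide_eq_true_eq] at h7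
    exact h7.1.1.2.1.1.2
  obtain ⟨-, h10, h11⟩ := sum_facts hw h4' hs₀ hu h9
  have e : w + (z + w) = z + (2 : ℤ) • w := by
    rw [two_smul]; abel
  rw [e] at h10 h11
  refine ⟨r, s₀, s₁, _, _, _, er, es, h8, ?_, h4', h11, h7, hN, hN2⟩
  rw [← h10]
  exact cl_V h6 List.mem_cons_self

end Roots

/-! ### The group -/

section Group

variable {K : Type u} [Field K] {q : ℕ} {φ : K →+* K}

theorem twC [Fintype K] (hφ : ∀ x, φ x = x ^ q) (hqq : ∀ t : K, (t ^ q) ^ q = t) :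
    TwC hp K CoxeterMatrix.F₄ A J TwistedE6U.L (sg φ) TwistedE6Sigma.rho TwistedE6Sigma.rho
      (fun r t => ((TwistedE6Sigma.eps r : ℤ) : K) * φ t) (twistedE6 K q) φ TwistedE6Sigma.eps dl O dgE6 where
  FD := foldData
  FG := foldGrp hφ hqq
  CD := clData
  sig r hr t := by
    rw [nroots_eq] at hr
    apply Units.ext
    exact TwistedE6Sigma.sig_xE6 φ hr rfl

/-- **The root elements of `²E₆(q)`.** -/
noncomputable def x (φ : K →+* K) (q : ℕ) (z : Fin 4 → ℤ) (a : K) : ↥(twistedE6 K q) :=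
  RGDTwCoord.x hp J φ dl O (twistedE6 K q) z a

variable {W : Type*} [Group W] {cs : CoxeterSystem CoxeterMatrix.F₄ W} {z w : Fin 4 → ℤ}

theorem phi_phi (hφ : ∀ x, φ x = x ^ q) (hqq : ∀ t : K, (t ^ q) ^ q = t) (a : K) : φ (φ a) = a := by
  rw [hφ, hφ, hqq]

/-- coordinates of long roots -/
theorem ok_long (hz : IsRoot cs isCartan z) (lz : Lg z) {a : K} (ha : φ a = a) : Ok chevE6 J O φ z a := by
  unfold Ok
  have h : (RGDTwCoord.cl chevE6 J O z).length = 1 := lz.length hz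
  rw [h]
  exact ha

theorem ok_short (hφ : ∀ x, φ x = x ^ q) (hqq : ∀ t : K, (t ^ q) ^ q = t) (hz : IsRoot cs isCartan z) (sz : St z)
    (a : K) : Ok chevE6 J O φ z a := by
  unfold Ok
  have h : (RGDTwCoord.cl chevE6 J O z).length = 2 := sz.length hz
  rw [h]
  exact phi_phi hφ hqq a

theorem ok_iff_long (hz : IsRoot cs isCartan z) (lz : Lg z) {a : K} : Ok chevE6 J O φ z a ↔ φ a = a := by
  unfold Ok
  have h : (RGDTwCoord.cl chevE6 J O z).length = 1 := lz.length hz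
  rw [h]
  exact Iff.rfl

variable [Fintype K] (hφ : ∀ x, φ x = x ^ q) (hqq : ∀ t : K, (t ^ q) ^ q = t)

include hφ hqq

theorem commutator_eq (hz : IsRoot cs isCartan z) (hw : IsRoot cs isCartan w) {a b : K} (ha : Ok chevE6 J O φ z a)
    (hb : Ok chevE6 J O φ w b) :
    ((⁅x φ q z a, x φ q w b⁆ : ↥(twistedE6 K q)) : GL chevE6.Idx K) = ⁅Y hp J φ dl O z a, Y hp J φ dl O w b⁆ := by
  obtain ⟨p, hp'⟩ := CharP.exists K
  have : Fact p.Prime := ⟨CharP.char_is_prime K p⟩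
  have h1 := (twC hφ hqq).coe_x cs isCartan p hz ha
  have h2 := (twC hφ hqq).coe_x cs isCartan p hw hb
  rw [← h1, ← h2]
  rfl

theorem coe_x (hz : IsRoot cs isCartan z) {a : K} (ha : Ok chevE6 J O φ z a) :
    ((x φ q z a : ↥(twistedE6 K q)) : GL chevE6.Idx K) = Y hp J φ dl O z a := by
  obtain ⟨p, hp'⟩ := CharP.exists K
  have : Fact p.Prime := ⟨CharP.char_is_prime K p⟩
  exact (twC hφ hqq).coe_x cs isCartan p hz ha

/-- **Commuting root elements.** -/
theorem comm_nil (hz : IsRoot cs isCartan z) (hw : IsRoot cs isCartan w) (hzw : ¬ IsRoot cs isCartan (z + w))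
    (hne : w ≠ -z) (a b : K) : Commute (x φ q z a) (x φ q w b) := by
  obtain ⟨v, v', h1, -⟩ := exists_chk hz hw
  unfold chk at h1
  rw [kd_eq_one hz hw hzw hne] at h1
  simp only [Bool.and_eq_true, decide_eq_true_eq] at h1
  have h2 := (twC hφ hqq).commute_Y (z := z) (z' := w) (by rw [nroots_eq]; exact h1.1.1) a b
  unfold x RGDTwCoord.x
  split_ifs with h3 h4
  · exact Subtype.ext h2.eq
  · exact Commute.one_right _
  · exact Commute.one_left _
  · exact Commute.one_left _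

/-- **Long roots.** -/
theorem comm_long (hz : IsRoot cs isCartan z) (hw : IsRoot cs isCartan w) (hzw : IsRoot cs isCartan (z + w))
    (lz : Lg z) (lw : Lg w) {a b : K} (ha : φ a = a) (hb : φ b = b) :
    Lg (z + w) ∧ ⁅x φ q z a, x φ q w b⁆ = x φ q (z + w) (((N z w : ℤ) : K) * (a * b)) := by
  obtain ⟨k, h1, h2, h3⟩ := facts_long hz hw (kd_long hz hw hzw lz lw)
  have lzw : Lg (z + w) := by
    rcases length_cases hzw with ⟨-, h⟩ | ⟨h, -⟩
    · exact h
    · rw [h1] at h; simp at h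
  refine ⟨lzw, Subtype.ext ?_⟩
  have ok : Ok chevE6 J O φ (z + w) (((N z w : ℤ) : K) * (a * b)) :=
    ok_long hzw lzw (by rw [map_mul, map_mul, map_intCast, ha, hb])
  rw [commutator_eq hφ hqq hz hw (ok_long hz lz ha) (ok_long hw lw hb), coe_x hφ hqq hzw ok]
  have h4 := (twC hφ hqq).comm_Y hz hw hzw (by rw [nroots_eq, h1]; exact h2) (ok_long hz lz ha) (ok_long hw lw hb)
  rw [h4, h1]
  show Y hp J φ dl O (z + w) ((List.map _ (tm dgE6 dl (cl z) (cl w) k)).sum) = _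
  rw [h3]
  simp

/-- **Short roots whose sum is long.** -/
theorem comm_trace (hz : IsRoot cs isCartan z) (hw : IsRoot cs isCartan w) (hzw : IsRoot cs isCartan (z + w))
    (sz : St z) (sw : St w) (lzw : Lg (z + w)) (a b : K) :
    ⁅x φ q z a, x φ q w b⁆ = x φ q (z + w) (((N z w : ℤ) : K) * (a * φ b + φ a * b)) := by
  have hlen := lzw.length hzw
  have hk : kd (cl z) (cl w) = 3 := by
    rcases kd_ss hz hw hzw sz sw with h | h
    · exact h
    · obtain ⟨u₀, u₁, h1, -⟩ := facts_short hz hw h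
      rw [h1] at hlen; simp at hlen
  obtain ⟨k, h1, h2, h3⟩ := facts_trace hz hw hk
  apply Subtype.ext
  have ok : Ok chevE6 J O φ (z + w) (((N z w : ℤ) : K) * (a * φ b + φ a * b)) :=
    ok_long hzw lzw (by
      rw [map_mul, map_add, map_mul, map_mul, map_intCast, phi_phi hφ hqq, phi_phi hφ hqq, add_comm])
  rw [commutator_eq hφ hqq hz hw (ok_short hφ hqq hz sz a) (ok_short hφ hqq hw sw b), coe_x hφ hqq hzw ok]
  have h4 := (twC hφ hqq).comm_Y hz hw hzw (by rw [nroots_eq, h1]; exact h2) (ok_short hφ hqq hz sz a)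
    (ok_short hφ hqq hw sw b)
  rw [h4, h1]
  show Y hp J φ dl O (z + w) ((List.map _ (tm dgE6 dl (cl z) (cl w) k)).sum) = _
  rw [h3]
  simp [mul_add]

/-- **Short roots whose sum is short.** -/
theorem comm_short (hz : IsRoot cs isCartan z) (hw : IsRoot cs isCartan w) (hzw : IsRoot cs isCartan (z + w))
    (sz : St z) (sw : St w) (szw : St (z + w)) (a b : K) :
    ⁅x φ q z a, x φ q w b⁆ = x φ q (z + w) (((N z w : ℤ) : K) * φ (a * b)) := by
  have hlen := szw.length hzw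
  have hk : kd (cl z) (cl w) = 4 := by
    rcases kd_ss hz hw hzw sz sw with h | h
    · obtain ⟨k, h1, -⟩ := facts_trace hz hw h
      rw [h1] at hlen; simp at hlen
    · exact h
  obtain ⟨u₀, u₁, h1, h2, h3⟩ := facts_short hz hw hk
  apply Subtype.ext
  rw [commutator_eq hφ hqq hz hw (ok_short hφ hqq hz sz a) (ok_short hφ hqq hw sw b),
    coe_x hφ hqq hzw (ok_short hφ hqq hzw szw _)]
  have h4 := (twC hφ hqq).comm_Y hz hw hzw (by rw [nroots_eq, h1]; exact h2) (ok_short hφ hqq hz sz a)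
    (ok_short hφ hqq hw sw b)
  rw [h4, h1]
  show Y hp J φ dl O (z + w) ((List.map _ (tm dgE6 dl (cl z) (cl w) u₀)).sum) = _
  rw [h3]
  simp

/-- **A long and a short root.** -/
theorem comm_quad (hz : IsRoot cs isCartan z) (hw : IsRoot cs isCartan w) (hzw : IsRoot cs isCartan (z + w))
    (lz : Lg z) (sw : St w) {a : K} (ha : φ a = a) (b : K) :
    St (z + w) ∧ IsRoot cs isCartan (z + (2 : ℤ) • w) ∧ Lg (z + (2 : ℤ) • w) ∧
      ⁅x φ q z a, x φ q w b⁆ = x φ q (z + w) (((N z w : ℤ) : K) * (a * b)) *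
        x φ q (z + (2 : ℤ) • w) (((N2 z w : ℤ) : K) * (a * (b * φ b))) := by
  obtain ⟨r, s₀, s₁, u₀, u₁, v, e1, e2, e3, e4, -, hv, h5, h6, h7⟩ := facts_quad hz hw (kd_quad hz hw hzw lz sw)
  have szw : St (z + w) := by
    rcases length_cases hzw with ⟨h, -⟩ | ⟨-, h⟩
    · rw [e3] at h; simp at h
    · exact h
  have lv : Lg (z + (2 : ℤ) • w) := by
    rcases length_cases hv with ⟨-, h⟩ | ⟨h, -⟩
    · exact h
    · rw [e4] at h; simp at h
  refine ⟨szw, hv, lv, Subtype.ext ?_⟩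
  have ok : Ok chevE6 J O φ (z + (2 : ℤ) • w) (((N2 z w : ℤ) : K) * (a * (b * φ b))) :=
    ok_long hv lv (by
      rw [map_mul, map_mul, map_mul, map_intCast, phi_phi hφ hqq, ha, mul_comm (φ b) b])
  rw [commutator_eq hφ hqq hz hw (ok_long hz lz ha) (ok_short hφ hqq hw sw b), Subgroup.coe_mul,
    coe_x hφ hqq hzw (ok_short hφ hqq hzw szw _), coe_x hφ hqq hv ok, h6, h7]
  exact (twC hφ hqq).comm_quad e1 e2 e3 e4 (by rw [nroots_eq]; exact h5) ha b

end Group

end Cfsg.Agent.Nodes.RGDTwComE6
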