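import Cfsg.Agent.Nodes.RGDFoldSL
import Cfsg.Agent.ChevalleyStructure.BNChev

/-!
Coordinates of all root groups of the twisted groups obtained by folding (`RGDFold`).

For a relative root `z` with class of roots `cl z = [s₀, s₁, …]` (a `ρ`-orbit) put
`Y z a = x_{s₀}(δ a) x_{s₁}(δ φ a) ⋯` in the general linear group. The root group of `z` is
`{Y z a | φ^k a = a}`, `k` the length of the class.
-/

set_option autoImplicit false
set_option linter.unusedSectionVars false
set_option maxHeartbeats 400000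

namespace Cfsg.Agent.Nodes.RGDTwCoord

open CoxeterSystem Cfsg.Agent.ChevalleyStructure.CoxeterGeom Cfsg.Agent.Tits.Roots Cfsg.Agent.Tits.Core
  Cfsg.Agent.Nodes.BNOf Cfsg.Agent.Nodes.RGDTwGen Cfsg.Agent.Nodes.RGDChev Cfsg.Agent.Nodes.RGDFold
  Cfsg.Agent.Nodes.RGDFoldSL
open Cfsg.Lie Cfsg.Agent.ChevalleyStructure Cfsg.Agent.ChevalleyStructure.Elts
  Cfsg.Agent.ChevalleyStructure.RootVec Cfsg.Agent.ChevalleyStructure.RootVecTab
  Cfsg.Agent.ChevalleyStructure.TwistedU Cfsg.Agent.ChevalleyStructure.TwistedFix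
  Cfsg.Agent.ChevalleyStructure.TwistedFixOrbit
open scoped commutatorElement

universe u

/-! ### Products over commuting roots -/

section Gen

variable {Γ K : Type*} [Group Γ] [Field K] {x : ℕ → K → Γ}

theorem lprod_add (hadd : ∀ r t u, x r (t + u) = x r t * x r u) {o : List ℕ}
    (hc : o.Pairwise fun r s => ∀ t u, Commute (x r t) (x s u)) (c d : ℕ → K) :
    lprod x o (fun s => c s + d s) = lprod x o c * lprod x o d := by
  induction o with
  | nil => exact (mul_one 1).symm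
  | cons r o ih =>
    rw [List.pairwise_cons] at hc
    rw [lprod_cons, lprod_cons, lprod_cons, ih hc.2, hadd]
    have h1 : Commute (x r (d r)) (lprod x o c) := by
      have h2 : ∀ g ∈ o.map (fun s => x s (c s)), Commute (x r (d r)) g := by
        intro g hg
        obtain ⟨s, hs, rfl⟩ := List.mem_map.1 hg
        exact hc.1 s hs _ _
      exact Commute.list_prod_right _ _ h2
    simp only [mul_assoc]
    rw [← mul_assoc (x r (d r)) (lprod x o c), h1.eq]
    simp only [mul_assoc]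

theorem lprod_zero (hadd : ∀ r t u, x r (t + u) = x r t * x r u) (o : List ℕ) :
    lprod x o (fun _ => (0 : K)) = 1 := by
  induction o with
  | nil => rfl
  | cons r o ih => rw [lprod_cons, ih, x_zero hadd, one_mul]

theorem lprod_single (hadd : ∀ r t u, x r (t + u) = x r t * x r u) {o : List ℕ} (hnd : o.Nodup) {k : ℕ}
    (hk : k ∈ o) (c : K) : lprod x o (fun s => if k = s then c else 0) = x k c := by
  induction o with
  | nil => exact absurd hk List.not_mem_nil
  | cons r o ih =>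
    rw [List.nodup_cons] at hnd
    rw [lprod_cons]
    by_cases h : k = r
    · subst h
      rw [if_pos rfl]
      have h1 : lprod x o (fun s => if k = s then c else 0) = lprod x o fun _ => (0 : K) :=
        lprod_congr x fun s hs => by
          rw [if_neg]
          rintro rfl
          exact hnd.1 hs
      rw [h1, lprod_zero hadd, mul_one]
    · rw [if_neg h, x_zero hadd, one_mul]
      exact ih hnd.2 ((List.mem_cons.1 hk).resolve_left h)

theorem yv_eq_lprod {φ : K →+* K} {o : List ℕ} (hnd : o.Nodup) (a : K) :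
    yv x φ o a = lprod x o fun s => φ^[o.idxOf s] a := by
  induction o generalizing a with
  | nil => rfl
  | cons r o ih =>
    rw [List.nodup_cons] at hnd
    show x r a * yv x φ o (φ a) = _
    rw [lprod_cons, ih hnd.2, List.idxOf_cons_self]
    congr 1
    refine lprod_congr x fun s hs => ?_
    have hne : r ≠ s := by
      rintro rfl
      exact hnd.1 hs
    rw [List.idxOf_cons_ne _ hne, Function.iterate_succ_apply]

/-- Uniqueness of coordinates. -/
def Inj (x : ℕ → K → Γ) (o : List ℕ) : Prop :=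
  ∀ c c' : ℕ → K, lprod x o c = lprod x o c' → ∀ s ∈ o, c s = c' s

/-- The class `o` of commuting roots, permuted cyclically by `ρ`. -/
structure Cls (x : ℕ → K → Γ) (σ : Γ →* Γ) (ρ : ℕ → ℕ) (φ : K →+* K) (o : List ℕ) : Prop where
  nodup : o.Nodup
  comm : o.Pairwise fun r s => ∀ t u, Commute (x r t) (x s u)
  sig : ∀ r ∈ o, ∀ t, σ (x r t) = x (ρ r) (φ t)
  rot : o.map ρ = o.rotate 1

variable {σ : Γ →* Γ} {ρ : ℕ → ℕ} {φ : K →+* K} {o : List ℕ}

theorem rot_cons {r : ℕ} {o : List ℕ} (h : (r :: o).map ρ = (r :: o).rotate 1) : (r :: o).map ρ = o ++ [r] := by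
  rw [h, List.rotate_cons_succ, List.rotate_zero]

/-- A `σ`-fixed product over the class is determined by the coordinate of the head. -/
theorem Cls.eq_yv (C : Cls x σ ρ φ o) (hI : Inj x o) {c : ℕ → K} {r : ℕ} {o' : List ℕ} (ho : o = r :: o')
    (hc : σ (lprod x o c) = lprod x o c) :
    lprod x o c = yv x φ o (c r) ∧ φ^[o.length] (c r) = c r := by
  -- the image of the product under `σ`
  have hperm : (o.map ρ).Perm o := by rw [C.rot]; exact List.rotate_perm o 1
  have hinj : ∀ a ∈ o, ∀ b ∈ o, ρ a = ρ b → a = b := by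
    have h1 : (o.map ρ).Nodup := hperm.nodup_iff.2 C.nodup
    exact fun a ha b hb h => List.inj_on_of_nodup_map h1 ha hb h
  -- inverse of `ρ`
  obtain ⟨ρ', hρ'⟩ : ∃ ρ' : ℕ → ℕ, ∀ s ∈ o, ρ' (ρ s) = s := by
    classical
    refine ⟨fun t => if h : ∃ s ∈ o, ρ s = t then h.choose else t, fun s hs => ?_⟩
    have h : ∃ s' ∈ o, ρ s' = ρ s := ⟨s, hs, rfl⟩
    show (if h : ∃ s' ∈ o, ρ s' = ρ s then h.choose else ρ s) = s
    rw [dif_pos h]
    exact hinj _ h.choose_spec.1 _ hs h.choose_spec.2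
  have h1 : σ (lprod x o c) = lprod x o fun s => φ (c (ρ' s)) := by
    refine map_lprod_orbit (f := fun _ t => φ t) C.sig hperm C.comm fun s hs => ?_
    show φ (c (ρ' (ρ s))) = φ (c s)
    rw [hρ' s hs]
  have h2 : ∀ s ∈ o, c (ρ s) = φ (c s) := by
    intro s hs
    have h3 := hI _ _ (h1.symm.trans hc) (ρ s) (hperm.subset (List.mem_map_of_mem hs))
    rw [← h3, hρ' s hs]
  subst ho
  obtain ⟨h4, h5⟩ := lprod_eq_yv (x := x) (φ := φ) (c := c) (rot_cons C.rot) h2
  exact ⟨h4, by rw [List.length_cons]; exact h5.symm⟩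

theorem Cls.exists_lprod (C : Cls x σ ρ φ o) (hadd : ∀ r t u, x r (t + u) = x r t * x r u) {g : Γ}
    (hg : g ∈ rspan x {k | k ∈ o}) : ∃ c, g = lprod x o c :=
  TwistedU.exists_lprod hadd C.nodup (good_of_commute C.comm) hg

theorem Cls.yv_fix (C : Cls x σ ρ φ o) {a : K} (ha : φ^[o.length] a = a) : σ (yv x φ o a) = yv x φ o a := by
  cases o with
  | nil => exact map_one σ
  | cons r o => exact RGDFoldSL.yv_fix C.sig (rot_cons C.rot) C.comm ha

theorem Cls.yv_inj (C : Cls x σ ρ φ o) (hI : Inj x o) (ho : o ≠ []) {a b : K} (h : yv x φ o a = yv x φ o b) :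
    a = b := by
  cases o with
  | nil => exact absurd rfl ho
  | cons r o =>
    rw [yv_eq_lprod C.nodup, yv_eq_lprod C.nodup] at h
    have h1 := hI _ _ h r List.mem_cons_self
    rwa [List.idxOf_cons_self] at h1

theorem map_lprod_to {τ : Γ →* Γ} {w : ℕ → ℕ} {f : ℕ → K → K} {o o' : List ℕ}
    (hσ : ∀ r ∈ o, ∀ t, τ (x r t) = x (w r) (f r t)) (hp : (o.map w).Perm o')
    (hc : o'.Pairwise fun r s => ∀ t u, Commute (x r t) (x s u)) {t t' : ℕ → K}
    (ht : ∀ r ∈ o, t' (w r) = f r (t r)) : τ (lprod x o t) = lprod x o' t' := by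
  rw [lprod_perm hp.symm hc t']
  unfold lprod
  rw [map_list_prod, List.map_map, List.map_map]
  congr 1
  refine List.map_congr_left fun r hr => ?_
  show τ (x r (t r)) = x (w r) (t' (w r))
  rw [hσ r hr, ht r hr]

/-! ### Commutators -/

/-- `x_k` for `k` in the list `T` commutes with the `x_r`, `r ∈ o`. -/
def Cen (x : ℕ → K → Γ) (T o : List ℕ) : Prop := ∀ k ∈ T, ∀ r ∈ o, ∀ t u, Commute (x k t) (x r u)

theorem Cen.lprod {T o : List ℕ} (h : Cen x T o) (e : ℕ → K) {r : ℕ} (hr : r ∈ o) (u : K) :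
    Commute (x r u) (lprod x T e) := by
  have h2 : ∀ g ∈ T.map (fun s => x s (e s)), Commute (x r u) g := by
    intro g hg
    obtain ⟨s, hs, rfl⟩ := List.mem_map.1 hg
    exact (h s hs r hr _ _).symm
  exact Commute.list_prod_right _ _ h2

/-- The commutator of two products, when the commutators of the root elements are products over `T` commuting with
everything. -/
theorem comm_lprod (hadd : ∀ r t u, x r (t + u) = x r t * x r u) {T : List ℕ}
    (hT : T.Pairwise fun r s => ∀ t u, Commute (x r t) (x s u)) {o o' : List ℕ} (ho : Cen x T o) (ho' : Cen x T o')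
    {E : ℕ → ℕ → ℕ → K → K → K}
    (hE : ∀ r ∈ o, ∀ s ∈ o', ∀ t u, ⁅x r t, x s u⁆ = lprod x T fun k => E r s k t u) (c d : ℕ → K) :
    ⁅lprod x o c, lprod x o' d⁆ =
      lprod x T fun k => (o.map fun r => (o'.map fun s => E r s k (c r) (d s)).sum).sum := by
  have h1 : ∀ r ∈ o, ∀ t, ∀ o'' : List ℕ, (∀ s ∈ o'', s ∈ o') → ⁅x r t, lprod x o'' d⁆ =
      lprod x T fun k => (o''.map fun s => E r s k t (d s)).sum := by
    intro r hr t o''
    induction o'' with
    | nil =>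
      intro _
      rw [lprod_nil, commutatorElement_one_right]
      exact (lprod_zero hadd T).symm
    | cons s o'' ih =>
      intro hs
      have h2 := ih fun s' hs' => hs s' (List.mem_cons_of_mem _ hs')
      have h3 : ⁅x r t, x s (d s) * lprod x o'' d⁆ =
          ⁅x r t, x s (d s)⁆ * (x s (d s) * ⁅x r t, lprod x o'' d⁆ * (x s (d s))⁻¹) := by
        rw [commutatorElement_def, commutatorElement_def, commutatorElement_def]; group
      rw [lprod_cons, h3, h2, (ho'.lprod _ (hs s List.mem_cons_self) _).eq, mul_inv_cancel_right,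
        hE r hr s (hs s List.mem_cons_self), ← lprod_add hadd hT]
      rfl
  have h4 : ∀ o₁ : List ℕ, (∀ s ∈ o₁, s ∈ o) → ⁅lprod x o₁ c, lprod x o' d⁆ =
      lprod x T fun k => (o₁.map fun r => (o'.map fun s => E r s k (c r) (d s)).sum).sum := by
    intro o₁
    induction o₁ with
    | nil =>
      intro _
      rw [lprod_nil, commutatorElement_one_left]
      exact (lprod_zero hadd T).symm
    | cons r o₁ ih =>
      intro hs
      have h2 := ih fun s' hs' => hs s' (List.mem_cons_of_mem _ hs')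
      have h3 : ⁅x r (c r) * lprod x o₁ c, lprod x o' d⁆ =
          (x r (c r) * ⁅lprod x o₁ c, lprod x o' d⁆ * (x r (c r))⁻¹) * ⁅x r (c r), lprod x o' d⁆ := by
        rw [commutatorElement_def, commutatorElement_def, commutatorElement_def]; group
      rw [lprod_cons, h3, h2, (ho.lprod _ (hs r List.mem_cons_self) _).eq, mul_inv_cancel_right,
        h1 r (hs r List.mem_cons_self) _ o' (fun _ h => h), ← lprod_add hadd hT]
      refine lprod_congr x fun k _ => ?_
      rw [List.map_cons, List.sum_cons, add_comm]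
  exact h4 o fun _ h => h

end Gen

/-! ### The tables -/

section Tab

variable {D : ChevalleyDatum} {l m : ℕ}

/-- The class of the relative root `z`. -/
def cl (D : ChevalleyDatum) (J : Fin m → List (Fin l)) (O : List (List ℕ)) (z : Fin m → ℤ) : List ℕ :=
  (O.find? fun o => decide (V D J (o.headD 0) = z)).getD []

/-- the root with code `n ≥ 2` -/
def dk (n : ℕ) : ℕ := (n - 2) / 2

/-- the sign with code `n ≥ 2` -/
def dc (n : ℕ) : ℤ := if n % 2 = 0 then 1 else -1

/-- The code `dg r s` describes the commutator of the roots `r`, `s`: `0` commuting, `1` opposite, `2 k + 2`, `2 k + 3`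
sum `k` with sign `1`, `-1`. -/
def dgB (D : ChevalleyDatum) (dg : ℕ → ℕ → ℕ) (r s : ℕ) : Bool :=
  match dg r s with
  | 0 => decide (r = s) || (decide (s ≠ D.neg r) && decide (D.commTerms r s = []))
  | 1 => decide (s = D.neg r)
  | n + 2 => decide (s ≠ r) && decide (s ≠ D.neg r) && decide (D.commTerms r s = [(dk (n + 2), dc (n + 2), 1, 1)])

/-- The table `dg` is correct. -/
def DgOK (D : ChevalleyDatum) (dg : ℕ → ℕ → ℕ) : Prop := ∀ r < D.nroots, ∀ s < D.nroots, dgB D dg r s = true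

theorem DgOK.zero {D : ChevalleyDatum} {dg : ℕ → ℕ → ℕ} (H : DgOK D dg) {r s : ℕ} (hr : r < D.nroots)
    (hs : s < D.nroots) (h : dg r s = 0) : r = s ∨ (s ≠ D.neg r ∧ D.commTerms r s = []) := by
  have h1 := H r hr s hs
  unfold dgB at h1
  rw [h] at h1
  simpa only [Bool.or_eq_true, Bool.and_eq_true, decide_eq_true_eq] using h1

theorem DgOK.one {D : ChevalleyDatum} {dg : ℕ → ℕ → ℕ} (H : DgOK D dg) {r s : ℕ} (hr : r < D.nroots)
    (hs : s < D.nroots) (h : dg r s = 1) : s = D.neg r := by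
  have h1 := H r hr s hs
  unfold dgB at h1
  rw [h] at h1
  simpa only [decide_eq_true_eq] using h1

theorem DgOK.two {D : ChevalleyDatum} {dg : ℕ → ℕ → ℕ} (H : DgOK D dg) {r s : ℕ} (hr : r < D.nroots)
    (hs : s < D.nroots) (h : 2 ≤ dg r s) :
    s ≠ r ∧ s ≠ D.neg r ∧ D.commTerms r s = [(dk (dg r s), dc (dg r s), 1, 1)] := by
  have h1 := H r hr s hs
  unfold dgB at h1
  obtain ⟨n, hn⟩ : ∃ n, dg r s = n + 2 := ⟨dg r s - 2, by omega⟩
  rw [hn] at h1 ⊢
  simp only [Bool.and_eq_true, decide_eq_true_eq] at h1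
  exact ⟨h1.1.1, h1.1.2, h1.2⟩

/-- The root elements commute by the tables. -/
def comB (n : ℕ) (dg : ℕ → ℕ → ℕ) (r s : ℕ) : Bool :=
  decide (r < n) && decide (s < n) && decide (dg r s = 0)

/-- The table checks for the classes. -/
structure ClData (D : ChevalleyDatum) (J : Fin m → List (Fin l)) (A : Fin m → Fin m → ℤ) (L : List (List ℕ))
    (ρ : ℕ → ℕ) (ε δ : ℕ → ℤ) (O : List (List ℕ)) (dg : ℕ → ℕ → ℕ) : Prop where
  dgOK : DgOK D dg
  cover : ∀ r < D.nroots, r ∈ O.flatten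
  lt : ∀ o ∈ O, ∀ r ∈ o, r < D.nroots
  ne : ∀ o ∈ O, o ≠ []
  cls : ∀ o ∈ O, ∀ s < D.nroots, (V D J s = V D J (o.headD 0) ↔ s ∈ o)
  cl_eq : ∀ o ∈ O, cl D J O (V D J (o.headD 0)) = o
  nodup : ∀ o ∈ O, o.Nodup
  rot : ∀ o ∈ O, o.map ρ = o.rotate 1
  comm : ∀ o ∈ O, o.Pairwise fun r s => comB D.nroots dg r s = true
  dsq : ∀ r < D.nroots, δ r * δ r = 1
  deps : ∀ r < D.nroots, ε r * δ r = δ (ρ r)
  perm : ∀ o ∈ O, ∀ i, (o.map (wp D (J i))).Perm (cl D J O (RGDFold.refl A i (V D J (o.headD 0))))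
  baseL : ∀ i, cl D J O (sr i) ∈ L
  baseF : ∀ i, (L.flatten.filter fun r => decide (r ∈ cl D J O (sr i))) = cl D J O (sr i)

variable {M : CoxeterMatrix (Fin m)} {A : Fin m → Fin m → ℤ} {J : Fin m → List (Fin l)} {L : List (List ℕ)}
  {W : Type*} [Group W] {cs : CoxeterSystem M W} {h : IsCartan M A} {ρ : ℕ → ℕ} {ε δ : ℕ → ℤ} {O : List (List ℕ)}
  {dg : ℕ → ℕ → ℕ}

theorem ClData.exists_cl (C : ClData D J A L ρ ε δ O dg) {r : ℕ} (hr : r < D.nroots) :
    ∃ o ∈ O, r ∈ o ∧ V D J (o.headD 0) = V D J r ∧ cl D J O (V D J r) = o := by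
  obtain ⟨o, ho, hro⟩ := List.mem_flatten.1 (C.cover r hr)
  have h1 := (C.cls o ho r hr).2 hro
  exact ⟨o, ho, hro, h1.symm, by rw [h1, C.cl_eq o ho]⟩

theorem ClData.root (C : ClData D J A L ρ ε δ O dg) (F : FoldData D M A J L) (hc : Checked D)
    (hwp : ∀ i : Fin m, ∀ r < D.nroots, wp D (J i) r < D.nroots) {z : Fin m → ℤ} (hz : IsRoot cs h z) :
    cl D J O z ∈ O ∧ V D J ((cl D J O z).headD 0) = z ∧ ∀ s < D.nroots, (V D J s = z ↔ s ∈ cl D J O z) := by
  obtain ⟨r, hr, rfl⟩ := (F.isRoot_iff hc hwp z).1 hz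
  obtain ⟨o, ho, hro, h1, h2⟩ := C.exists_cl hr
  rw [h2]
  refine ⟨ho, h1, fun s hs => ?_⟩
  rw [← h1]
  exact C.cls o ho s hs

end Tab

/-! ### The group -/

section Group

variable {D : ChevalleyDatum} {l : ℕ} {M' : CoxeterMatrix (Fin l)} (hp : IsType D l M') {K : Type u} [Field K]

/-- The root elements with signs. -/
def xs (hp : IsType D l M') (δ : ℕ → ℤ) (r : ℕ) (t : K) : GL D.Idx K := xG hp.inList r (((δ r : ℤ) : K) * t)

theorem xs_add (δ : ℕ → ℤ) (r : ℕ) (t u : K) : xs hp δ r (t + u) = xs hp δ r t * xs hp δ r u := by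
  unfold xs; rw [mul_add, xG_add]

variable {hp}

theorem commute_of_comB {δ : ℕ → ℤ} {dg : ℕ → ℕ → ℕ} (H : DgOK D dg) {r s : ℕ}
    (h : comB D.nroots dg r s = true) (t u : K) : Commute (xs hp δ r t) (xs hp δ s u) := by
  unfold comB at h
  rw [Bool.and_eq_true, Bool.and_eq_true] at h
  simp only [decide_eq_true_eq] at h
  obtain ⟨⟨hr, hs⟩, h⟩ := h
  have h := H.zero hr hs h
  by_cases he : r = s
  · subst he
    unfold xs
    have h1 := xG_add hp.inList r (((δ r : ℤ) : K) * t) (((δ r : ℤ) : K) * u)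
    have h2 := xG_add hp.inList r (((δ r : ℤ) : K) * u) (((δ r : ℤ) : K) * t)
    rw [add_comm] at h1
    exact h1.trans h2.symm
  · obtain ⟨h1, h2⟩ := h.resolve_left he
    exact commute_of_nil hp hr hs (Ne.symm he) h1 h2 _ _

theorem cast_sq {δ : ℕ → ℤ} {r : ℕ} (h : δ r * δ r = 1) : ((δ r : ℤ) : K) * ((δ r : ℤ) : K) = 1 := by
  rw [← Int.cast_mul, h, Int.cast_one]

/-- `±1` -/
def Sg (η : K) : Prop := η = 1 ∨ η = -1

theorem Sg.mul_self {η : K} (h : Sg η) : η * η = 1 := by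
  rcases h with rfl | rfl
  · exact mul_one 1
  · rw [neg_mul_neg, mul_one]

theorem Sg.mul {η η' : K} (h : Sg η) (h' : Sg η') : Sg (η * η') := by
  rcases h with rfl | rfl
  · rwa [one_mul]
  · rcases h' with rfl | rfl
    · right; rw [mul_one]
    · left; rw [neg_mul_neg, mul_one]

theorem Sg.ne_zero {η : K} (h : Sg η) : η ≠ 0 := by
  rintro rfl
  have := h.mul_self
  rw [mul_zero] at this
  exact zero_ne_one this

theorem Sg.fix {η : K} (h : Sg η) (φ : K →+* K) : φ η = η := by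
  rcases h with rfl | rfl
  · exact map_one φ
  · rw [map_neg, map_one]

theorem Sg.eq_one {η : K} (h : Sg η) (h2 : (2 : K) = 0) : η = 1 := by
  rcases h with rfl | rfl
  · rfl
  · exact (neg_eq_of_add_eq_zero_right (by rw [one_add_one_eq_two, h2]))

theorem sg_cast {δ : ℕ → ℤ} {r : ℕ} (h : δ r * δ r = 1) : Sg ((δ r : ℤ) : K) := by
  have h1 : δ r = 1 ∨ δ r = -1 := mul_self_eq_one_iff.1 h
  rcases h1 with h1 | h1
  · left; rw [h1, Int.cast_one]
  · right; rw [h1, Int.cast_neg, Int.cast_one]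

theorem conj_xG (o : List (Fin l)) {s : ℕ} (hs : s < D.nroots) :
    ∃ η : K, Sg η ∧ ∀ t, nI hp K o * xG hp.inList s t * (nI hp K o)⁻¹ = xG hp.inList (wp D o s) (η * t) := by
  induction o with
  | nil =>
    refine ⟨1, Or.inl rfl, fun t => ?_⟩
    show 1 * xG hp.inList s t * 1⁻¹ = xG hp.inList s (1 * t)
    rw [one_mul, inv_one, mul_one, one_mul]
  | cons j o ih =>
    obtain ⟨η, h1, h2⟩ := ih
    obtain ⟨η', h3, h4, -⟩ := NConj.conj_x (F := K) hp.inList (lt_rank hp j) (wp_lt hp o hs)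
    have h3' : Sg η' := h3
    refine ⟨η' * η, h3'.mul h1, fun t => ?_⟩
    have e : nI hp K (j :: o) * xG hp.inList s t * (nI hp K (j :: o))⁻¹ =
        nn hp K j * (nI hp K o * xG hp.inList s t * (nI hp K o)⁻¹) * (nn hp K j)⁻¹ := by
      rw [nI_cons]; group
    have h5 := h4 (η * t)
    rw [← mul_assoc] at h5
    rw [e, h2]
    exact h5

theorem conj_xs {δ : ℕ → ℤ} (hδ : ∀ r < D.nroots, δ r * δ r = 1) (o : List (Fin l)) {s : ℕ} (hs : s < D.nroots) :
    ∃ η : K, Sg η ∧ ∀ t, nI hp K o * xs hp δ s t * (nI hp K o)⁻¹ = xs hp δ (wp D o s) (η * t) := by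
  obtain ⟨η, h1, h2⟩ := conj_xG (K := K) (hp := hp) o hs
  have h3 : Sg ((δ s : ℤ) : K) := sg_cast (hδ s hs)
  have h4 : Sg ((δ (wp D o s) : ℤ) : K) := sg_cast (hδ _ (wp_lt hp o hs))
  refine ⟨((δ (wp D o s) : ℤ) : K) * (((δ s : ℤ) : K) * η), h4.mul (h3.mul h1), fun t => ?_⟩
  unfold xs
  rw [h2]
  congr 1
  have := h4.mul_self
  linear_combination (-(((δ s : ℤ) : K) * η * t)) * this

variable {m : ℕ} {M : CoxeterMatrix (Fin m)} {W : Type*} [Group W] {cs : CoxeterSystem M W}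
  {A : Fin m → Fin m → ℤ} {h : IsCartan M A}
  {J : Fin m → List (Fin l)} {L : List (List ℕ)} {σ : GL D.Idx K →* GL D.Idx K} {ρ ρ' : ℕ → ℕ}
    {f : ℕ → K → K} {G : Subgroup (GL D.Idx K)} {φ : K →+* K} {ε δ : ℕ → ℤ} {O : List (List ℕ)}
    {dg : ℕ → ℕ → ℕ}

/-- The properties of the twisted group used for the coordinates. -/
structure TwC (hp : IsType D l M') (K : Type u) [Field K] (M : CoxeterMatrix (Fin m)) (A : Fin m → Fin m → ℤ)
    (J : Fin m → List (Fin l)) (L : List (List ℕ)) (σ : GL D.Idx K →* GL D.Idx K) (ρ ρ' : ℕ → ℕ)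
    (f : ℕ → K → K) (G : Subgroup (GL D.Idx K)) (φ : K →+* K) (ε δ : ℕ → ℤ) (O : List (List ℕ))
    (dg : ℕ → ℕ → ℕ) : Prop where
  FD : FoldData D M A J L
  FG : FoldGrp hp K J L σ ρ ρ' f G
  CD : ClData D J A L ρ ε δ O dg
  sig : ∀ r < D.nroots, ∀ t, σ (xG hp.inList r t) = xG hp.inList (ρ r) (((ε r : ℤ) : K) * φ t)

/-- The root element of the relative root `z`. -/
def Y (hp : IsType D l M') (J : Fin m → List (Fin l)) (φ : K →+* K) (δ : ℕ → ℤ) (O : List (List ℕ))
    (z : Fin m → ℤ) (a : K) : GL D.Idx K := yv (xs hp δ) φ (cl D J O z) a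

variable (T : TwC hp K M A J L σ ρ ρ' f G φ ε δ O dg)

include T

theorem TwC.root {z : Fin m → ℤ} (hz : IsRoot cs h z) :
    cl D J O z ∈ O ∧ V D J ((cl D J O z).headD 0) = z ∧ ∀ s < D.nroots, (V D J s = z ↔ s ∈ cl D J O z) :=
  T.CD.root T.FD hp.checked (fun i _ hr => wp_lt hp (J i) hr) hz

theorem TwC.sig_xs {r : ℕ} (hr : r < D.nroots) (t : K) : σ (xs hp δ r t) = xs hp δ (ρ r) (φ t) := by
  unfold xs
  rw [T.sig r hr, map_mul, (sg_cast (K := K) (T.CD.dsq r hr)).fix φ, ← T.CD.deps r hr, Int.cast_mul, mul_assoc]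

theorem TwC.cls {o : List ℕ} (ho : o ∈ O) : Cls (xs hp δ) σ ρ φ o where
  nodup := T.CD.nodup o ho
  comm := (T.CD.comm o ho).imp fun h t u => commute_of_comB T.CD.dgOK h t u
  sig r hr t := T.sig_xs (T.CD.lt o ho r hr) t
  rot := T.CD.rot o ho

omit T in
theorem lprod_xs (o : List ℕ) (c : ℕ → K) :
    lprod (xs hp δ) o c = lprod (xG hp.inList) o fun s => ((δ s : ℤ) : K) * c s := by
  induction o with
  | nil => rfl
  | cons r o ih => rw [lprod_cons, lprod_cons, ih]; rfl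

theorem TwC.image_mem (i : Fin m) {o : List ℕ} (ho : o ∈ O) :
    cl D J O (RGDFold.refl A i (V D J (o.headD 0))) ∈ O := by
  have h1 : o.headD 0 ∈ o := by
    cases o with
    | nil => exact absurd rfl (T.CD.ne _ ho)
    | cons r o => exact List.mem_cons_self
  have h2 := T.CD.lt o ho _ h1
  rw [← T.FD.wp_V _ h2]
  obtain ⟨o', ho', -, -, e⟩ := T.CD.exists_cl (wp_lt hp (J i) h2)
  rw [e]
  exact ho'

/-- Conjugation by the fundamental reflections. -/
theorem TwC.conj_lprod (i : Fin m) {o : List ℕ} (ho : o ∈ O) :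
    ∃ η : ℕ → K, (∀ s ∈ o, Sg (η s)) ∧ ∀ c e : ℕ → K, (∀ s ∈ o, e (wp D (J i) s) = η s * c s) →
      nI hp K (J i) * lprod (xs hp δ) o c * (nI hp K (J i))⁻¹ =
        lprod (xs hp δ) (cl D J O (RGDFold.refl A i (V D J (o.headD 0)))) e := by
  have hperm := T.CD.perm o ho i
  have hcomm := (T.cls (T.image_mem i ho)).comm
  have hη : ∀ s, ∃ η : K, s < D.nroots → Sg η ∧ ∀ t, nI hp K (J i) * xs hp δ s t * (nI hp K (J i))⁻¹ =
      xs hp δ (wp D (J i) s) (η * t) := by
    intro s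
    by_cases hs : s < D.nroots
    · obtain ⟨η, h⟩ := conj_xs (K := K) (hp := hp) T.CD.dsq (J i) hs
      exact ⟨η, fun _ => h⟩
    · exact ⟨1, fun h => absurd h hs⟩
  choose η hη using hη
  have hlt := T.CD.lt o ho
  refine ⟨η, fun s hs => (hη s (hlt s hs)).1, fun c e he => ?_⟩
  exact map_lprod_to (τ := (MulAut.conj (nI hp K (J i))).toMonoidHom) (w := wp D (J i))
      (f := fun s t => η s * t) (fun s hs t => (hη s (hlt s hs)).2 t) hperm hcomm he

/-- Existence of the transported coordinate function. -/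
theorem TwC.exists_fun (i : Fin m) {o : List ℕ} (ho : o ∈ O) (c : ℕ → K) :
    ∃ e : ℕ → K, ∀ s ∈ o, e (wp D (J i) s) = c s := by
  classical
  have hinj : ∀ a ∈ o, ∀ b ∈ o, wp D (J i) a = wp D (J i) b → a = b := by
    have h1 : (o.map (wp D (J i))).Nodup :=
      (T.CD.perm o ho i).nodup_iff.2 (T.CD.nodup _ (T.image_mem i ho))
    exact fun a ha b hb h => List.inj_on_of_nodup_map h1 ha hb h
  refine ⟨fun t => if h : ∃ s ∈ o, wp D (J i) s = t then c h.choose else 0, fun s hs => ?_⟩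
  have h : ∃ s' ∈ o, wp D (J i) s' = wp D (J i) s := ⟨s, hs, rfl⟩
  show (if h : ∃ s' ∈ o, wp D (J i) s' = wp D (J i) s then c h.choose else 0) = _
  rw [dif_pos h, hinj _ h.choose_spec.1 _ hs h.choose_spec.2]

theorem TwC.inj_base (i : Fin m) : Inj (xs (K := K) hp δ) (cl D J O (sr i)) := by
  intro c c' hcc s hs
  rw [lprod_xs, lprod_xs] at hcc
  have h1 := inj_orbit T.FG.setup (T.CD.baseL i) (T.CD.baseF i) hcc s hs
  have h2 : s < D.nroots := T.FD.ltL (List.mem_flatten.2 ⟨_, T.CD.baseL i, hs⟩)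
  exact mul_left_cancel₀ (sg_cast (K := K) (T.CD.dsq s h2)).ne_zero h1

/-- **Uniqueness of coordinates in all classes.** -/
theorem TwC.inj {z : Fin m → ℤ} (hz : IsRoot cs h z) : Inj (xs (K := K) hp δ) (cl D J O z) := by
  obtain ⟨w, i, rfl⟩ := hz
  obtain ⟨ω, rfl⟩ := cs.wordProd_surjective w
  induction ω with
  | nil =>
    rw [wordProd_nil, map_one, Module.End.one_apply]
    exact T.inj_base i
  | cons j ω ih =>
    have hz : IsRoot cs h (rep cs h (cs.wordProd ω) (sr i)) := ⟨_, i, rfl⟩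
    rw [wordProd_cons, rep_mul_apply, rep_refl]
    generalize rep cs h (cs.wordProd ω) (sr i) = z at ih hz ⊢
    obtain ⟨ho, hV, -⟩ := T.root hz
    have hperm := T.CD.perm _ ho j
    rw [hV] at hperm
    obtain ⟨η, hη, key⟩ := T.conj_lprod j ho
    rw [hV] at key
    intro c c' hcc s hs
    obtain ⟨s, hs', rfl⟩ := List.mem_map.1 (hperm.symm.subset hs)
    have h1 : ∀ c : ℕ → K, nI hp K (J j) * lprod (xs hp δ) (cl D J O z) (fun s => η s * c (wp D (J j) s)) *
        (nI hp K (J j))⁻¹ = lprod (xs hp δ) (cl D J O (RGDFold.refl A j z)) c := by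
      intro c
      apply key
      intro s hs
      rw [← mul_assoc, (hη s hs).mul_self, one_mul]
    rw [← h1 c, ← h1 c'] at hcc
    have h2 := ih _ _ (mul_left_cancel (mul_right_cancel hcc)) s hs'
    exact mul_left_cancel₀ (hη s hs').ne_zero h2

/-- **The root group of `z`.** -/
theorem TwC.mem_R {z : Fin m → ℤ} (hz : IsRoot cs h z) (g : GL D.Idx K) :
    g ∈ R D hp K J σ z ↔ ∃ a, φ^[(cl D J O z).length] a = a ∧ g = Y hp J φ δ O z a := by
  obtain ⟨ho, hV, hcls⟩ := T.root hz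
  have hR : R D hp K J σ z = rspan (xG (F := K) hp.inList) {k | k ∈ cl D J O z} ⊓ fixS σ :=
    R_eq hcls (T.CD.lt _ ho)
  have hC := T.cls ho
  have hsp : rspan (xG (F := K) hp.inList) {k | k ∈ cl D J O z} = rspan (xs hp δ) {k | k ∈ cl D J O z} := by
    apply le_antisymm
    · refine rspan_le _ fun r hr t => ?_
      have h1 := (sg_cast (K := K) (T.CD.dsq r (T.CD.lt _ ho r hr))).mul_self
      have h2 : xG hp.inList r t = xs hp δ r (((δ r : ℤ) : K) * t) := by
        unfold xs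
        rw [← mul_assoc, h1, one_mul]
      rw [h2]
      exact mem_rspan (xs hp δ) hr _
    · exact rspan_le _ fun r hr t => mem_rspan (xG hp.inList) hr _
  rw [hR, hsp]
  constructor
  · rintro ⟨hg1, hg2⟩
    obtain ⟨c, rfl⟩ := hC.exists_lprod (xs_add hp δ) hg1
    obtain ⟨r, o', e⟩ : ∃ r o', cl D J O z = r :: o' := List.exists_cons_of_ne_nil (T.CD.ne _ ho)
    obtain ⟨h1, h2⟩ := hC.eq_yv (T.inj hz) e hg2
    exact ⟨c r, h2, h1⟩
  · rintro ⟨a, ha, rfl⟩
    refine ⟨?_, hC.yv_fix ha⟩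
    unfold Y
    rw [yv_eq_lprod hC.nodup]
    exact lprod_mem_rspan _ (fun _ h => h) _

theorem TwC.Y_inj {z : Fin m → ℤ} (hz : IsRoot cs h z) {a b : K}
    (hab : Y hp J φ δ O z a = Y hp J φ δ O z b) : a = b :=
  (T.cls (T.root hz).1).yv_inj (T.inj hz) (T.CD.ne _ (T.root hz).1) hab

theorem TwC.Y_add {z : Fin m → ℤ} (hz : IsRoot cs h z) (a b : K) :
    Y hp J φ δ O z (a + b) = Y hp J φ δ O z a * Y hp J φ δ O z b :=
  yv_add (xs_add hp δ) (T.cls (T.root hz).1).comm a b

/-- The first root of the class. -/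
theorem TwC.head {z : Fin m → ℤ} (hz : IsRoot cs h z) :
    ∃ o', cl D J O z = (cl D J O z).headD 0 :: o' := by
  obtain ⟨r, o', e⟩ := List.exists_cons_of_ne_nil (T.CD.ne _ (T.root hz).1)
  exact ⟨o', by rw [e]; rfl⟩

/-- A `σ`-fixed product over the class of `z`. -/
theorem TwC.eq_Y {z : Fin m → ℤ} (hz : IsRoot cs h z) {c : ℕ → K}
    (hc : σ (lprod (xs hp δ) (cl D J O z) c) = lprod (xs hp δ) (cl D J O z) c) :
    lprod (xs hp δ) (cl D J O z) c = Y hp J φ δ O z (c ((cl D J O z).headD 0)) ∧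
      φ^[(cl D J O z).length] (c ((cl D J O z).headD 0)) = c ((cl D J O z).headD 0) := by
  obtain ⟨o', e⟩ := T.head hz
  exact (T.cls (T.root hz).1).eq_yv (T.inj hz) e hc

theorem TwC.Y_fix {z : Fin m → ℤ} (hz : IsRoot cs h z) {a : K} (ha : φ^[(cl D J O z).length] a = a) :
    σ (Y hp J φ δ O z a) = Y hp J φ δ O z a := (T.cls (T.root hz).1).yv_fix ha

theorem TwC.Y_eq {z : Fin m → ℤ} (hz : IsRoot cs h z) (a : K) :
    Y hp J φ δ O z a = lprod (xs hp δ) (cl D J O z) fun s => φ^[(cl D J O z).idxOf s] a :=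
  yv_eq_lprod (T.cls (T.root hz).1).nodup a

omit T in
theorem idxOf_map {w : ℕ → ℕ} {o : List ℕ} (hinj : ∀ a ∈ o, ∀ b ∈ o, w a = w b → a = b) {s : ℕ} (hs : s ∈ o) :
    (o.map w).idxOf (w s) = o.idxOf s := by
  induction o with
  | nil => exact absurd hs List.not_mem_nil
  | cons r o ih =>
    rw [List.map_cons]
    by_cases h : r = s
    · subst h; rw [List.idxOf_cons_self, List.idxOf_cons_self]
    · have h1 : w r ≠ w s := fun e => h (hinj r List.mem_cons_self s hs e)
      rw [List.idxOf_cons_ne _ h1, List.idxOf_cons_ne _ h,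
        ih (fun a ha b hb => hinj a (List.mem_cons_of_mem _ ha) b (List.mem_cons_of_mem _ hb))
          ((List.mem_cons.1 hs).resolve_left (Ne.symm h))]

/-- The field exponent of the fundamental reflection `i` on the root `z`. -/
def ex (D : ChevalleyDatum) (J : Fin m → List (Fin l)) (A : Fin m → Fin m → ℤ) (O : List (List ℕ)) (i : Fin m)
    (z : Fin m → ℤ) : ℕ :=
  ((cl D J O z).map (wp D (J i))).idxOf ((cl D J O (RGDFold.refl A i z)).headD 0)

/-- **The action of the fundamental reflections.** -/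
theorem TwC.conj_Y (i : Fin m) {z : Fin m → ℤ} (hz : IsRoot cs h z) :
    ∃ η : K, Sg η ∧ ∀ a, φ^[(cl D J O z).length] a = a → nI hp K (J i) * Y hp J φ δ O z a * (nI hp K (J i))⁻¹ =
      Y hp J φ δ O (rep cs h (cs.simple i) z) (η * φ^[ex D J A O i z] a) := by
  obtain ⟨ho, hV, -⟩ := T.root hz
  have hz' : IsRoot cs h (RGDFold.refl A i z) := by
    rw [← rep_refl (cs := cs) (h := h)]; exact hz.act (cs.simple i)
  obtain ⟨η, hη, key⟩ := T.conj_lprod i ho
  have hperm := T.CD.perm _ ho i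
  rw [hV] at key hperm
  obtain ⟨s, hs, e⟩ : ∃ s ∈ cl D J O z, wp D (J i) s = (cl D J O (RGDFold.refl A i z)).headD 0 := by
    obtain ⟨o', e⟩ := T.head hz'
    have h1 : (cl D J O (RGDFold.refl A i z)).headD 0 ∈ (cl D J O z).map (wp D (J i)) := by
      refine hperm.symm.subset ?_
      rw [e]
      exact List.mem_cons_self
    obtain ⟨s, hs, e⟩ := List.mem_map.1 h1
    exact ⟨s, hs, e⟩
  have hinj : ∀ a ∈ cl D J O z, ∀ b ∈ cl D J O z, wp D (J i) a = wp D (J i) b → a = b := by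
    have h1 : ((cl D J O z).map (wp D (J i))).Nodup := hperm.nodup_iff.2 (T.CD.nodup _ (T.root hz').1)
    exact fun a ha b hb h => List.inj_on_of_nodup_map h1 ha hb h
  refine ⟨η s, hη s hs, fun a ha => ?_⟩
  obtain ⟨c, hc⟩ := T.exists_fun i ho fun s => η s * φ^[(cl D J O z).idxOf s] a
  have h1 := key _ c hc
  rw [← T.Y_eq hz] at h1
  have h2 : σ (lprod (xs hp δ) (cl D J O (RGDFold.refl A i z)) c) =
      lprod (xs hp δ) (cl D J O (RGDFold.refl A i z)) c := by
    rw [← h1, map_mul, map_mul, map_inv, T.FG.nfix, T.Y_fix hz ha]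
  rw [h1, rep_refl, (T.eq_Y hz' h2).1, ← e, hc s hs]
  unfold ex
  rw [← e, idxOf_map hinj hs]

/-- **The action of the torus.** -/
theorem TwC.tor_Y {t : GL D.Idx K} (ht : t ∈ D.diagonalSubgroup K) (htσ : σ t = t) {z : Fin m → ℤ}
    (hz : IsRoot cs h z) {χ : K} (hχ : ∀ u, t * xG hp.inList ((cl D J O z).headD 0) u * t⁻¹ =
      xG hp.inList ((cl D J O z).headD 0) (χ * u)) :
    χ ≠ 0 ∧ φ^[(cl D J O z).length] χ = χ ∧ ∀ a, φ^[(cl D J O z).length] a = a →
      t * Y hp J φ δ O z a * t⁻¹ = Y hp J φ δ O z (χ * a) := by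
  obtain ⟨ho, hV, -⟩ := T.root hz
  have hC := T.cls ho
  have hlt := T.CD.lt _ ho
  have hη : ∀ s, ∃ η : K, s < D.nroots → η ≠ 0 ∧ ∀ u, t * xG hp.inList s u * t⁻¹ = xG hp.inList s (η * u) := by
    intro s
    by_cases hs : s < D.nroots
    · obtain ⟨η, h1, h2⟩ := BNChev.diagonal_conj hp.inList (F := K) ht hs
      exact ⟨η, fun _ => ⟨h1, h2⟩⟩
    · exact ⟨1, fun h => absurd h hs⟩
  choose η hη using hη
  obtain ⟨o', e⟩ := T.head hz
  have hhead : (cl D J O z).headD 0 ∈ cl D J O z := by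
    rw [e]; exact List.mem_cons_self
  have hχη : η ((cl D J O z).headD 0) = χ := by
    have h1 := (hη _ (hlt _ hhead)).2 1
    rw [hχ] at h1
    have h2 := xG_injective hp.inList (hlt _ hhead) h1
    rw [mul_one, mul_one] at h2
    exact h2.symm
  have key : ∀ c : ℕ → K, t * lprod (xs hp δ) (cl D J O z) c * t⁻¹ =
      lprod (xs hp δ) (cl D J O z) fun s => η s * c s := by
    intro c
    have h1 : ((cl D J O z).map (id : ℕ → ℕ)).Perm (cl D J O z) := by rw [List.map_id]
    refine map_lprod_to (τ := (MulAut.conj t).toMonoidHom) (w := id)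
      (f := fun s u => η s * u) (fun s hs u => ?_) h1 hC.comm (fun s _ => rfl)
    show t * xG hp.inList s _ * t⁻¹ = xG hp.inList s _
    rw [(hη s (hlt s hs)).2]
    congr 1
    show η s * (((δ s : ℤ) : K) * u) = ((δ s : ℤ) : K) * (η s * u)
    ring
  have main : ∀ a, φ^[(cl D J O z).length] a = a → t * Y hp J φ δ O z a * t⁻¹ = Y hp J φ δ O z (χ * a) ∧
      φ^[(cl D J O z).length] (χ * a) = χ * a := by
    intro a ha
    have h1 := key fun s => φ^[(cl D J O z).idxOf s] a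
    rw [← T.Y_eq hz] at h1
    have h2 : σ (lprod (xs hp δ) (cl D J O z) fun s => η s * φ^[(cl D J O z).idxOf s] a) =
        lprod (xs hp δ) (cl D J O z) fun s => η s * φ^[(cl D J O z).idxOf s] a := by
      rw [← h1, map_mul, map_mul, map_inv, htσ, T.Y_fix hz ha]
    obtain ⟨h3, h4⟩ := T.eq_Y hz h2
    have h5 : (cl D J O z).idxOf ((cl D J O z).headD 0) = 0 := by
      rw [e]; exact List.idxOf_cons_self
    rw [h5, hχη] at h3 h4
    exact ⟨h1.trans h3, h4⟩
  refine ⟨?_, ?_, fun a ha => (main a ha).1⟩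
  · rw [← hχη]; exact (hη _ (hlt _ hhead)).1
  · have h1 := (main 1 (by rw [iterate_map_one])).2
    rwa [mul_one] at h1

/-! ### Commutators of root elements -/

/-- the structure constant of the modified root elements -/
def NN (dg : ℕ → ℕ → ℕ) (δ : ℕ → ℤ) (r s : ℕ) : ℤ := δ (dk (dg r s)) * dc (dg r s) * δ r * δ s

/-- One pair of roots: either commuting or with sum in `T`, commuting with the `r`, `s`. -/
def okB (n : ℕ) (dg : ℕ → ℕ → ℕ) (T : List ℕ) (r s : ℕ) : Bool :=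
  decide (r < n) && decide (s < n) && (decide (dg r s = 0) || (decide (2 ≤ dg r s) && decide (dk (dg r s) ∈ T) &&
    comB n dg (dk (dg r s)) r && comB n dg (dk (dg r s)) s))

/-- All pairs, and `T` commutes with `o` and `o'`. -/
def okP (n : ℕ) (dg : ℕ → ℕ → ℕ) (T o o' : List ℕ) : Bool :=
  (o.all fun r => o'.all fun s => okB n dg T r s) && (T.all fun k => o.all fun r => comB n dg k r) &&
    (T.all fun k => o'.all fun s => comB n dg k s)

omit T in
theorem comm_xs (H : DgOK D dg) {δ : ℕ → ℤ} (hδ : ∀ r < D.nroots, δ r * δ r = 1) {T : List ℕ} (hT : T.Nodup)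
    (hT' : ∀ k ∈ T, k < D.nroots) {r s : ℕ}
    (hok : okB D.nroots dg T r s = true) (t u : K) :
    ⁅xs hp δ r t, xs hp δ s u⁆ = lprod (xs hp δ) T fun k =>
      if 2 ≤ dg r s ∧ dk (dg r s) = k then ((NN dg δ r s : ℤ) : K) * (t * u) else 0 := by
  unfold okB at hok
  simp only [Bool.and_eq_true, Bool.or_eq_true, decide_eq_true_eq] at hok
  obtain ⟨⟨hr, hs⟩, hok⟩ := hok
  by_cases hc : dg r s = 0
  · have hc' : comB D.nroots dg r s = true := by
      unfold comB
      simp only [Bool.and_eq_true, decide_eq_true_eq]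
      exact ⟨⟨hr, hs⟩, hc⟩
    rw [commutatorElement_eq_one_iff_commute.2 (commute_of_comB H hc' t u)]
    have h1 : (fun k => if 2 ≤ dg r s ∧ dk (dg r s) = k then ((NN dg δ r s : ℤ) : K) * (t * u) else 0) =
        fun _ => (0 : K) := by
      funext k
      rw [if_neg]
      rintro ⟨h1, -⟩
      omega
    rw [h1]
    exact (lprod_zero (xs_add hp δ) T).symm
  · obtain ⟨⟨⟨h2, hkT⟩, hkr⟩, hks⟩ := hok.resolve_left hc
    obtain ⟨hsr, hneg, hct⟩ := H.two hr hs h2
    have h1 : (fun k => if 2 ≤ dg r s ∧ dk (dg r s) = k then ((NN dg δ r s : ℤ) : K) * (t * u) else 0) =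
        fun k => if dk (dg r s) = k then ((NN dg δ r s : ℤ) : K) * (t * u) else 0 := by
      funext k
      by_cases hk : dk (dg r s) = k
      · rw [if_pos ⟨h2, hk⟩, if_pos hk]
      · rw [if_neg (fun h => hk h.2), if_neg hk]
    rw [h1, lprod_single (xs_add hp δ) hT hkT]
    -- the commutator formula
    have hk := hT' _ hkT
    have h3 := Cfsg.Agent.S1025.result (F := K) D hp.inList r s hr hs hsr hneg (((δ r : ℤ) : K) * t)
      (((δ s : ℤ) : K) * u)
    have h4 : xs hp δ s u * xs hp δ r t = xs hp δ r t * xs hp δ s u *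
        wordG hp.inList (D.commWord K r s (((δ r : ℤ) : K) * t) (((δ s : ℤ) : K) * u)) := by
      apply Units.ext
      rw [Units.val_mul, Units.val_mul, Units.val_mul, coe_wordG, xs, xs, coe_xG, coe_xG]
      exact h3
    have h5 : wordG hp.inList (D.commWord K r s (((δ r : ℤ) : K) * t) (((δ s : ℤ) : K) * u)) =
        (xs hp δ (dk (dg r s)) (((NN dg δ r s : ℤ) : K) * (t * u)))⁻¹ := by
      unfold ChevalleyDatum.commWord
      rw [hct, List.map_cons, List.map_nil, wordG_cons, wordG_nil, mul_one, xs, xG_inv]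
      congr 1
      have h6 := (sg_cast (K := K) (hδ _ hk)).mul_self
      unfold NN
      push_cast
      linear_combination ((dc (dg r s) : ℤ) : K) * (((δ r : ℤ) : K) * t) * (((δ s : ℤ) : K) * u) * h6
    rw [h5] at h4
    have c1 := commute_of_comB (K := K) (hp := hp) (δ := δ) H hkr (((NN dg δ r s : ℤ) : K) * (t * u)) t
    have c2 := commute_of_comB (K := K) (hp := hp) (δ := δ) H hks (((NN dg δ r s : ℤ) : K) * (t * u)) u
    generalize xs hp δ (dk (dg r s)) (((NN dg δ r s : ℤ) : K) * (t * u)) = g at h4 c1 c2 ⊢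
    generalize xs hp δ r t = a at h4 c1 c2 ⊢
    generalize xs hp δ s u = b at h4 c1 c2 ⊢
    have h7 : g = a * b * (b * a)⁻¹ := by
      have h8 : b * a * g = a * b := by rw [h4, mul_assoc, inv_mul_cancel, mul_one]
      have h9 : g * (b * a) = b * a * g := by
        rw [← mul_assoc, c2.eq, mul_assoc, c1.eq, ← mul_assoc]
      rw [← h8, ← h9, mul_inv_cancel_right]
    rw [h7, commutatorElement_def]
    group

omit T in
theorem sum_map_ite {α : Type*} (p : α → Prop) [DecidablePred p] (g : α → K) (o : List α) :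
    (o.map fun s => if p s then g s else 0).sum = ((o.filter fun s => decide (p s)).map g).sum := by
  induction o with
  | nil => rfl
  | cons s o ih =>
    rw [List.map_cons, List.sum_cons, ih]
    by_cases h : p s
    · rw [if_pos h, List.filter_cons_of_pos (by simpa using h), List.map_cons, List.sum_cons]
    · rw [if_neg h, List.filter_cons_of_neg (by simpa using h), zero_add]

omit T in
theorem sum_flatMap {α : Type*} (g : α → List K) (o : List α) :
    (o.flatMap g).sum = (o.map fun r => (g r).sum).sum := by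
  induction o with
  | nil => rfl
  | cons r o ih => rw [List.flatMap_cons, List.sum_append, ih, List.map_cons, List.sum_cons]

/-- The terms `(N, i, j)` of the commutator of the root elements of the classes `o`, `o'` for the root `k₀`. -/
def tm (dg : ℕ → ℕ → ℕ) (δ : ℕ → ℤ) (o o' : List ℕ) (k₀ : ℕ) : List (ℤ × ℕ × ℕ) :=
  o.flatMap fun r => (o'.filter fun s => decide (2 ≤ dg r s ∧ dk (dg r s) = k₀)).map fun s =>
      (NN dg δ r s, o.idxOf r, o'.idxOf s)

/-- **The commutator formula, bilinear case.** -/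
theorem TwC.comm_Y {z z' z'' : Fin m → ℤ} (hz : IsRoot cs h z) (hz' : IsRoot cs h z') (hz'' : IsRoot cs h z'')
    (hok : okP D.nroots dg (cl D J O z'') (cl D J O z) (cl D J O z') = true) {a b : K}
    (ha : φ^[(cl D J O z).length] a = a) (hb : φ^[(cl D J O z').length] b = b) :
    ⁅Y hp J φ δ O z a, Y hp J φ δ O z' b⁆ = Y hp J φ δ O z''
      (((tm dg δ (cl D J O z) (cl D J O z') ((cl D J O z'').headD 0)).map fun p =>
        ((p.1 : ℤ) : K) * (φ^[p.2.1] a * φ^[p.2.2] b)).sum) := by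
  unfold okP at hok
  rw [Bool.and_eq_true, Bool.and_eq_true, List.all_eq_true, List.all_eq_true, List.all_eq_true] at hok
  obtain ⟨⟨h1, h2⟩, h3⟩ := hok
  have hC := T.cls (T.root hz'').1
  have c1 : Cen (xs (K := K) hp δ) (cl D J O z'') (cl D J O z) := fun k hk r hr t u =>
    commute_of_comB T.CD.dgOK (List.all_eq_true.1 (h2 k hk) r hr) t u
  have c2 : Cen (xs (K := K) hp δ) (cl D J O z'') (cl D J O z') := fun k hk r hr t u =>
    commute_of_comB T.CD.dgOK (List.all_eq_true.1 (h3 k hk) r hr) t u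
  have h4 := comm_lprod (xs_add hp δ) hC.comm c1 c2
    (E := fun r s k t u => if 2 ≤ dg r s ∧ dk (dg r s) = k then ((NN dg δ r s : ℤ) : K) * (t * u) else 0)
    (fun r hr s hs t u => comm_xs T.CD.dgOK T.CD.dsq hC.nodup (T.CD.lt _ (T.root hz'').1)
      (List.all_eq_true.1 (h1 r hr) s hs) t u)
    (fun s => φ^[(cl D J O z).idxOf s] a) (fun s => φ^[(cl D J O z').idxOf s] b)
  rw [← T.Y_eq hz, ← T.Y_eq hz'] at h4
  have h5 := T.eq_Y hz'' (by
    rw [← h4, map_commutatorElement, T.Y_fix hz ha, T.Y_fix hz' hb])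
  rw [h4, h5.1]
  congr 1
  unfold tm
  rw [List.map_flatMap, sum_flatMap]
  congr 1
  refine List.map_congr_left fun r _ => ?_
  rw [List.map_map]
  exact sum_map_ite _ _ _

/-- **The commutator formula, commuting case.** -/
theorem TwC.commute_Y {z z' : Fin m → ℤ} (hok : ((cl D J O z).all fun r => (cl D J O z').all fun s =>
    comB D.nroots dg r s) = true) (a b : K) : Commute (Y hp J φ δ O z a) (Y hp J φ δ O z' b) := by
  rw [List.all_eq_true] at hok
  unfold Y
  have h1 : ∀ o' : List ℕ, (∀ s ∈ o', s ∈ cl D J O z') → ∀ o : List ℕ, (∀ r ∈ o, r ∈ cl D J O z) → ∀ a b,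
      Commute (yv (xs (K := K) hp δ) φ o a) (yv (xs hp δ) φ o' b) := by
    intro o' ho' o
    induction o with
    | nil => intro _ a b; exact Commute.one_left _
    | cons r o ih =>
      intro ho a b
      have h2 : Commute (xs hp δ r a) (yv (xs hp δ) φ o' b) := by
        clear ih
        induction o' generalizing b with
        | nil => exact Commute.one_right _
        | cons s o' ih' =>
          exact Commute.mul_right (commute_of_comB T.CD.dgOK (List.all_eq_true.1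
            (hok r (ho r List.mem_cons_self)) s (ho' s List.mem_cons_self)) _ _)
            (ih' (fun s' hs' => ho' s' (List.mem_cons_of_mem _ hs')) _)
      exact Commute.mul_left h2 (ih (fun r' hr' => ho r' (List.mem_cons_of_mem _ hr')) _ _)
  exact h1 _ (fun _ h => h) _ (fun _ h => h) a b

/-- `r + s = k` is a root commuting with `r`, `s`. -/
def sumB (n : ℕ) (dg : ℕ → ℕ → ℕ) (r s k : ℕ) : Bool :=
  okB n dg [k] r s && decide (2 ≤ dg r s) && decide (dk (dg r s) = k) && decide (k < n)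

omit T in
theorem comm_one (H : DgOK D dg) {δ : ℕ → ℤ} (hδ : ∀ r < D.nroots, δ r * δ r = 1) {r s k : ℕ}
    (hok : sumB D.nroots dg r s k = true)
    (t u : K) : ⁅xs hp δ r t, xs hp δ s u⁆ = xs hp δ k (((NN dg δ r s : ℤ) : K) * (t * u)) := by
  unfold sumB at hok
  simp only [Bool.and_eq_true, decide_eq_true_eq] at hok
  obtain ⟨⟨⟨h1, h2⟩, h3⟩, h4⟩ := hok
  rw [comm_xs H hδ (List.nodup_singleton k) (fun k' hk' => by rw [List.mem_singleton.1 hk']; exact h4) h1,
    lprod_cons, lprod_nil, mul_one, if_pos ⟨h2, h3⟩]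

/-- The checks for the quadratic case. -/
def okQ (n : ℕ) (dg : ℕ → ℕ → ℕ) (δ : ℕ → ℤ) (r s₀ s₁ u₀ u₁ v : ℕ) : Bool :=
  sumB n dg r s₀ u₀ && sumB n dg r s₁ u₁ && sumB n dg s₀ u₁ v && comB n dg v u₁ &&
    decide (NN dg δ r s₀ = NN dg δ r s₁)

/-- **The commutator formula, quadratic case.** -/
theorem TwC.comm_quad {z z' z₁ z₂ : Fin m → ℤ} {r s₀ s₁ u₀ u₁ v : ℕ} (hz : cl D J O z = [r])
    (hz' : cl D J O z' = [s₀, s₁]) (hz₁ : cl D J O z₁ = [u₀, u₁]) (hz₂ : cl D J O z₂ = [v])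
    (hok : okQ D.nroots dg δ r s₀ s₁ u₀ u₁ v = true) {a : K} (ha : φ a = a) (b : K) :
    ⁅Y hp J φ δ O z a, Y hp J φ δ O z' b⁆ = Y hp J φ δ O z₁ (((NN dg δ r s₀ : ℤ) : K) * (a * b)) *
      Y hp J φ δ O z₂ (((NN dg δ r s₀ * NN dg δ s₀ u₁ : ℤ) : K) * (a * (b * φ b))) := by
  unfold okQ at hok
  simp only [Bool.and_eq_true, decide_eq_true_eq] at hok
  obtain ⟨⟨⟨⟨h1, h2⟩, h3⟩, h4⟩, h5⟩ := hok
  unfold Y
  rw [hz, hz', hz₁, hz₂]
  show ⁅xs hp δ r a * 1, xs hp δ s₀ b * (xs hp δ s₁ (φ b) * 1)⁆ =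
    (xs hp δ u₀ _ * (xs hp δ u₁ (φ _) * 1)) * (xs hp δ v _ * 1)
  rw [mul_one, mul_one, mul_one, mul_one]
  have hδ := T.CD.dsq
  have H := T.CD.dgOK
  have e1 : ⁅xs hp δ r a, xs hp δ s₀ b * xs hp δ s₁ (φ b)⁆ = ⁅xs hp δ r a, xs hp δ s₀ b⁆ *
      (⁅xs hp δ s₀ b, ⁅xs hp δ r a, xs hp δ s₁ (φ b)⁆⁆ * ⁅xs hp δ r a, xs hp δ s₁ (φ b)⁆) := by
    simp only [commutatorElement_def]; group
  have e2 : φ (((NN dg δ r s₀ : ℤ) : K) * (a * b)) = ((NN dg δ r s₁ : ℤ) : K) * (a * φ b) := by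
    rw [map_mul, map_mul, map_intCast, ha, h5]
  rw [e1, comm_one H hδ h1, comm_one H hδ h2, comm_one H hδ h3, e2, (commute_of_comB H h4 _ _).eq, ← mul_assoc]
  congr 2
  rw [h5]
  push_cast
  ring

omit T in
theorem V_sum (H : DgOK D dg) (hp : IsType D l M') (J : Fin m → List (Fin l)) {r s : ℕ} (hr : r < D.nroots)
    (hs : s < D.nroots) (h : 2 ≤ dg r s) :
    dk (dg r s) < D.nroots ∧ V D J (dk (dg r s)) = V D J r + V D J s := by
  obtain ⟨-, -, hct⟩ := H.two hr hs h
  have h1 : (dk (dg r s), dc (dg r s), 1, 1) ∈ D.commTerms r s := by rw [hct]; exact List.mem_cons_self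
  obtain ⟨h2, -, -, -, -, h3⟩ := commTerms_rt hp.checked h1
  refine ⟨h2, ?_⟩
  have h4 := V_linear (D := D) (J := J) (u := dk (dg r s)) (r := r) (s := s) (a := 1) (b := 1) fun a => by
    rw [h3]; push_cast; ring
  rw [h4, one_smul, one_smul]

omit T in
theorem V_opp (H : DgOK D dg) (hp : IsType D l M') (J : Fin m → List (Fin l)) {r s : ℕ} (hr : r < D.nroots)
    (hs : s < D.nroots) (h : dg r s = 1) : V D J s = -V D J r := by
  rw [H.one hr hs h, V_neg hp.checked hr]

theorem TwC.NN_sq {r s : ℕ} (hr : r < D.nroots) (hs : s < D.nroots) (h : 2 ≤ dg r s) :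
    NN dg δ r s * NN dg δ r s = 1 := by
  have h1 := T.CD.dsq _ hr
  have h2 := T.CD.dsq _ hs
  have h3 := T.CD.dsq _ (V_sum T.CD.dgOK hp J hr hs h).1
  have h4 : dc (dg r s) * dc (dg r s) = 1 := by
    unfold dc
    split_ifs <;> rfl
  unfold NN
  calc _ = (δ (dk (dg r s)) * δ (dk (dg r s))) * (dc (dg r s) * dc (dg r s)) * (δ r * δ r) * (δ s * δ s) := by ring
    _ = 1 := by rw [h1, h2, h3, h4]; rfl

/-! ### Elements of the twisted group -/

omit T in
open Classical in
/-- The root elements in the twisted group `G`. -/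
noncomputable def x (hp : IsType D l M') (J : Fin m → List (Fin l)) (φ : K →+* K) (δ : ℕ → ℤ) (O : List (List ℕ))
    (G : Subgroup (GL D.Idx K)) (z : Fin m → ℤ) (a : K) : ↥G :=
  if h : Y hp J φ δ O z a ∈ G then ⟨Y hp J φ δ O z a, h⟩ else 1

/-- `a` is a coordinate for the root `z`. -/
def Ok (D : ChevalleyDatum) (J : Fin m → List (Fin l)) (O : List (List ℕ)) (φ : K →+* K) (z : Fin m → ℤ) (a : K) :
    Prop := φ^[(cl D J O z).length] a = a

section

variable (cs h) [Finite K] (p : ℕ) [Fact p.Prime] [CharP K p]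

include cs h p

theorem TwC.Y_mem {z : Fin m → ℤ} (hz : IsRoot cs h z) {a : K} (ha : Ok D J O φ z a) :
    Y hp J φ δ O z a ∈ G :=
  R_le cs h T.FD T.FG p hz ((T.mem_R hz _).2 ⟨a, ha, rfl⟩)

theorem TwC.coe_x {z : Fin m → ℤ} (hz : IsRoot cs h z) {a : K} (ha : Ok D J O φ z a) :
    ((x hp J φ δ O G z a : ↥G) : GL D.Idx K) = Y hp J φ δ O z a := by
  unfold x
  rw [dif_pos (T.Y_mem cs h p hz ha)]

theorem TwC.mem_X {z : Fin m → ℤ} (hz : IsRoot cs h z) (g : ↥G) :
    g ∈ (R D hp K J σ z).subgroupOf G ↔ ∃ a, Ok D J O φ z a ∧ x hp J φ δ O G z a = g := by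
  rw [Subgroup.mem_subgroupOf, T.mem_R hz]
  constructor
  · rintro ⟨a, ha, e⟩
    exact ⟨a, ha, Subtype.ext ((T.coe_x cs h p hz ha).trans e.symm)⟩
  · rintro ⟨a, ha, rfl⟩
    exact ⟨a, ha, T.coe_x cs h p hz ha⟩

theorem TwC.x_inj {z : Fin m → ℤ} (hz : IsRoot cs h z) {a b : K} (ha : Ok D J O φ z a) (hb : Ok D J O φ z b)
    (hab : x hp J φ δ O G z a = x hp J φ δ O G z b) : a = b := by
  have h1 := congrArg Subtype.val hab
  rw [T.coe_x cs h p hz ha, T.coe_x cs h p hz hb] at h1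
  exact T.Y_inj hz h1

omit T cs h p [Finite K] [Fact p.Prime] [CharP K p] in
theorem Ok.add {z : Fin m → ℤ} {a b : K} (ha : Ok D J O φ z a) (hb : Ok D J O φ z b) :
    Ok D J O φ z (a + b) := by
  unfold Ok at *
  rw [iterate_map_add, ha, hb]

omit T cs h p [Finite K] [Fact p.Prime] [CharP K p] in
theorem Ok.mul {z : Fin m → ℤ} {a b : K} (ha : Ok D J O φ z a) (hb : Ok D J O φ z b) :
    Ok D J O φ z (a * b) := by
  unfold Ok at *
  rw [iterate_map_mul, ha, hb]

theorem TwC.x_add {z : Fin m → ℤ} (hz : IsRoot cs h z) {a b : K} (ha : Ok D J O φ z a) (hb : Ok D J O φ z b) :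
    x hp J φ δ O G z (a + b) = x hp J φ δ O G z a * x hp J φ δ O G z b := by
  apply Subtype.ext
  rw [Subgroup.coe_mul, T.coe_x cs h p hz ha, T.coe_x cs h p hz hb, T.coe_x cs h p hz (ha.add hb), T.Y_add hz]

/-- the action of the torus -/
theorem TwC.tor_x {t : ↥G} (ht : t ∈ (D.diagonalSubgroup K ⊓ G).subgroupOf G) {z : Fin m → ℤ}
    (hz : IsRoot cs h z) : ∃ χ : K, χ ≠ 0 ∧ Ok D J O φ z χ ∧ ∀ a, Ok D J O φ z a →
      t * x hp J φ δ O G z a * t⁻¹ = x hp J φ δ O G z (χ * a) := by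
  obtain ⟨ho, -, -⟩ := T.root hz
  obtain ⟨o', e⟩ := T.head hz
  have hlt : (cl D J O z).headD 0 < D.nroots := T.CD.lt _ ho _ (by
    have : (cl D J O z).headD 0 ∈ (cl D J O z).headD 0 :: o' := List.mem_cons_self
    rwa [← e] at this)
  rw [Subgroup.mem_subgroupOf] at ht
  obtain ⟨χ, -, h2⟩ := BNChev.diagonal_conj hp.inList (F := K) ht.1 hlt
  obtain ⟨h3, h4, h5⟩ := T.tor_Y ht.1 (T.FG.G_le ht.2) hz h2
  refine ⟨χ, h3, h4, fun a ha => Subtype.ext ?_⟩
  rw [Subgroup.coe_mul, Subgroup.coe_mul, Subgroup.coe_inv, T.coe_x cs h p hz ha, h5 a ha,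
    T.coe_x cs h p hz (Ok.mul h4 ha)]

/-- the action of the fundamental reflections -/
theorem TwC.conj_x (i : Fin m) {z : Fin m → ℤ} (hz : IsRoot cs h z) :
    ∃ η : K, Sg η ∧ ∀ a, Ok D J O φ z a →
      Ok D J O φ (rep cs h (cs.simple i) z) (η * φ^[ex D J A O i z] a) ∧
      (⟨nI hp K (J i), T.FG.nG i⟩ : ↥G) * x hp J φ δ O G z a * (⟨nI hp K (J i), T.FG.nG i⟩ : ↥G)⁻¹ =
        x hp J φ δ O G (rep cs h (cs.simple i) z) (η * φ^[ex D J A O i z] a) := by
  obtain ⟨η, h1, h2⟩ := T.conj_Y (cs := cs) (h := h) i hz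
  refine ⟨η, h1, fun a ha => ?_⟩
  have hlen : (cl D J O (rep cs h (cs.simple i) z)).length = (cl D J O z).length := by
    obtain ⟨ho, hV, -⟩ := T.root hz
    have h3 := (T.CD.perm _ ho i).length_eq
    rw [hV, List.length_map] at h3
    rw [rep_refl, ← h3]
  have h4 : Ok D J O φ (rep cs h (cs.simple i) z) (η * φ^[ex D J A O i z] a) := by
    unfold Ok at ha ⊢
    rw [hlen, iterate_map_mul, ← Function.iterate_add_apply, add_comm, Function.iterate_add_apply, ha]
    congr 1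
    have h5 : ∀ k : ℕ, φ^[k] η = η := by
      intro k
      induction k with
      | zero => rfl
      | succ k ih => rw [Function.iterate_succ_apply, h1.fix, ih]
    exact h5 _
  refine ⟨h4, Subtype.ext ?_⟩
  rw [Subgroup.coe_mul, Subgroup.coe_mul, Subgroup.coe_inv, T.coe_x cs h p hz ha,
    T.coe_x cs h p (hz.act (cs.simple i)) h4]
  exact h2 a ha

end

/-! ### Elements of the torus -/

omit T in
/-- `∏ h_{j_k}(φ^k d)` -/
noncomputable def hI (hp : IsType D l M') (φ : K →+* K) : List (Fin l) → K → GL D.Idx K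
  | [], _ => 1
  | j :: o, d => hG hp.inList (D.simple j) d * hI hp φ o (φ d)

omit T in
/-- its scalar on `x_s` -/
def wt (D : ChevalleyDatum) {l : ℕ} (φ : K →+* K) : List (Fin l) → ℕ → K → K
  | [], _, _ => 1
  | j :: o, s, d => d ^ D.cartan j s * wt D φ o s (φ d)

omit T in
theorem hI_conj (o : List (Fin l)) {s : ℕ} (hs : s < D.nroots) {d : K} (hd : d ≠ 0) (u : K) :
    hI hp φ o d * xG hp.inList s u * (hI hp φ o d)⁻¹ = xG hp.inList s (wt D φ o s d * u) := by
  induction o generalizing d u with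
  | nil =>
    show 1 * xG hp.inList s u * 1⁻¹ = xG hp.inList s (1 * u)
    rw [one_mul, inv_one, mul_one, one_mul]
  | cons j o ih =>
    show hG hp.inList (D.simple j) d * hI hp φ o (φ d) * xG hp.inList s u *
      (hG hp.inList (D.simple j) d * hI hp φ o (φ d))⁻¹ = xG hp.inList s (d ^ D.cartan j s * wt D φ o s (φ d) * u)
    have e : hG hp.inList (D.simple j) d * hI hp φ o (φ d) * xG hp.inList s u *
        (hG hp.inList (D.simple j) d * hI hp φ o (φ d))⁻¹ =
        hG hp.inList (D.simple j) d * (hI hp φ o (φ d) * xG hp.inList s u * (hI hp φ o (φ d))⁻¹) *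
          (hG hp.inList (D.simple j) d)⁻¹ := by group
    rw [e, ih ((map_ne_zero φ).2 hd), mul_inv_eq_iff_eq_mul]
    have h1 := Cfsg.Agent.S1032.result D hp.inList j s (lt_rank hp j) hs d hd (wt D φ o s (φ d) * u)
    apply Units.ext
    rw [Units.val_mul, Units.val_mul, coe_hG, coe_xG, coe_xG, h1, mul_assoc]

omit T in
theorem hv_eq_hI {o : List ℕ} {o' : List (Fin l)} (ho : o'.map (fun j : Fin l => D.simple (j : ℕ)) = o)
    (hlt : ∀ s ∈ o, s < D.nroots) (d : K) : hv (psi hp.inList K) φ o (hS d) = hI hp φ o' d := by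
  induction o' generalizing o d with
  | nil =>
    rw [List.map_nil] at ho
    subst ho
    rfl
  | cons j o' ih =>
    rw [List.map_cons] at ho
    subst ho
    show psi hp.inList K (D.simple j) (hS d) *
      hv (psi hp.inList K) φ _ (Matrix.SpecialLinearGroup.map φ (hS d)) = _
    rw [map_hS, psi_hS hp.inList (hlt _ List.mem_cons_self), ih rfl fun s hs => hlt s (List.mem_cons_of_mem _ hs)]
    rfl

/-- The torus elements of the node `i`. -/
theorem TwC.hI_mem {i : Fin m} {r : ℕ} {o : List ℕ} (N : NodeOK D J L ρ i r o) (hf : ∀ s ∈ r :: o, ∀ t, f s t = φ t)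
    {d : K} (hd : d ≠ 0) (hdφ : φ^[o.length + 1] d = d) :
    hI hp φ (J i) d ∈ D.diagonalSubgroup K ∧ hI hp φ (J i) d ∈ G := by
  have h1 := Phi_hS T.FG N hf (d := (⟨d, mem_Fx.2 hdφ⟩ : Fx φ (o.length + 1)))
    (fun h0 => hd (congrArg Subtype.val h0))
  rw [Subgroup.mem_subgroupOf] at h1
  have h2 : ((Phi T.FG N hf (hS (⟨d, mem_Fx.2 hdφ⟩ : Fx φ (o.length + 1))) : ↥G) : GL D.Idx K) =
      hI hp φ (J i) d := by
    show Ph hp K N φ (Matrix.SpecialLinearGroup.map _ (hS _)) = _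
    rw [map_hS]
    exact hv_eq_hI N.Jn N.lt _
  rw [h2] at h1
  exact h1

/-- The action of the torus elements of the node `i` on the root element of `z`. -/
theorem TwC.hI_Y {i : Fin m} {r : ℕ} {o : List ℕ} (N : NodeOK D J L ρ i r o) (hf : ∀ s ∈ r :: o, ∀ t, f s t = φ t)
    {d : K} (hd : d ≠ 0) (hdφ : φ^[o.length + 1] d = d) {z : Fin m → ℤ} (hz : IsRoot cs h z) {a : K}
    (ha : Ok D J O φ z a) :
    Ok D J O φ z (wt D φ (J i) ((cl D J O z).headD 0) d) ∧
    hI hp φ (J i) d * Y hp J φ δ O z a * (hI hp φ (J i) d)⁻¹ =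
      Y hp J φ δ O z (wt D φ (J i) ((cl D J O z).headD 0) d * a) := by
  obtain ⟨ho, -, -⟩ := T.root hz
  obtain ⟨o', e⟩ := T.head hz
  have hlt : (cl D J O z).headD 0 < D.nroots := T.CD.lt _ ho _ (by
    have : (cl D J O z).headD 0 ∈ (cl D J O z).headD 0 :: o' := List.mem_cons_self
    rwa [← e] at this)
  obtain ⟨h1, h2⟩ := T.hI_mem N hf hd hdφ
  obtain ⟨h3, h4, h5⟩ := T.tor_Y h1 (T.FG.G_le h2) hz (hI_conj (J i) hlt hd)
  exact ⟨h4, h5 a ha⟩

end Group

end Cfsg.Agent.Nodes.RGDTwCoord
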