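import Cfsg.Agent.Nodes.RGDTwE6
import Cfsg.Agent.Nodes.RGDTwNode
import Cfsg.Agent.Nodes.RGDTwTab

/-!
Coordinates of all root groups of `²E₆(q)` and the commutator formulas.

Relative roots `z : Fin 4 → ℤ` of `F₄` (nodes `0, 1` long, `2, 3` short, `RGDTwE6`). For a root `z`, `x φ q z a` is the
root element with coordinate `a : K`; `φ a = a` for `z` long, `a` arbitrary for `z` short.

* `comm_nil`, `comm_long`, `comm_short`, `comm_trace`, `comm_quad` : all commutators of nonopposite root elements;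
* `conj_nn`, `hh_conj` : the actions of the fundamental reflections and of the torus.
-/

set_option autoImplicit false
set_option linter.unusedSectionVars false
set_option maxHeartbeats 400000
set_option Elab.async false

namespace Cfsg.Agent.Nodes.RGDTwCoordE6

open CoxeterSystem Cfsg.Agent.ChevalleyStructure.CoxeterGeom Cfsg.Agent.Tits.Roots Cfsg.Agent.Tits.Core
  Cfsg.Agent.Nodes.BNOf Cfsg.Agent.Nodes.RGDTwGen Cfsg.Agent.Nodes.RGDChev Cfsg.Agent.Nodes.RGDFold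
  Cfsg.Agent.Nodes.RGDFoldSL Cfsg.Agent.Nodes.RGDTwE6 Cfsg.Agent.Nodes.RGDTwCoord Cfsg.Agent.Nodes.RGDTwTab
open Cfsg.Lie Cfsg.Agent.ChevalleyStructure
  Cfsg.Agent.ChevalleyStructure.TwistedU Cfsg.Agent.ChevalleyStructure.TwistedFix
open Cfsg.Agent.ChevalleyStructure.TwE6Basic (sg)
open scoped commutatorElement

universe u

/-! ### The tables -/

/-- The classes: relative roots of `F₄`; long roots have one element, short roots two. -/
def O : List (List ℕ) := [[0], [1], [2], [5, 3], [4, 16], [6], [17, 7], [8], [18], [19, 9], [11], [20], [10, 22],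
  [26, 12], [23, 21], [27], [13, 30], [24], [31, 28], [14, 33], [25], [32], [34, 29], [35, 15], [56, 36], [42, 37],
  [39], [46], [38, 57], [43, 40], [47], [41, 58], [44], [50, 48], [59, 45], [49, 61], [51], [60], [62, 52], [53], [63],
  [64, 54], [65], [55, 67], [68, 66], [69], [70], [71]]

/-- The signs. -/
def dl (r : ℕ) : ℤ := if r ∈ [7, 9, 12, 16, 22, 28, 33, 40, 45, 52, 54, 57, 61, 67] then -1 else 1

theorem clData : ClData chevE6 J A TwistedE6U.L TwistedE6Sigma.rho TwistedE6Sigma.eps dl O dgE6 where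
  dgOK := dgOK_E6
  cover := by decide +kernel
  lt := by decide +kernel
  ne := by decide +kernel
  cls := by decide +kernel
  cl_eq := by decide +kernel
  nodup := by decide +kernel
  rot := by decide +kernel
  comm := by decide +kernel
  dsq := by decide +kernel
  deps := by decide +kernel
  perm := by decide +kernel
  baseL := by decide +kernel
  baseF := by decide +kernel

/-- The relative roots. -/
def vtab : List (ℤ × ℤ × ℤ × ℤ) := [(-2, -3, -4, -2), (-1, -3, -4, -2), (-1, -2, -4, -2), (-1, -2, -3, -2),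
  (-1, -2, -3, -1), (-1, -2, -2, -2), (-1, -2, -2, -1), (-1, -1, -2, -2), (-1, -2, -2, 0), (-1, -1, -2, -1),
  (0, -1, -2, -2), (-1, -1, -2, 0), (-1, -1, -1, -1), (0, -1, -2, -1), (-1, -1, -1, 0), (0, -1, -2, 0),
  (0, -1, -1, -1), (-1, -1, 0, 0), (0, -1, -1, 0), (0, 0, -1, -1), (-1, 0, 0, 0), (0, -1, 0, 0), (0, 0, -1, 0),
  (0, 0, 0, -1), (0, 0, 0, 1), (0, 0, 1, 0), (0, 1, 0, 0), (1, 0, 0, 0), (0, 0, 1, 1), (0, 1, 1, 0), (1, 1, 0, 0),
  (0, 1, 1, 1), (0, 1, 2, 0), (1, 1, 1, 0), (0, 1, 2, 1), (1, 1, 1, 1), (1, 1, 2, 0), (0, 1, 2, 2), (1, 1, 2, 1),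
  (1, 2, 2, 0), (1, 1, 2, 2), (1, 2, 2, 1), (1, 2, 2, 2), (1, 2, 3, 1), (1, 2, 3, 2), (1, 2, 4, 2), (1, 3, 4, 2),
  (2, 3, 4, 2)]

/-- The quadratic form, `4` for the long roots and `2` for the short roots. -/
def Q4 (v : ℤ × ℤ × ℤ × ℤ) : ℤ :=
  4 * v.1 * v.1 + 4 * v.2.1 * v.2.1 + 2 * v.2.2.1 * v.2.2.1 + 2 * v.2.2.2 * v.2.2.2 - 4 * v.1 * v.2.1 -
    4 * v.2.1 * v.2.2.1 - 2 * v.2.2.1 * v.2.2.2

/-- The quadratic form, `4` for the long roots and `2` for the short roots. -/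
def Qv (z : Fin 4 → ℤ) : ℤ := Q4 (z 0, z 1, z 2, z 3)

theorem vtab_eq : ∀ i < 48, ∀ j : Fin 4, V chevE6 J ((O.getD i []).headD 0) j =
    ![(vtab.getD i (0, 0, 0, 0)).1, (vtab.getD i (0, 0, 0, 0)).2.1, (vtab.getD i (0, 0, 0, 0)).2.2.1,
      (vtab.getD i (0, 0, 0, 0)).2.2.2] j := by decide +kernel

theorem Q_tab : ∀ i < 48, ((O.getD i []).length = 1 ∧ Q4 (vtab.getD i (0, 0, 0, 0)) = 4) ∨
    ((O.getD i []).length = 2 ∧ Q4 (vtab.getD i (0, 0, 0, 0)) = 2) := by decide +kernel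

theorem O_length : O.length = 48 := by decide +kernel

/-- sum of vectors -/
def ad (v w : ℤ × ℤ × ℤ × ℤ) : ℤ × ℤ × ℤ × ℤ := (v.1 + w.1, v.2.1 + w.2.1, v.2.2.1 + w.2.2.1, v.2.2.2 + w.2.2.2)

/-- The kind of a pair of classes: `0` opposite, `1` commuting, `2` long, `3` trace, `4` short, `5` long-short,
`6` short-long. -/
def kd (o o' : List ℕ) : ℕ :=
  if dgE6 (o.headD 0) (o'.headD 0) = 1 ∨ dgE6 (o.headD 0) (o'.getLastD 0) = 1 then 0
  else if o.length = 1 then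
    if dgE6 (o.headD 0) (o'.headD 0) = 0 then 1 else if o'.length = 1 then 2 else 5
  else if o'.length = 1 then
    if dgE6 (o.headD 0) (o'.headD 0) = 0 then 1 else 6
  else if dgE6 (o.headD 0) (o'.headD 0) = 0 then
    if dgE6 (o.headD 0) (o'.getLastD 0) = 0 then 1 else 3
  else 4

/-- The check for one pair of classes. -/
def chk (o o' : List ℕ) (v v' : ℤ × ℤ × ℤ × ℤ) : Bool :=
  let d := dgE6 (o.headD 0) (o'.headD 0)
  let d' := dgE6 (o.headD 0) (o'.getLastD 0)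
  match kd o o' with
  | 0 => true
  | 1 => (o.all fun r => o'.all fun s => comB 72 dgE6 r s) && decide (Q4 (ad v v') ≠ 2) && decide (Q4 (ad v v') ≠ 4)
  | 2 => decide ([dk d] ∈ O) && okP 72 dgE6 [dk d] o o' &&
      decide (tm dgE6 dl o o' (dk d) = [(NN dgE6 dl (o.headD 0) (o'.headD 0), 0, 0)])
  | 3 => decide ([dk d'] ∈ O) && okP 72 dgE6 [dk d'] o o' &&
      decide (tm dgE6 dl o o' (dk d') = [(NN dgE6 dl (o.headD 0) (o'.getLastD 0), 0, 1),
        (NN dgE6 dl (o.headD 0) (o'.getLastD 0), 1, 0)])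
  | 4 => decide ([TwistedE6Sigma.rho (dk d), dk d] ∈ O) && okP 72 dgE6 [TwistedE6Sigma.rho (dk d), dk d] o o' &&
      decide (tm dgE6 dl o o' (TwistedE6Sigma.rho (dk d)) = [(NN dgE6 dl (o.getLastD 0) (o'.getLastD 0), 1, 1)])
  | 5 =>
      let u₀ := dk d
      let u₁ := dk d'
      let v := dk (dgE6 (o'.headD 0) u₁)
      decide ([u₀, u₁] ∈ O) && decide ([v] ∈ O) &&
        okQ 72 dgE6 dl (o.headD 0) (o'.headD 0) (o'.getLastD 0) u₀ u₁ v
  | _ => true

theorem chk_all : ∀ i < 48, ∀ j < 48,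
    chk (O.getD i []) (O.getD j []) (vtab.getD i (0, 0, 0, 0)) (vtab.getD j (0, 0, 0, 0)) = true := by
  decide +kernel

end Cfsg.Agent.Nodes.RGDTwCoordE6
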