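import Mathlib

/-!
# An explicit conjugation of `n z` to `z` (project CIT, |E| = 4, fact (KF1), abstract part)

`z` an involution inverting `x`, `y`; `n = x y x` an involution, `r² = y`, `g = x r`. Then `g z g⁻¹ = n z`.
`K_a = ⟨A, A'⟩`, `K_b = ⟨B, B'⟩` commute and are swapped by `n`. For `v ∈ K_a` with `v² = z` and `f₀ = v v^n`:
`v⁻¹ n v = n z f₀`, `v⁻¹ (n f₀) v = n z`.

* `Conf.exists_conj` : **(KF1) (i)**: for `f = v w` (`v ∈ K_a`, `w ∈ K_b` of order 4) there is `t` with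
  `t (u u^n) t⁻¹ ∈ C(f)` (`u ∈ A ∪ A'`) and `f z` is in the group generated by these elements;
* `Conf.normalizes` : **(KF1) (ii)**: a subgroup `N` which contains `K_a`, `K_b` and these elements and is normalised by
  `C(z)` is normalised by `g`.
-/

set_option autoImplicit false

namespace Cfsg.Agent.Nodes.SwapAbs

open Subgroup

variable {G : Type*} [Group G]

structure Conf (z n x y r : G) (A B A' B' V V' : Subgroup G) : Prop where
  zz : z * z = 1
  zx : z * x * z = x⁻¹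
  zy : z * y * z = y⁻¹
  nx : n = x * y * x
  nn : n * n = 1
  rr : r * r = y
  zr : z * r * z = r⁻¹
  zA : ∀ u ∈ A, z * u = u * z
  zA' : ∀ u ∈ A', z * u = u * z
  nA : ∀ u ∈ A, n * u * n ∈ B
  nA' : ∀ u ∈ A', n * u * n ∈ B'
  AV : A ≤ V
  BV : B ≤ V
  AV' : A' ≤ V'
  BV' : B' ≤ V'
  xV : ∀ v ∈ V, x⁻¹ * v * x ∈ V
  rV : ∀ v ∈ V, r⁻¹ * v * r ∈ V
  xV' : ∀ v ∈ V', x⁻¹ * v * x ∈ V'
  rV' : ∀ v ∈ V', r⁻¹ * v * r ∈ V'
  Vz : ∀ v ∈ V, z * v = v * z → ∃ a ∈ A, ∃ b ∈ B, v = a * b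
  Vz' : ∀ v ∈ V', z * v = v * z → ∃ a ∈ A', ∃ b ∈ B', v = a * b
  comm : ∀ k ∈ A ⊔ A', ∀ l ∈ B ⊔ B', k * l = l * k

/-- the conditions on `n' = g⁻¹ n g` -/
structure Conf' (n' : G) (A B A' B' : Subgroup G) : Prop where
  nA : ∀ u ∈ A, n' * u * n' ∈ B
  nB : ∀ u ∈ B, n' * u * n' ∈ A
  nA' : ∀ u ∈ A', n' * u * n' ∈ B'
  nB' : ∀ u ∈ B', n' * u * n' ∈ A'
  AB : ∀ u ∈ A, u ∈ B → u = 1
  AB' : ∀ u ∈ A', u ∈ B' → u = 1

/-- the conditions on `K_a`, `K_b` (both are `SL₂`'s with involution `z`) -/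
structure Quat (z : G) (Ka Kb : Subgroup G) : Prop where
  zKa : z ∈ Ka
  zKb : z ∈ Kb
  inter : ∀ u ∈ Ka, u ∈ Kb → u = 1 ∨ u = z
  ca : ∀ v ∈ Ka, ∀ v' ∈ Ka, v * v = z → v' * v' = z → ∃ k ∈ Ka, k * v * k⁻¹ = v'
  cb : ∀ v ∈ Kb, ∀ v' ∈ Kb, v * v = z → v' * v' = z → ∃ k ∈ Kb, k * v * k⁻¹ = v'
  inv : ∀ v ∈ Ka, v * v = 1 → v = 1 ∨ v = z
  invb : ∀ v ∈ Kb, v * v = 1 → v = 1 ∨ v = z
  quat : ∀ v ∈ Ka, v * v = z → ∃ v' ∈ Ka, v' * v' = z ∧ v' * v = z * v * v'

variable {z n x y r : G} {A B A' B' V V' : Subgroup G}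

theorem inv_of_sq {z : G} (h : z * z = 1) : z⁻¹ = z := inv_eq_of_mul_eq_one_left h

theorem cancel_sq {z : G} (h : z * z = 1) (a : G) : z * (z * a) = a := by rw [← mul_assoc, h, one_mul]

/-- the elements of the product of two commuting subgroups -/
theorem exists_mul_of_comm {P Q : Subgroup G} (h : ∀ a ∈ P, ∀ b ∈ Q, a * b = b * a) {f : G} (hf : f ∈ P ⊔ Q) :
    ∃ a ∈ P, ∃ b ∈ Q, f = a * b := by
  let S : Subgroup G :=
    { carrier := {f | ∃ a ∈ P, ∃ b ∈ Q, f = a * b}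
      mul_mem' := by
        rintro _ _ ⟨a, ha, b, hb, rfl⟩ ⟨a', ha', b', hb', rfl⟩
        refine ⟨a * a', mul_mem ha ha', b * b', mul_mem hb hb', ?_⟩
        calc a * b * (a' * b') = a * (b * a') * b' := by group
          _ = a * (a' * b) * b' := by rw [h a' ha' b hb]
          _ = _ := by group
      one_mem' := ⟨1, one_mem _, 1, one_mem _, (mul_one 1).symm⟩
      inv_mem' := by
        rintro _ ⟨a, ha, b, hb, rfl⟩
        refine ⟨a⁻¹, inv_mem ha, b⁻¹, inv_mem hb, ?_⟩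
        rw [mul_inv_rev, h _ (inv_mem ha) _ (inv_mem hb)] }
  have h1 : P ⊔ Q ≤ S := sup_le (fun a ha => ⟨a, ha, 1, one_mem _, (mul_one a).symm⟩)
    (fun b hb => ⟨1, one_mem _, b, hb, (one_mul b).symm⟩)
  exact h1 hf

namespace Conf

section Basic

variable (C : Conf z n x y r A B A' B' V V')
include C

theorem g_conj : (x * r) * z * (x * r)⁻¹ = n * z := by
  have hz := inv_of_sq C.zz
  have h1 : r⁻¹ = z * r * z := C.zr.symm
  have h2 : x⁻¹ = z * x * z := C.zx.symm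
  calc (x * r) * z * (x * r)⁻¹ = x * r * z * r⁻¹ * x⁻¹ := by group
    _ = x * r * z * (z * r * z) * x⁻¹ := by rw [← h1]
    _ = x * r * (z * z) * r * z * x⁻¹ := by group
    _ = x * (r * r) * z * x⁻¹ := by rw [C.zz]; group
    _ = x * y * z * (z * x * z) := by rw [C.rr, ← h2]
    _ = x * y * (z * z) * x * z := by group
    _ = x * y * x * z := by rw [C.zz]; group
    _ = n * z := by rw [C.nx]

theorem zn : z * n = n * z := by
  have hz := inv_of_sq C.zz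
  have hn := inv_of_sq C.nn
  have h1 : z * n * z = n := by
    calc z * n * z = z * (x * y * x) * z := by rw [C.nx]
      _ = z * x * 1 * y * 1 * x * z := by group
      _ = z * x * (z * z) * y * (z * z) * x * z := by rw [C.zz]
      _ = (z * x * z) * (z * y * z) * (z * x * z) := by group
      _ = (x * y * x)⁻¹ := by rw [C.zx, C.zy]; group
      _ = n := by rw [← C.nx, hn]
  calc z * n = z * n * (z * z) := by rw [C.zz, mul_one]
    _ = (z * n * z) * z := by group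
    _ = n * z := by rw [h1]

theorem g_inv_conj : (x * r)⁻¹ * (n * z) * (x * r) = z := by
  rw [← C.g_conj]; group

/-- `n' = g⁻¹ n g` -/
theorem n'_eq : (x * r)⁻¹ * n * (x * r) = z * ((x * r)⁻¹ * z * (x * r)) := by
  have h1 : n = (n * z) * z := by rw [mul_assoc, C.zz, mul_one]
  calc (x * r)⁻¹ * n * (x * r) = (x * r)⁻¹ * ((n * z) * z) * (x * r) := by rw [← h1]
    _ = ((x * r)⁻¹ * (n * z) * (x * r)) * ((x * r)⁻¹ * z * (x * r)) := by group
    _ = _ := by rw [C.g_inv_conj]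

theorem n'_sq : ((x * r)⁻¹ * n * (x * r)) * ((x * r)⁻¹ * n * (x * r)) = 1 := by
  calc ((x * r)⁻¹ * n * (x * r)) * ((x * r)⁻¹ * n * (x * r)) = (x * r)⁻¹ * (n * n) * (x * r) := by group
    _ = 1 := by rw [C.nn]; group

theorem zn' : z * ((x * r)⁻¹ * n * (x * r)) = ((x * r)⁻¹ * n * (x * r)) * z := by
  have h : z = (x * r)⁻¹ * (n * z) * (x * r) := C.g_inv_conj.symm
  have h2 : (n * z) * n = n * (n * z) := by rw [mul_assoc, C.zn]
  calc z * ((x * r)⁻¹ * n * (x * r)) = ((x * r)⁻¹ * (n * z) * (x * r)) * ((x * r)⁻¹ * n * (x * r)) := by rw [← h]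
    _ = (x * r)⁻¹ * ((n * z) * n) * (x * r) := by group
    _ = (x * r)⁻¹ * (n * (n * z)) * (x * r) := by rw [h2]
    _ = ((x * r)⁻¹ * n * (x * r)) * ((x * r)⁻¹ * (n * z) * (x * r)) := by group
    _ = _ := by rw [← h]

/-- `z^g = n' z` -/
theorem z_conj : (x * r)⁻¹ * z * (x * r) = ((x * r)⁻¹ * n * (x * r)) * z := by
  rw [← C.zn', C.n'_eq, cancel_sq C.zz]

theorem zKa {k : G} (hk : k ∈ A ⊔ A') : z * k = k * z := by
  have h1 : A ⊔ A' ≤ centralizer {z} := by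
    refine sup_le (fun u hu => ?_) (fun u hu => ?_)
    · exact mem_centralizer_singleton_iff.2 (C.zA u hu).symm
    · exact mem_centralizer_singleton_iff.2 (C.zA' u hu).symm
  exact (mem_centralizer_singleton_iff.1 (h1 hk)).symm

theorem nK {k : G} (hk : k ∈ A ⊔ A') : n * k * n ∈ B ⊔ B' := by
  have hn := inv_of_sq C.nn
  have h1 : A ⊔ A' ≤ (B ⊔ B').comap (MulAut.conj n).toMonoidHom := by
    refine sup_le (fun u hu => ?_) (fun u hu => ?_)
    · refine mem_comap.2 (mem_sup_left ?_)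
      change n * u * n⁻¹ ∈ B
      rw [hn]; exact C.nA u hu
    · refine mem_comap.2 (mem_sup_right ?_)
      change n * u * n⁻¹ ∈ B'
      rw [hn]; exact C.nA' u hu
  have h2 := mem_comap.1 (h1 hk)
  change n * k * n⁻¹ ∈ _ at h2
  rwa [hn] at h2

/-- `k ↦ k k^n` is multiplicative -/
theorem phi_mul {k l : G} (hk : k ∈ A ⊔ A') (hl : l ∈ A ⊔ A') :
    (k * l) * (n * (k * l) * n) = (k * (n * k * n)) * (l * (n * l * n)) := by
  have h1 : n * (k * l) * n = (n * k * n) * (n * l * n) := by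
    calc n * (k * l) * n = n * k * 1 * l * n := by group
      _ = n * k * (n * n) * l * n := by rw [C.nn]
      _ = _ := by group
  have h2 := C.comm l hl _ (C.nK hk)
  rw [h1]
  calc (k * l) * ((n * k * n) * (n * l * n)) = k * (l * (n * k * n)) * (n * l * n) := by group
    _ = k * ((n * k * n) * l) * (n * l * n) := by rw [h2]
    _ = _ := by group

omit C in
theorem phi_one : (1 : G) * (n * 1 * n) = n * n := by group

/-- `k k^n` commutes with `n` -/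
theorem phi_n {k : G} (hk : k ∈ A ⊔ A') : n * (k * (n * k * n)) = (k * (n * k * n)) * n := by
  have h2 := C.comm k hk _ (C.nK hk)
  calc n * (k * (n * k * n)) = (n * k * n) * 1 * k * n := by group
    _ = ((n * k * n) * k) * n := by group
    _ = _ := by rw [h2]

theorem phi_z {k : G} (hk : k ∈ A ⊔ A') : z * (k * (n * k * n)) = (k * (n * k * n)) * z := by
  have h1 := C.zKa hk
  have h2 := C.zn
  calc z * (k * (n * k * n)) = (z * k) * n * k * n := by group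
    _ = k * (z * n) * k * n := by rw [h1]; group
    _ = k * n * (z * k) * n := by rw [h2]; group
    _ = k * n * k * (z * n) := by rw [h1]; group
    _ = _ := by rw [h2]; group

theorem phi_nz {k : G} (hk : k ∈ A ⊔ A') : (n * z) * (k * (n * k * n)) = (k * (n * k * n)) * (n * z) := by
  rw [mul_assoc, C.phi_z hk, ← mul_assoc, C.phi_n hk, mul_assoc]

/-- the conjugate `g⁻¹ (k k^n) g` commutes with `z` -/
theorem conj_phi_z {k : G} (hk : k ∈ A ⊔ A') :
    z * ((x * r)⁻¹ * (k * (n * k * n)) * (x * r)) = ((x * r)⁻¹ * (k * (n * k * n)) * (x * r)) * z := by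
  have h := C.phi_nz hk
  have h0 := C.g_inv_conj
  calc z * ((x * r)⁻¹ * (k * (n * k * n)) * (x * r))
      = ((x * r)⁻¹ * (n * z) * (x * r)) * ((x * r)⁻¹ * (k * (n * k * n)) * (x * r)) := by rw [h0]
    _ = (x * r)⁻¹ * ((n * z) * (k * (n * k * n))) * (x * r) := by group
    _ = (x * r)⁻¹ * ((k * (n * k * n)) * (n * z)) * (x * r) := by rw [h]
    _ = ((x * r)⁻¹ * (k * (n * k * n)) * (x * r)) * ((x * r)⁻¹ * (n * z) * (x * r)) := by group
    _ = _ := by rw [h0]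

theorem conj_phi_n {k : G} (hk : k ∈ A ⊔ A') :
    ((x * r)⁻¹ * n * (x * r)) * ((x * r)⁻¹ * (k * (n * k * n)) * (x * r)) =
      ((x * r)⁻¹ * (k * (n * k * n)) * (x * r)) * ((x * r)⁻¹ * n * (x * r)) := by
  have h := C.phi_n hk
  calc ((x * r)⁻¹ * n * (x * r)) * ((x * r)⁻¹ * (k * (n * k * n)) * (x * r))
      = (x * r)⁻¹ * (n * (k * (n * k * n))) * (x * r) := by group
    _ = (x * r)⁻¹ * ((k * (n * k * n)) * n) * (x * r) := by rw [h]
    _ = _ := by group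

omit C in
theorem conj_mul (g a : G) : g⁻¹ * a * g = (MulAut.conj g⁻¹) a := by simp

theorem conj_phi_A {u : G} (hu : u ∈ A) :
    ∃ a ∈ A, ∃ b ∈ B, (x * r)⁻¹ * (u * (n * u * n)) * (x * r) = a * b := by
  refine C.Vz _ ?_ (C.conj_phi_z (mem_sup_left hu))
  have h1 : u * (n * u * n) ∈ V := V.mul_mem (C.AV hu) (C.BV (C.nA u hu))
  have h2 := C.rV _ (C.xV _ h1)
  convert h2 using 1
  group

theorem conj_phi_A' {u : G} (hu : u ∈ A') :
    ∃ a ∈ A', ∃ b ∈ B', (x * r)⁻¹ * (u * (n * u * n)) * (x * r) = a * b := by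
  refine C.Vz' _ ?_ (C.conj_phi_z (mem_sup_right hu))
  have h1 : u * (n * u * n) ∈ V' := V'.mul_mem (C.AV' hu) (C.BV' (C.nA' u hu))
  have h2 := C.rV' _ (C.xV' _ h1)
  convert h2 using 1
  group

/-- a property of the elements `k k^n` -/
theorem phi_induction {g : G} {N : Subgroup G} (hA : ∀ u ∈ A, g⁻¹ * (u * (n * u * n)) * g ∈ N)
    (hA' : ∀ u ∈ A', g⁻¹ * (u * (n * u * n)) * g ∈ N) {k : G} (hk : k ∈ A ⊔ A') :
    g⁻¹ * (k * (n * k * n)) * g ∈ N := by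
  have hmul : ∀ {k l : G}, k ∈ A ⊔ A' → l ∈ A ⊔ A' → g⁻¹ * ((k * l) * (n * (k * l) * n)) * g =
      (g⁻¹ * (k * (n * k * n)) * g) * (g⁻¹ * (l * (n * l * n)) * g) := by
    intro k l hk hl
    rw [C.phi_mul hk hl]; group
  let S : Subgroup G :=
    { carrier := {k | k ∈ A ⊔ A' ∧ g⁻¹ * (k * (n * k * n)) * g ∈ N}
      mul_mem' := by
        rintro k l ⟨hk, hk'⟩ ⟨hl, hl'⟩
        refine ⟨mul_mem hk hl, ?_⟩
        rw [hmul hk hl]
        exact mul_mem hk' hl'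
      one_mem' := by
        refine ⟨one_mem _, ?_⟩
        have : g⁻¹ * (1 * (n * 1 * n)) * g = g⁻¹ * (n * n) * g := by group
        rw [this, C.nn]
        simp
      inv_mem' := by
        rintro k ⟨hk, hk'⟩
        refine ⟨inv_mem hk, ?_⟩
        have h1 := hmul hk (inv_mem hk)
        have h2 : g⁻¹ * ((k * k⁻¹) * (n * (k * k⁻¹) * n)) * g = 1 := by
          have : g⁻¹ * ((k * k⁻¹) * (n * (k * k⁻¹) * n)) * g = g⁻¹ * (n * n) * g := by group
          rw [this, C.nn]; group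
        rw [h2] at h1
        rw [← inv_eq_of_mul_eq_one_right h1.symm]
        exact inv_mem hk' }
  have h1 : A ⊔ A' ≤ S := sup_le (fun u hu => ⟨mem_sup_left hu, hA u hu⟩) (fun u hu => ⟨mem_sup_right hu, hA' u hu⟩)
  exact (h1 hk).2

theorem conj_phi {k : G} (hk : k ∈ A ⊔ A') :
    (x * r)⁻¹ * (k * (n * k * n)) * (x * r) ∈ (A ⊔ A') ⊔ (B ⊔ B') := by
  refine C.phi_induction (fun u hu => ?_) (fun u hu => ?_) hk
  · obtain ⟨a, ha, b, hb, e⟩ := C.conj_phi_A hu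
    rw [e]
    exact mul_mem (mem_sup_left (mem_sup_left ha)) (mem_sup_right (mem_sup_left hb))
  · obtain ⟨a, ha, b, hb, e⟩ := C.conj_phi_A' hu
    rw [e]
    exact mul_mem (mem_sup_left (mem_sup_right ha)) (mem_sup_right (mem_sup_right hb))

/-- `(v^n)² = z` -/
theorem sq_conj {v : G} (hv : v * v = z) : (n * v * n) * (n * v * n) = z := by
  calc (n * v * n) * (n * v * n) = n * v * (n * n) * v * n := by group
    _ = n * (v * v) * n := by rw [C.nn]; group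
    _ = z := by rw [hv, ← C.zn, mul_assoc, C.nn, mul_one]

theorem phi_sq {v : G} (hvK : v ∈ A ⊔ A') (hv : v * v = z) : (v * (n * v * n)) * (v * (n * v * n)) = 1 := by
  have h2 := C.comm v hvK _ (C.nK hvK)
  calc (v * (n * v * n)) * (v * (n * v * n)) = v * ((n * v * n) * v) * (n * v * n) := by group
    _ = v * (v * (n * v * n)) * (n * v * n) := by rw [h2]
    _ = (v * v) * ((n * v * n) * (n * v * n)) := by group
    _ = 1 := by rw [hv, C.sq_conj hv, C.zz]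

/-- `v⁻¹ n v = n z (v v^n)` -/
theorem v_conj_n {v : G} (hvK : v ∈ A ⊔ A') (hv : v * v = z) :
    v⁻¹ * n * v = n * z * (v * (n * v * n)) := by
  have h1 := C.sq_conj hv
  have h2 : (n * v * n)⁻¹ = z * (n * v * n) := by
    rw [inv_eq_iff_mul_eq_one, ← mul_assoc, mul_assoc _ z, ← mul_assoc]
    have h3 : (n * v * n) * z = z * (n * v * n) := by
      rw [← h1]; group
    rw [h3, mul_assoc, h1, C.zz]
  have h4 := C.comm v hvK _ (C.nK hvK)
  have hn := inv_of_sq C.nn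
  calc v⁻¹ * n * v = n * (n * v⁻¹ * n) * v := by
        rw [← mul_assoc, ← mul_assoc, C.nn, one_mul]
    _ = n * (n * v * n)⁻¹ * v := by rw [mul_inv_rev, mul_inv_rev, hn]; group
    _ = n * z * ((n * v * n) * v) := by rw [h2]; group
    _ = _ := by rw [← h4]

/-- `v⁻¹ (n (v v^n)) v = n z` -/
theorem v_conj_nf {v : G} (hvK : v ∈ A ⊔ A') (hv : v * v = z) :
    v⁻¹ * (n * (v * (n * v * n))) * v = n * z := by
  have h4 := C.comm v hvK _ (C.nK hvK)
  have h5 : v⁻¹ * (v * (n * v * n)) * v = v * (n * v * n) := by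
    rw [inv_mul_cancel_left]; exact h4.symm
  calc v⁻¹ * (n * (v * (n * v * n))) * v = (v⁻¹ * n * v) * (v⁻¹ * (v * (n * v * n)) * v) := by group
    _ = n * z * (v * (n * v * n)) * (v * (n * v * n)) := by rw [C.v_conj_n hvK hv, h5]
    _ = _ := by rw [mul_assoc, C.phi_sq hvK hv, mul_one]

/-- `g⁻¹ v⁻¹ n v g = z (g⁻¹ f₀ g)` -/
theorem gv_conj_n {v : G} (hvK : v ∈ A ⊔ A') (hv : v * v = z) :
    (x * r)⁻¹ * (v⁻¹ * n * v) * (x * r) = z * ((x * r)⁻¹ * (v * (n * v * n)) * (x * r)) := by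
  rw [C.v_conj_n hvK hv]
  calc (x * r)⁻¹ * (n * z * (v * (n * v * n))) * (x * r)
      = ((x * r)⁻¹ * (n * z) * (x * r)) * ((x * r)⁻¹ * (v * (n * v * n)) * (x * r)) := by group
    _ = _ := by rw [C.g_inv_conj]

end Basic

section Main

variable (C : Conf z n x y r A B A' B' V V') (Q : Quat z (A ⊔ A') (B ⊔ B')) (hz1 : z ≠ 1)
include C Q hz1

set_option linter.unusedSectionVars false

theorem v_ne {v : G} (hv : v * v = z) (h : v = 1 ∨ v = z) : False := by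
  apply hz1
  rcases h with rfl | rfl
  · rw [← hv, one_mul]
  · rw [← hv]; exact C.zz

theorem f0_ne {v : G} (hvK : v ∈ A ⊔ A') (hv : v * v = z) : v * (n * v * n) ≠ 1 := by
  intro h
  have h1 : v = (n * v * n)⁻¹ := eq_inv_of_mul_eq_one_left h
  have h2 : v ∈ B ⊔ B' := by
    rw [h1]; exact inv_mem (C.nK hvK)
  exact C.v_ne Q hz1 hv (Q.inter v hvK h2)

theorem n_ne {v : G} (hvK : v ∈ A ⊔ A') (hv : v * v = z) : n ≠ 1 := by
  rintro rfl
  have h2 := C.nK hvK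
  rw [one_mul, mul_one] at h2
  exact C.v_ne Q hz1 hv (Q.inter v hvK h2)

/-- an involution `≠ z` of `K_a K_b` is a product of elements of order 4 -/
theorem exists_pq {f : G} (hf : f ∈ (A ⊔ A') ⊔ (B ⊔ B')) (hff : f * f = 1) (h1 : f ≠ 1) (hz : f ≠ z) :
    ∃ a ∈ A ⊔ A', ∃ b ∈ B ⊔ B', a * a = z ∧ b * b = z ∧ f = a * b := by
  obtain ⟨a, ha, b, hb, rfl⟩ := exists_mul_of_comm C.comm hf
  have hab := C.comm a ha b hb
  have h2 : (a * a) * (b * b) = 1 := by
    calc (a * a) * (b * b) = a * (a * b) * b := by group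
      _ = a * (b * a) * b := by rw [hab]
      _ = (a * b) * (a * b) := by group
      _ = 1 := hff
  have h3 : a * a = (b * b)⁻¹ := eq_inv_of_mul_eq_one_left h2
  have h4 : a * a ∈ B ⊔ B' := by rw [h3]; exact inv_mem (mul_mem hb hb)
  rcases Q.inter _ (mul_mem ha ha) h4 with h5 | h5
  · exfalso
    have h6 : b * b = 1 := by rw [h5, one_mul] at h2; exact h2
    rcases Q.inv a ha h5 with h7 | h7 <;> rcases Q.invb b hb h6 with h8 | h8
    · exact h1 (by rw [h7, h8, one_mul])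
    · exact hz (by rw [h7, h8, one_mul])
    · exact hz (by rw [h7, h8, mul_one])
    · exact h1 (by rw [h7, h8, C.zz])
  · refine ⟨a, ha, b, hb, h5, ?_, rfl⟩
    rw [h5] at h2
    rw [← inv_of_sq C.zz]
    exact (inv_eq_of_mul_eq_one_right h2).symm

/-- `g⁻¹ v⁻¹ n v g` is a product of two elements of order 4 -/
theorem exists_of_v {v : G} (hvK : v ∈ A ⊔ A') (hv : v * v = z) :
    ∃ a ∈ A ⊔ A', ∃ b ∈ B ⊔ B', a * a = z ∧ b * b = z ∧
      (v * (x * r))⁻¹ * n * (v * (x * r)) = a * b := by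
  have e : (v * (x * r))⁻¹ * n * (v * (x * r)) = z * ((x * r)⁻¹ * (v * (n * v * n)) * (x * r)) := by
    rw [← C.gv_conj_n hvK hv]; group
  rw [e]
  refine C.exists_pq Q hz1 ?_ ?_ ?_ ?_
  · exact mul_mem (mem_sup_left Q.zKa) (C.conj_phi hvK)
  · rw [← e]
    calc (v * (x * r))⁻¹ * n * (v * (x * r)) * ((v * (x * r))⁻¹ * n * (v * (x * r)))
        = (v * (x * r))⁻¹ * (n * n) * (v * (x * r)) := by group
      _ = 1 := by rw [C.nn]; group
  · rw [← e]
    intro h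
    apply C.n_ne Q hz1 hvK hv
    have : n = (v * (x * r)) * ((v * (x * r))⁻¹ * n * (v * (x * r))) * (v * (x * r))⁻¹ := by group
    rw [this, h]; group
  · intro h
    apply C.f0_ne Q hz1 hvK hv
    have h2 : (x * r)⁻¹ * (v * (n * v * n)) * (x * r) = 1 := by
      have h3 : z * ((x * r)⁻¹ * (v * (n * v * n)) * (x * r)) = z * 1 := by rw [h, mul_one]
      exact mul_left_cancel h3
    have : v * (n * v * n) = (x * r) * ((x * r)⁻¹ * (v * (n * v * n)) * (x * r)) * (x * r)⁻¹ := by group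
    rw [this, h2]; group

/-- **(KF1) (i)**, abstract form -/
theorem exists_conj {v w : G} (hvK : v ∈ A ⊔ A') (hv : v * v = z) (hwK : w ∈ B ⊔ B') (hw : w * w = z) :
    ∃ k ∈ (A ⊔ A') ⊔ (B ⊔ B'), (v * (x * r) * k)⁻¹ * n * (v * (x * r) * k) = v * w ∧
      (v * (x * r) * k)⁻¹ * (v * (n * v * n)) * (v * (x * r) * k) = z * (v * w) := by
  obtain ⟨a, ha, b, hb, ha2, hb2, e⟩ := C.exists_of_v Q hz1 hvK hv
  obtain ⟨k1, hk1, e1⟩ := Q.ca a ha v hvK ha2 hv
  obtain ⟨k2, hk2, e2⟩ := Q.cb b hb w hwK hb2 hw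
  have c1 := C.comm a ha k2 hk2
  have c2 := C.comm k1 hk1 b hb
  have c3 := C.comm k1 hk1 k2 hk2
  have hk : k1 * k2 * (a * b) * (k1 * k2)⁻¹ = v * w := by
    calc k1 * k2 * (a * b) * (k1 * k2)⁻¹ = k1 * (k2 * a) * b * k2⁻¹ * k1⁻¹ := by group
      _ = k1 * (a * k2) * b * k2⁻¹ * k1⁻¹ := by rw [c1]
      _ = k1 * a * (k2 * b * k2⁻¹) * k1⁻¹ := by group
      _ = k1 * a * w * k1⁻¹ := by rw [e2]
      _ = k1 * a * (w * k1⁻¹) := by group
      _ = k1 * a * (k1⁻¹ * w) := by rw [C.comm k1⁻¹ (inv_mem hk1) w hwK]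
      _ = (k1 * a * k1⁻¹) * w := by group
      _ = v * w := by rw [e1]
  have hKK : ((k1 * k2)⁻¹ : G) ∈ (A ⊔ A') ⊔ (B ⊔ B') :=
    inv_mem (mul_mem (mem_sup_left hk1) (mem_sup_right hk2))
  have hzk : z * (k1 * k2) = (k1 * k2) * z := by
    rw [← mul_assoc, C.zKa hk1, mul_assoc, C.comm z Q.zKa k2 hk2, ← mul_assoc]
  have hA : (v * (x * r) * (k1 * k2)⁻¹)⁻¹ * n * (v * (x * r) * (k1 * k2)⁻¹) = v * w := by
    calc (v * (x * r) * (k1 * k2)⁻¹)⁻¹ * n * (v * (x * r) * (k1 * k2)⁻¹)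
        = (k1 * k2) * ((v * (x * r))⁻¹ * n * (v * (x * r))) * (k1 * k2)⁻¹ := by group
      _ = _ := by rw [e, hk]
  refine ⟨(k1 * k2)⁻¹, hKK, hA, ?_⟩
  -- `v⁻¹ f₀ v = f₀ = z (z f₀)`
  have h4 := C.comm v hvK _ (C.nK hvK)
  have h5 : v⁻¹ * (v * (n * v * n)) * v = v * (n * v * n) := by
    rw [inv_mul_cancel_left]; exact h4.symm
  have h6 := C.gv_conj_n hvK hv
  have h7 : (x * r)⁻¹ * (v * (n * v * n)) * (x * r) = z * ((v * (x * r))⁻¹ * n * (v * (x * r))) := by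
    have e' : (v * (x * r))⁻¹ * n * (v * (x * r)) = (x * r)⁻¹ * (v⁻¹ * n * v) * (x * r) := by group
    rw [e', h6, cancel_sq C.zz]
  calc (v * (x * r) * (k1 * k2)⁻¹)⁻¹ * (v * (n * v * n)) * (v * (x * r) * (k1 * k2)⁻¹)
      = (k1 * k2) * ((x * r)⁻¹ * (v⁻¹ * (v * (n * v * n)) * v) * (x * r)) * (k1 * k2)⁻¹ := by group
    _ = (k1 * k2) * (z * ((v * (x * r))⁻¹ * n * (v * (x * r)))) * (k1 * k2)⁻¹ := by rw [h5, h7]
    _ = ((k1 * k2) * z) * ((v * (x * r))⁻¹ * n * (v * (x * r))) * (k1 * k2)⁻¹ := by group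
    _ = z * ((k1 * k2) * ((v * (x * r))⁻¹ * n * (v * (x * r))) * (k1 * k2)⁻¹) := by rw [← hzk]; group
    _ = z * (v * w) := by rw [e, hk]

end Main

end Conf

/-- `v⁻¹ (n (v v^n)) v = n z` -/
theorem gen_conj {n v z : G} (nn : n * n = 1) (zn : z * n = n * z) (hv : v * v = z)
    (hc : v * (n * v * n) = (n * v * n) * v) : v⁻¹ * (n * (v * (n * v * n))) * v = n * z := by
  have hn := inv_of_sq nn
  have h1 : (n * v * n) * (n * v * n) = z := by
    calc (n * v * n) * (n * v * n) = n * v * (n * n) * v * n := by group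
      _ = n * (v * v) * n := by rw [nn]; group
      _ = z := by rw [hv, ← zn, mul_assoc, nn, mul_one]
  have h3 : (n * v * n) * z = z * (n * v * n) := by rw [← h1]; group
  calc v⁻¹ * (n * (v * (n * v * n))) * v = v⁻¹ * (n * ((n * v * n) * v)) * v := by rw [hc]
    _ = v⁻¹ * (n * n) * v * (n * (v * v)) := by group
    _ = n * (v * v) := by rw [nn]; group
    _ = n * z := by rw [hv]

namespace Conf

section Norm

variable (C : Conf z n x y r A B A' B' V V') (Q : Quat z (A ⊔ A') (B ⊔ B')) (hz1 : z ≠ 1)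
  (C' : Conf' ((x * r)⁻¹ * n * (x * r)) A B A' B')
include C Q hz1 C'

set_option linter.unusedSectionVars false

theorem n'K {k : G} (hk : k ∈ A ⊔ A') : ((x * r)⁻¹ * n * (x * r)) * k * ((x * r)⁻¹ * n * (x * r)) ∈ B ⊔ B' := by
  set n' := (x * r)⁻¹ * n * (x * r) with hn'
  have hn := inv_of_sq C.n'_sq
  rw [← hn'] at hn
  have h1 : A ⊔ A' ≤ (B ⊔ B').comap (MulAut.conj n').toMonoidHom := by
    refine sup_le (fun u hu => ?_) (fun u hu => ?_)
    · refine mem_comap.2 (mem_sup_left ?_)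
      change n' * u * n'⁻¹ ∈ B
      rw [hn]; exact C'.nA u hu
    · refine mem_comap.2 (mem_sup_right ?_)
      change n' * u * n'⁻¹ ∈ B'
      rw [hn]; exact C'.nA' u hu
  have h2 := mem_comap.1 (h1 hk)
  change n' * k * n'⁻¹ ∈ _ at h2
  rwa [hn] at h2

/-- `g⁻¹ (k k^n) g = k₁ k₁^{n'}` -/
theorem exists_phi' {k : G} (hk : k ∈ A ⊔ A') : ∃ a ∈ A ⊔ A', (x * r)⁻¹ * (k * (n * k * n)) * (x * r) =
    a * (((x * r)⁻¹ * n * (x * r)) * a * ((x * r)⁻¹ * n * (x * r))) := by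
  obtain ⟨n', hn'⟩ : ∃ n', n' = (x * r)⁻¹ * n * (x * r) := ⟨_, rfl⟩
  have hnK : ∀ {k}, k ∈ A ⊔ A' → n' * k * n' ∈ B ⊔ B' := fun {k} hk => hn' ▸ C.n'K Q hz1 C' hk
  have hnn : n' * n' = 1 := hn' ▸ C.n'_sq
  rw [← hn'] at C' ⊢
  have hmul : ∀ {k l : G}, k ∈ A ⊔ A' → l ∈ A ⊔ A' →
      (k * (n' * k * n')) * (l * (n' * l * n')) = (k * l) * (n' * (k * l) * n') := by
    intro k l hk hl
    have h1 : n' * (k * l) * n' = (n' * k * n') * (n' * l * n') := by
      calc n' * (k * l) * n' = n' * k * 1 * l * n' := by group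
        _ = n' * k * (n' * n') * l * n' := by rw [hnn]
        _ = _ := by group
    have h2 := C.comm l hl _ (hnK hk)
    rw [h1]
    calc (k * (n' * k * n')) * (l * (n' * l * n')) = k * ((n' * k * n') * l) * (n' * l * n') := by group
      _ = k * (l * (n' * k * n')) * (n' * l * n') := by rw [h2]
      _ = _ := by group
  have hone : (1 : G) * (n' * 1 * n') = 1 := by
    have : (1 : G) * (n' * 1 * n') = n' * n' := by group
    rw [this, hnn]
  let S : Subgroup G :=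
    { carrier := {w | ∃ a ∈ A ⊔ A', w = a * (n' * a * n')}
      mul_mem' := by
        rintro _ _ ⟨a, ha, rfl⟩ ⟨b, hb, rfl⟩
        exact ⟨a * b, mul_mem ha hb, hmul ha hb⟩
      one_mem' := ⟨1, one_mem _, hone.symm⟩
      inv_mem' := by
        rintro _ ⟨a, ha, rfl⟩
        refine ⟨a⁻¹, inv_mem ha, ?_⟩
        refine inv_eq_of_mul_eq_one_right ?_
        rw [hmul ha (inv_mem ha), mul_inv_cancel, hone] }
  -- elements of `A`
  have key : ∀ {P P' : Subgroup G}, P ≤ A ⊔ A' → P' ≤ B ⊔ B' → (∀ u ∈ P, n' * u * n' ∈ P') →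
      (∀ u ∈ P', n' * u * n' ∈ P) → (∀ u ∈ P, u ∈ P' → u = 1) → ∀ w, n' * w = w * n' →
      (∃ a ∈ P, ∃ b ∈ P', w = a * b) → w ∈ S := by
    rintro P P' hP hP' h1 h2 h3 w hw ⟨a, ha, b, hb, rfl⟩
    refine ⟨a, hP ha, ?_⟩
    have h4 : a * b = (n' * a * n') * (n' * b * n') := by
      calc a * b = (a * b) * (n' * n') := by rw [hnn, mul_one]
        _ = ((a * b) * n') * n' := by group
        _ = (n' * (a * b)) * n' := by rw [hw]
        _ = n' * a * 1 * b * n' := by group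
        _ = n' * a * (n' * n') * b * n' := by rw [hnn]
        _ = _ := by group
    have h5 : (n' * a * n') * (n' * b * n') = (n' * b * n') * (n' * a * n') :=
      (C.comm _ (hP (h2 b hb)) _ (hP' (h1 a ha))).symm
    have h6 : (n' * b * n')⁻¹ * a = (n' * a * n') * b⁻¹ := by
      rw [inv_mul_eq_iff_eq_mul, ← mul_assoc, eq_mul_inv_iff_mul_eq, h4, h5]
    have h7 := h3 _ (mul_mem (inv_mem (h2 b hb)) ha) (by rw [h6]; exact mul_mem (h1 a ha) (inv_mem hb))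
    rw [h6, mul_inv_eq_one] at h7
    rw [h7]
  have hmem : (x * r)⁻¹ * (k * (n * k * n)) * (x * r) ∈ S := by
    refine C.phi_induction (fun u hu => ?_) (fun u hu => ?_) hk
    · exact key le_sup_left le_sup_left C'.nA C'.nB C'.AB _ (hn' ▸ C.conj_phi_n (mem_sup_left hu)) (C.conj_phi_A hu)
    · exact key le_sup_right le_sup_right C'.nA' C'.nB' C'.AB' _ (hn' ▸ C.conj_phi_n (mem_sup_right hu))
        (C.conj_phi_A' hu)
  exact hmem

/-- **(KF1) (ii)**, abstract form -/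
theorem normalizes {N D : Subgroup G} (hKa : A ⊔ A' ≤ N) (hKb : B ⊔ B' ≤ N)
    (hE : ∀ v ∈ A ⊔ A', v * v = z → ∀ u, (u ∈ A ∨ u ∈ A') →
      (v * (x * r))⁻¹ * (u * (n * u * n)) * (v * (x * r)) ∈ N)
    (hD : ∀ c ∈ D, c * z = z * c → c ∈ normalizer (N : Set G)) (hg : x * r ∈ D) (hKD : A ⊔ A' ≤ D)
    {v : G} (hvK : v ∈ A ⊔ A') (hv : v * v = z) :
    (x * r) ∈ normalizer (N : Set G) := by
  -- `g⁻¹ v g ∈ N`
  have step1 : (x * r)⁻¹ * v * (x * r) ∈ N := by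
    obtain ⟨v1, hv1K, hv1, hvv⟩ := Q.quat v hvK hv
    have h2 : (v1 * v) * (v1 * v) = z := by
      have hzv : z * v = v * z := C.zKa hvK
      have hzv1 : z * v1 = v1 * z := C.zKa hv1K
      calc (v1 * v) * (v1 * v) = v1 * v * (v1 * v) := by group
        _ = v1 * v * (z * v * v1) := by rw [hvv]
        _ = v1 * (v * z) * v * v1 := by group
        _ = v1 * (z * v) * v * v1 := by rw [hzv]
        _ = v1 * z * (v * v) * v1 := by group
        _ = v1 * (z * z) * v1 := by rw [hv]; group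
        _ = v1 * v1 := by rw [C.zz]; group
        _ = z := hv1
    obtain ⟨k, hk, e⟩ := Q.ca v1 hv1K (v1 * v) (mul_mem hv1K hvK) hv1 h2
    have h3 : (v1 * (x * r))⁻¹ * (k * (n * k * n)) * (v1 * (x * r)) ∈ N :=
      C.phi_induction (fun u hu => hE v1 hv1K hv1 u (Or.inl hu)) (fun u hu => hE v1 hv1K hv1 u (Or.inr hu)) hk
    have h4 : (x * r)⁻¹ * (k * (n * k * n)) * (x * r) ∈ N := (sup_le hKa hKb) (C.conj_phi hk)
    have h5 := mul_mem h3 (inv_mem h4)
    have h6 := C.comm v1 hv1K _ (C.nK hk)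
    have h7 : (v1 * (x * r))⁻¹ * (k * (n * k * n)) * (v1 * (x * r)) * ((x * r)⁻¹ * (k * (n * k * n)) * (x * r))⁻¹ =
        (x * r)⁻¹ * v * (x * r) := by
      calc (v1 * (x * r))⁻¹ * (k * (n * k * n)) * (v1 * (x * r)) * ((x * r)⁻¹ * (k * (n * k * n)) * (x * r))⁻¹
          = (x * r)⁻¹ * (v1⁻¹ * k * ((n * k * n) * v1) * (n * k * n)⁻¹ * k⁻¹) * (x * r) := by group
        _ = (x * r)⁻¹ * (v1⁻¹ * k * (v1 * (n * k * n)) * (n * k * n)⁻¹ * k⁻¹) * (x * r) := by rw [h6]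
        _ = (x * r)⁻¹ * (v1⁻¹ * (k * v1 * k⁻¹)) * (x * r) := by group
        _ = (x * r)⁻¹ * (v1⁻¹ * (v1 * v)) * (x * r) := by rw [e]
        _ = _ := by rw [inv_mul_cancel_left]
    rwa [h7] at h5
  -- `g⁻¹ f₀ g = v₃ v₃^{n'}`
  obtain ⟨v3, hv3K, e3⟩ := C.exists_phi' Q hz1 C' hvK
  obtain ⟨n', hn'⟩ : ∃ n', n' = (x * r)⁻¹ * n * (x * r) := ⟨_, rfl⟩
  have hnK : ∀ {k}, k ∈ A ⊔ A' → n' * k * n' ∈ B ⊔ B' := fun {k} hk => hn' ▸ C.n'K Q hz1 C' hk
  have hnn : n' * n' = 1 := hn' ▸ C.n'_sq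
  have hzn : z * n' = n' * z := hn' ▸ C.zn'
  rw [← hn'] at e3
  have hc3 := C.comm v3 hv3K _ (hnK hv3K)
  have hsq : (v3 * (n' * v3 * n')) * (v3 * (n' * v3 * n')) = 1 := by
    rw [← e3]
    calc (x * r)⁻¹ * (v * (n * v * n)) * (x * r) * ((x * r)⁻¹ * (v * (n * v * n)) * (x * r))
        = (x * r)⁻¹ * ((v * (n * v * n)) * (v * (n * v * n))) * (x * r) := by group
      _ = 1 := by rw [C.phi_sq hvK hv]; group
  have h33 : (v3 * v3) * (n' * (v3 * v3) * n') = 1 := by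
    calc (v3 * v3) * (n' * (v3 * v3) * n') = v3 * v3 * (n' * v3 * 1 * v3 * n') := by group
      _ = v3 * v3 * (n' * v3 * (n' * n') * v3 * n') := by rw [hnn]
      _ = v3 * (v3 * (n' * v3 * n')) * (n' * v3 * n') := by group
      _ = v3 * ((n' * v3 * n') * v3) * (n' * v3 * n') := by rw [← hc3]
      _ = (v3 * (n' * v3 * n')) * (v3 * (n' * v3 * n')) := by group
      _ = 1 := hsq
  have hv3 : v3 * v3 = z := by
    have h1 : v3 * v3 = (n' * (v3 * v3) * n')⁻¹ := eq_inv_of_mul_eq_one_left h33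
    rcases Q.inter (v3 * v3) (mul_mem hv3K hv3K) (by rw [h1]; exact inv_mem (hnK (mul_mem hv3K hv3K))) with h2 | h2
    · exfalso
      apply C.f0_ne Q hz1 hvK hv
      have h4 : (x * r)⁻¹ * (v * (n * v * n)) * (x * r) = 1 := by
        rw [e3]
        rcases Q.inv v3 hv3K h2 with h5 | h5
        · rw [h5]
          calc 1 * (n' * 1 * n') = n' * n' := by group
            _ = 1 := hnn
        · rw [h5, ← hzn, mul_assoc, hnn, mul_one, C.zz]
      have : v * (n * v * n) = (x * r) * ((x * r)⁻¹ * (v * (n * v * n)) * (x * r)) * (x * r)⁻¹ := by group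
      rw [this, h4]; group
    · exact h2
  have h8 := gen_conj hnn hzn hv3 hc3
  -- `g⁻¹ (n f₀) g`, computed in two ways
  have h9 : (x * r)⁻¹ * (n * (v * (n * v * n))) * (x * r) = n' * (v3 * (n' * v3 * n')) := by
    rw [← e3, hn']; group
  have h10 : n * (v * (n * v * n)) = v * (n * z) * v⁻¹ := by rw [← C.v_conj_nf hvK hv]; group
  have h11 : (x * r)⁻¹ * (n * (v * (n * v * n))) * (x * r) =
      ((x * r)⁻¹ * v * (x * r)) * z * ((x * r)⁻¹ * v * (x * r))⁻¹ := by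
    rw [h10]
    calc (x * r)⁻¹ * (v * (n * z) * v⁻¹) * (x * r)
        = ((x * r)⁻¹ * v * (x * r)) * ((x * r)⁻¹ * (n * z) * (x * r)) * ((x * r)⁻¹ * v * (x * r))⁻¹ := by group
      _ = _ := by rw [C.g_inv_conj]
  have h12 : (x * r)⁻¹ * z * (x * r) = n' * z := by rw [C.z_conj, hn']
  obtain ⟨m, hm⟩ : ∃ m, m = v3⁻¹ * ((x * r)⁻¹ * v * (x * r)) := ⟨_, rfl⟩
  have hmN : m ∈ N := by
    rw [hm]; exact mul_mem (inv_mem (hKa hv3K)) step1
  have h13 : (x * r)⁻¹ * z * (x * r) = m * z * m⁻¹ := by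
    rw [h12, ← h8, ← h9, h11, hm]; group
  have hcomm : ((x * r) * m) * z = z * ((x * r) * m) := by
    have h14 : (x * r) * (m * z * m⁻¹) * (x * r)⁻¹ = z := by rw [← h13]; group
    calc ((x * r) * m) * z = ((x * r) * (m * z * m⁻¹) * (x * r)⁻¹) * ((x * r) * m) := by group
      _ = _ := by rw [h14]
  have hmD : m ∈ D := by
    rw [hm]; exact mul_mem (inv_mem (hKD hv3K)) (mul_mem (mul_mem (inv_mem hg) (hKD hvK)) hg)
  have h15 := hD _ (mul_mem hg hmD) hcomm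
  have h16 : x * r = ((x * r) * m) * m⁻¹ := by group
  rw [h16]
  exact mul_mem h15 (inv_mem (le_normalizer hmN))

end Norm

end Conf

end Cfsg.Agent.Nodes.SwapAbs
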