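import Mathlib
import Cfsg.Agent.Nodes.ShortSum
import Cfsg.Agent.Nodes.RankOneSub
import Cfsg.Agent.Nodes.SwapAbs

/-!
# The conjugation of `SwapAbs` in the plane of two orthogonal short roots (project CIT, |E| = 4, (KF1))
-/

set_option autoImplicit false
set_option linter.unusedSectionVars false
set_option linter.dupNamespace false

namespace Cfsg.Agent.Nodes.SwapB

open CoxeterSystem Cfsg.Agent.ChevalleyStructure.CoxeterGeom Cfsg.Agent.Tits.Roots Cfsg.Agent.Tits.Core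
  Cfsg.Agent.Tits.RootComb Cfsg.Agent.Nodes.Comb Cfsg.Agent.Nodes.Reps Cfsg.Agent.Nodes.BNOf
  Cfsg.Agent.Nodes.RGDLib Cfsg.Agent.Nodes.Chart Cfsg.Agent.Nodes.Coroot Cfsg.Agent.Nodes.Perp
  Cfsg.Agent.Nodes.ZRel Cfsg.Agent.Nodes.ShortSum Cfsg.Agent.Nodes.RankOneSub Cfsg.Agent.Nodes.SwapAbs
open scoped commutatorElement

variable {I W Y : Type*} [Fintype I] [DecidableEq I] [Group W] [Fintype W] [Group Y] {M : CoxeterMatrix I}
  {cs : CoxeterSystem M W} {A : I → I → ℤ} {h : IsCartan M A} {p : ℕ} {T : Subgroup Y} {n : I → Y}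
  {X : (I → ℤ) → Subgroup Y} {R : Set (I → ℤ)} {Z : (I → ℤ) → Subgroup Y} {z : (I → ℤ) → Y}

/-! ### The reflection as `a b a` -/

/-- If an involution inverts `X y` and `X (-y)` then the representative of the reflection is of the form `a b a`. -/
theorem exists_aba (C : Cls cs h p T n X R Z z) {y : I → ℤ} (hy : IsRoot cs h y) {z₁ : Y} (hzz : z₁ * z₁ = 1)
    (hp : ∀ a ∈ X y, z₁ * a * z₁ = a⁻¹) (hm : ∀ a ∈ X (-y), z₁ * a * z₁ = a⁻¹) {b : Y} (hb : b ∈ X (-y))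
    (hb1 : b ≠ 1) : ∃ a ∈ X y, ∃ w, Rp cs C.rgd.nsys w (a * b * a) ∧
      ∀ x, rep cs h w x = x - cpr cs h x y • y := by
  have D := C.rgd
  obtain ⟨a, ha, c, hc, w, hN, hw⟩ := exists_refl_LL D hy hb hb1
  have hza := hp a ha
  have hzc := hp c hc
  have hzb := hm b hb
  have hac : a * c⁻¹ = 1 := by
    refine ti D hy (mul_mem ha (inv_mem hc)) hb hb1 ?_
    have ezN : z₁ * (a * b * c) * z₁ = a⁻¹ * b⁻¹ * c⁻¹ := by
      rw [← hza, ← hzb, ← hzc]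
      calc z₁ * (a * b * c) * z₁ = z₁ * a * 1 * b * 1 * c * z₁ := by group
        _ = z₁ * a * (z₁ * z₁) * b * (z₁ * z₁) * c * z₁ := by rw [hzz]
        _ = _ := by group
    have hNb : (a * b * c) * b * (a * b * c)⁻¹ ∈ X y := conj_neg D hy hN hw hb
    refine (show ∀ x, (a * b * c)⁻¹ * x * (a * b * c) ∈ X y → x ∈ X (-y) from fun x hx => ?_) _ ?_
    · have h3 := conj_pos D hy hN hw hx
      have e : (a * b * c) * ((a * b * c)⁻¹ * x * (a * b * c)) * (a * b * c)⁻¹ = x := by group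
      rwa [e] at h3
    · have h3 : (z₁ * (a * b * c) * z₁) * b * (z₁ * (a * b * c) * z₁)⁻¹ ∈ X y := by
        have e : (z₁ * (a * b * c) * z₁) * b * (z₁ * (a * b * c) * z₁)⁻¹ =
            z₁ * ((a * b * c) * (z₁ * b * z₁) * (a * b * c)⁻¹) * z₁ := by
          have hzi : z₁⁻¹ = z₁ := inv_eq_of_mul_eq_one_left hzz
          rw [mul_inv_rev, mul_inv_rev z₁, hzi]
          group
        have e2 : (a * b * c) * b⁻¹ * (a * b * c)⁻¹ = ((a * b * c) * b * (a * b * c)⁻¹)⁻¹ := by group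
        rw [e, hzb, e2, hp _ (inv_mem hNb)]
        exact inv_mem (inv_mem hNb)
      rw [ezN] at h3
      have e : (a * b * c)⁻¹ * (a * c⁻¹ * b * (a * c⁻¹)⁻¹) * (a * b * c) =
          (c⁻¹ * a) * ((a⁻¹ * b⁻¹ * c⁻¹) * b * (a⁻¹ * b⁻¹ * c⁻¹)⁻¹) * (c⁻¹ * a)⁻¹ := by group
      rw [e]
      exact mul_mem (mul_mem (mul_mem (inv_mem hc) ha) h3) (inv_mem (mul_mem (inv_mem hc) ha))
  rw [mul_inv_eq_one] at hac
  subst hac
  exact ⟨a, ha, w, hN, hw⟩

/-- An involution inverting the two factors of `n = a b a`, commuting with `n`: then `n² = 1` and `n = b a b`. -/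
theorem aba_eq (C : Cls cs h p T n X R Z z) {y : I → ℤ} (hy : IsRoot cs h y) {z₁ : Y} (hzz : z₁ * z₁ = 1)
    (hp : ∀ a ∈ X y, z₁ * a * z₁ = a⁻¹) (hm : ∀ a ∈ X (-y), z₁ * a * z₁ = a⁻¹) {a b : Y} (ha : a ∈ X y)
    (hb : b ∈ X (-y)) {w : W} (hw : Rp cs C.rgd.nsys w (a * b * a))
    (ew : ∀ x, rep cs h w x = x - cpr cs h x y • y) (hz : (a * b * a) * z₁ * (a * b * a)⁻¹ = z₁) :
    (a * b * a) * (a * b * a) = 1 ∧ a * b * a = b * a * b := by
  have D := C.rgd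
  have h1 : z₁ * (a * b * a) * z₁ = (a * b * a)⁻¹ := by
    calc z₁ * (a * b * a) * z₁ = z₁ * a * 1 * b * 1 * a * z₁ := by group
      _ = z₁ * a * (z₁ * z₁) * b * (z₁ * z₁) * a * z₁ := by rw [hzz]
      _ = (z₁ * a * z₁) * (z₁ * b * z₁) * (z₁ * a * z₁) := by group
      _ = _ := by rw [hp a ha, hm b hb]; group
  have h2 : (a * b * a) * z₁ = z₁ * (a * b * a) := mul_inv_eq_iff_eq_mul.1 hz
  obtain ⟨N, hN⟩ : ∃ N, N = a * b * a := ⟨_, rfl⟩
  rw [← hN] at h1 h2 hw ⊢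
  have h3 : N = N⁻¹ := by
    calc N = N * (z₁ * z₁) := by rw [hzz, mul_one]
      _ = (N * z₁) * z₁ := by group
      _ = z₁ * N * z₁ := by rw [h2]
      _ = N⁻¹ := h1
  have h4 : N * N = 1 := by
    nth_rewrite 1 [h3]
    exact inv_mul_cancel N
  refine ⟨h4, ?_⟩
  have ha' : N * a * N⁻¹ ∈ X (-y) := conj_pos D hy hw ew ha
  have hb' : N * b * N⁻¹ ∈ X y := conj_neg D hy hw ew hb
  obtain ⟨a', ea⟩ : ∃ a', a' = N * a * N⁻¹ := ⟨_, rfl⟩
  obtain ⟨b', eb⟩ : ∃ b', b' = N * b * N⁻¹ := ⟨_, rfl⟩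
  rw [← ea] at ha'
  rw [← eb] at hb'
  have h5 : N = a' * b' * a' := by
    calc N = N * N * N⁻¹ := by group
      _ = N * (a * b * a) * N⁻¹ := by rw [← hN]
      _ = _ := by rw [ea, eb]; group
  have h6 : b = N * a'⁻¹ * a⁻¹ := by
    calc b = a⁻¹ * N * a⁻¹ := by rw [hN]; group
      _ = N * (N⁻¹ * a⁻¹ * N) * a⁻¹ := by group
      _ = N * (N * a⁻¹ * N⁻¹) * a⁻¹ := by rw [← h3]
      _ = _ := by rw [ea]; group
  have h7 : b * a = a' * b' := by
    calc b * a = N * a'⁻¹ := by rw [h6]; group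
      _ = (a' * b' * a') * a'⁻¹ := by rw [← h5]
      _ = _ := by group
  have h8 : a'⁻¹ * b = b' * a⁻¹ := by
    rw [inv_mul_eq_iff_eq_mul, ← mul_assoc, eq_mul_inv_iff_mul_eq, h7]
  have h9 : a'⁻¹ * b = 1 := eq_one_of_mem_both D hy (by rw [h8]; exact mul_mem hb' (inv_mem ha))
    (mul_mem (inv_mem ha') hb)
  have h10 : a' = b := (inv_mul_eq_one.1 h9)
  have h11 : b' = a := by
    rw [h9] at h8
    exact (mul_inv_eq_one.1 h8.symm)
  rw [h5, h10, h11]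

/-- square roots in root groups -/
theorem exists_sqrt (C : Cls cs h p T n X R Z z) (hp : p.Prime) (hodd : p ≠ 2) {y : I → ℤ} (hy : IsRoot cs h y) {a : Y}
    (ha : a ∈ X y) : ∃ r ∈ X y, r * r = a := by
  have : Fact p.Prime := ⟨hp⟩
  obtain ⟨k, hk⟩ := (C.rgd.pgrp' hy) ⟨a, ha⟩
  have hk' : a ^ p ^ k = 1 := congrArg Subtype.val hk
  have hodd' : Odd (p ^ k) := (hp.odd_of_ne_two hodd).pow
  obtain ⟨m, hm⟩ := hodd'
  refine ⟨a ^ (m + 1), pow_mem ha _, ?_⟩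
  rw [← pow_add]
  have : m + 1 + (m + 1) = (2 * m + 1) + 1 := by ring
  rw [this, ← hm, pow_succ, hk', one_mul]

/-! ### The configuration -/

variable {m : ℤ} {y₁ y₂ x b : I → ℤ}

theorem Sq.conj' (S : Sq cs h m y₁ y₂ x b) : Sq cs h m y₁ (-y₂) (-b) (-x) where
  pos := S.pos
  root₁ := S.root₁
  root₂ := S.root₂.neg
  root := S.rootb.neg
  rootb := S.root.neg
  orth := by rw [form_neg_right, S.orth, neg_zero]
  len := by rw [form_neg_left, form_neg_right, neg_neg, S.len]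
  add := by rw [smul_neg, S.sub]; abel
  sub := by rw [smul_neg, S.add]; abel

theorem Sq.swap (S : Sq cs h m y₁ y₂ x b) : Sq cs h m y₂ y₁ x (-b) where
  pos := S.pos
  root₁ := S.root₂
  root₂ := S.root₁
  root := S.root
  rootb := S.rootb.neg
  orth := by rw [form_comm]; exact S.orth
  len := S.len.symm
  add := by rw [S.add, add_comm]
  sub := by rw [smul_neg, S.sub]; abel

/-- `y₁ ⟂ y₂` short, `x = y₁ + y₂`, `b = y₂ - y₁` classical with the same involution, `Z = X` -/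
structure Cfg (cs : CoxeterSystem M W) (h : IsCartan M A) (p : ℕ) (X : (I → ℤ) → Subgroup Y) (R : Set (I → ℤ))
    (Z : (I → ℤ) → Subgroup Y) (z : (I → ℤ) → Y) (m : ℤ) (y₁ y₂ x b : I → ℤ) : Prop where
  S : Sq cs h m y₁ y₂ x b
  hx : x ∈ R
  hb : b ∈ R
  hZ : ∀ r ∈ R, Z r = X r
  hp : p.Prime
  hodd : p ≠ 2
  hz : z x = z b

namespace Cfg

section

variable (C : Cls cs h p T n X R Z z) (F : Cfg cs h p X R Z z m y₁ y₂ x b)
include F

theorem flip : Cfg cs h p X R Z z m (-y₁) y₂ b x := ⟨F.S.flip, F.hb, F.hx, F.hZ, F.hp, F.hodd, F.hz.symm⟩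

include C

theorem conj' : Cfg cs h p X R Z z m y₁ (-y₂) (-b) (-x) :=
  ⟨Sq.conj' F.S, neg_mem C F.hb, neg_mem C F.hx, F.hZ, F.hp, F.hodd, by
    rw [C.z_neg b F.hb, C.z_neg x F.hx, F.hz]⟩

theorem swap : Cfg cs h p X R Z z m y₂ y₁ x (-b) :=
  ⟨Sq.swap F.S, F.hx, neg_mem C F.hb, F.hZ, F.hp, F.hodd, by rw [C.z_neg b F.hb, F.hz]⟩

theorem zi₁ {a : Y} (ha : a ∈ X y₁) : z b * a * z b = a⁻¹ :=
  C.z_inv b F.hb y₁ F.S.root₁ F.S.ne_b.1 F.S.ne_b.2 (by rw [form_comm]; exact F.S.b₁_neg.ne) a ha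

theorem zi₁' {a : Y} (ha : a ∈ X (-y₁)) : z b * a * z b = a⁻¹ := by
  have := F.flip.zi₁ C ha
  rwa [F.hz] at this

theorem zi₂ {a : Y} (ha : a ∈ X y₂) : z b * a * z b = a⁻¹ :=
  C.z_inv b F.hb y₂ F.S.root₂ F.S.ne_b₂.1 F.S.ne_b₂.2 (by rw [form_comm]; exact F.S.b₂_pos.ne') a ha

theorem zc {r : I → ℤ} (hr : r ∈ R) {a : Y} (ha : a ∈ X r) : z r * a = a * z r := C.z_cent r hr a (F.hZ r hr ▸ ha)

theorem zb {a : Y} (ha : a ∈ X b) : z b * a = a * z b := F.zc C F.hb ha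

theorem zx {a : Y} (ha : a ∈ X x) : z b * a = a * z b := by rw [← F.hz]; exact F.zc C F.hx ha

theorem zb' {a : Y} (ha : a ∈ X (-b)) : z b * a = a * z b := by
  rw [← C.z_neg b F.hb]; exact F.zc C (neg_mem C F.hb) ha

theorem zx' {a : Y} (ha : a ∈ X (-x)) : z b * a = a * z b := by
  rw [← F.hz, ← C.z_neg x F.hx]; exact F.zc C (neg_mem C F.hx) ha

/-- an element of a classical root group commutes with `X y` if `(y, r) ≥ 0` -/
theorem cr {r y : I → ℤ} (hr : r ∈ R) (hy : IsRoot cs h y) (h0 : 0 ≤ form cs h y r) :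
    ∀ c ∈ X r, ∀ a ∈ X y, c * a = a * c := fun c hc a ha =>
  (C.cent r hr y hy h0 a ha c (F.hZ r hr ▸ hc)).symm

theorem abel₂ : ∀ a ∈ X y₂, ∀ a' ∈ X y₂, a * a' = a' * a := by
  intro a ha a' ha'
  have h1 := F.zi₂ C ha
  have h2 := F.zi₂ C ha'
  have h3 := F.zi₂ C (mul_mem ha ha')
  have zz := C.z_sq b F.hb
  have h4 : z b * (a * a') * z b = a⁻¹ * a'⁻¹ := by
    rw [← h1, ← h2]
    calc z b * (a * a') * z b = z b * a * 1 * a' * z b := by group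
      _ = z b * a * (z b * z b) * a' * z b := by rw [zz]
      _ = _ := by group
  rw [h4, mul_inv_rev] at h3
  have h5 := congrArg (fun t => t⁻¹) h3
  simp only [mul_inv_rev, inv_inv] at h5
  exact h5.symm

end

end Cfg

/-- `V = X b · X y₂ · X x` -/
def Vg (X : (I → ℤ) → Subgroup Y) (y₂ x b : I → ℤ) : Subgroup Y := X b ⊔ (X y₂ ⊔ X x)

theorem Vg_comm_eq (X : (I → ℤ) → Subgroup Y) (y₂ x b : I → ℤ) : Vg X y₂ b x = Vg X y₂ x b := by
  unfold Vg
  ac_rfl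

namespace Cfg

section

variable (C : Cls cs h p T n X R Z z) (F : Cfg cs h p X R Z z m y₁ y₂ x b)
include C F

theorem V_abel : ∀ u ∈ Vg X y₂ x b, ∀ v ∈ Vg X y₂ x b, u * v = v * u := by
  have key : ∀ {P : Subgroup Y}, (∀ c ∈ X b, ∀ a ∈ P, c * a = a * c) → (∀ c ∈ X y₂, ∀ a ∈ P, c * a = a * c) →
      (∀ c ∈ X x, ∀ a ∈ P, c * a = a * c) → ∀ u ∈ Vg X y₂ x b, ∀ v ∈ P, u * v = v * u := by
    intro P h1 h2 h3 u hu v hv
    have : Vg X y₂ x b ≤ Subgroup.centralizer {v} := by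
      refine sup_le (fun c hc => ?_) (sup_le (fun c hc => ?_) (fun c hc => ?_)) <;>
        rw [Subgroup.mem_centralizer_singleton_iff]
      · exact h1 c hc v hv
      · exact h2 c hc v hv
      · exact h3 c hc v hv
    exact Subgroup.mem_centralizer_singleton_iff.1 (this hu)
  have rb := F.S.rootb
  have rx := F.S.root
  have r2 := F.S.root₂
  have hbb := F.cr C F.hb rb (form_pos cs h rb.ne_zero).le
  have hxx := F.cr C F.hx rx (form_pos cs h rx.ne_zero).le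
  have hb2 := F.cr C F.hb r2 (by rw [form_comm]; exact F.S.b₂_pos.le)
  have hx2 := F.cr C F.hx r2 (by rw [form_comm]; exact F.S.x₂_pos.le)
  have hbx := F.cr C F.hb rx F.S.xb.ge
  refine key ?_ ?_ ?_
  · exact fun c hc a ha => (key hbb (fun c hc a ha => (hb2 a ha c hc).symm) (fun c hc a ha => (hbx a ha c hc).symm)
      a ha c hc).symm
  · exact fun c hc a ha => (key hb2 (F.abel₂ C) hx2 a ha c hc).symm
  · exact fun c hc a ha => (key hbx (fun c hc a ha => (hx2 a ha c hc).symm) hxx a ha c hc).symm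

theorem V_dec {v : Y} (hv : v ∈ Vg X y₂ x b) : ∃ β ∈ X b, ∃ c ∈ X y₂, ∃ ξ ∈ X x, v = β * (c * ξ) := by
  have hV := F.V_abel C
  have h1 : X b ≤ Vg X y₂ x b := le_sup_left
  have h2 : X y₂ ⊔ X x ≤ Vg X y₂ x b := le_sup_right
  have h3 : X y₂ ≤ Vg X y₂ x b := le_sup_left.trans h2
  have h4 : X x ≤ Vg X y₂ x b := le_sup_right.trans h2
  obtain ⟨β, hβ, w, hw, rfl⟩ := mem_sup_of_cm (fun a ha c hc => hV a (h1 ha) c (h2 hc)) hv
  obtain ⟨c, hc, ξ, hξ, rfl⟩ := mem_sup_of_cm (fun a ha c hc => hV a (h3 ha) c (h4 hc)) hw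
  exact ⟨β, hβ, c, hc, ξ, hξ, rfl⟩

/-- `z v z` -/
theorem V_z_conj {β c ξ : Y} (hβ : β ∈ X b) (hc : c ∈ X y₂) (hξ : ξ ∈ X x) :
    z b * (β * (c * ξ)) * z b = β * (c⁻¹ * ξ) := by
  have h1 := F.zb C hβ
  have h2 := F.zi₂ C hc
  have h3 := F.zx C hξ
  have zz := C.z_sq b F.hb
  calc z b * (β * (c * ξ)) * z b = (z b * β) * c * (ξ * z b) := by group
    _ = (β * z b) * c * (z b * ξ) := by rw [h1, h3]
    _ = β * ((z b * c * z b) * ξ) := by group
    _ = _ := by rw [h2]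

theorem V_z {v : Y} (hv : v ∈ Vg X y₂ x b) (h0 : z b * v = v * z b) : ∃ β ∈ X b, ∃ ξ ∈ X x, v = β * ξ := by
  obtain ⟨β, hβ, c, hc, ξ, hξ, rfl⟩ := F.V_dec C hv
  have h1 := F.V_z_conj C hβ hc hξ
  rw [h0, mul_assoc, C.z_sq b F.hb, mul_one] at h1
  have h2 : c = c⁻¹ := mul_right_cancel (mul_left_cancel h1)
  have h3 := eq_one_of_inv C F.hp F.hodd F.S.root₂ hc h2
  exact ⟨β, hβ, ξ, hξ, by rw [h3, one_mul]⟩

theorem V_norm {g : Y} (hg : g ∈ X y₁) {v : Y} (hv : v ∈ Vg X y₂ x b) : g * v * g⁻¹ ∈ Vg X y₂ x b := by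
  have h1 : X b ≤ Vg X y₂ x b := le_sup_left
  have h2 : X y₂ ⊔ X x ≤ Vg X y₂ x b := le_sup_right
  have h3 : X y₂ ≤ Vg X y₂ x b := le_sup_left.trans h2
  have h4 : X x ≤ Vg X y₂ x b := le_sup_right.trans h2
  have D := C.rgd
  have key : Vg X y₂ x b ≤ (Vg X y₂ x b).comap (MulAut.conj g).toMonoidHom := by
    refine sup_le (fun c hc => ?_) (sup_le (fun c hc => ?_) (fun c hc => ?_)) <;>
      rw [Subgroup.mem_comap] <;> change g * c * g⁻¹ ∈ _
    · have e : g * c * g⁻¹ = ⁅g, c⁆ * c := by rw [commutatorElement_def]; group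
      rw [e]
      refine mul_mem (h2 ?_) (h1 hc)
      refine btw_le ?_ (D.comm y₁ b F.S.root₁ F.S.rootb F.S.ne_b.1 F.S.ne_b.2 g hg c hc)
      intro w hw
      rcases F.S.btwn' hw with rfl | rfl
      · exact le_sup_left
      · exact le_sup_right
    · have e : g * c * g⁻¹ = ⁅g, c⁆ * c := by rw [commutatorElement_def]; group
      rw [e]
      refine mul_mem (h4 ?_) (h3 hc)
      refine btw_le ?_ (D.comm y₁ y₂ F.S.root₁ F.S.root₂ F.S.ne₁ F.S.ne₂ g hg c hc)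
      intro w hw
      rw [F.S.btwn hw]
    · have e := F.cr C F.hx F.S.root₁ (by rw [form_comm]; exact F.S.x₁_pos.le) c hc g hg
      rw [← e, mul_inv_cancel_right]
      exact h4 hc
  exact key hv

theorem V_norm' {g : Y} (hg : g ∈ X (-y₁)) {v : Y} (hv : v ∈ Vg X y₂ x b) : g * v * g⁻¹ ∈ Vg X y₂ x b := by
  have := F.flip.V_norm C hg (v := v) (by rw [Vg_comm_eq]; exact hv)
  rwa [Vg_comm_eq] at this

/-- **The configuration of `SwapAbs`.** -/
theorem conf {u : Y} (hu : u ∈ X y₁) (hu1 : u ≠ 1) : ∃ v ∈ X (-y₁), ∃ r ∈ X (-y₁), ∃ w,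
    Rp cs C.rgd.nsys w (u * v * u) ∧ rep cs h w b = x ∧ rep cs h w x = b ∧ rep cs h w y₁ = -y₁ ∧
    u * v * u = v * u * v ∧
    Conf (z b) (u * v * u) u v r (X b) (X x) (X (-b)) (X (-x)) (Vg X y₂ x b) (Vg X (-y₂) (-b) (-x)) := by
  have D := C.rgd
  have hu' : u ∈ X (- -y₁) := by rwa [neg_neg]
  obtain ⟨v, hv, w, hw, ew⟩ := exists_aba C F.S.root₁.neg (C.z_sq b F.hb) (fun a ha => F.zi₁' C ha)
    (fun a ha => F.zi₁ C (by rwa [neg_neg] at ha)) hu' hu1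
  have ewb : rep cs h w b = x := by
    rw [ew, cpr_neg_right cs h b F.S.root₁, neg_smul, smul_neg, neg_neg]
    exact F.S.refl_b
  have ewx : rep cs h w x = b := by
    rw [ew]; exact F.S.flip.refl_b
  have hzn : (v * u * v) * z b * (v * u * v)⁻¹ = z b := by
    have h3 := ClsNorm.conj_z C hw F.hb
    rw [ewb, F.hz] at h3
    exact h3
  obtain ⟨h4, h5⟩ := aba_eq C F.S.root₁.neg (C.z_sq b F.hb) (fun a ha => F.zi₁' C ha)
    (fun a ha => F.zi₁ C (by rwa [neg_neg] at ha)) hv hu' hw ew hzn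
  obtain ⟨r, hr, hrr⟩ := exists_sqrt C F.hp F.hodd F.S.root₁.neg hv
  rw [h5] at hw h4
  have ewy : rep cs h w y₁ = -y₁ := by
    rw [ew, cpr_neg_right cs h y₁ F.S.root₁, cpr_self cs h F.S.root₁]
    module
  refine ⟨v, hv, r, hr, w, hw, ewb, ewx, ewy, h5.symm, ?_⟩
  have hni : (u * v * u)⁻¹ = u * v * u := inv_eq_of_mul_eq_one_left h4
  have ewb' : rep cs h w (-b) = -x := by rw [map_neg, ewb]
  have cj1 : ∀ c ∈ X b, (u * v * u) * c * (u * v * u) ∈ X x := fun c hc => by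
    have := D.conj_mem hw F.S.rootb hc
    rwa [ewb, hni] at this
  have cj2 : ∀ c ∈ X (-b), (u * v * u) * c * (u * v * u) ∈ X (-x) := fun c hc => by
    have := D.conj_mem hw F.S.rootb.neg hc
    rwa [ewb', hni] at this
  have F' := F.conj' C
  have iu : ∀ t, u⁻¹ * t * u = u⁻¹ * t * u⁻¹⁻¹ := fun t => by rw [inv_inv]
  have ir : ∀ t, r⁻¹ * t * r = r⁻¹ * t * r⁻¹⁻¹ := fun t => by rw [inv_inv]
  refine
    { zz := C.z_sq b F.hb
      zx := F.zi₁ C hu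
      zy := F.zi₁' C hv
      nx := rfl
      nn := h4
      rr := hrr
      zr := F.zi₁' C hr
      zA := fun c hc => F.zb C hc
      zA' := fun c hc => F.zb' C hc
      nA := cj1
      nA' := cj2
      AV := le_sup_left
      BV := le_sup_right.trans le_sup_right
      AV' := le_sup_right.trans le_sup_right
      BV' := le_sup_left
      xV := fun t ht => by rw [iu]; exact F.V_norm C (inv_mem hu) ht
      rV := fun t ht => by rw [ir]; exact F.V_norm' C (inv_mem hr) ht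
      xV' := fun t ht => by rw [iu]; exact F'.V_norm C (inv_mem hu) ht
      rV' := fun t ht => by rw [ir]; exact F'.V_norm' C (inv_mem hr) ht
      Vz := fun t ht h0 => F.V_z C ht h0
      Vz' := fun t ht h0 => ?_
      comm := ?_ }
  · have hzb : z (-x) = z b := by rw [C.z_neg x F.hx, F.hz]
    obtain ⟨ξ, hξ, β, hβ, e⟩ := F'.V_z C ht (by rw [hzb]; exact h0)
    exact ⟨β, hβ, ξ, hξ, by rw [e]; exact F.cr C (neg_mem C F.hx) F.S.rootb.neg (by
      rw [form_neg_left, form_neg_right, neg_neg, form_comm, F.S.xb]) ξ hξ β hβ⟩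
  · have h6 : ∀ {r s : I → ℤ}, r ∈ R → IsRoot cs h s → form cs h s r = 0 → ∀ c ∈ X r, ∀ a ∈ X s, c * a = a * c :=
      fun hr hs h0 => F.cr C hr hs h0.ge
    have hb' := neg_mem C F.hb
    have o1 : form cs h x b = 0 := F.S.xb
    have o2 : form cs h (-x) b = 0 := by rw [form_neg_left, o1, neg_zero]
    have o3 : form cs h x (-b) = 0 := by rw [form_neg_right, o1, neg_zero]
    have o4 : form cs h (-x) (-b) = 0 := by rw [form_neg_right, o2, neg_zero]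
    have hk : ∀ l ∈ X x ⊔ X (-x), X b ⊔ X (-b) ≤ Subgroup.centralizer {l} := by
      intro l hl
      have h7 : ∀ {r : I → ℤ}, r ∈ R → form cs h x r = 0 → form cs h (-x) r = 0 → ∀ c ∈ X r, c * l = l * c := by
        intro r hr h1 h2 c hc
        have : X x ⊔ X (-x) ≤ Subgroup.centralizer {c} := by
          refine sup_le (fun a ha => ?_) (fun a ha => ?_) <;> rw [Subgroup.mem_centralizer_singleton_iff]
          · exact (h6 hr F.S.root h1 c hc a ha).symm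
          · exact (h6 hr F.S.root.neg h2 c hc a ha).symm
        exact (Subgroup.mem_centralizer_singleton_iff.1 (this hl)).symm
      refine sup_le (fun c hc => ?_) (fun c hc => ?_) <;> rw [Subgroup.mem_centralizer_singleton_iff]
      · exact h7 F.hb o1 o2 c hc
      · exact h7 hb' o3 o4 c hc
    exact fun k hk' l hl => Subgroup.mem_centralizer_singleton_iff.1 (hk l hl hk')

end

end Cfg

theorem pow_conj {g s : Y} {k : ℕ} (hs : s ^ k = 1) : (g⁻¹ * s * g) ^ k = 1 := by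
  have : g⁻¹ * s * g = g⁻¹ * s * g⁻¹⁻¹ := by rw [inv_inv]
  rw [this, conj_pow, hs, mul_one, mul_inv_cancel]

/-- `t (z t z)⁻¹` -/
def kap (z t : Y) : Y := t * (z * t * z)⁻¹

namespace Cfg

section

variable (C : Cls cs h p T n X R Z z) (F : Cfg cs h p X R Z z m y₁ y₂ x b)
include C F

theorem phi_pow {u v r : Y}
    (hC : Conf (z b) (u * v * u) u v r (X b) (X x) (X (-b)) (X (-x)) (Vg X y₂ x b) (Vg X (-y₂) (-b) (-x)))
    {c : Y} (hc : c ∈ X b ∨ c ∈ X (-b)) : ∃ k : ℕ, (c * ((u * v * u) * c * (u * v * u))) ^ p ^ k = 1 := by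
  have hcc : c ∈ X b ⊔ X (-b) := hc.elim (fun h => Subgroup.mem_sup_left h) (fun h => Subgroup.mem_sup_right h)
  have h0 := hC.comm c hcc _ (hC.nK hcc)
  obtain ⟨i, hi⟩ : ∃ i : ℕ, c ^ p ^ i = 1 := by
    rcases hc with hc | hc
    · obtain ⟨k, hk⟩ := (C.rgd.pgrp' F.S.rootb) ⟨c, hc⟩
      exact ⟨k, congrArg Subtype.val hk⟩
    · obtain ⟨k, hk⟩ := (C.rgd.pgrp' F.S.rootb.neg) ⟨c, hc⟩
      exact ⟨k, congrArg Subtype.val hk⟩
  refine ⟨i, ?_⟩
  have hn : (u * v * u)⁻¹ = u * v * u := inv_eq_of_mul_eq_one_left hC.nn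
  have e : (u * v * u) * c * (u * v * u) = (u * v * u)⁻¹ * c * (u * v * u) := by rw [hn]
  rw [(show Commute c _ from h0).mul_pow, hi, one_mul, e]
  exact pow_conj hi

/-- **(KF1) (i)** -/
theorem ka (Q : Quat (z b) (X b ⊔ X (-b)) (X x ⊔ X (-x))) (hz1 : z b ≠ 1) {v w : Y} (hvK : v ∈ X b ⊔ X (-b))
    (hv : v * v = z b) (hwK : w ∈ X x ⊔ X (-x)) (hw : w * w = z b) :
    ∃ S : Set Y, (∀ s ∈ S, s ∈ G1 cs h X ∧ s * (v * w) = (v * w) * s ∧ ∃ k : ℕ, s ^ p ^ k = 1) ∧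
      z b * (v * w) ∈ Subgroup.closure S := by
  obtain ⟨u, hu, hu1⟩ : ∃ u ∈ X y₁, u ≠ 1 := by
    by_contra h0
    push Not at h0
    exact StdConn.X_ne_bot C F.S.root₁ ((Subgroup.eq_bot_iff_forall _).2 h0)
  obtain ⟨u', hu', r, hr, w0, -, -, -, -, -, hC⟩ := F.conf C hu hu1
  obtain ⟨k, hk, e1, e2⟩ := hC.exists_conj Q hz1 hvK hv hwK hw
  have lb : X b ⊔ X (-b) ≤ G1 cs h X := sup_le (X_le_G1 F.S.rootb) (X_le_G1 F.S.rootb.neg)
  have lx : X x ⊔ X (-x) ≤ G1 cs h X := sup_le (X_le_G1 F.S.root) (X_le_G1 F.S.root.neg)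
  have gu : u ∈ G1 cs h X := X_le_G1 F.S.root₁ hu
  have gu' : u' ∈ G1 cs h X := X_le_G1 F.S.root₁.neg hu'
  have gr : r ∈ G1 cs h X := X_le_G1 F.S.root₁.neg hr
  have gt : v * (u * r) * k ∈ G1 cs h X := mul_mem (mul_mem (lb hvK) (mul_mem gu gr)) ((sup_le lb lx) hk)
  have gn : u * u' * u ∈ G1 cs h X := mul_mem (mul_mem gu gu') gu
  obtain ⟨S, hS⟩ : ∃ S : Set Y, S = {s | ∃ c, (c ∈ X b ∨ c ∈ X (-b)) ∧
    s = (v * (u * r) * k)⁻¹ * (c * ((u * u' * u) * c * (u * u' * u))) * (v * (u * r) * k)} := ⟨_, rfl⟩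
  refine ⟨S, ?_, ?_⟩
  · rw [hS]
    rintro _ ⟨c, hc, rfl⟩
    have hcc : c ∈ X b ⊔ X (-b) := hc.elim (fun h => Subgroup.mem_sup_left h) (fun h => Subgroup.mem_sup_right h)
    refine ⟨?_, ?_, ?_⟩
    · exact mul_mem (mul_mem (inv_mem gt) (mul_mem (lb hcc) (mul_mem (mul_mem gn (lb hcc)) gn))) gt
    · rw [← e1]
      have h0 := hC.phi_n hcc
      obtain ⟨t, ht⟩ : ∃ t, t = v * (u * r) * k := ⟨_, rfl⟩
      rw [← ht]
      calc t⁻¹ * (c * ((u * u' * u) * c * (u * u' * u))) * t * (t⁻¹ * (u * u' * u) * t)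
          = t⁻¹ * ((c * ((u * u' * u) * c * (u * u' * u))) * (u * u' * u)) * t := by group
        _ = t⁻¹ * ((u * u' * u) * (c * ((u * u' * u) * c * (u * u' * u)))) * t := by rw [h0]
        _ = _ := by group
    · obtain ⟨i, hi⟩ := F.phi_pow C hC hc
      exact ⟨i, pow_conj hi⟩
  · rw [← e2]
    refine hC.phi_induction (N := Subgroup.closure S) (fun c hc => Subgroup.subset_closure ?_)
      (fun c hc => Subgroup.subset_closure ?_) hvK
    · rw [hS]; exact ⟨c, Or.inl hc, rfl⟩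
    · rw [hS]; exact ⟨c, Or.inr hc, rfl⟩

theorem abel₁' : ∀ a ∈ X (-y₁), ∀ a' ∈ X (-y₁), a * a' = a' * a :=
  ((F.swap C).conj' C).abel₂ C

omit C F in
theorem inf_of_ell (C : Cls cs h p T n X R Z z) (F : Cfg cs h p X R Z z m y₁ y₂ x b) {a : Y} (h1 : a ∈ X x)
    (h2 : a ∈ X b) : a = 1 := by
  have k1 : X x ≤ RGD.Sup X {x | IsRoot cs h x ∧ 0 < ell cs h F.S.root₁ x} := by
    refine RGD.le_Sup ⟨F.S.root, ?_⟩
    rw [ell_apply, cpr_pos_iff cs h x F.S.root₁]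
    exact F.S.x₁_pos
  have k2 : X b ≤ RGD.Sup X {x | IsRoot cs h x ∧ ell cs h F.S.root₁ x < 0} := by
    refine RGD.le_Sup ⟨F.S.rootb, ?_⟩
    rw [ell_apply, ← neg_pos, ← cpr_neg cs h b F.S.root₁, cpr_pos_iff cs h _ F.S.root₁, form_neg_left]
    have := F.S.b₁_neg
    omega
  exact Slope.sup_inf_sup C.rgd (ell cs h F.S.root₁) (k1 h1) (k2 h2)

/-- the conditions on `n' = g⁻¹ n g`, `g = u r` -/
theorem conf' {u v r : Y} (hu : u ∈ X y₁) (hu1 : u ≠ 1) (hr : r ∈ X (-y₁))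
    (hC : Conf (z b) (u * v * u) u v r (X b) (X x) (X (-b)) (X (-x)) (Vg X y₂ x b) (Vg X (-y₂) (-b) (-x))) :
    Conf' ((u * r)⁻¹ * (u * v * u) * (u * r)) (X b) (X x) (X (-b)) (X (-x)) := by
  have D := C.rgd
  have huu : u * u ∈ X y₁ := mul_mem hu hu
  have huu1 : u * u ≠ 1 := fun e => hu1 (eq_one_of_inv C F.hp F.hodd F.S.root₁ hu (eq_inv_of_mul_eq_one_left e))
  obtain ⟨v2, hv2, r2, -, w, hw, ewb, ewx, ewy, e2, hC2⟩ := F.conf C huu huu1
  have eN : (u * r)⁻¹ * (u * v * u) * (u * r) = r * (u * u) * r := by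
    calc (u * r)⁻¹ * (u * v * u) * (u * r) = r⁻¹ * v * (u * u) * r := by group
      _ = r⁻¹ * (r * r) * (u * u) * r := by rw [hC.rr]
      _ = _ := by group
  have hzn := hC.zn'
  rw [eN] at hzn
  obtain ⟨n2, hn2⟩ : ∃ n2, n2 = u * u * v2 * (u * u) := ⟨_, rfl⟩
  have hzn2 := hC2.zn
  rw [← hn2] at hzn2 hw
  rw [← hn2] at e2
  have zz := C.z_sq b F.hb
  have hab := F.abel₁' C
  obtain ⟨s, hs⟩ : ∃ s, s = r * v2⁻¹ := ⟨_, rfl⟩
  have hsX : s ∈ X (-y₁) := hs ▸ mul_mem hr (inv_mem hv2)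
  have hs' : s = v2⁻¹ * r := by rw [hs]; exact hab r hr _ (inv_mem hv2)
  have e3 : r * (u * u) * r = s * n2 * s := by
    calc r * (u * u) * r = (r * v2⁻¹) * (v2 * (u * u) * v2) * (v2⁻¹ * r) := by group
      _ = s * n2 * s := by rw [← e2, ← hs', ← hs]
  have hzs : z b * s * z b = s⁻¹ := F.zi₁' C hsX
  have e4 : s * n2 * s = s⁻¹ * n2 * s⁻¹ := by
    calc s * n2 * s = (s * n2 * s) * (z b * z b) := by rw [zz, mul_one]
      _ = ((s * n2 * s) * z b) * z b := by group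
      _ = (z b * (s * n2 * s)) * z b := by rw [← e3, ← hzn]
      _ = z b * s * 1 * n2 * 1 * s * z b := by group
      _ = z b * s * (z b * z b) * n2 * (z b * z b) * s * z b := by rw [zz]
      _ = (z b * s * z b) * (z b * n2 * z b) * (z b * s * z b) := by group
      _ = s⁻¹ * (n2 * (z b * z b)) * s⁻¹ := by rw [hzs, hzn2]; group
      _ = _ := by rw [zz, mul_one]
  have e5 : n2 * (s * s) * n2⁻¹ = (s * s)⁻¹ := by
    have : s * s * n2 * (s * s) = n2 := by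
      calc s * s * n2 * (s * s) = s * (s * n2 * s) * s := by group
        _ = s * (s⁻¹ * n2 * s⁻¹) * s := by rw [e4]
        _ = n2 := by group
    calc n2 * (s * s) * n2⁻¹ = (s * s)⁻¹ * (s * s * n2 * (s * s)) * n2⁻¹ := by group
      _ = _ := by rw [this]; group
  have e6 : s * s = 1 := by
    have h1 : n2 * (s * s) * n2⁻¹ ∈ X (-rep cs h w y₁) := by
      have := D.conj_mem hw F.S.root₁.neg (mul_mem hsX hsX)
      rwa [map_neg] at this
    rw [e5, ewy, neg_neg] at h1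
    have h3 := eq_one_of_mem_both D F.S.root₁ h1 (inv_mem (mul_mem hsX hsX))
    exact inv_eq_one.1 h3
  have e7 : s = 1 := eq_one_of_inv C F.hp F.hodd F.S.root₁.neg hsX (eq_inv_of_mul_eq_one_left e6)
  have e8 : (u * r)⁻¹ * (u * v * u) * (u * r) = n2 := by rw [eN, e3, e7]; group
  rw [e8]
  have hni : n2⁻¹ = n2 := by
    rw [hn2]; exact inv_eq_of_mul_eq_one_left hC2.nn
  have ewb' : rep cs h w (-b) = -x := by rw [map_neg, ewb]
  have ewx' : rep cs h w (-x) = -b := by rw [map_neg, ewx]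
  have cj : ∀ {s s' : I → ℤ}, IsRoot cs h s → rep cs h w s = s' → ∀ c ∈ X s, n2 * c * n2 ∈ X s' := by
    intro s s' hs e c hc
    have := D.conj_mem hw hs hc
    rwa [e, hni] at this
  exact ⟨cj F.S.rootb ewb, cj F.S.root ewx, cj F.S.rootb.neg ewb', cj F.S.root.neg ewx',
    fun a h1 h2 => inf_of_ell C F h2 h1, fun a h1 h2 => inf_of_ell C (F.conj' C) h1 h2⟩

/-! ### The `X y₂`-component -/

theorem kap_eq {β c ξ : Y} (hβ : β ∈ X b) (hc : c ∈ X y₂) (hξ : ξ ∈ X x) : kap (z b) (β * (c * ξ)) = c * c := by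
  have hb2 := F.cr C F.hb F.S.root₂ (by rw [form_comm]; exact F.S.b₂_pos.le) β hβ (c * c) (mul_mem hc hc)
  unfold kap
  rw [F.V_z_conj C hβ hc hξ]
  calc β * (c * ξ) * (β * (c⁻¹ * ξ))⁻¹ = β * (c * c) * β⁻¹ := by group
    _ = _ := by rw [hb2, mul_inv_cancel_right]

theorem kap_mem {v : Y} (hv : v ∈ Vg X y₂ x b) : kap (z b) v ∈ X y₂ := by
  obtain ⟨β, hβ, c, hc, ξ, hξ, rfl⟩ := F.V_dec C hv
  rw [F.kap_eq C hβ hc hξ]
  exact mul_mem hc hc

theorem z_conj_mem {v : Y} (hv : v ∈ Vg X y₂ x b) : z b * v * z b ∈ Vg X y₂ x b := by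
  obtain ⟨β, hβ, c, hc, ξ, hξ, rfl⟩ := F.V_dec C hv
  rw [F.V_z_conj C hβ hc hξ]
  exact mul_mem (le_sup_left (a := X b) hβ) (le_sup_right (a := X b)
    (mul_mem (le_sup_left (a := X y₂) (inv_mem hc)) (le_sup_right (a := X y₂) hξ)))

theorem X₂_le_V : X y₂ ≤ Vg X y₂ x b := le_sup_left.trans le_sup_right

theorem kap_mul {u v : Y} (hu : u ∈ Vg X y₂ x b) (hv : v ∈ Vg X y₂ x b) :
    kap (z b) (u * v) = kap (z b) u * kap (z b) v := by
  have zz := C.z_sq b F.hb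
  have h1 := F.V_abel C _ (F.X₂_le_V C (F.kap_mem C hv)) _ (inv_mem (F.z_conj_mem C hu))
  unfold kap at h1 ⊢
  calc u * v * (z b * (u * v) * z b)⁻¹ = u * v * (z b * u * 1 * v * z b)⁻¹ := by group
    _ = u * v * (z b * u * (z b * z b) * v * z b)⁻¹ := by rw [zz]
    _ = u * ((v * (z b * v * z b)⁻¹) * (z b * u * z b)⁻¹) := by group
    _ = _ := by rw [h1]; group

omit C F in
theorem kap_one {z t : Y} (hz : z * z = 1) (h : z * t = t * z) : kap z t = 1 := by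
  unfold kap
  rw [h, mul_assoc t z z, hz, mul_one, mul_inv_cancel]

/-- `t⁻¹ (r⁻¹ t r) ∈ X b · X y₂` for `t ∈ V`, `r ∈ X (-y₁)` -/
theorem delta_mem {r t : Y} (hr : r ∈ X (-y₁)) (ht : t ∈ Vg X y₂ x b) : t⁻¹ * (r⁻¹ * t * r) ∈ X b ⊔ X y₂ := by
  have D := C.rgd
  have hV := F.V_abel C
  have h1 : X b ≤ Vg X y₂ x b := le_sup_left
  have h3 := F.X₂_le_V C
  have h4 : X x ≤ Vg X y₂ x b := le_sup_right.trans le_sup_right
  have h5 : X b ⊔ X y₂ ≤ Vg X y₂ x b := sup_le h1 h3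
  obtain ⟨β, hβ, c, hc, ξ, hξ, rfl⟩ := F.V_dec C ht
  have e1 : r⁻¹ * β * r = β := by
    have := F.cr C F.hb F.S.root₁.neg (by rw [form_comm]; exact F.S.flip.x₁_pos.le) β hβ r hr
    rw [mul_assoc, this]; group
  have hr' := inv_mem hr
  obtain ⟨b1, hb1, e2⟩ : ∃ b1 ∈ X b, r⁻¹ * c * r = b1 * c := by
    refine ⟨⁅r⁻¹, c⁆, ?_, by rw [commutatorElement_def]; group⟩
    refine btw_le ?_ (D.comm (-y₁) y₂ F.S.root₁.neg F.S.root₂ F.S.flip.ne₁ F.S.flip.ne₂ _ hr' c hc)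
    intro w hw
    rw [F.S.flip.btwn hw]
  obtain ⟨u1, hu1, e3⟩ : ∃ u1 ∈ X b ⊔ X y₂, r⁻¹ * ξ * r = u1 * ξ := by
    refine ⟨⁅r⁻¹, ξ⁆, ?_, by rw [commutatorElement_def]; group⟩
    refine btw_le ?_ (D.comm (-y₁) x F.S.root₁.neg F.S.root F.S.flip.ne_b.1 F.S.flip.ne_b.2 _ hr' ξ hξ)
    intro w hw
    rcases F.S.flip.btwn' hw with rfl | rfl
    · exact le_sup_right
    · exact le_sup_left
  have e4 : r⁻¹ * (β * (c * ξ)) * r = β * ((b1 * c) * (u1 * ξ)) := by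
    rw [← e2, ← e3]
    nth_rewrite 2 [← e1]
    group
  have c1 : c * b1 = b1 * c := hV c (h3 hc) b1 (h1 hb1)
  have c2 : (c * ξ) * u1 = u1 * (c * ξ) := hV _ (mul_mem (h3 hc) (h4 hξ)) _ (h5 hu1)
  have c3 : c * u1 = u1 * c := hV _ (h3 hc) _ (h5 hu1)
  have e5 : (β * (c * ξ))⁻¹ * (r⁻¹ * (β * (c * ξ)) * r) = b1 * u1 := by
    rw [e4]
    have h6 := hV _ (mul_mem (h1 hb1) (h5 hu1)) _ (mul_mem (h3 hc) (h4 hξ))
    calc (β * (c * ξ))⁻¹ * (β * (b1 * c * (u1 * ξ))) = (c * ξ)⁻¹ * (b1 * (c * u1) * ξ) := by group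
      _ = (c * ξ)⁻¹ * ((b1 * u1) * (c * ξ)) := by rw [c3]; group
      _ = b1 * u1 := by rw [h6]; group
  rw [e5]
  exact mul_mem (le_sup_left (a := X b) hb1) hu1

/-- `κ(r⁻¹ d r) = κ(d)` for `d ∈ X b · X y₂` -/
theorem kap_delta {r d : Y} (hr : r ∈ X (-y₁)) (hd : d ∈ X b ⊔ X y₂) :
    kap (z b) (r⁻¹ * d * r) = kap (z b) d := by
  have D := C.rgd
  have hV := F.V_abel C
  have zz := C.z_sq b F.hb
  have h1 : X b ≤ Vg X y₂ x b := le_sup_left
  have h3 := F.X₂_le_V C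
  obtain ⟨β, hβ, c, hc, rfl⟩ := mem_sup_of_cm (fun a ha c hc => hV a (h1 ha) c (h3 hc)) hd
  have e1 : r⁻¹ * β * r = β := by
    have := F.cr C F.hb F.S.root₁.neg (by rw [form_comm]; exact F.S.flip.x₁_pos.le) β hβ r hr
    rw [mul_assoc, this]; group
  obtain ⟨b1, hb1, e2⟩ : ∃ b1 ∈ X b, r⁻¹ * c * r = b1 * c := by
    refine ⟨⁅r⁻¹, c⁆, ?_, by rw [commutatorElement_def]; group⟩
    refine btw_le ?_ (D.comm (-y₁) y₂ F.S.root₁.neg F.S.root₂ F.S.flip.ne₁ F.S.flip.ne₂ _ (inv_mem hr) c hc)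
    intro w hw
    rw [F.S.flip.btwn hw]
  have e3 : r⁻¹ * (β * c) * r = β * (b1 * c) := by
    rw [← e2]
    nth_rewrite 2 [← e1]
    group
  have e4 : β * (b1 * c) = b1 * (β * c) := by
    rw [← mul_assoc, hV β (h1 hβ) b1 (h1 hb1), mul_assoc]
  rw [e3, e4, F.kap_mul C (h1 hb1) (mul_mem (h1 hβ) (h3 hc)), kap_one zz (F.zb C hb1), one_mul]

/-- **the component of `u⁻¹ c u` is the square of the component of `g⁻¹ c g`** -/
theorem kap_sq {u v r w : Y} {w0 : W} (hu : u ∈ X y₁) (hv : v ∈ X (-y₁)) (hr : r ∈ X (-y₁)) (hrr : r * r = v)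
    (hw : w = v * u * v) (hR : Rp cs C.rgd.nsys w0 w) (hwb : rep cs h w0 b = x) (hww : w * w = 1) {c : Y} (hc : c ∈ X b) :
    kap (z b) (u⁻¹ * c * u) = kap (z b) ((u * r)⁻¹ * c * (u * r)) * kap (z b) ((u * r)⁻¹ * c * (u * r)) := by
  have zz := C.z_sq b F.hb
  have h1 : X b ≤ Vg X y₂ x b := le_sup_left
  have h3 := F.X₂_le_V C
  have h5 : X b ⊔ X y₂ ≤ Vg X y₂ x b := sup_le h1 h3
  obtain ⟨t, ht⟩ : ∃ t, t = u⁻¹ * c * u := ⟨_, rfl⟩
  have htV : t ∈ Vg X y₂ x b := by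
    have := F.V_norm C (inv_mem hu) (h1 hc)
    rwa [inv_inv, ← ht] at this
  obtain ⟨d, hd⟩ : ∃ d, d = t⁻¹ * (r⁻¹ * t * r) := ⟨_, rfl⟩
  have hdU : d ∈ X b ⊔ X y₂ := hd ▸ F.delta_mem C hr htV
  have e1 : r⁻¹ * t * r = t * d := by rw [hd]; group
  have htV' : r⁻¹ * t * r ∈ Vg X y₂ x b := by
    have := F.V_norm' C (inv_mem hr) htV
    rwa [inv_inv] at this
  have hdV' : r⁻¹ * d * r ∈ Vg X y₂ x b := by
    have := F.V_norm' C (inv_mem hr) (h5 hdU)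
    rwa [inv_inv] at this
  have k1 : kap (z b) (r⁻¹ * t * r) = kap (z b) t * kap (z b) d := by
    rw [e1, F.kap_mul C htV (h5 hdU)]
  have e2 : r⁻¹ * (r⁻¹ * t * r) * r = (r⁻¹ * t * r) * (r⁻¹ * d * r) := by
    nth_rewrite 1 [e1]
    group
  have k2 : kap (z b) (r⁻¹ * (r⁻¹ * t * r) * r) = kap (z b) (r⁻¹ * t * r) * kap (z b) d := by
    rw [e2, F.kap_mul C htV' hdV', F.kap_delta C hr hdU]
  have e3 : r⁻¹ * (r⁻¹ * t * r) * r = w⁻¹ * c * w := by
    have h6 : c * v = v * c := F.cr C F.hb F.S.root₁.neg (by rw [form_comm]; exact F.S.flip.x₁_pos.le) c hc v hv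
    calc r⁻¹ * (r⁻¹ * t * r) * r = (r * r)⁻¹ * t * (r * r) := by group
      _ = v⁻¹ * u⁻¹ * c * u * v := by rw [hrr, ht]; group
      _ = v⁻¹ * u⁻¹ * (v⁻¹ * (v * c)) * u * v := by group
      _ = v⁻¹ * u⁻¹ * (v⁻¹ * (c * v)) * u * v := by rw [h6]
      _ = _ := by rw [hw]; group
  have k3 : kap (z b) (w⁻¹ * c * w) = 1 := by
    have hwi : w⁻¹ = w := inv_eq_of_mul_eq_one_left hww
    have h7 := C.rgd.conj_mem hR F.S.rootb hc
    rw [hwb, hwi] at h7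
    rw [hwi]
    exact kap_one zz (F.zx C h7)
  rw [e3, k3] at k2
  have e4 : r⁻¹ * t * r = (u * r)⁻¹ * c * (u * r) := by rw [ht]; group
  rw [e4] at k1 k2
  have k4 : kap (z b) d = (kap (z b) ((u * r)⁻¹ * c * (u * r)))⁻¹ := eq_inv_of_mul_eq_one_right k2.symm
  rw [k4] at k1
  rw [← ht]
  exact eq_mul_of_mul_inv_eq k1.symm

/-- `θ u = κ(u⁻¹ c u)` is multiplicative -/
theorem kap_hom {u u' c : Y} (hu : u ∈ X y₁) (hu' : u' ∈ X y₁) (hc : c ∈ X b) :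
    kap (z b) ((u * u')⁻¹ * c * (u * u')) = kap (z b) (u'⁻¹ * c * u') * kap (z b) (u⁻¹ * c * u) := by
  have D := C.rgd
  have hV := F.V_abel C
  have zz := C.z_sq b F.hb
  have h1 : X b ≤ Vg X y₂ x b := le_sup_left
  have h2 : X y₂ ⊔ X x ≤ Vg X y₂ x b := le_sup_right
  have h3 := F.X₂_le_V C
  have h4 : X x ≤ Vg X y₂ x b := le_sup_right.trans h2
  have htV : u⁻¹ * c * u ∈ Vg X y₂ x b := by
    have := F.V_norm C (inv_mem hu) (h1 hc)
    rwa [inv_inv] at this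
  have hcV' : u'⁻¹ * c * u' ∈ Vg X y₂ x b := by
    have := F.V_norm C (inv_mem hu') (h1 hc)
    rwa [inv_inv] at this
  -- `t₁ = c⁻¹ (u⁻¹ c u) ∈ X y₂ X x`
  obtain ⟨t1, ht1⟩ : ∃ t1, t1 = ⁅u⁻¹, c⁆ := ⟨_, rfl⟩
  have ht1U : t1 ∈ X y₂ ⊔ X x := by
    rw [ht1]
    refine btw_le ?_ (D.comm y₁ b F.S.root₁ F.S.rootb F.S.ne_b.1 F.S.ne_b.2 _ (inv_mem hu) c hc)
    intro w hw
    rcases F.S.btwn' hw with rfl | rfl
    · exact le_sup_left
    · exact le_sup_right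
  have e1 : u⁻¹ * c * u = t1 * c := by rw [ht1, commutatorElement_def]; group
  have hk1 : kap (z b) (u⁻¹ * c * u) = kap (z b) t1 := by
    rw [e1, F.kap_mul C (h2 ht1U) (h1 hc), kap_one zz (F.zb C hc), mul_one]
  have ht1' : u'⁻¹ * t1 * u' ∈ Vg X y₂ x b := by
    have := F.V_norm C (inv_mem hu') (h2 ht1U)
    rwa [inv_inv] at this
  have hk2 : kap (z b) (u'⁻¹ * t1 * u') = kap (z b) t1 := by
    obtain ⟨a, ha, ξ, hξ, e⟩ := mem_sup_of_cm (fun a ha c hc => hV a (h3 ha) c (h4 hc)) ht1U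
    obtain ⟨ξ1, hξ1, e2⟩ : ∃ ξ1 ∈ X x, u'⁻¹ * a * u' = ξ1 * a := by
      refine ⟨⁅u'⁻¹, a⁆, ?_, by rw [commutatorElement_def]; group⟩
      refine btw_le ?_ (D.comm y₁ y₂ F.S.root₁ F.S.root₂ F.S.ne₁ F.S.ne₂ _ (inv_mem hu') a ha)
      intro w hw
      rw [F.S.btwn hw]
    have e3 : u'⁻¹ * ξ * u' = ξ := by
      have := F.cr C F.hx F.S.root₁ (by rw [form_comm]; exact F.S.x₁_pos.le) ξ hξ u' hu'
      rw [mul_assoc, this]; group
    have e4 : u'⁻¹ * t1 * u' = ξ1 * t1 := by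
      rw [e]
      calc u'⁻¹ * (a * ξ) * u' = (u'⁻¹ * a * u') * (u'⁻¹ * ξ * u') := by group
        _ = _ := by rw [e2, e3, mul_assoc]
    rw [e4, F.kap_mul C (h4 hξ1) (h2 ht1U), kap_one zz (F.zx C hξ1), one_mul]
  rw [hk1, ← hk2, ← F.kap_mul C hcV' ht1']
  have hcc := hV _ hcV' _ ht1'
  rw [hcc]
  congr 1
  calc (u * u')⁻¹ * c * (u * u') = u'⁻¹ * (u⁻¹ * c * u) * u' := by group
    _ = _ := by rw [e1]; group

/-- `θ` is injective -/
theorem kap_inj {u c : Y} (hu : u ∈ X y₁) (hc : c ∈ X b) (hc1 : c ≠ 1) (h0 : kap (z b) (u⁻¹ * c * u) = 1) :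
    u = 1 := by
  by_contra hu1
  have D := C.rgd
  have zz := C.z_sq b F.hb
  have h1 : X b ≤ Vg X y₂ x b := le_sup_left
  have htV : u⁻¹ * c * u ∈ Vg X y₂ x b := by
    have := F.V_norm C (inv_mem hu) (h1 hc)
    rwa [inv_inv] at this
  -- `u⁻¹ c u` commutes with `z`
  have h2 : z b * (u⁻¹ * c * u) * z b = u⁻¹ * c * u := by
    unfold kap at h0
    exact (mul_inv_eq_one.1 h0).symm
  have h3 : z b * (u⁻¹ * c * u) * z b = u * c * u⁻¹ := by
    have e1 := F.zi₁ C hu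
    have e2 : z b * u⁻¹ * z b = u := by
      rw [F.zi₁ C (inv_mem hu), inv_inv]
    have e3 : z b * c * z b = c := by rw [F.zb C hc, mul_assoc, zz, mul_one]
    calc z b * (u⁻¹ * c * u) * z b = z b * u⁻¹ * 1 * c * 1 * u * z b := by group
      _ = z b * u⁻¹ * (z b * z b) * c * (z b * z b) * u * z b := by rw [zz]
      _ = (z b * u⁻¹ * z b) * (z b * c * z b) * (z b * u * z b) := by group
      _ = _ := by rw [e1, e2, e3]
  rw [h3] at h2
  have h4 : (u * u) * c = c * (u * u) := by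
    calc (u * u) * c = u * (u * c * u⁻¹) * u := by group
      _ = u * (u⁻¹ * c * u) * u := by rw [h2]
      _ = _ := by group
  have huu : u * u ∈ X y₁ := mul_mem hu hu
  have huu1 : u * u ≠ 1 := fun e => hu1 (eq_one_of_inv C F.hp F.hodd F.S.root₁ hu (eq_inv_of_mul_eq_one_left e))
  obtain ⟨v2, hv2, r2, -, w, hw, ewb, ewx, ewy, e2, hC2⟩ := F.conf C huu huu1
  rw [e2] at hw
  have h5 : c * v2 = v2 * c := F.cr C F.hb F.S.root₁.neg (by rw [form_comm]; exact F.S.flip.x₁_pos.le) c hc v2 hv2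
  have h6 : (v2 * (u * u) * v2) * c * (v2 * (u * u) * v2)⁻¹ = c := by
    rw [mul_inv_eq_iff_eq_mul]
    calc v2 * (u * u) * v2 * c = v2 * (u * u) * (v2 * c) := by group
      _ = v2 * ((u * u) * c) * v2 := by rw [← h5]; group
      _ = (v2 * c) * (u * u) * v2 := by rw [h4]; group
      _ = _ := by rw [← h5]; group
  have h7 := D.conj_mem hw F.S.rootb hc
  rw [h6, ewb] at h7
  exact hc1 (inf_of_ell C F h7 hc)

omit C F in
/-- there is an element of the Weyl group exchanging `y₁` and `y₂` -/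
theorem exists_w (F : Cfg cs h p X R Z z m y₁ y₂ x b) : ∃ w : W, rep cs h w y₁ = y₂ := by
  obtain ⟨w, hw⟩ : ∃ w : W, ∀ v, rep cs h w v = v - cpr cs h v b • b := by
    obtain ⟨w, i, e⟩ := F.S.rootb
    exact ⟨_, fun v => by rw [rep_rfl'_eq cs h w i, e]⟩
  refine ⟨w, ?_⟩
  rw [hw]
  have S := F.S
  have hm := S.pos
  have h1 := two_form_cpr cs h y₁ S.rootb
  have h2 := S.form_b₁
  have h3 := S.form_b₂
  have h4 : m * form cs h b b = 2 * form cs h b y₂ := by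
    have : m * form cs h b b = form cs h b y₂ - form cs h b y₁ := by
      rw [← form_smul_right, S.sub, form_sub_right]
    have h5 : m * form cs h b y₁ = -(m * form cs h b y₂) := by rw [h2, h3]
    have h6 : form cs h b y₁ = -form cs h b y₂ := by
      have : m * form cs h b y₁ = m * (-form cs h b y₂) := by rw [h5]; ring
      exact mul_left_cancel₀ hm.ne' this
    rw [this, h6]; ring
  have h5 : form cs h b y₁ = -form cs h b y₂ := by
    have : m * form cs h b y₁ = m * (-form cs h b y₂) := by rw [h2, mul_neg, h3]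
    exact mul_left_cancel₀ hm.ne' this
  have h6 : cpr cs h y₁ b = -m := by
    have hbb := form_pos cs h S.rootb.ne_zero
    have : cpr cs h y₁ b * form cs h b b = (-m) * form cs h b b := by
      rw [← h1, form_comm cs h y₁ b, h5, neg_mul, h4]; ring
    exact mul_right_cancel₀ hbb.ne' this
  rw [h6, neg_smul, S.sub]
  abel

end

section KB

variable [Finite Y] (C : Cls cs h p T n X R Z z) (F : Cfg cs h p X R Z z m y₁ y₂ x b)
include C F

/-- **(KF1) (ii)** : the root group `X y₂` -/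
theorem kb (Q : Quat (z b) (X b ⊔ X (-b)) (X x ⊔ X (-x))) (hz1 : z b ≠ 1) {v₀ : Y} (hv₀K : v₀ ∈ X b ⊔ X (-b))
    (hv₀ : v₀ * v₀ = z b) {N : Subgroup Y} (hNb : X b ⊔ X (-b) ≤ N) (hNx : X x ⊔ X (-x) ≤ N)
    (hS : ∀ s ∈ G1 cs h X, (∃ k : ℕ, s ^ p ^ k = 1) → (∃ v ∈ X b ⊔ X (-b), ∃ w ∈ X x ⊔ X (-x),
      v * v = z b ∧ w * w = z b ∧ s * (v * w) = (v * w) * s) → s ∈ N)
    (hD : ∀ c ∈ G1 cs h X, c * z b = z b * c → c ∈ Subgroup.normalizer (N : Set Y)) : X y₂ ≤ N := by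
  have lb : X b ⊔ X (-b) ≤ G1 cs h X := sup_le (X_le_G1 F.S.rootb) (X_le_G1 F.S.rootb.neg)
  have lx : X x ⊔ X (-x) ≤ G1 cs h X := sup_le (X_le_G1 F.S.root) (X_le_G1 F.S.root.neg)
  obtain ⟨c, hc, hc1⟩ : ∃ c ∈ X b, c ≠ 1 := by
    by_contra h0
    push Not at h0
    exact StdConn.X_ne_bot C F.S.rootb ((Subgroup.eq_bot_iff_forall _).2 h0)
  have hzN : z b ∈ N := hNb Q.zKa
  -- the components are in `N`
  have key : ∀ u ∈ X y₁, kap (z b) (u⁻¹ * c * u) ∈ N := by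
    intro u hu
    by_cases hu1 : u = 1
    · subst hu1
      have : (1 : Y)⁻¹ * c * 1 = c := by group
      rw [this, kap_one (C.z_sq b F.hb) (F.zb C hc)]
      exact one_mem N
    obtain ⟨v, hv, r, hr, w, hw, ewb, ewx, ewy, e2, hC⟩ := F.conf C hu hu1
    have gu : u ∈ G1 cs h X := X_le_G1 F.S.root₁ hu
    have gv : v ∈ G1 cs h X := X_le_G1 F.S.root₁.neg hv
    have gr : r ∈ G1 cs h X := X_le_G1 F.S.root₁.neg hr
    have gn : u * v * u ∈ G1 cs h X := mul_mem (mul_mem gu gv) gu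
    have hC' := F.conf' C hu hu1 hr hC
    have hg : u * r ∈ Subgroup.normalizer (N : Set Y) := by
      refine hC.normalizes Q hz1 hC' hNb hNx (fun v1 hv1K hv1 s hs => ?_) hD (mul_mem gu gr) lb hv₀K hv₀
      have hss : s ∈ X b ⊔ X (-b) := hs.elim (fun h => Subgroup.mem_sup_left h) (fun h => Subgroup.mem_sup_right h)
      obtain ⟨a, ha, a', ha', haa, haa', e⟩ := hC.exists_of_v Q hz1 hv1K hv1
      refine hS _ ?_ ?_ ⟨a, ha, a', ha', haa, haa', ?_⟩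
      · have gt : v1 * (u * r) ∈ G1 cs h X := mul_mem (lb hv1K) (mul_mem gu gr)
        exact mul_mem (mul_mem (inv_mem gt) (mul_mem (lb hss) (mul_mem (mul_mem gn (lb hss)) gn))) gt
      · obtain ⟨i, hi⟩ := F.phi_pow C hC hs
        exact ⟨i, pow_conj hi⟩
      · rw [← e]
        have h0 := hC.phi_n hss
        obtain ⟨t, ht⟩ : ∃ t, t = v1 * (u * r) := ⟨_, rfl⟩
        rw [← ht]
        calc t⁻¹ * (s * ((u * v * u) * s * (u * v * u))) * t * (t⁻¹ * (u * v * u) * t)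
            = t⁻¹ * ((s * ((u * v * u) * s * (u * v * u))) * (u * v * u)) * t := by group
          _ = t⁻¹ * ((u * v * u) * (s * ((u * v * u) * s * (u * v * u)))) * t := by rw [h0]
          _ = _ := by group
    have hcg : (u * r)⁻¹ * c * (u * r) ∈ N := by
      have h1 := (Subgroup.mem_normalizer_iff.1 (inv_mem hg) c).1 (hNb (Subgroup.mem_sup_left hc))
      rwa [inv_inv] at h1
    have hk : kap (z b) ((u * r)⁻¹ * c * (u * r)) ∈ N := by
      unfold kap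
      exact mul_mem hcg (inv_mem (mul_mem (mul_mem hzN hcg) hzN))
    rw [F.kap_sq C hu hv hr hC.rr e2 hw ewb hC.nn hc]
    exact mul_mem hk hk
  -- `θ` is bijective
  have h1 : X b ≤ Vg X y₂ x b := le_sup_left
  let θ : ↥(X y₁) → ↥(X y₂) := fun u => ⟨kap (z b) ((u : Y)⁻¹ * c * u), F.kap_mem C (by
    have := F.V_norm C (inv_mem u.2) (h1 hc)
    rwa [inv_inv] at this)⟩
  have hinj : Function.Injective θ := by
    intro u u' huu
    have h2 : kap (z b) ((u : Y)⁻¹ * c * u) = kap (z b) ((u' : Y)⁻¹ * c * u') := congrArg Subtype.val huu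
    have h3 := F.kap_hom C (u := (u : Y) * (u' : Y)⁻¹) (u' := (u' : Y)) (mul_mem u.2 (inv_mem u'.2)) u'.2 hc
    have e : (u : Y) * (u' : Y)⁻¹ * (u' : Y) = u := by group
    rw [e, h2] at h3
    have h4 : kap (z b) (((u : Y) * (u' : Y)⁻¹)⁻¹ * c * ((u : Y) * (u' : Y)⁻¹)) = 1 :=
      (mul_eq_left.1 h3.symm)
    have h5 := F.kap_inj C (mul_mem u.2 (inv_mem u'.2)) hc hc1 h4
    exact Subtype.ext (mul_inv_eq_one.1 h5)
  have hcard : Nat.card ↥(X y₁) = Nat.card ↥(X y₂) := by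
    obtain ⟨w, hw⟩ := exists_w F
    obtain ⟨g, hg⟩ := exists_rp cs C.rgd.nsys w
    rw [← hw, ← C.rgd.conj_rp hg F.S.root₁]
    exact (Subgroup.card_map_of_injective (MulAut.conj g).injective).symm
  have hsurj : Function.Surjective θ := ((Nat.bijective_iff_injective_and_card θ).2 ⟨hinj, hcard⟩).2
  intro a ha
  obtain ⟨u, hu⟩ := hsurj ⟨a, ha⟩
  have : a = kap (z b) ((u : Y)⁻¹ * c * u) := (congrArg Subtype.val hu).symm
  rw [this]
  exact key u u.2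

end KB

end Cfg

end Cfsg.Agent.Nodes.SwapB
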