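import Mathlib
import Cfsg.Agent.Nodes.SwapB
import Cfsg.Agent.Nodes.CommA

/-!
# The conjugation of `SwapAbs` in type `A₃` (project CIT, |E| = 4, (KF1))

`K_a = K_{ij}`, `K_b = K_{kl}`, `z_{ij} = z_{kl}`; `n` exchanges `i, k` and `j, l`.
-/

set_option autoImplicit false
set_option linter.unusedSectionVars false
set_option linter.dupNamespace false

namespace Cfsg.Agent.Nodes.SwapA

open CoxeterSystem Cfsg.Agent.ChevalleyStructure.CoxeterGeom Cfsg.Agent.Tits.Roots Cfsg.Agent.Tits.Core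
  Cfsg.Agent.Tits.RootComb Cfsg.Agent.Nodes.Comb Cfsg.Agent.Nodes.Reps Cfsg.Agent.Nodes.BNOf
  Cfsg.Agent.Nodes.RGDLib Cfsg.Agent.Nodes.Chart Cfsg.Agent.Nodes.Coroot Cfsg.Agent.Nodes.Perp
  Cfsg.Agent.Nodes.ZRel Cfsg.Agent.Nodes.ShortSum Cfsg.Agent.Nodes.RankOneSub Cfsg.Agent.Nodes.SwapAbs
  Cfsg.Agent.Nodes.SwapB Cfsg.Agent.Nodes.RootsA Cfsg.Agent.Nodes.CommA
open Cfsg.Agent.LieRecognition.BNCox (cA cA_apply)
open scoped commutatorElement

/-! ### Generic: (KF1) (i) from a configuration -/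

theorem ka_of_conf {G : Type*} [Group G] {z n x y r : G} {A B A' B' V V' : Subgroup G}
    (hC : Conf z n x y r A B A' B' V V') (Q : Quat z (A ⊔ A') (B ⊔ B')) (hz1 : z ≠ 1) {D : Subgroup G}
    (hA : A ≤ D) (hA' : A' ≤ D) (hB : B ≤ D) (hB' : B' ≤ D) (hx : x ∈ D) (hy : y ∈ D) (hr : r ∈ D) {p : ℕ}
    (hpA : ∀ c ∈ A, ∃ k : ℕ, c ^ p ^ k = 1) (hpA' : ∀ c ∈ A', ∃ k : ℕ, c ^ p ^ k = 1)
    {v w : G} (hvK : v ∈ A ⊔ A') (hv : v * v = z) (hwK : w ∈ B ⊔ B') (hw : w * w = z) :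
    ∃ S : Set G, (∀ s ∈ S, s ∈ D ∧ s * (v * w) = (v * w) * s ∧ ∃ k : ℕ, s ^ p ^ k = 1) ∧
      z * (v * w) ∈ Subgroup.closure S := by
  obtain ⟨k, hk, e1, e2⟩ := hC.exists_conj Q hz1 hvK hv hwK hw
  have lb : A ⊔ A' ≤ D := sup_le hA hA'
  have lx : B ⊔ B' ≤ D := sup_le hB hB'
  have gt : v * (x * r) * k ∈ D := mul_mem (mul_mem (lb hvK) (mul_mem hx hr)) ((sup_le lb lx) hk)
  have gn : n ∈ D := by rw [hC.nx]; exact mul_mem (mul_mem hx hy) hx
  obtain ⟨S, hS⟩ : ∃ S : Set G, S = {s | ∃ c, (c ∈ A ∨ c ∈ A') ∧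
    s = (v * (x * r) * k)⁻¹ * (c * (n * c * n)) * (v * (x * r) * k)} := ⟨_, rfl⟩
  refine ⟨S, ?_, ?_⟩
  · rw [hS]
    rintro _ ⟨c, hc, rfl⟩
    have hcc : c ∈ A ⊔ A' := hc.elim (fun h => Subgroup.mem_sup_left h) (fun h => Subgroup.mem_sup_right h)
    refine ⟨?_, ?_, ?_⟩
    · exact mul_mem (mul_mem (inv_mem gt) (mul_mem (lb hcc) (mul_mem (mul_mem gn (lb hcc)) gn))) gt
    · rw [← e1]
      have h0 := hC.phi_n hcc
      obtain ⟨t, ht⟩ : ∃ t, t = v * (x * r) * k := ⟨_, rfl⟩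
      rw [← ht]
      calc t⁻¹ * (c * (n * c * n)) * t * (t⁻¹ * n * t) = t⁻¹ * ((c * (n * c * n)) * n) * t := by group
        _ = t⁻¹ * (n * (c * (n * c * n))) * t := by rw [h0]
        _ = _ := by group
    · have h0 := hC.comm c hcc _ (hC.nK hcc)
      obtain ⟨i, hi⟩ : ∃ i : ℕ, c ^ p ^ i = 1 := hc.elim (hpA c) (hpA' c)
      refine ⟨i, pow_conj ?_⟩
      have hn : n⁻¹ = n := inv_eq_of_mul_eq_one_left hC.nn
      have e : n * c * n = n⁻¹ * c * n := by rw [hn]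
      rw [(show Commute c _ from h0).mul_pow, hi, one_mul, e]
      exact pow_conj hi
  · rw [← e2]
    refine hC.phi_induction (N := Subgroup.closure S) (fun c hc => Subgroup.subset_closure ?_)
      (fun c hc => Subgroup.subset_closure ?_) hvK
    · rw [hS]; exact ⟨c, Or.inl hc, rfl⟩
    · rw [hS]; exact ⟨c, Or.inr hc, rfl⟩

theorem eq_one_of_sq {G : Type*} [Group G] {p : ℕ} (hp : p.Prime) (hodd : p ≠ 2) {g : G} {k : ℕ}
    (h1 : g ^ p ^ k = 1) (h2 : g * g = 1) : g = 1 := by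
  obtain ⟨m, hm⟩ := (hp.odd_of_ne_two hodd).pow (n := k)
  rw [hm, pow_succ, pow_mul, pow_two, h2, one_pow, one_mul] at h1
  exact h1

theorem mem_of_sq {G : Type*} [Group G] {p : ℕ} (hp : p.Prime) (hodd : p ≠ 2) {g : G} {k : ℕ} {N : Subgroup G}
    (h1 : g ^ p ^ k = 1) (h2 : g * g ∈ N) : g ∈ N := by
  obtain ⟨m, hm⟩ := (hp.odd_of_ne_two hodd).pow (n := k)
  rw [hm, pow_succ, pow_mul, pow_two] at h1
  have h3 : g = ((g * g) ^ m)⁻¹ := eq_inv_of_mul_eq_one_right h1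
  rw [h3]
  exact inv_mem (pow_mem h2 m)

/-! ### The configuration -/

variable {n : ℕ} {W Y : Type*} [Group W] [Group Y] {cs : CoxeterSystem (cA n) W} {A : Fin n → Fin n → ℤ}
  {h : IsCartan (cA n) A} [Fintype W] {p : ℕ} {T : Subgroup Y} {nu : Fin n → Y} {X : (Fin n → ℤ) → Subgroup Y}
  {R : Set (Fin n → ℤ)} {Z : (Fin n → ℤ) → Subgroup Y} {z : (Fin n → ℤ) → Y} {i j k l : Fin (n + 1)}

structure CfgA (p : ℕ) (X : (Fin n → ℤ) → Subgroup Y) (R : Set (Fin n → ℤ)) (Z : (Fin n → ℤ) → Subgroup Y)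
    (z : (Fin n → ℤ) → Y) (i j k l : Fin (n + 1)) : Prop where
  ij : i ≠ j
  ik : i ≠ k
  il : i ≠ l
  jk : j ≠ k
  jl : j ≠ l
  kl : k ≠ l
  hR : ∀ a b : Fin (n + 1), a ≠ b → rtA a b ∈ R
  hZ : ∀ r ∈ R, Z r = X r
  hp : p.Prime
  hodd : p ≠ 2
  hz : z (rtA i j) = z (rtA k l)

/-- rows `i, k`, columns `j, l` -/
def V4 (X : (Fin n → ℤ) → Subgroup Y) (i j k l : Fin (n + 1)) : Subgroup Y :=
  X (rtA i j) ⊔ (X (rtA i l) ⊔ (X (rtA k j) ⊔ X (rtA k l)))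

theorem V4_swap₁ (X : (Fin n → ℤ) → Subgroup Y) (i j k l : Fin (n + 1)) : V4 X k j i l = V4 X i j k l := by
  unfold V4; ac_rfl

theorem V4_swap₂ (X : (Fin n → ℤ) → Subgroup Y) (i j k l : Fin (n + 1)) : V4 X i l k j = V4 X i j k l := by
  unfold V4; ac_rfl

/-- four different indices -/
structure D4 (i j k l : Fin (n + 1)) : Prop where
  ij : i ≠ j
  ik : i ≠ k
  il : i ≠ l
  jk : j ≠ k
  jl : j ≠ l
  kl : k ≠ l

section V4

variable (D : RGD cs h p T nu X) (d : D4 i j k l)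
include D d

theorem V4_abel : ∀ u ∈ V4 X i j k l, ∀ v ∈ V4 X i j k l, u * v = v * u := by
  have key : ∀ {P : Subgroup Y}, (∀ c ∈ X (rtA i j), ∀ a ∈ P, c * a = a * c) →
      (∀ c ∈ X (rtA i l), ∀ a ∈ P, c * a = a * c) → (∀ c ∈ X (rtA k j), ∀ a ∈ P, c * a = a * c) →
      (∀ c ∈ X (rtA k l), ∀ a ∈ P, c * a = a * c) → ∀ u ∈ V4 X i j k l, ∀ v ∈ P, u * v = v * u := by
    intro P h1 h2 h3 h4 u hu v hv
    have : V4 X i j k l ≤ Subgroup.centralizer {v} := by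
      refine sup_le (fun c hc => ?_) (sup_le (fun c hc => ?_) (sup_le (fun c hc => ?_) (fun c hc => ?_))) <;>
        rw [Subgroup.mem_centralizer_singleton_iff]
      · exact h1 c hc v hv
      · exact h2 c hc v hv
      · exact h3 c hc v hv
      · exact h4 c hc v hv
    exact Subgroup.mem_centralizer_singleton_iff.1 (this hu)
  obtain ⟨ij, ik, il, jk, jl, kl⟩ := d
  have a1 : ∀ c ∈ X (rtA i j), ∀ a ∈ X (rtA i j), c * a = a * c := fun c hc a ha => comm_self D ij ik jk hc ha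
  have a2 : ∀ c ∈ X (rtA i l), ∀ a ∈ X (rtA i l), c * a = a * c := fun c hc a ha => comm_self D il ik kl.symm hc ha
  have a3 : ∀ c ∈ X (rtA k j), ∀ a ∈ X (rtA k j), c * a = a * c := fun c hc a ha => comm_self D jk.symm kl jl hc ha
  have a4 : ∀ c ∈ X (rtA k l), ∀ a ∈ X (rtA k l), c * a = a * c := fun c hc a ha =>
    comm_self D kl ik.symm il.symm hc ha
  have b12 : ∀ c ∈ X (rtA i j), ∀ a ∈ X (rtA i l), c * a = a * c := fun c hc a ha =>
    comm_disj D ij il ij.symm il (fun e => jl e.2) hc ha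
  have b13 : ∀ c ∈ X (rtA i j), ∀ a ∈ X (rtA k j), c * a = a * c := fun c hc a ha =>
    comm_disj D ij jk.symm jk ij (fun e => ik e.1) hc ha
  have b14 : ∀ c ∈ X (rtA i j), ∀ a ∈ X (rtA k l), c * a = a * c := fun c hc a ha =>
    comm_disj D ij kl jk il (fun e => ik e.1) hc ha
  have b23 : ∀ c ∈ X (rtA i l), ∀ a ∈ X (rtA k j), c * a = a * c := fun c hc a ha =>
    comm_disj D il jk.symm kl.symm ij (fun e => ik e.1) hc ha
  have b24 : ∀ c ∈ X (rtA i l), ∀ a ∈ X (rtA k l), c * a = a * c := fun c hc a ha =>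
    comm_disj D il kl kl.symm il (fun e => ik e.1) hc ha
  have b34 : ∀ c ∈ X (rtA k j), ∀ a ∈ X (rtA k l), c * a = a * c := fun c hc a ha =>
    comm_disj D jk.symm kl jk kl (fun e => jl e.2) hc ha
  have sy : ∀ {P Q : Subgroup Y}, (∀ c ∈ P, ∀ a ∈ Q, c * a = a * c) → ∀ c ∈ Q, ∀ a ∈ P, c * a = a * c :=
    fun h c hc a ha => (h a ha c hc).symm
  have c1 := sy (key a1 (sy b12) (sy b13) (sy b14))
  have c2 := sy (key b12 a2 (sy b23) (sy b24))
  have c3 := sy (key b13 b23 a3 (sy b34))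
  have c4 := sy (key b14 b24 b34 a4)
  exact key c1 c2 c3 c4

theorem V4_dec {v : Y} (hv : v ∈ V4 X i j k l) : ∃ β ∈ X (rtA i j), ∃ c ∈ X (rtA i l), ∃ c' ∈ X (rtA k j),
    ∃ ξ ∈ X (rtA k l), v = β * (c * (c' * ξ)) := by
  have hV := V4_abel D d
  have h1 : X (rtA i j) ≤ V4 X i j k l := le_sup_left
  have h1' : X (rtA i l) ⊔ (X (rtA k j) ⊔ X (rtA k l)) ≤ V4 X i j k l := le_sup_right
  have h2 : X (rtA i l) ≤ V4 X i j k l := le_sup_left.trans h1'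
  have h2' : X (rtA k j) ⊔ X (rtA k l) ≤ V4 X i j k l := le_sup_right.trans h1'
  have h3 : X (rtA k j) ≤ V4 X i j k l := le_sup_left.trans h2'
  have h4 : X (rtA k l) ≤ V4 X i j k l := le_sup_right.trans h2'
  obtain ⟨β, hβ, w, hw, rfl⟩ := mem_sup_of_cm (fun a ha c hc => hV a (h1 ha) c (h1' hc)) hv
  obtain ⟨c, hc, w', hw', rfl⟩ := mem_sup_of_cm (fun a ha c hc => hV a (h2 ha) c (h2' hc)) hw
  obtain ⟨c', hc', ξ, hξ, rfl⟩ := mem_sup_of_cm (fun a ha c hc => hV a (h3 ha) c (h4 hc)) hw'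
  exact ⟨β, hβ, c, hc, c', hc', ξ, hξ, rfl⟩

theorem V4_pow {v : Y} (hv : v ∈ V4 X i j k l) : ∃ m : ℕ, v ^ p ^ m = 1 := by
  have hV := V4_abel D d
  have h1 : X (rtA i j) ≤ V4 X i j k l := le_sup_left
  have h1' : X (rtA i l) ⊔ (X (rtA k j) ⊔ X (rtA k l)) ≤ V4 X i j k l := le_sup_right
  have h2 : X (rtA i l) ≤ V4 X i j k l := le_sup_left.trans h1'
  have h2' : X (rtA k j) ⊔ X (rtA k l) ≤ V4 X i j k l := le_sup_right.trans h1'
  have h3 : X (rtA k j) ≤ V4 X i j k l := le_sup_left.trans h2'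
  have h4 : X (rtA k l) ≤ V4 X i j k l := le_sup_right.trans h2'
  have key : ∀ {a b : Y}, a ∈ V4 X i j k l → b ∈ V4 X i j k l → (∃ m : ℕ, a ^ p ^ m = 1) →
      (∃ m : ℕ, b ^ p ^ m = 1) → ∃ m : ℕ, (a * b) ^ p ^ m = 1 := by
    rintro a b ha hb ⟨s, hs⟩ ⟨t, ht⟩
    refine ⟨s + t, ?_⟩
    rw [(show Commute a b from hV a ha b hb).mul_pow, pow_add, pow_mul, hs, one_pow, one_mul, mul_comm, pow_mul, ht,
      one_pow]
  have hX : ∀ {r : Fin n → ℤ}, IsRoot cs h r → ∀ a ∈ X r, ∃ m : ℕ, a ^ p ^ m = 1 := by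
    intro r hr a ha
    obtain ⟨m, hm⟩ := (D.pgrp' hr) ⟨a, ha⟩
    exact ⟨m, congrArg Subtype.val hm⟩
  obtain ⟨β, hβ, c, hc, c', hc', ξ, hξ, rfl⟩ := V4_dec D d hv
  refine key (h1 hβ) (mul_mem (h2 hc) (mul_mem (h3 hc') (h4 hξ))) (hX (isRoot_rtA cs h d.ij) β hβ) ?_
  refine key (h2 hc) (mul_mem (h3 hc') (h4 hξ)) (hX (isRoot_rtA cs h d.il) c hc) ?_
  exact key (h3 hc') (h4 hξ) (hX (isRoot_rtA cs h d.jk.symm) c' hc') (hX (isRoot_rtA cs h d.kl) ξ hξ)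

theorem V4_row {g : Y} (hg : g ∈ X (rtA i k)) {v : Y} (hv : v ∈ V4 X i j k l) : g * v * g⁻¹ ∈ V4 X i j k l := by
  have h1 : X (rtA i j) ≤ V4 X i j k l := le_sup_left
  have h1' : X (rtA i l) ⊔ (X (rtA k j) ⊔ X (rtA k l)) ≤ V4 X i j k l := le_sup_right
  have h2 : X (rtA i l) ≤ V4 X i j k l := le_sup_left.trans h1'
  have h2' : X (rtA k j) ⊔ X (rtA k l) ≤ V4 X i j k l := le_sup_right.trans h1'
  have h3 : X (rtA k j) ≤ V4 X i j k l := le_sup_left.trans h2'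
  have h4 : X (rtA k l) ≤ V4 X i j k l := le_sup_right.trans h2'
  obtain ⟨ij, ik, il, jk, jl, kl⟩ := d
  have key : V4 X i j k l ≤ (V4 X i j k l).comap (MulAut.conj g).toMonoidHom := by
    refine sup_le (fun c hc => ?_) (sup_le (fun c hc => ?_) (sup_le (fun c hc => ?_) (fun c hc => ?_))) <;>
      rw [Subgroup.mem_comap] <;> change g * c * g⁻¹ ∈ _
    · rw [comm_disj D ik ij ik.symm ij (fun e => jk e.2.symm) hg hc, mul_inv_cancel_right]
      exact h1 hc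
    · rw [comm_disj D ik il ik.symm il (fun e => kl e.2) hg hc, mul_inv_cancel_right]
      exact h2 hc
    · have e : g * c * g⁻¹ = ⁅g, c⁆ * c := by rw [commutatorElement_def]; group
      rw [e]
      exact mul_mem (h1 (comm_mem D ik jk.symm ij hg hc)) (h3 hc)
    · have e : g * c * g⁻¹ = ⁅g, c⁆ * c := by rw [commutatorElement_def]; group
      rw [e]
      exact mul_mem (h2 (comm_mem D ik kl il hg hc)) (h4 hc)
  exact key hv

theorem V4_col {g : Y} (hg : g ∈ X (rtA j l)) {v : Y} (hv : v ∈ V4 X i j k l) : g * v * g⁻¹ ∈ V4 X i j k l := by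
  have h1 : X (rtA i j) ≤ V4 X i j k l := le_sup_left
  have h1' : X (rtA i l) ⊔ (X (rtA k j) ⊔ X (rtA k l)) ≤ V4 X i j k l := le_sup_right
  have h2 : X (rtA i l) ≤ V4 X i j k l := le_sup_left.trans h1'
  have h2' : X (rtA k j) ⊔ X (rtA k l) ≤ V4 X i j k l := le_sup_right.trans h1'
  have h3 : X (rtA k j) ≤ V4 X i j k l := le_sup_left.trans h2'
  have h4 : X (rtA k l) ≤ V4 X i j k l := le_sup_right.trans h2'
  obtain ⟨ij, ik, il, jk, jl, kl⟩ := d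
  have key : V4 X i j k l ≤ (V4 X i j k l).comap (MulAut.conj g).toMonoidHom := by
    refine sup_le (fun c hc => ?_) (sup_le (fun c hc => ?_) (sup_le (fun c hc => ?_) (fun c hc => ?_))) <;>
      rw [Subgroup.mem_comap] <;> change g * c * g⁻¹ ∈ _
    · have e : g * c * g⁻¹ = ⁅g, c⁆ * c := by rw [commutatorElement_def]; group
      rw [e]
      exact mul_mem (h2 (comm_mem' D ij jl il hc hg)) (h1 hc)
    · rw [comm_disj D jl il il.symm jl (fun e => ij e.1.symm) hg hc, mul_inv_cancel_right]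
      exact h2 hc
    · have e : g * c * g⁻¹ = ⁅g, c⁆ * c := by rw [commutatorElement_def]; group
      rw [e]
      exact mul_mem (h4 (comm_mem' D jk.symm jl kl hc hg)) (h3 hc)
    · rw [comm_disj D jl kl kl.symm jl (fun e => jk e.1) hg hc, mul_inv_cancel_right]
      exact h4 hc
  exact key hv

theorem V4_row' {g : Y} (hg : g ∈ X (rtA k i)) {v : Y} (hv : v ∈ V4 X i j k l) : g * v * g⁻¹ ∈ V4 X i j k l := by
  have d' : D4 k j i l := ⟨d.jk.symm, d.ik.symm, d.kl, d.ij.symm, d.jl, d.il⟩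
  have := V4_row D d' hg (v := v) (by rw [V4_swap₁]; exact hv)
  rwa [V4_swap₁] at this

theorem V4_col' {g : Y} (hg : g ∈ X (rtA l j)) {v : Y} (hv : v ∈ V4 X i j k l) : g * v * g⁻¹ ∈ V4 X i j k l := by
  have d' : D4 i l k j := ⟨d.il, d.ik, d.ij, d.kl.symm, d.jl.symm, d.jk.symm⟩
  have := V4_col D d' hg (v := v) (by rw [V4_swap₂]; exact hv)
  rwa [V4_swap₂] at this

end V4

theorem comm_sup {P P' Q Q' : Subgroup Y} (h1 : ∀ a ∈ P, ∀ b ∈ Q, a * b = b * a) (h2 : ∀ a ∈ P, ∀ b ∈ Q', a * b = b * a)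
    (h3 : ∀ a ∈ P', ∀ b ∈ Q, a * b = b * a) (h4 : ∀ a ∈ P', ∀ b ∈ Q', a * b = b * a) :
    ∀ a ∈ P ⊔ P', ∀ b ∈ Q ⊔ Q', a * b = b * a := by
  have key : ∀ {K : Subgroup Y} (b : Y), b ∈ Q ⊔ Q' → (∀ a ∈ K, ∀ b ∈ Q, a * b = b * a) →
      (∀ a ∈ K, ∀ b ∈ Q', a * b = b * a) → ∀ a ∈ K, a * b = b * a := by
    intro K b hb k1 k2 a ha
    have : Q ⊔ Q' ≤ Subgroup.centralizer {a} := by
      refine sup_le (fun c hc => ?_) (fun c hc => ?_) <;> rw [Subgroup.mem_centralizer_singleton_iff]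
      · exact (k1 a ha c hc).symm
      · exact (k2 a ha c hc).symm
    exact (Subgroup.mem_centralizer_singleton_iff.1 (this hb)).symm
  intro a ha b hb
  have : P ⊔ P' ≤ Subgroup.centralizer {b} := by
    refine sup_le (fun c hc => ?_) (fun c hc => ?_) <;> rw [Subgroup.mem_centralizer_singleton_iff]
    · exact key b hb h1 h2 c hc
    · exact key b hb h3 h4 c hc
  exact Subgroup.mem_centralizer_singleton_iff.1 (this ha)

namespace CfgA

section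

variable (C : Cls cs h p T nu X R Z z) (F : CfgA p X R Z z i j k l)
include F

theorem d4 : D4 i j k l := ⟨F.ij, F.ik, F.il, F.jk, F.jl, F.kl⟩

include C

theorem op : CfgA p X R Z z j i l k :=
  ⟨F.ij.symm, F.jl, F.jk, F.il, F.ik, F.kl.symm, F.hR, F.hZ, F.hp, F.hodd, by
    rw [← rtA_neg i j, ← rtA_neg k l, C.z_neg _ (F.hR i j F.ij), C.z_neg _ (F.hR k l F.kl), F.hz]⟩

theorem zc {r : Fin n → ℤ} (hr : r ∈ R) {a : Y} (ha : a ∈ X r) : z r * a = a * z r := C.z_cent r hr a (F.hZ r hr ▸ ha)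

theorem zij {a : Y} (ha : a ∈ X (rtA i j)) : z (rtA i j) * a = a * z (rtA i j) := F.zc C (F.hR i j F.ij) ha

theorem zji {a : Y} (ha : a ∈ X (rtA j i)) : z (rtA i j) * a = a * z (rtA i j) := by
  have e : z (rtA i j) = z (rtA j i) := by rw [← rtA_neg i j, C.z_neg _ (F.hR i j F.ij)]
  rw [e]
  exact F.zc C (F.hR j i F.ij.symm) ha

theorem zkl {a : Y} (ha : a ∈ X (rtA k l)) : z (rtA i j) * a = a * z (rtA i j) := by
  rw [F.hz]
  exact F.zc C (F.hR k l F.kl) ha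

theorem zlk {a : Y} (ha : a ∈ X (rtA l k)) : z (rtA i j) * a = a * z (rtA i j) := by
  have e : z (rtA k l) = z (rtA l k) := by rw [← rtA_neg k l, C.z_neg _ (F.hR k l F.kl)]
  rw [F.hz, e]
  exact F.zc C (F.hR l k F.kl.symm) ha

/-- `z` inverts the root groups joining `{i, j}` and its complement -/
theorem zi {a b : Fin (n + 1)} (hab : a ≠ b) (h1 : (a = i ∨ a = j) ∧ b ≠ i ∧ b ≠ j ∨ (b = i ∨ b = j) ∧ a ≠ i ∧ a ≠ j)
    {t : Y} (ht : t ∈ X (rtA a b)) : z (rtA i j) * t * z (rtA i j) = t⁻¹ := by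
  have hij := F.ij
  refine C.z_inv _ (F.hR i j hij) _ (isRoot_rtA cs h hab) ?_ ?_ ?_ t ht
  · intro e
    obtain ⟨e1, e2⟩ := rtA_inj hab e
    rcases h1 with ⟨-, h2, h3⟩ | ⟨-, h2, h3⟩
    · exact h3 e2
    · exact h2 e1
  · intro e
    rw [rtA_neg] at e
    obtain ⟨e1, e2⟩ := rtA_inj hab e
    rcases h1 with ⟨-, h2, h3⟩ | ⟨-, h2, h3⟩
    · exact h2 e2
    · exact h3 e1
  · rw [Ne, ← cpr_zero_iff cs h _ (isRoot_rtA cs h hij), cpr_rtA cs h a b hij]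
    rcases h1 with ⟨h2 | h2, h3, h4⟩ | ⟨h2 | h2, h3, h4⟩
    · rw [if_pos h2, if_neg (fun e => hij (h2.symm.trans e)), if_neg h3, if_neg h4]; norm_num
    · rw [if_neg (fun e => hij (e.symm.trans h2)), if_pos h2, if_neg h3, if_neg h4]; norm_num
    · rw [if_neg h3, if_neg h4, if_pos h2, if_neg (fun e => hij (h2.symm.trans e))]; norm_num
    · rw [if_neg h3, if_neg h4, if_neg (fun e : b = i => hij (e.symm.trans h2)), if_pos h2]; norm_num

theorem comm_K : ∀ a ∈ X (rtA i j) ⊔ X (rtA j i), ∀ b ∈ X (rtA k l) ⊔ X (rtA l k), a * b = b * a := by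
  have D := C.rgd
  obtain ⟨ij, ik, il, jk, jl, kl⟩ := F.d4
  refine comm_sup (fun a ha b hb => ?_) (fun a ha b hb => ?_) (fun a ha b hb => ?_) (fun a ha b hb => ?_)
  · exact comm_disj D ij kl jk il (fun e => ik e.1) ha hb
  · exact comm_disj D ij kl.symm jl ik (fun e => il e.1) ha hb
  · exact comm_disj D ij.symm kl ik jl (fun e => jk e.1) ha hb
  · exact comm_disj D ij.symm kl.symm il jk (fun e => jl e.1) ha hb

theorem V_z {v : Y} (hv : v ∈ V4 X i j k l) (h0 : z (rtA i j) * v = v * z (rtA i j)) :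
    ∃ β ∈ X (rtA i j), ∃ ξ ∈ X (rtA k l), v = β * ξ := by
  have D := C.rgd
  have d := F.d4
  have hV := V4_abel D d
  have zz := C.z_sq _ (F.hR i j F.ij)
  obtain ⟨β, hβ, c, hc, c', hc', ξ, hξ, rfl⟩ := V4_dec D d hv
  have h1 : X (rtA i j) ≤ V4 X i j k l := le_sup_left
  have h1' : X (rtA i l) ⊔ (X (rtA k j) ⊔ X (rtA k l)) ≤ V4 X i j k l := le_sup_right
  have h2 : X (rtA i l) ≤ V4 X i j k l := le_sup_left.trans h1'
  have h2' : X (rtA k j) ⊔ X (rtA k l) ≤ V4 X i j k l := le_sup_right.trans h1'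
  have h3 : X (rtA k j) ≤ V4 X i j k l := le_sup_left.trans h2'
  have e1 := F.zi C F.il (Or.inl ⟨Or.inl rfl, F.il.symm, F.jl.symm⟩) hc
  have e2 := F.zi C F.jk.symm (Or.inr ⟨Or.inr rfl, F.ik.symm, F.jk.symm⟩) hc'
  have e3 := F.zij C hβ
  have e4 := F.zkl C hξ
  have e5 : z (rtA i j) * (β * (c * (c' * ξ))) * z (rtA i j) = β * (c⁻¹ * (c'⁻¹ * ξ)) := by
    calc z (rtA i j) * (β * (c * (c' * ξ))) * z (rtA i j)
        = (z (rtA i j) * β) * c * 1 * c' * (ξ * z (rtA i j)) := by group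
      _ = (β * z (rtA i j)) * c * (z (rtA i j) * z (rtA i j)) * c' * (z (rtA i j) * ξ) := by rw [e3, ← e4, zz]
      _ = β * ((z (rtA i j) * c * z (rtA i j)) * ((z (rtA i j) * c' * z (rtA i j)) * ξ)) := by group
      _ = _ := by rw [e1, e2]
  rw [h0, mul_assoc, zz, mul_one] at e5
  have e6 : c * (c' * ξ) = c⁻¹ * (c'⁻¹ * ξ) := mul_left_cancel e5
  have e7 : c * c' = c⁻¹ * c'⁻¹ := by
    have := congrArg (fun t => t * ξ⁻¹) e6
    simpa [mul_assoc] using this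
  have hcc : c * c' = c' * c := hV c (h2 hc) c' (h3 hc')
  have e8 : (c * c') * (c * c') = 1 := by
    nth_rewrite 1 [e7]
    rw [hcc]; group
  obtain ⟨m, hm⟩ := V4_pow D d (mul_mem (h2 hc) (h3 hc'))
  have e9 := eq_one_of_sq F.hp F.hodd hm e8
  refine ⟨β, hβ, ξ, hξ, ?_⟩
  calc β * (c * (c' * ξ)) = β * ((c * c') * ξ) := by group
    _ = _ := by rw [e9, one_mul]

/-- **The configuration of `SwapAbs`.** -/
theorem conf : ∃ n₀ x y r : Y, Conf (z (rtA i j)) n₀ x y r (X (rtA i j)) (X (rtA k l)) (X (rtA j i)) (X (rtA l k))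
    (V4 X i j k l) (V4 X j i l k) ∧ x ∈ G1 cs h X ∧ y ∈ G1 cs h X ∧ r ∈ G1 cs h X := by
  have D := C.rgd
  have d := F.d4
  obtain ⟨ij, ik, il, jk, jl, kl⟩ := F.d4
  have zz := C.z_sq _ (F.hR i j ij)
  have rik := isRoot_rtA cs h ik
  have rjl := isRoot_rtA cs h jl
  have zik : ∀ a ∈ X (rtA i k), z (rtA i j) * a * z (rtA i j) = a⁻¹ := fun a ha =>
    F.zi C ik (Or.inl ⟨Or.inl rfl, ik.symm, jk.symm⟩) ha
  have zki : ∀ a ∈ X (-rtA i k), z (rtA i j) * a * z (rtA i j) = a⁻¹ := fun a ha => by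
    rw [rtA_neg] at ha
    exact F.zi C ik.symm (Or.inr ⟨Or.inl rfl, ik.symm, jk.symm⟩) ha
  have zjl : ∀ a ∈ X (rtA j l), z (rtA i j) * a * z (rtA i j) = a⁻¹ := fun a ha =>
    F.zi C jl (Or.inl ⟨Or.inr rfl, il.symm, jl.symm⟩) ha
  have zlj : ∀ a ∈ X (-rtA j l), z (rtA i j) * a * z (rtA i j) = a⁻¹ := fun a ha => by
    rw [rtA_neg] at ha
    exact F.zi C jl.symm (Or.inr ⟨Or.inr rfl, il.symm, jl.symm⟩) ha
  obtain ⟨b1, hb1, hb11⟩ : ∃ b ∈ X (-rtA i k), b ≠ 1 := by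
    by_contra h0
    push Not at h0
    exact Bruhat.X_ne_bot D rik.neg ((Subgroup.eq_bot_iff_forall _).2 h0)
  obtain ⟨b2, hb2, hb21⟩ : ∃ b ∈ X (-rtA j l), b ≠ 1 := by
    by_contra h0
    push Not at h0
    exact Bruhat.X_ne_bot D rjl.neg ((Subgroup.eq_bot_iff_forall _).2 h0)
  obtain ⟨a1, ha1, w1, hw1, ew1⟩ := exists_aba C rik zz zik zki hb1 hb11
  obtain ⟨a2, ha2, w2, hw2, ew2⟩ := exists_aba C rjl zz zjl zlj hb2 hb21
  obtain ⟨r1, hr1, hrr1⟩ := exists_sqrt C F.hp F.hodd rik.neg hb1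
  obtain ⟨r2, hr2, hrr2⟩ := exists_sqrt C F.hp F.hodd rjl.neg hb2
  -- the two rank one groups commute
  have hcc : ∀ a ∈ X (rtA i k) ⊔ X (-rtA i k), ∀ b ∈ X (rtA j l) ⊔ X (-rtA j l), a * b = b * a := by
    rw [rtA_neg, rtA_neg]
    refine comm_sup (fun a ha b hb => ?_) (fun a ha b hb => ?_) (fun a ha b hb => ?_) (fun a ha b hb => ?_)
    · exact comm_disj D ik jl jk.symm il (fun e => ij e.1) ha hb
    · exact comm_disj D ik jl.symm kl ij (fun e => il e.1) ha hb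
    · exact comm_disj D ik.symm jl ij kl (fun e => jk e.1.symm) ha hb
    · exact comm_disj D ik.symm jl.symm il jk.symm (fun e => kl e.1) ha hb
  have ma1 : a1 ∈ X (rtA i k) ⊔ X (-rtA i k) := Subgroup.mem_sup_left ha1
  have mb1 : b1 ∈ X (rtA i k) ⊔ X (-rtA i k) := Subgroup.mem_sup_right hb1
  have mr1 : r1 ∈ X (rtA i k) ⊔ X (-rtA i k) := Subgroup.mem_sup_right hr1
  have ma2 : a2 ∈ X (rtA j l) ⊔ X (-rtA j l) := Subgroup.mem_sup_left ha2
  have mb2 : b2 ∈ X (rtA j l) ⊔ X (-rtA j l) := Subgroup.mem_sup_right hb2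
  have mr2 : r2 ∈ X (rtA j l) ⊔ X (-rtA j l) := Subgroup.mem_sup_right hr2
  obtain ⟨N1, hN1⟩ : ∃ N1, N1 = a1 * b1 * a1 := ⟨_, rfl⟩
  obtain ⟨N2, hN2⟩ : ∃ N2, N2 = a2 * b2 * a2 := ⟨_, rfl⟩
  have hN : (a1 * a2) * (b1 * b2) * (a1 * a2) = N1 * N2 := by
    rw [hN1, hN2]
    calc (a1 * a2) * (b1 * b2) * (a1 * a2) = a1 * (a2 * b1) * (b2 * a1) * a2 := by group
      _ = a1 * (b1 * a2) * (a1 * b2) * a2 := by rw [← hcc b1 mb1 a2 ma2, ← hcc a1 ma1 b2 mb2]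
      _ = a1 * b1 * (a2 * a1) * b2 * a2 := by group
      _ = a1 * b1 * (a1 * a2) * b2 * a2 := by rw [← hcc a1 ma1 a2 ma2]
      _ = _ := by group
  have hNc : N1 * N2 = N2 * N1 := by
    refine hcc _ ?_ _ ?_
    · rw [hN1]; exact mul_mem (mul_mem ma1 mb1) ma1
    · rw [hN2]; exact mul_mem (mul_mem ma2 mb2) ma2
  rw [← hN1] at hw1
  rw [← hN2] at hw2
  have hw : Rp cs D.nsys (w1 * w2) (N1 * N2) := hw1.mul hw2
  -- the action on roots
  have e1 : rep cs h (w1 * w2) (rtA i j) = rtA k l := by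
    rw [rep_mul_apply, ew2, ew1, cpr_rtA cs h i j jl, if_neg ij, if_neg il, if_pos rfl, if_neg jl]
    have : rtA i j - (0 - 0 - (1 - 0) : ℤ) • rtA j l = (rtA i l : Fin n → ℤ) := by
      rw [← rtA_add i j l]; module
    rw [this, cpr_rtA cs h i l ik, if_pos rfl, if_neg ik, if_neg il.symm, if_neg kl.symm]
    have : (rtA i l : Fin n → ℤ) - (1 - 0 - (0 - 0) : ℤ) • rtA i k = rtA k l := by
      rw [← rtA_add i k l]; module
    exact this
  have e1' : rep cs h (w1 * w2) (rtA j i) = rtA l k := by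
    rw [← rtA_neg i j, map_neg, e1, rtA_neg]
  -- `(N1 N2)² = 1`
  have hzN : (N1 * N2) * z (rtA i j) * (N1 * N2)⁻¹ = z (rtA i j) := by
    have := ClsNorm.conj_z C hw (F.hR i j ij)
    rw [e1, ← F.hz] at this
    exact this
  have hzN2 : z (rtA i j) * (N1 * N2) * z (rtA i j) = (N1 * N2)⁻¹ := by
    have f1 : z (rtA i j) * N1 * z (rtA i j) = N1⁻¹ := by
      rw [hN1]
      calc z (rtA i j) * (a1 * b1 * a1) * z (rtA i j)
          = z (rtA i j) * a1 * 1 * b1 * 1 * a1 * z (rtA i j) := by group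
        _ = z (rtA i j) * a1 * (z (rtA i j) * z (rtA i j)) * b1 * (z (rtA i j) * z (rtA i j)) * a1 * z (rtA i j) := by
            rw [zz]
        _ = (z (rtA i j) * a1 * z (rtA i j)) * (z (rtA i j) * b1 * z (rtA i j)) * (z (rtA i j) * a1 * z (rtA i j)) := by
            group
        _ = _ := by rw [zik a1 ha1, zki b1 hb1]; group
    have f2 : z (rtA i j) * N2 * z (rtA i j) = N2⁻¹ := by
      rw [hN2]
      calc z (rtA i j) * (a2 * b2 * a2) * z (rtA i j)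
          = z (rtA i j) * a2 * 1 * b2 * 1 * a2 * z (rtA i j) := by group
        _ = z (rtA i j) * a2 * (z (rtA i j) * z (rtA i j)) * b2 * (z (rtA i j) * z (rtA i j)) * a2 * z (rtA i j) := by
            rw [zz]
        _ = (z (rtA i j) * a2 * z (rtA i j)) * (z (rtA i j) * b2 * z (rtA i j)) * (z (rtA i j) * a2 * z (rtA i j)) := by
            group
        _ = _ := by rw [zjl a2 ha2, zlj b2 hb2]; group
    calc z (rtA i j) * (N1 * N2) * z (rtA i j) = z (rtA i j) * N1 * 1 * N2 * z (rtA i j) := by group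
      _ = z (rtA i j) * N1 * (z (rtA i j) * z (rtA i j)) * N2 * z (rtA i j) := by rw [zz]
      _ = (z (rtA i j) * N1 * z (rtA i j)) * (z (rtA i j) * N2 * z (rtA i j)) := by group
      _ = (N2 * N1)⁻¹ := by rw [f1, f2]; group
      _ = _ := by rw [hNc]
  obtain ⟨N, hNN⟩ : ∃ N, N = N1 * N2 := ⟨_, rfl⟩
  rw [← hNN] at hzN hzN2 hw hN
  have hzN' : N * z (rtA i j) = z (rtA i j) * N := mul_inv_eq_iff_eq_mul.1 hzN
  have h3 : N = N⁻¹ := by
    calc N = N * (z (rtA i j) * z (rtA i j)) := by rw [zz, mul_one]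
      _ = (N * z (rtA i j)) * z (rtA i j) := by group
      _ = z (rtA i j) * N * z (rtA i j) := by rw [hzN']
      _ = N⁻¹ := hzN2
  have h4 : N * N = 1 := by
    nth_rewrite 1 [h3]
    exact inv_mul_cancel N
  have zmul : ∀ {a b : Y}, z (rtA i j) * a * z (rtA i j) = a⁻¹ → z (rtA i j) * b * z (rtA i j) = b⁻¹ → a * b = b * a →
      z (rtA i j) * (a * b) * z (rtA i j) = (a * b)⁻¹ := by
    intro a b ha hb hab
    calc z (rtA i j) * (a * b) * z (rtA i j) = z (rtA i j) * a * 1 * b * z (rtA i j) := by group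
      _ = z (rtA i j) * a * (z (rtA i j) * z (rtA i j)) * b * z (rtA i j) := by rw [zz]
      _ = (z (rtA i j) * a * z (rtA i j)) * (z (rtA i j) * b * z (rtA i j)) := by group
      _ = (b * a)⁻¹ := by rw [ha, hb]; group
      _ = _ := by rw [hab]
  have F' := F.op C
  have gik : X (rtA i k) ≤ G1 cs h X := X_le_G1 rik
  have gki : X (-rtA i k) ≤ G1 cs h X := X_le_G1 rik.neg
  have gjl : X (rtA j l) ≤ G1 cs h X := X_le_G1 rjl
  have glj : X (-rtA j l) ≤ G1 cs h X := X_le_G1 rjl.neg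
  have cjm : ∀ {s s' : Fin n → ℤ}, IsRoot cs h s → rep cs h (w1 * w2) s = s' → ∀ c ∈ X s, N * c * N ∈ X s' := by
    intro s s' hs e c hc
    have := D.conj_mem hw hs hc
    rwa [e, ← h3] at this
  -- conjugation by two elements
  have nrm : ∀ {V : Subgroup Y} {a b : Y}, (∀ v ∈ V, a * v * a⁻¹ ∈ V) → (∀ v ∈ V, b * v * b⁻¹ ∈ V) →
      ∀ v ∈ V, (a⁻¹ * b⁻¹)⁻¹ * v * (a⁻¹ * b⁻¹) ∈ V := by
    intro V a b ha hb v hv
    have h5 := hb _ (ha v hv)
    have e : (a⁻¹ * b⁻¹)⁻¹ * v * (a⁻¹ * b⁻¹) = b * (a * v * a⁻¹) * b⁻¹ := by group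
    rw [e]
    exact h5
  have nrm' : ∀ {V : Subgroup Y} {a b : Y}, (∀ v ∈ V, a⁻¹ * v * a⁻¹⁻¹ ∈ V) → (∀ v ∈ V, b⁻¹ * v * b⁻¹⁻¹ ∈ V) →
      ∀ v ∈ V, (a * b)⁻¹ * v * (a * b) ∈ V := by
    intro V a b ha hb v hv
    have := nrm ha hb v hv
    rwa [inv_inv, inv_inv] at this
  have r1' : r1 ∈ X (rtA k i) := by rwa [rtA_neg] at hr1
  have r2' : r2 ∈ X (rtA l j) := by rwa [rtA_neg] at hr2
  refine ⟨N, a1 * a2, b1 * b2, r1 * r2,
    { zz := zz
      zx := zmul (zik a1 ha1) (zjl a2 ha2) (hcc a1 ma1 a2 ma2)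
      zy := zmul (zki b1 hb1) (zlj b2 hb2) (hcc b1 mb1 b2 mb2)
      nx := hN.symm
      nn := h4
      rr := ?_
      zr := zmul (zki r1 hr1) (zlj r2 hr2) (hcc r1 mr1 r2 mr2)
      zA := fun c hc => F.zij C hc
      zA' := fun c hc => F.zji C hc
      nA := cjm (isRoot_rtA cs h ij) e1
      nA' := cjm (isRoot_rtA cs h ij.symm) e1'
      AV := le_sup_left
      BV := le_sup_right.trans (le_sup_right.trans le_sup_right)
      AV' := le_sup_left
      BV' := le_sup_right.trans (le_sup_right.trans le_sup_right)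
      xV := nrm' (fun v hv => V4_row D d (inv_mem ha1) hv) (fun v hv => V4_col D d (inv_mem ha2) hv)
      rV := nrm' (fun v hv => V4_row' D d (inv_mem r1') hv) (fun v hv => V4_col' D d (inv_mem r2') hv)
      xV' := nrm' (fun v hv => V4_col D F'.d4 (inv_mem ha1) hv) (fun v hv => V4_row D F'.d4 (inv_mem ha2) hv)
      rV' := nrm' (fun v hv => V4_col' D F'.d4 (inv_mem r1') hv) (fun v hv => V4_row' D F'.d4 (inv_mem r2') hv)
      Vz := fun t ht h0 => F.V_z C ht h0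
      Vz' := fun t ht h0 => ?_
      comm := F.comm_K C }, mul_mem (gik ha1) (gjl ha2), mul_mem (gki hb1) (glj hb2), mul_mem (gki hr1) (glj hr2)⟩
  · calc r1 * r2 * (r1 * r2) = r1 * (r2 * r1) * r2 := by group
      _ = r1 * (r1 * r2) * r2 := by rw [hcc r1 mr1 r2 mr2]
      _ = (r1 * r1) * (r2 * r2) := by group
      _ = _ := by rw [hrr1, hrr2]
  · have ez : z (rtA j i) = z (rtA i j) := by rw [← rtA_neg i j, C.z_neg _ (F.hR i j ij)]
    exact F'.V_z C ht (by rw [ez]; exact h0)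

/-- **(KF1) (i)** -/
theorem ka (Q : Quat (z (rtA i j)) (X (rtA i j) ⊔ X (rtA j i)) (X (rtA k l) ⊔ X (rtA l k)))
    (hz1 : z (rtA i j) ≠ 1) {v w : Y} (hvK : v ∈ X (rtA i j) ⊔ X (rtA j i)) (hv : v * v = z (rtA i j))
    (hwK : w ∈ X (rtA k l) ⊔ X (rtA l k)) (hw : w * w = z (rtA i j)) :
    ∃ S : Set Y, (∀ s ∈ S, s ∈ G1 cs h X ∧ s * (v * w) = (v * w) * s ∧ ∃ k : ℕ, s ^ p ^ k = 1) ∧
      z (rtA i j) * (v * w) ∈ Subgroup.closure S := by
  obtain ⟨n₀, x, y, r, hC, hx, hy, hr⟩ := F.conf C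
  have hX : ∀ {r : Fin n → ℤ}, IsRoot cs h r → ∀ a ∈ X r, ∃ m : ℕ, a ^ p ^ m = 1 := by
    intro r hr a ha
    obtain ⟨m, hm⟩ := (C.rgd.pgrp' hr) ⟨a, ha⟩
    exact ⟨m, congrArg Subtype.val hm⟩
  exact ka_of_conf hC Q hz1 (X_le_G1 (isRoot_rtA cs h F.ij)) (X_le_G1 (isRoot_rtA cs h F.ij.symm))
    (X_le_G1 (isRoot_rtA cs h F.kl)) (X_le_G1 (isRoot_rtA cs h F.kl.symm)) hx hy hr
    (hX (isRoot_rtA cs h F.ij)) (hX (isRoot_rtA cs h F.ij.symm)) hvK hv hwK hw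

/-- **(KF1) (ii)** : the root groups joining `{i, j}` to `{k, l}` -/
theorem kb (hzK : z (rtA i j) ∈ X (rtA i j) ⊔ X (rtA j i)) {v w : Y} (hvK : v ∈ X (rtA i j) ⊔ X (rtA j i))
    (hv : v * v = z (rtA i j))
    (hwK : w ∈ X (rtA k l) ⊔ X (rtA l k)) (hw : w * w = z (rtA i j)) {N : Subgroup Y}
    (hS : ∀ s ∈ G1 cs h X, (∃ k : ℕ, s ^ p ^ k = 1) → (∃ v' ∈ X (rtA i j) ⊔ X (rtA j i), ∃ w' ∈ X (rtA k l) ⊔ X (rtA l k),
      v' * v' = z (rtA i j) ∧ w' * w' = z (rtA i j) ∧ s * (v' * w') = (v' * w') * s) → s ∈ N) :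
    V4 X i k j l ≤ N := by
  have D := C.rgd
  have d : D4 i k j l := ⟨F.ik, F.ij, F.il, F.jk.symm, F.kl, F.jl⟩
  obtain ⟨ij, ik, il, jk, jl, kl⟩ := F.d4
  have zz := C.z_sq _ (F.hR i j ij)
  have hV := V4_abel D d
  intro t ht
  -- `K_a`, `K_b` normalise `U`
  have nK : ∀ {K K' : Subgroup Y}, (∀ g ∈ K, ∀ t ∈ V4 X i k j l, g * t * g⁻¹ ∈ V4 X i k j l) →
      (∀ g ∈ K', ∀ t ∈ V4 X i k j l, g * t * g⁻¹ ∈ V4 X i k j l) → ∀ g ∈ K ⊔ K', ∀ t ∈ V4 X i k j l,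
      g * t * g⁻¹ ∈ V4 X i k j l := by
    intro K K' h1 h2 g hg t ht
    let S : Subgroup Y :=
      { carrier := {g | (∀ t ∈ V4 X i k j l, g * t * g⁻¹ ∈ V4 X i k j l) ∧ ∀ t ∈ V4 X i k j l, g⁻¹ * t * g ∈ V4 X i k j l}
        mul_mem' := by
          rintro a b ⟨ha, ha'⟩ ⟨hb, hb'⟩
          refine ⟨fun t ht => ?_, fun t ht => ?_⟩
          · have : a * b * t * (a * b)⁻¹ = a * (b * t * b⁻¹) * a⁻¹ := by group
            rw [this]; exact ha _ (hb _ ht)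
          · have : (a * b)⁻¹ * t * (a * b) = b⁻¹ * (a⁻¹ * t * a) * b := by group
            rw [this]; exact hb' _ (ha' _ ht)
        one_mem' := ⟨fun t ht => by simpa using ht, fun t ht => by simpa using ht⟩
        inv_mem' := by
          rintro a ⟨ha, ha'⟩
          exact ⟨fun t ht => by simpa using ha' t ht, fun t ht => by simpa using ha t ht⟩ }
    have h3 : K ⊔ K' ≤ S := sup_le
      (fun g hg => ⟨h1 g hg, fun t ht => by simpa using h1 g⁻¹ (inv_mem hg) t ht⟩)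
      (fun g hg => ⟨h2 g hg, fun t ht => by simpa using h2 g⁻¹ (inv_mem hg) t ht⟩)
    exact (h3 hg).1 t ht
  have nKa := nK (K := X (rtA i j)) (K' := X (rtA j i)) (fun g hg t ht => V4_row D d hg ht)
    (fun g hg t ht => V4_row' D d hg ht)
  have nKb := nK (K := X (rtA k l)) (K' := X (rtA l k)) (fun g hg t ht => V4_col D d hg ht)
    (fun g hg t ht => V4_col' D d hg ht)
  have hcm := F.comm_K C v hvK w hwK
  have hf : (v * w) * (v * w) = 1 := by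
    calc (v * w) * (v * w) = v * (w * v) * w := by group
      _ = v * (v * w) * w := by rw [hcm]
      _ = (v * v) * (w * w) := by group
      _ = 1 := by rw [hv, hw, zz]
  have hfi : (v * w)⁻¹ = v * w := inv_eq_of_mul_eq_one_left hf
  -- `z` inverts `U`
  have hzU : ∀ t ∈ V4 X i k j l, z (rtA i j) * t * z (rtA i j) = t⁻¹ := by
    intro t ht
    have h1 : X (rtA i k) ≤ V4 X i k j l := le_sup_left
    have h1' : X (rtA i l) ⊔ (X (rtA j k) ⊔ X (rtA j l)) ≤ V4 X i k j l := le_sup_right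
    have h2 : X (rtA i l) ≤ V4 X i k j l := le_sup_left.trans h1'
    have h2' : X (rtA j k) ⊔ X (rtA j l) ≤ V4 X i k j l := le_sup_right.trans h1'
    have h3 : X (rtA j k) ≤ V4 X i k j l := le_sup_left.trans h2'
    have h4 : X (rtA j l) ≤ V4 X i k j l := le_sup_right.trans h2'
    have zmul : ∀ {a b : Y}, a ∈ V4 X i k j l → b ∈ V4 X i k j l → z (rtA i j) * a * z (rtA i j) = a⁻¹ →
        z (rtA i j) * b * z (rtA i j) = b⁻¹ → z (rtA i j) * (a * b) * z (rtA i j) = (a * b)⁻¹ := by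
      intro a b ma mb ha hb
      calc z (rtA i j) * (a * b) * z (rtA i j) = z (rtA i j) * a * 1 * b * z (rtA i j) := by group
        _ = z (rtA i j) * a * (z (rtA i j) * z (rtA i j)) * b * z (rtA i j) := by rw [zz]
        _ = (z (rtA i j) * a * z (rtA i j)) * (z (rtA i j) * b * z (rtA i j)) := by group
        _ = (b * a)⁻¹ := by rw [ha, hb]; group
        _ = _ := by rw [hV a ma b mb]
    obtain ⟨a, ha, b, hb, c, hc, e, he, rfl⟩ := V4_dec D d ht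
    have k1 := F.zi C ik (Or.inl ⟨Or.inl rfl, ik.symm, jk.symm⟩) ha
    have k2 := F.zi C il (Or.inl ⟨Or.inl rfl, il.symm, jl.symm⟩) hb
    have k3 := F.zi C jk (Or.inl ⟨Or.inr rfl, ik.symm, jk.symm⟩) hc
    have k4 := F.zi C jl (Or.inl ⟨Or.inr rfl, il.symm, jl.symm⟩) he
    exact zmul (h1 ha) (mul_mem (h2 hb) (mul_mem (h3 hc) (h4 he))) k1
      (zmul (h2 hb) (mul_mem (h3 hc) (h4 he)) k2 (zmul (h3 hc) (h4 he) k3 k4))
  have hUG : V4 X i k j l ≤ G1 cs h X := sup_le (X_le_G1 (isRoot_rtA cs h ik))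
    (sup_le (X_le_G1 (isRoot_rtA cs h il)) (sup_le (X_le_G1 (isRoot_rtA cs h jk)) (X_le_G1 (isRoot_rtA cs h jl))))
  obtain ⟨t1, ht1⟩ : ∃ t1, t1 = (v * w) * t * (v * w)⁻¹ := ⟨_, rfl⟩
  have ht1U : t1 ∈ V4 X i k j l := by
    have e : (v * w) * t * (v * w)⁻¹ = v * (w * t * w⁻¹) * v⁻¹ := by group
    rw [ht1, e]
    exact nKa v hvK _ (nKb w hwK t ht)
  have e1 : (v * w) * t = t1 * (v * w) := by rw [ht1]; group
  have e2 : (v * w) * t1 = t * (v * w) := by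
    rw [ht1, hfi]
    calc (v * w) * ((v * w) * t * (v * w)) = ((v * w) * (v * w)) * t * (v * w) := by group
      _ = _ := by rw [hf, one_mul]
  have htt := hV t ht t1 ht1U
  -- `t t₁` commutes with `f`
  have s1 : t * t1 ∈ N := by
    refine hS _ (hUG (mul_mem ht ht1U)) (V4_pow D d (mul_mem ht ht1U)) ⟨v, hvK, w, hwK, hv, hw, ?_⟩
    calc t * t1 * (v * w) = t * ((v * w) * t) := by rw [e1]; group
      _ = (t * (v * w)) * t := by group
      _ = (v * w) * (t1 * t) := by rw [← e2]; group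
      _ = _ := by rw [htt]
  -- `t t₁⁻¹` commutes with `f z`
  have hzv : z (rtA i j) * v = v * z (rtA i j) := by rw [← hv]; group
  have hzw : z (rtA i j) * w = w * z (rtA i j) := by rw [← hw]; group
  have s2 : t * t1⁻¹ ∈ N := by
    have hm : t * t1⁻¹ ∈ V4 X i k j l := mul_mem ht (inv_mem ht1U)
    refine hS _ (hUG hm) (V4_pow D d hm) ⟨v * z (rtA i j), mul_mem hvK hzK, w, hwK, ?_, hw, ?_⟩
    · calc v * z (rtA i j) * (v * z (rtA i j)) = v * (z (rtA i j) * v) * z (rtA i j) := by group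
        _ = (v * v) * (z (rtA i j) * z (rtA i j)) := by rw [hzv]; group
        _ = _ := by rw [zz, mul_one, hv]
    · have e3 : v * z (rtA i j) * w = z (rtA i j) * (v * w) := by rw [← hzv]; group
      have e4 : (v * w) * (t * t1⁻¹) = (t * t1⁻¹)⁻¹ * (v * w) := by
        have e5 : (v * w) * t1⁻¹ = t⁻¹ * (v * w) := by
          rw [eq_inv_mul_iff_mul_eq, ← mul_assoc, ← e2]; group
        calc (v * w) * (t * t1⁻¹) = ((v * w) * t) * t1⁻¹ := by group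
          _ = t1 * ((v * w) * t1⁻¹) := by rw [e1]; group
          _ = (t1 * t⁻¹) * (v * w) := by rw [e5]; group
          _ = _ := by group
      have e6 := hzU _ hm
      have e7 : z (rtA i j) * (t * t1⁻¹) = (t * t1⁻¹)⁻¹ * z (rtA i j) := by
        rw [← e6, mul_assoc _ (z (rtA i j)) (z (rtA i j)), zz, mul_one]
      have e8 : z (rtA i j) * (t * t1⁻¹)⁻¹ = (t * t1⁻¹) * z (rtA i j) := by
        rw [mul_inv_eq_iff_eq_mul, mul_assoc, e7]; group
      rw [e3]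
      calc t * t1⁻¹ * (z (rtA i j) * (v * w)) = (t * t1⁻¹ * z (rtA i j)) * (v * w) := by group
        _ = z (rtA i j) * ((t * t1⁻¹)⁻¹ * (v * w)) := by rw [← e8]; group
        _ = _ := by rw [← e4]; group
  obtain ⟨m, hm⟩ := V4_pow D d ht
  refine mem_of_sq F.hp F.hodd hm ?_
  have e9 : t * t = (t * t1) * (t * t1⁻¹) := by
    rw [htt]
    calc t * t = t * (t1 * t1⁻¹) * t := by group
      _ = (t * t1) * t1⁻¹ * t := by group
      _ = (t1 * t) * (t1⁻¹ * t) := by rw [htt]; group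
      _ = _ := by
        have : t1⁻¹ * t = t * t1⁻¹ := hV _ (inv_mem ht1U) _ ht
        rw [this]
  rw [e9]
  exact mul_mem s1 s2

end

end CfgA

end Cfsg.Agent.Nodes.SwapA
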