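import Mathlib
import Cfsg.Agent.Nodes.SwapA
import Cfsg.Agent.Nodes.KindB

/-!
# (KF1) for the types `B n` and `A 3` (project CIT, |E| = 4)

`Out p D K L z` : for `v ∈ K`, `w ∈ L` with `v² = w² = z` the element `z v w` is a product of `p`-elements of
`C_D(v w)`, and `D` is generated by (things normal under `C_D(z)` containing) `K`, `L` and the `p`-elements of `C_D(z)`,
`C_D(v w)`.
-/

set_option autoImplicit false
set_option linter.unusedSectionVars false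
set_option linter.dupNamespace false

namespace Cfsg.Agent.Nodes.SwapEnd

open CoxeterSystem Cfsg.Agent.ChevalleyStructure.CoxeterGeom Cfsg.Agent.Tits.Roots Cfsg.Agent.Tits.Core
  Cfsg.Agent.Tits.RootComb Cfsg.Agent.Nodes.Comb Cfsg.Agent.Nodes.Reps Cfsg.Agent.Nodes.BNOf
  Cfsg.Agent.Nodes.RGDLib Cfsg.Agent.Nodes.Chart Cfsg.Agent.Nodes.Coroot Cfsg.Agent.Nodes.Perp
  Cfsg.Agent.Nodes.ZRel Cfsg.Agent.Nodes.ShortSum Cfsg.Agent.Nodes.RankOneSub Cfsg.Agent.Nodes.SwapAbs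
  Cfsg.Agent.Nodes.SwapB Cfsg.Agent.Nodes.SwapA
open scoped commutatorElement

/-- the conclusion of (KF1) -/
structure Out {G : Type*} [Group G] (p : ℕ) (D K L : Subgroup G) (z : G) : Prop where
  ka : ∀ v ∈ K, ∀ w ∈ L, v * v = z → w * w = z → ∃ S : Set G,
    (∀ s ∈ S, s ∈ D ∧ s * (v * w) = (v * w) * s ∧ ∃ k : ℕ, s ^ p ^ k = 1) ∧ z * (v * w) ∈ Subgroup.closure S
  kb : ∀ N : Subgroup G, K ≤ N → L ≤ N → (∀ s ∈ D, (∃ k : ℕ, s ^ p ^ k = 1) → s * z = z * s → s ∈ N) →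
    (∀ s ∈ D, (∃ k : ℕ, s ^ p ^ k = 1) → (∃ v ∈ K, ∃ w ∈ L, v * v = z ∧ w * w = z ∧ s * (v * w) = (v * w) * s) →
      s ∈ N) →
    (∀ c ∈ D, c * z = z * c → c ∈ Subgroup.normalizer (N : Set G)) → D ≤ N

namespace Out

variable {G : Type*} [Group G] {p : ℕ} {D K L : Subgroup G} {z : G}

theorem symm (O : Out p D K L z) (hc : ∀ a ∈ K, ∀ b ∈ L, a * b = b * a) : Out p D L K z where
  ka := by
    intro v hv w hw h1 h2
    have e : v * w = w * v := (hc w hw v hv).symm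
    rw [e]
    exact O.ka w hw v hv h2 h1
  kb := by
    intro N hL hK hz hf hn
    refine O.kb N hK hL hz (fun s hs hp => ?_) hn
    rintro ⟨v, hv, w, hw, h1, h2, h3⟩
    have e : v * w = w * v := hc v hv w hw
    exact hf s hs hp ⟨w, hw, v, hv, h2, h1, by rw [← e]; exact h3⟩

theorem of_cj {d : G} (hd : d ∈ D) (O : Out p D (cj d K) (cj d L) (d * z * d⁻¹)) : Out p D K L z where
  ka := by
    intro v hv w hw h1 h2
    have mk : ∀ {H : Subgroup G} {a : G}, a ∈ H → d * a * d⁻¹ ∈ cj d H := by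
      intro H a ha
      rw [mem_cj]
      have e : d⁻¹ * (d * a * d⁻¹) * d = a := by group
      rwa [e]
    obtain ⟨S, hS, hc⟩ := O.ka _ (mk hv) _ (mk hw) (by rw [← h1]; group) (by rw [← h2]; group)
    refine ⟨(fun s => d⁻¹ * s * d) '' S, ?_, ?_⟩
    · rintro _ ⟨s, hs, rfl⟩
      obtain ⟨s1, s2, k, s3⟩ := hS s hs
      refine ⟨mul_mem (mul_mem (inv_mem hd) s1) hd, ?_, k, pow_conj s3⟩
      have e1 : (d⁻¹ * s * d) * (v * w) = d⁻¹ * (s * ((d * v * d⁻¹) * (d * w * d⁻¹))) * d := by group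
      rw [show (fun s => d⁻¹ * s * d) s = d⁻¹ * s * d from rfl, e1, s2]
      group
    · have e : z * (v * w) = d⁻¹ * (d * z * d⁻¹ * ((d * v * d⁻¹) * (d * w * d⁻¹))) * d := by group
      rw [e]
      have h3 : Subgroup.closure ((fun s => d⁻¹ * s * d) '' S) = cj d⁻¹ (Subgroup.closure S) := by
        unfold cj
        rw [MonoidHom.map_closure]
        congr 1
        ext t
        simp only [Set.mem_image, MulEquiv.toMonoidHom_eq_coe, MonoidHom.coe_coe, MulAut.conj_apply, inv_inv]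
      rw [h3, mem_cj, inv_inv]
      have e2 : d * (d⁻¹ * (d * z * d⁻¹ * ((d * v * d⁻¹) * (d * w * d⁻¹))) * d) * d⁻¹ =
          d * z * d⁻¹ * ((d * v * d⁻¹) * (d * w * d⁻¹)) := by group
      rw [e2]
      exact hc
  kb := by
    intro N hK hL hz hf hn
    have hD : cj d D = D := by
      ext t
      rw [mem_cj]
      constructor
      · intro h
        have := mul_mem (mul_mem hd h) (inv_mem hd)
        have e : d * (d⁻¹ * t * d) * d⁻¹ = t := by group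
        rwa [e] at this
      · intro h
        exact mul_mem (mul_mem (inv_mem hd) h) hd
    have h0 := O.kb (cj d N) (cj_mono d hK) (cj_mono d hL) ?_ ?_ ?_
    · intro t ht
      have h1 : d * t * d⁻¹ ∈ D := mul_mem (mul_mem hd ht) (inv_mem hd)
      have h2 := h0 h1
      rw [mem_cj] at h2
      have e : d⁻¹ * (d * t * d⁻¹) * d = t := by group
      rwa [e] at h2
    · rintro s hs ⟨k, hk⟩ h1
      rw [mem_cj]
      refine hz _ (mul_mem (mul_mem (inv_mem hd) hs) hd) ⟨k, pow_conj hk⟩ ?_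
      calc d⁻¹ * s * d * z = d⁻¹ * (s * (d * z * d⁻¹)) * d := by group
        _ = d⁻¹ * ((d * z * d⁻¹) * s) * d := by rw [h1]
        _ = _ := by group
    · rintro s hs ⟨k, hk⟩ ⟨v, hv, w, hw, h1, h2, h3⟩
      rw [mem_cj] at hv hw ⊢
      refine hf _ (mul_mem (mul_mem (inv_mem hd) hs) hd) ⟨k, pow_conj hk⟩ ⟨_, hv, _, hw, ?_, ?_, ?_⟩
      · calc d⁻¹ * v * d * (d⁻¹ * v * d) = d⁻¹ * (v * v) * d := by group
          _ = z := by rw [h1]; group
      · calc d⁻¹ * w * d * (d⁻¹ * w * d) = d⁻¹ * (w * w) * d := by group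
          _ = z := by rw [h2]; group
      · calc d⁻¹ * s * d * (d⁻¹ * v * d * (d⁻¹ * w * d)) = d⁻¹ * (s * (v * w)) * d := by group
          _ = d⁻¹ * ((v * w) * s) * d := by rw [h3]
          _ = _ := by group
    · intro c hc h1
      have h2 := hn (d⁻¹ * c * d) (mul_mem (mul_mem (inv_mem hd) hc) hd) (by
        calc d⁻¹ * c * d * z = d⁻¹ * (c * (d * z * d⁻¹)) * d := by group
          _ = d⁻¹ * ((d * z * d⁻¹) * c) * d := by rw [h1]
          _ = _ := by group)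
      rw [Subgroup.mem_normalizer_iff] at h2 ⊢
      intro t
      have h3 := h2 (d⁻¹ * t * d)
      rw [mem_cj, mem_cj, h3]
      have e : d⁻¹ * c * d * (d⁻¹ * t * d) * (d⁻¹ * c * d)⁻¹ = d⁻¹ * (c * t * c⁻¹) * d := by group
      rw [e]

end Out

/-! ### Type `B n` -/

section TypeB

open Cfsg.Agent.Nodes.TypeC Cfsg.Agent.Nodes.TypeCForm Cfsg.Agent.Nodes.KindBC

variable {n : ℕ} {W Y : Type*} [Group W] [Fintype W] [Group Y] {cs : CoxeterSystem (CoxeterMatrix.B n) W} {p : ℕ}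
  {T : Subgroup Y} {nu : Fin n → Y} {X : (Fin n → ℤ) → Subgroup Y} {Z : (Fin n → ℤ) → Subgroup Y}
  {z : (Fin n → ℤ) → Y}

theorem sqB (cs : CoxeterSystem (CoxeterMatrix.B n) W) {a c : Fin n × Bool} (hac : a.1 ≠ c.1) :
    Sq cs (isCartan n) 2 (rt c c) (rt a a) (rt a c) (rt a (ng c)) where
  pos := two_pos
  root₁ := isRoot_rt cs (Or.inr rfl)
  root₂ := isRoot_rt cs (Or.inr rfl)
  root := isRoot_rt cs (Or.inl hac)
  rootb := isRoot_rt cs (Or.inl hac)
  orth := by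
    rw [← cpr_zero_iff cs (isCartan n) _ (isRoot_rt cs (Or.inr rfl)), cpr_rt_self, ee_rt, Pi.add_apply, wt_apply_ne hac]
    ring
  len := by
    obtain ⟨w, hw⟩ := trans_RC cs _ (rt_mem_RC c) _ (rt_mem_RC a)
    rw [hw, form_rep]
  add := by
    apply ee_injective
    rw [ee_smul, ee_add, ee_rt, ee_rt, ee_rt]
    module
  sub := by
    apply ee_injective
    rw [ee_smul, sub_eq_add_neg, ee_add, ee_neg, ee_rt, ee_rt, ee_rt, wt_ng]
    module

/-- `Cfg.kb` up to renaming -/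
theorem kb_gen {m : ℤ} {y₁ y₂ x b : Fin n → ℤ} [Finite Y] (C : Cls cs (isCartan n) p T nu X (RB n) Z z)
    (F : Cfg cs (isCartan n) p X (RB n) Z z m y₁ y₂ x b) {Kb Kx : Subgroup Y} {z₀ : Y}
    (eb : X b ⊔ X (-b) = Kb) (ex : X x ⊔ X (-x) = Kx) (ez : z b = z₀) (Q : Quat z₀ Kb Kx) (hz1 : z₀ ≠ 1)
    (hv : ∃ v ∈ Kb, v * v = z₀) {N : Subgroup Y} (hNb : Kb ≤ N) (hNx : Kx ≤ N)
    (hS : ∀ s ∈ G1 cs (isCartan n) X, (∃ k : ℕ, s ^ p ^ k = 1) →
      (∃ v ∈ Kb, ∃ w ∈ Kx, v * v = z₀ ∧ w * w = z₀ ∧ s * (v * w) = (v * w) * s) → s ∈ N)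
    (hD : ∀ c ∈ G1 cs (isCartan n) X, c * z₀ = z₀ * c → c ∈ Subgroup.normalizer (N : Set Y)) : X y₂ ≤ N := by
  subst eb ex ez
  obtain ⟨v, hvK, hv⟩ := hv
  exact F.kb C Q hz1 hvK hv hNb hNx hS hD

theorem outB [Finite Y] (C : Cls cs (isCartan n) p T nu X (RB n) Z z) (hZ : ∀ r ∈ RB n, Z r = X r) (hp : p.Prime)
    (hodd : p ≠ 2) {a c : Fin n × Bool} (hac : a.1 ≠ c.1) (hz : z (rt a c) = z (rt a (ng c)))
    (hz1 : z (rt a (ng c)) ≠ 1)
    (Q : Quat (z (rt a (ng c))) (X (rt a (ng c)) ⊔ X (-rt a (ng c))) (X (rt a c) ⊔ X (-rt a c)))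
    (Q' : Quat (z (rt a (ng c))) (X (rt a c) ⊔ X (-rt a c)) (X (rt a (ng c)) ⊔ X (-rt a (ng c))))
    (hv : ∃ v ∈ X (rt a (ng c)) ⊔ X (-rt a (ng c)), v * v = z (rt a (ng c)))
    (hv' : ∃ v ∈ X (rt a c) ⊔ X (-rt a c), v * v = z (rt a (ng c))) :
    Out p (G1 cs (isCartan n) X) (X (rt a (ng c)) ⊔ X (-rt a (ng c))) (X (rt a c) ⊔ X (-rt a c))
      (z (rt a (ng c))) := by
  have F : Cfg cs (isCartan n) p X (RB n) Z z 2 (rt c c) (rt a a) (rt a c) (rt a (ng c)) :=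
    ⟨sqB cs hac, rt_mem_RB hac, rt_mem_RB hac, hZ, hp, hodd, hz⟩
  have hb : rt a (ng c) ∈ RB n := rt_mem_RB hac
  have hx : rt a c ∈ RB n := rt_mem_RB hac
  have hcm : ∀ u ∈ X (rt a (ng c)) ⊔ X (-rt a (ng c)), ∀ w ∈ X (rt a c) ⊔ X (-rt a c), u * w = w * u := by
    intro u hu w hw
    have h0 : form cs (isCartan n) (rt a c) (rt a (ng c)) = 0 := F.S.xb
    have h1 : KK Z (rt a (ng c)) = X (rt a (ng c)) ⊔ X (-rt a (ng c)) := by
      unfold KK
      rw [hZ _ hb, hZ _ (neg_mem C hb)]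
    have key : ∀ y : Fin n → ℤ, IsRoot cs (isCartan n) y → form cs (isCartan n) y (rt a (ng c)) = 0 →
        ∀ w ∈ X y, w ∈ Subgroup.centralizer {u} := by
      intro y hy h2 w hw
      rw [Subgroup.mem_centralizer_singleton_iff]
      exact X_cm_KK C hb hy h2 w hw u (h1 ▸ hu)
    have h2 : X (rt a c) ⊔ X (-rt a c) ≤ Subgroup.centralizer {u} := sup_le
      (key _ F.S.root h0) (key _ F.S.root.neg (by rw [form_neg_left, h0, neg_zero]))
    exact (Subgroup.mem_centralizer_singleton_iff.1 (h2 hw)).symm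
  refine ⟨fun v hv w hw h1 h2 => F.ka C Q hz1 hv h1 hw h2, fun N hNb hNx hNz hf hn => ?_⟩
  have pp : ∀ {r : Fin n → ℤ}, IsRoot cs (isCartan n) r → ∀ t ∈ X r, ∃ m : ℕ, t ^ p ^ m = 1 := by
    intro r hr t ht
    obtain ⟨m, hm⟩ := (C.rgd.pgrp' hr) ⟨t, ht⟩
    exact ⟨m, congrArg Subtype.val hm⟩
  have hf' : ∀ s ∈ G1 cs (isCartan n) X, (∃ k : ℕ, s ^ p ^ k = 1) →
      (∃ v ∈ X (rt a c) ⊔ X (-rt a c), ∃ w ∈ X (rt a (ng c)) ⊔ X (-rt a (ng c)),
        v * v = z (rt a (ng c)) ∧ w * w = z (rt a (ng c)) ∧ s * (v * w) = (v * w) * s) → s ∈ N := by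
    rintro s hs hk ⟨v, hv, w, hw, h1, h2, h3⟩
    refine hf s hs hk ⟨w, hw, v, hv, h2, h1, ?_⟩
    rw [hcm w hw v hv]
    exact h3
  have eb' : X (-rt a (ng c)) ⊔ X (- -rt a (ng c)) = X (rt a (ng c)) ⊔ X (-rt a (ng c)) := by
    rw [neg_neg, sup_comm]
  have ex' : X (-rt a c) ⊔ X (- -rt a c) = X (rt a c) ⊔ X (-rt a c) := by
    rw [neg_neg, sup_comm]
  -- the short root groups of the plane
  have k1 : X (rt a a) ≤ N := kb_gen C F rfl rfl rfl Q hz1 hv hNb hNx hf hn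
  have k2 : X (-rt a a) ≤ N := kb_gen C (F.conj' C) ex' eb' (by rw [C.z_neg _ hx, hz]) Q' hz1 hv' hNx hNb hf' hn
  have k3 : X (rt c c) ≤ N := kb_gen C (F.swap C) eb' rfl (by rw [C.z_neg _ hb]) Q hz1 hv hNb hNx hf hn
  have k4 : X (-rt c c) ≤ N := kb_gen C ((F.swap C).conj' C) ex' (by rw [neg_neg]) (by
    rw [C.z_neg _ hx, hz]) Q' hz1 hv' hNx hNb hf' hn
  -- all short root groups
  have short : ∀ e : Fin n × Bool, X (rt e e) ≤ N := by
    intro e
    by_cases h1 : e.1 = a.1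
    · rcases KindB.eq_or_eq_ng h1 with rfl | rfl
      · exact k1
      · rw [rt_ng]; exact k2
    · by_cases h2 : e.1 = c.1
      · rcases KindB.eq_or_eq_ng h2 with rfl | rfl
        · exact k3
        · rw [rt_ng]; exact k4
      · intro t ht
        have hr : IsRoot cs (isCartan n) (rt e e) := isRoot_rt cs (Or.inr rfl)
        refine hNz t (X_le_G1 hr ht) (pp hr t ht) (z_cent_of_orth C hb hr ?_ ht)
        rw [form_comm, ← cpr_zero_iff cs (isCartan n) _ hr, cpr_rt_self, ee_rt, Pi.add_apply, wt_apply_ne h1,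
          wt_apply_ne (a := ng c) h2]
        ring
  -- all root groups
  refine RGD.Sup_le fun r hr => ?_
  rcases (isRoot_iff_mem cs).1 hr with h1 | h1
  · obtain ⟨e, f, hef, rfl⟩ := mem_RB.1 h1
    refine (le_commutator C hp hodd (sqB cs hef) (rt_mem_RB hef) (rt_mem_RB hef) (hZ _ (rt_mem_RB hef)).symm
      (hZ _ (rt_mem_RB (b := ng f) hef)).symm).trans ?_
    rw [Subgroup.commutator_le]
    intro s hs t ht
    exact mul_mem (mul_mem (mul_mem (short f hs) (short e ht)) (inv_mem (short f hs))) (inv_mem (short e ht))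
  · obtain ⟨e, rfl⟩ := mem_RC.1 h1
    exact short e

end TypeB

/-! ### Type `A 3` -/

section TypeA

open Cfsg.Agent.Nodes.RootsA Cfsg.Agent.Nodes.CommA
open Cfsg.Agent.LieRecognition.BNCox (cA cA_apply)

variable {n : ℕ} {W Y : Type*} [Group W] [Group Y] {cs : CoxeterSystem (cA n) W} {A : Fin n → Fin n → ℤ}
  {h : IsCartan (cA n) A} [Fintype W] {p : ℕ} {T : Subgroup Y} {nu : Fin n → Y} {X : (Fin n → ℤ) → Subgroup Y}
  {R : Set (Fin n → ℤ)} {Z : (Fin n → ℤ) → Subgroup Y} {z : (Fin n → ℤ) → Y} {i j k l : Fin (n + 1)}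

theorem outA (C : Cls cs h p T nu X R Z z) (F : CfgA p X R Z z i j k l)
    (hroot : ∀ x, IsRoot cs h x → ∃ a b : Fin (n + 1), a ≠ b ∧ x = rtA a b)
    (cov : ∀ a : Fin (n + 1), a = i ∨ a = j ∨ a = k ∨ a = l) (hz1 : z (rtA i j) ≠ 1)
    (Q : Quat (z (rtA i j)) (X (rtA i j) ⊔ X (rtA j i)) (X (rtA k l) ⊔ X (rtA l k)))
    (hv : ∃ v ∈ X (rtA i j) ⊔ X (rtA j i), v * v = z (rtA i j))
    (hw : ∃ v ∈ X (rtA k l) ⊔ X (rtA l k), v * v = z (rtA i j)) :
    Out p (G1 cs h X) (X (rtA i j) ⊔ X (rtA j i)) (X (rtA k l) ⊔ X (rtA l k)) (z (rtA i j)) := by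
  refine ⟨fun v hv w hw h1 h2 => F.ka C Q hz1 hv h1 hw h2, fun N hNb hNx hNz hf hn => ?_⟩
  obtain ⟨v, hvK, hv⟩ := hv
  obtain ⟨w, hwK, hw⟩ := hw
  have F' : CfgA p X R Z z k l i j :=
    ⟨F.kl, F.ik.symm, F.jk.symm, F.il.symm, F.jl.symm, F.ij, F.hR, F.hZ, F.hp, F.hodd, F.hz.symm⟩
  have k1 := F.kb C Q.zKa hvK hv hwK hw hf
  have k2 : V4 X k i l j ≤ N := by
    refine F'.kb C (v := w) (w := v) ?_ hwK ?_ hvK ?_ ?_
    · rw [← F.hz]; exact Q.zKb
    · rw [← F.hz]; exact hw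
    · rw [← F.hz]; exact hv
    · rintro s hs hk ⟨v', hv', w', hw', h1, h2, h3⟩
      rw [← F.hz] at h1 h2
      refine hf s hs hk ⟨w', hw', v', hv', h2, h1, ?_⟩
      rw [F.comm_K C w' hw' v' hv']
      exact h3
  unfold V4 at k1 k2
  have a1 := le_sup_left.trans k1
  have a2 := (le_sup_left.trans le_sup_right).trans k1
  have a3 := (le_sup_left.trans (le_sup_right.trans le_sup_right)).trans k1
  have a4 := (le_sup_right.trans (le_sup_right.trans le_sup_right)).trans k1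
  have b1 := le_sup_left.trans k2
  have b2 := (le_sup_left.trans le_sup_right).trans k2
  have b3 := (le_sup_left.trans (le_sup_right.trans le_sup_right)).trans k2
  have b4 := (le_sup_right.trans (le_sup_right.trans le_sup_right)).trans k2
  refine RGD.Sup_le fun r hr => ?_
  obtain ⟨a, b, hab, rfl⟩ := hroot r hr
  rcases cov a with rfl | rfl | rfl | rfl <;> rcases cov b with rfl | rfl | rfl | rfl
  · exact absurd rfl hab
  · exact le_sup_left.trans hNb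
  · assumption
  · assumption
  · exact le_sup_right.trans hNb
  · exact absurd rfl hab
  · assumption
  · assumption
  · assumption
  · assumption
  · exact absurd rfl hab
  · exact le_sup_left.trans hNx
  · assumption
  · assumption
  · exact le_sup_right.trans hNx
  · exact absurd rfl hab

end TypeA

end Cfsg.Agent.Nodes.SwapEnd
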