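import Mathlib
import Cfsg.Agent.Nodes.RGDLib
import Cfsg.Agent.Nodes.BN

/-!
The two formats of root group data (project CIT): `toSys` (from `RGD` to the node systems `Nodes.Sys` of
helper98) and `rgd_of_sys` (back).
-/

set_option autoImplicit false
set_option linter.unusedSectionVars false

namespace Cfsg.Agent.Nodes.ToSys

open CoxeterSystem Cfsg.Agent.ChevalleyStructure.CoxeterGeom Cfsg.Agent.Tits.Roots Cfsg.Agent.Tits.Core
  Cfsg.Agent.Tits.RootComb Cfsg.Agent.Nodes.Comb Cfsg.Agent.Nodes.Reps Cfsg.Agent.Nodes.BNOf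
  Cfsg.Agent.Nodes.RGDLib
open scoped commutatorElement

variable {I W Y : Type*} [Fintype I] [DecidableEq I] [Group W] [Group Y] {M : CoxeterMatrix I}
  {cs : CoxeterSystem M W} {A : I → I → ℤ} {h : IsCartan M A} {p : ℕ} {T : Subgroup Y} {n : I → Y}
  {X : (I → ℤ) → Subgroup Y}

theorem onto_of_cj_eq {g : Y} {P Q : Subgroup Y} (he : cj g P = Q) (a : Y) : g * a * g⁻¹ ∈ Q ↔ a ∈ P := by
  rw [← he, conj_mem_cj]

theorem cj_eq_of_onto {g : Y} {P Q : Subgroup Y} (he : ∀ a, g * a * g⁻¹ ∈ Q ↔ a ∈ P) : cj g P = Q := by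
  ext x
  rw [mem_cj, ← he]
  have : g * (g⁻¹ * x * g) * g⁻¹ = x := by group
  rw [this]

/-- The node system of a root group datum. -/
def toSys [Finite W] (R : RGD cs h p T n X) : Nodes.Sys cs h Y where
  U i := X (sr i)
  n := n
  H := T
  nH i t := onto_of_cj_eq (mem_normalizer_iff_cj.1 (R.nsys.norm i)) t
  braid := R.nsys.rel
  HU i t ht u := onto_of_cj_eq (R.tor _ (isRoot_sr cs h i) t ht) u
  X _ _ := X
  X_left _ _ _ := rfl
  X_right _ _ _ := rfl
  X_conj k l _ x hx j _ a := onto_of_cj_eq (R.conj j x (hx.isRoot cs h)) a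
  X_comm k l hkl j hj x hx h0 hne a ha b hb := by
    have hxr := hx.isRoot cs h
    have h1 := R.comm (sr j) x (isRoot_sr cs h j) hxr hne.symm (by
      intro he
      have h2 := h0 j
      have h3 := congrFun he j
      rw [sr_self, Pi.neg_apply] at h3
      simp only [Pi.zero_apply] at h2
      omega) a ha b hb
    refine (?_ : btw cs h X (sr j) x ≤ _) h1
    unfold Reps.btw
    refine iSup_le ?_
    rintro ⟨z, hz, m, c, d, hm, hc, hd, e⟩
    have hs : Supp k l z := by
      intro q hqk hql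
      have h2 := congrFun e q
      rw [Pi.add_apply, Pi.smul_apply, Pi.smul_apply, Pi.smul_apply, hx.apply cs h q hqk hql] at h2
      have : sr j q = (0 : ℤ) := by
        rcases hj with rfl | rfl
        · exact sr_ne hqk
        · exact sr_ne hql
      rw [this, smul_zero, smul_zero, add_zero, smul_eq_mul] at h2
      rcases mul_eq_zero.1 h2 with h3 | h3
      · omega
      · exact h3
    obtain ⟨v, hv, i, hi, ez⟩ := exists_of_supp cs h hz hs
    exact le_iSup₂_of_le z ⟨⟨v, hv, i, hi, ez⟩, m, c, d, hm, hc, hd, e⟩ le_rfl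

theorem toSys_lift [Finite W] (R : RGD cs h p T n X) {w : W} {g : Y} :
    (toSys R).Lift w g ↔ Rp cs R.nsys w g := Iff.rfl

theorem toSys_XX [Finite W] (R : RGD cs h p T n X) {x : I → ℤ} (hx : IsRoot cs h x) :
    (toSys R).XX x = X x := by
  obtain ⟨w, i, rfl⟩ := hx
  obtain ⟨g, hg⟩ := exists_rp cs R.nsys w
  ext a
  rw [(toSys R).mem_XX ((toSys_lift R).2 hg), ← R.conj_rp hg (isRoot_sr cs h i), mem_cj]
  rfl

/-- The root group datum of a node system. -/
theorem rgd_of_sys [Finite W] (D : Nodes.Sys cs h Y) (hU : ∀ i, IsPGroup p ↥(D.U i))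
    (hL : ∀ i, ¬ IsPGroup p ↥(D.U i ⊔ cj (D.n i) (D.U i))) (hH : (Nat.card D.H).Coprime p)
    (hrk : ∀ i, ∀ u ∈ cj (D.n i) (D.U i), u ≠ 1 → ∃ a ∈ D.U i, ∃ t ∈ D.H, ∃ b ∈ D.U i, u = a * t * D.n i * b) :
    RGD cs h p D.H D.n D.XX where
  nsys := ⟨D.n_mem, D.braid⟩
  conj i x hx := cj_eq_of_onto (D.XX_lift (D.lift_simple i) hx)
  tor x hx t ht := cj_eq_of_onto (D.XX_H ht hx)
  comm x y hx hy hxy hxy' a ha b hb := by
    have h1 := D.comm hx hy hxy hxy' ha hb
    refine (?_ : _ ≤ btw cs h D.XX x y) h1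
    refine iSup₂_le ?_
    rintro z ⟨hz, m, c, d, hm, hc, hd, e⟩
    exact le_btw_of ⟨hz, m, c, d, hm, hc, hd, e⟩
  rk1 i u hu hne := by
    have e1 : D.XX (-sr i) = cj (D.n i) (D.U i) := by
      rw [← D.XX_sr i]
      refine (cj_eq_of_onto fun a => ?_).symm
      rw [← rep_simple_sr cs h i]
      exact D.XX_lift (D.lift_simple i) (isRoot_sr cs h i) a
    rw [e1] at hu
    rw [D.XX_sr]
    exact hrk i u hu hne
  pgrp i := by rw [D.XX_sr]; exact hU i
  notp i := by
    have e1 : D.XX (-sr i) = cj (D.n i) (D.U i) := by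
      rw [← D.XX_sr i]
      refine (cj_eq_of_onto fun a => ?_).symm
      rw [← rep_simple_sr cs h i]
      exact D.XX_lift (D.lift_simple i) (isRoot_sr cs h i) a
    rw [e1, D.XX_sr]
    exact hL i
  tcop := hH

end Cfsg.Agent.Nodes.ToSys
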